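import Mathlib.RingTheory.DiscreteValuationRing.TFAE
import Mathlib.RingTheory.Ideal.AssociatedPrime.Basic
import Mathlib.RingTheory.Ideal.Height
import Mathlib.RingTheory.KrullDimension.PID
import Mathlib.RingTheory.LocalProperties.IntegrallyClosed
import Mathlib.RingTheory.Localization.AtPrime.Basic
import Mathlib.RingTheory.DedekindDomain.Dvr

/-!
# Noetherian normal domains: associated primes of principal ideals have DVR localizations

`exists_dvr_prime_of_notMem_span`: in a Noetherian normal domain, if `a ∉ fR`, `f ≠ 0`, there is a prime `P`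
of height one containing `f`, with `R_P` a DVR, such that `s a ∈ fR → s ∈ P` (so `a ∉ f R_P`).
-/

set_option autoImplicit false

namespace Groth.Agent.Etalg.NormalDvr

open IsLocalRing

universe u

/-- A normal Noetherian local domain whose maximal ideal is associated to a principal ideal is a DVR. -/
theorem dvr_of_mul_mem_span (R : Type u) [CommRing R] [IsDomain R] [IsLocalRing R]
    [IsNoetherianRing R] [IsIntegrallyClosed R] {a b : R} (ha₁ : a ∈ maximalIdeal R) (ha₂ : a ≠ 0)
    (hb₂ : b ∉ Ideal.span {a}) (hb₃ : ∀ m ∈ maximalIdeal R, ∃ k : R, k * a = b * m) :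
    IsDiscreteValuationRing R := by
  have hfield : ¬ IsField R := by
    intro h
    rw [isField_iff_maximalIdeal_eq] at h
    rw [h] at ha₁
    exact ha₂ ha₁
  refine ((IsDiscreteValuationRing.TFAE R hfield).out 4 0).mp ?_
  have hb₄ : b ≠ 0 := by rintro rfl; apply hb₂; exact zero_mem _
  let K := FractionRing R
  let x : K := algebraMap R K b / algebraMap R K a
  let M := Submodule.map (Algebra.linearMap R K) (maximalIdeal R)
  have ha₃ : algebraMap R K a ≠ 0 := IsFractionRing.to_map_eq_zero_iff.not.mpr ha₂
  by_cases hx : ∀ y ∈ M, x * y ∈ M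
  · have := isIntegral_of_smul_mem_submodule M ?_ ?_ x hx
    · obtain ⟨y, e⟩ := IsIntegrallyClosed.algebraMap_eq_of_integral this
      refine (hb₂ (Ideal.mem_span_singleton'.mpr ⟨y, ?_⟩)).elim
      apply IsFractionRing.injective R K
      rw [map_mul, e, div_mul_cancel₀ _ ha₃]
    · rw [Submodule.ne_bot_iff]; refine ⟨_, ⟨a, ha₁, rfl⟩, ?_⟩
      exact (IsFractionRing.to_map_eq_zero_iff (K := K)).not.mpr ha₂
    · apply Submodule.FG.map; exact IsNoetherian.noetherian _
  · have :
        (M.map (DistribSMul.toLinearMap R K x)).comap (Algebra.linearMap R K) = ⊤ := by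
      contrapose! hx with h
      rintro m' ⟨m, hm, rfl : algebraMap R K m = m'⟩
      obtain ⟨k, hk⟩ := hb₃ m hm
      have hk' : x * algebraMap R K m = algebraMap R K k := by
        rw [← mul_div_right_comm, ← map_mul, ← hk, map_mul, mul_div_cancel_right₀ _ ha₃]
      exact ⟨k, le_maximalIdeal h ⟨_, ⟨_, hm, rfl⟩, hk'⟩, hk'.symm⟩
    obtain ⟨y, hy₁, hy₂⟩ : ∃ y ∈ maximalIdeal R, b * y = a := by
      rw [Ideal.eq_top_iff_one, Submodule.mem_comap] at this
      obtain ⟨_, ⟨y, hy, rfl⟩, hy' : x * algebraMap R K y = algebraMap R K 1⟩ := this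
      rw [map_one, ← mul_div_right_comm, div_eq_one_iff_eq ha₃, ← map_mul] at hy'
      exact ⟨y, hy, IsFractionRing.injective R K hy'⟩
    refine ⟨⟨y, ?_⟩⟩
    apply le_antisymm
    · intro m hm; obtain ⟨k, hk⟩ := hb₃ m hm; rw [← hy₂, mul_comm, mul_assoc] at hk
      rw [← mul_left_cancel₀ hb₄ hk, mul_comm]; exact Ideal.mem_span_singleton'.mpr ⟨_, rfl⟩
    · rwa [Submodule.span_le, Set.singleton_subset_iff]

/-- In a Noetherian normal domain `R`, if `a ∉ fR` and `f ≠ 0` then there is a prime `P ∋ f` such that
`R_P` is a DVR and `a ∉ f R_P`. -/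
theorem exists_dvr_prime_of_notMem_span (R : Type u) [CommRing R] [IsDomain R]
    [IsNoetherianRing R] [IsIntegrallyClosed R] {a f : R} (hf : f ≠ 0) (ha : a ∉ Ideal.span {f}) :
    ∃ (P : Ideal R) (_ : P.IsPrime), f ∈ P ∧ IsDiscreteValuationRing (Localization.AtPrime P) ∧
      ∀ s, s * a ∈ Ideal.span {f} → s ∈ P := by
  have hne : (Ideal.Quotient.mk (Ideal.span {f}) a) ≠ 0 := by
    rwa [Ne, Ideal.Quotient.eq_zero_iff_mem]
  obtain ⟨P, hP, hle⟩ := exists_le_isAssociatedPrime_of_isNoetherianRing R
    (M := R ⧸ Ideal.span {f}) (Ideal.Quotient.mk (Ideal.span {f}) a) hne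
  rw [isAssociatedPrime_iff] at hP
  obtain ⟨hPprime, x, hx⟩ := hP
  obtain ⟨c, rfl⟩ := Ideal.Quotient.mk_surjective x
  have hmem : ∀ s, s ∈ P ↔ s * c ∈ Ideal.span {f} := by
    intro s
    rw [hx, Submodule.mem_colon_singleton, Submodule.mem_bot, ← Ideal.Quotient.eq_zero_iff_mem,
      map_mul]
    rfl
  have hfP : f ∈ P := (hmem f).mpr (Ideal.mul_mem_right _ _ (Ideal.mem_span_singleton_self f))
  refine ⟨P, hPprime, hfP, ?_, ?_⟩
  · have hinj : Function.Injective (algebraMap R (Localization.AtPrime P)) :=
      IsLocalization.injective _ P.primeCompl_le_nonZeroDivisors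
    have : IsIntegrallyClosed (Localization.AtPrime P) :=
      isIntegrallyClosed_of_isLocalization (Localization.AtPrime P) P.primeCompl
        P.primeCompl_le_nonZeroDivisors
    have hnoeth : IsNoetherianRing (Localization.AtPrime P) :=
      IsLocalization.isNoetherianRing P.primeCompl _ inferInstance
    refine dvr_of_mul_mem_span (Localization.AtPrime P)
      (a := algebraMap R _ f) (b := algebraMap R _ c) ?_ ?_ ?_ ?_
    · rw [← Localization.AtPrime.map_eq_maximalIdeal]
      exact Ideal.mem_map_of_mem _ hfP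
    · exact fun h => hf (hinj (by rw [h, map_zero]))
    · intro h
      rw [← Set.image_singleton, ← Ideal.map_span,
        IsLocalization.algebraMap_mem_map_algebraMap_iff P.primeCompl] at h
      obtain ⟨m, hm, hmc⟩ := h
      exact hm ((hmem m).mpr hmc)
    · intro m hm
      rw [← Localization.AtPrime.map_eq_maximalIdeal,
        IsLocalization.mem_map_algebraMap_iff P.primeCompl] at hm
      obtain ⟨⟨⟨y, hy⟩, s⟩, hys⟩ := hm
      obtain ⟨k, hk⟩ := Ideal.mem_span_singleton'.mp ((hmem y).mp hy)
      refine ⟨IsLocalization.mk' _ k s, ?_⟩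
      have hs : IsUnit (algebraMap R (Localization.AtPrime P) s) := IsLocalization.map_units _ s
      apply hs.mul_left_injective
      change IsLocalization.mk' _ k s * algebraMap R _ f * algebraMap R _ s =
        algebraMap R _ c * m * algebraMap R _ s
      have h1 : IsLocalization.mk' (Localization.AtPrime P) k s * algebraMap R _ s =
        algebraMap R _ k := IsLocalization.mk'_spec _ k s
      have h2 : algebraMap R (Localization.AtPrime P) k * algebraMap R _ f =
          algebraMap R _ y * algebraMap R _ c := by rw [← map_mul, hk, map_mul]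
      calc _ = (IsLocalization.mk' (Localization.AtPrime P) k s * algebraMap R _ s) *
              algebraMap R _ f := by ring
        _ = algebraMap R _ c * algebraMap R _ y := by rw [h1, h2, mul_comm]
        _ = algebraMap R _ c * (m * algebraMap R _ s) := by rw [hys]
        _ = _ := by ring
  · intro s hs
    apply hle
    rw [Submodule.mem_colon_singleton, Submodule.mem_bot]
    change Ideal.Quotient.mk _ (s * a) = 0
    rwa [Ideal.Quotient.eq_zero_iff_mem]

/-- Height one version of `exists_dvr_prime_of_notMem_span`. -/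
theorem height_eq_one_of_dvr (R : Type u) [CommRing R] [IsDomain R] (P : Ideal R) [P.IsPrime]
    (h : IsDiscreteValuationRing (Localization.AtPrime P)) : P.height = 1 := by
  have h1 := IsLocalization.AtPrime.ringKrullDim_eq_height P (Localization.AtPrime P)
  have h2 : ringKrullDim (Localization.AtPrime P) = 1 :=
    IsPrincipalIdealRing.ringKrullDim_eq_one _ (IsDiscreteValuationRing.not_isField _)
  rw [h2] at h1
  exact_mod_cast h1.symm

/-- In a Noetherian normal domain `R`, an element `a` with `a ∈ f R_P` for all height one primes `P`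
lies in `fR`. -/
theorem mem_span_of_forall_height_one (R : Type u) [CommRing R] [IsDomain R]
    [IsNoetherianRing R] [IsIntegrallyClosed R] {a f : R} (hf : f ≠ 0)
    (h : ∀ P : Ideal R, P.IsPrime → P.height = 1 → ∃ s ∉ P, s * a ∈ Ideal.span {f}) :
    a ∈ Ideal.span {f} := by
  by_contra ha
  obtain ⟨P, hP, -, hdvr, hs⟩ := exists_dvr_prime_of_notMem_span R hf ha
  obtain ⟨s, hsP, hsa⟩ := h P hP (height_eq_one_of_dvr R P hdvr)
  exact hsP (hs s hsa)

end Groth.Agent.Etalg.NormalDvr
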