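import Groth.Prelude.Def_Found
import Mathlib.RingTheory.Ideal.KrullsHeightTheorem
import Mathlib.RingTheory.KrullDimension.NonZeroDivisors

/-!
# Height one primes in a catenary Noetherian local domain: `dim R ≤ dim R/q + 1`
-/

set_option autoImplicit false

namespace Groth.Agent.Etalg.CatDim

open IsLocalRing

universe u

/-- In a catenary Noetherian local domain, `dim R ≤ dim R/q + 1` for every prime `q` of height one. -/
theorem ringKrullDim_le_of_height_one (R : Type u) [CommRing R] [IsDomain R] [IsNoetherianRing R]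
    [IsLocalRing R] (hc : CAlg.IsCatenary R) (q : Ideal R) [hq : q.IsPrime] (hq1 : q.height = 1) :
    ringKrullDim R ≤ ringKrullDim (R ⧸ q) + 1 := by
  classical
  have hfd : FiniteDimensionalOrder (PrimeSpectrum R) := (inferInstance : FiniteRingKrullDim R)
  have hwf : WellFoundedLT (PrimeSpectrum R) := ⟨SetRel.IsWellFounded.of_finiteDimensional
    (r := {(a, b) : PrimeSpectrum R × PrimeSpectrum R | a < b})⟩
  have hwg : WellFoundedGT (PrimeSpectrum R) := ⟨SetRel.IsWellFounded.inv_of_finiteDimensional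
    (r := {(a, b) : PrimeSpectrum R × PrimeSpectrum R | a < b})⟩
  let b : PrimeSpectrum R := ⟨⊥, Ideal.isPrime_bot⟩
  let m : PrimeSpectrum R := closedPoint R
  let Q : PrimeSpectrum R := ⟨q, hq⟩
  have hb : ∀ x, b ≤ x := fun x => (bot_le : (⊥ : Ideal R) ≤ x.asIdeal)
  have hm : ∀ x, x ≤ m := fun x => IsLocalRing.le_maximalIdeal x.2.ne_top
  -- a long saturated chain from `⊥` to the maximal ideal
  have key1 : ∀ n : ℕ, (n : WithBot ℕ∞) ≤ ringKrullDim R →
      ∃ t : RelSeries {(a, b) : PrimeSpectrum R × PrimeSpectrum R | a ⋖ b},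
        t.head = b ∧ t.last = m ∧ n ≤ t.length := by
    intro n hn
    obtain ⟨l, hl⟩ := Order.le_krullDim_iff.mp hn
    have h1 : ∃ l' : LTSeries (PrimeSpectrum R), l'.head = b ∧ n ≤ l'.length := by
      rcases (hb l.head).eq_or_lt with h | h
      · exact ⟨l, h.symm, hl.ge⟩
      · exact ⟨l.cons b h, by simp, by simp [hl]⟩
    obtain ⟨l', hl'b, hl'n⟩ := h1
    have h2 : ∃ l'' : LTSeries (PrimeSpectrum R), l''.head = b ∧ l''.last = m ∧
        n ≤ l''.length := by
      rcases (hm l'.last).eq_or_lt with h | h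
      · exact ⟨l', hl'b, h, hl'n⟩
      · exact ⟨l'.snoc m h, by simp [hl'b], by simp, by simp; omega⟩
    obtain ⟨s, hsb, hsm, hsn⟩ := h2
    obtain ⟨t, i, hit, hi₁, hi₂⟩ := s.exists_relSeries_covBy
    refine ⟨t, ?_, ?_, ?_⟩
    · rw [← hsb, RelSeries.head, RelSeries.head, ← hi₁, ← hit, Function.comp]
    · rw [← hsm, RelSeries.last, RelSeries.last, ← hi₂, ← hit, Function.comp]
    · have := Fintype.card_le_of_embedding i
      simp only [Fintype.card_fin] at this
      omega
  have key2 : ∃ t : RelSeries {(a, b) : PrimeSpectrum R × PrimeSpectrum R | a ⋖ b},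
        t.head = Q ∧ t.last = m := by
    have h1 : ∃ s : LTSeries (PrimeSpectrum R), s.head = Q ∧ s.last = m := by
      rcases (hm Q).eq_or_lt with h | h
      · exact ⟨RelSeries.singleton _ Q, rfl, h⟩
      · exact ⟨(RelSeries.singleton _ Q).snoc m h, RelSeries.head_snoc _ _ _,
          RelSeries.last_snoc _ _ _⟩
    obtain ⟨s, hsb, hsm⟩ := h1
    obtain ⟨t, i, hit, hi₁, hi₂⟩ := s.exists_relSeries_covBy
    refine ⟨t, ?_, ?_⟩
    · rw [← hsb, RelSeries.head, RelSeries.head, ← hi₁, ← hit, Function.comp]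
    · rw [← hsm, RelSeries.last, RelSeries.last, ← hi₂, ← hit, Function.comp]
  obtain ⟨t2, ht2h, ht2l⟩ := key2
  have hcov : b ⋖ Q := by
    refine ⟨lt_of_le_of_ne (hb Q) ?_, ?_⟩
    · intro h
      have : q = ⊥ := (congrArg PrimeSpectrum.asIdeal h).symm
      exact Ideal.ne_bot_of_height_eq_one hq1 this
    · intro c hbc hcQ
      have h1 := Ideal.height_add_one_le_of_lt_of_isPrime (I := b.asIdeal) (J := c.asIdeal) hbc
      have h2 := Ideal.height_add_one_le_of_lt_of_isPrime (I := c.asIdeal) (J := q) hcQ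
      rw [hq1] at h2
      have h3 : c.asIdeal.height ≤ 0 := by
        have : c.asIdeal.height + 1 ≤ 0 + 1 := by simpa using h2
        exact (ENat.add_le_add_iff_right (by simp)).mp this
      have h4 : b.asIdeal.height + 1 ≤ 0 := h1.trans h3
      simp at h4
  let t2' : RelSeries {(a, b) : PrimeSpectrum R × PrimeSpectrum R | a ⋖ b} :=
    t2.cons b (by rw [ht2h]; exact hcov)
  have hle : ∀ n : ℕ, (n : WithBot ℕ∞) ≤ ringKrullDim R →
      (n : WithBot ℕ∞) ≤ ringKrullDim (R ⧸ q) + 1 := by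
    intro n hn
    obtain ⟨t1, ht1h, ht1l, ht1n⟩ := key1 n hn
    have hlen := hc.2 ⟨t1.length, t1.toFun, fun i => (t1.step i).lt⟩
      ⟨t2'.length, t2'.toFun, fun i => (t2'.step i).lt⟩ (ht1h.trans (by
        change b = t2'.head
        exact (RelSeries.head_cons _ _ _).symm)) (ht1l.trans (by
        change m = t2'.last
        rw [← ht2l]
        exact (RelSeries.last_cons _ _ _).symm)) (fun i => t1.step i) (fun i => t2'.step i)
    change t1.length = t2'.length at hlen
    have hlen' : t2'.length = t2.length + 1 := by simp [t2']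
    have h5 : (t2.length : WithBot ℕ∞) ≤ ringKrullDim (R ⧸ q) := by
      rw [ringKrullDim_quotient, Order.le_krullDim_iff]
      let l2 : LTSeries (PrimeSpectrum R) := ⟨t2.length, t2.toFun, fun i => (t2.step i).lt⟩
      refine ⟨⟨t2.length, fun i => ⟨t2.toFun i, ?_⟩, fun i => (t2.step i).lt⟩, rfl⟩
      have h6 : l2.head ≤ l2 i := l2.monotone (Fin.zero_le i)
      have h7 : Q ≤ l2 i := by
        have : l2.head = Q := ht2h
        rwa [this] at h6
      exact h7
    calc (n : WithBot ℕ∞) ≤ ((t2.length + 1 : ℕ) : WithBot ℕ∞) := by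
          exact_mod_cast (by omega : n ≤ t2.length + 1)
      _ = (t2.length : WithBot ℕ∞) + 1 := by push_cast; rfl
      _ ≤ _ := by gcongr
  obtain ⟨d, hd⟩ : ∃ d : ℕ, ringKrullDim R = d := by
    have h1 : ringKrullDim R ≠ ⊤ := ringKrullDim_ne_top
    have h2 : ringKrullDim R ≠ ⊥ := ringKrullDim_ne_bot
    obtain ⟨e, he⟩ := WithBot.ne_bot_iff_exists.mp h2
    rw [← he] at h1 ⊢
    have h3 : e ≠ ⊤ := fun h => h1 (by rw [h]; rfl)
    obtain ⟨k, rfl⟩ := ENat.ne_top_iff_exists.mp h3
    exact ⟨k, rfl⟩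
  rw [hd]
  exact hle d hd.ge

end Groth.Agent.Etalg.CatDim
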