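import Mathlib.RingTheory.Spectrum.Prime.Chevalley
import Mathlib.RingTheory.IntegralClosure.Algebra.Basic
import Mathlib.RingTheory.AlgebraicIndependent.TranscendenceBasis
import Mathlib.RingTheory.AlgebraicIndependent.Adjoin
import Mathlib.RingTheory.Localization.BaseChange
import Mathlib.RingTheory.TensorProduct.MvPolynomial
import Mathlib.FieldTheory.IntermediateField.Adjoin.Basic

/-!
# Images of clopen sets under base field extension

For a field extension `L/K` and a `K`-algebra `E`, the map `Spec (L ⊗[K] E) → Spec E` sends clopen sets to clopen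
sets.
-/

set_option autoImplicit false

open TensorProduct PrimeSpectrum

namespace Groth.Agent.Etalg.ClopenImage

universe u v w

/-- The ring map `f` induces on spectra a map which sends clopen sets to clopen sets. -/
def ClopenIm {R S : Type*} [CommRing R] [CommRing S] (f : R →+* S) : Prop :=
  ∀ Z : Set (PrimeSpectrum S), IsClopen Z → IsClopen (PrimeSpectrum.comap f '' Z)

theorem ClopenIm.comp {R S T : Type*} [CommRing R] [CommRing S] [CommRing T] {f : R →+* S} {g : S →+* T}
    (hg : ClopenIm g) (hf : ClopenIm f) : ClopenIm (g.comp f) := by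
  intro Z hZ
  have h := hf _ (hg Z hZ)
  rw [← Set.image_comp] at h
  have e : (PrimeSpectrum.comap f ∘ PrimeSpectrum.comap g) = PrimeSpectrum.comap (g.comp f) := by
    ext x : 1
    exact (PrimeSpectrum.comap_comp_apply f g x).symm
  rwa [e] at h

theorem ClopenIm.of_equiv {R S : Type*} [CommRing R] [CommRing S] (e : R ≃+* S) : ClopenIm (e : R →+* S) := by
  intro Z hZ
  have : IsHomeomorph (PrimeSpectrum.comap (e : R →+* S)) := by
    exact (PrimeSpectrum.homeomorphOfRingEquiv e).symm.isHomeomorph
  exact ⟨this.isClosedMap _ hZ.1, this.isOpenMap _ hZ.2⟩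

/-- Algebraic extensions. -/
theorem clopenIm_of_isIntegral (K : Type*) (L : Type*) (E : Type*) [Field K] [CommRing L] [Algebra K L] [CommRing E]
    [Algebra K E] [Algebra.IsIntegral K L] : ClopenIm (algebraMap E (E ⊗[K] L)) := by
  intro Z hZ
  refine ⟨?_, ?_⟩
  · refine PrimeSpectrum.isClosedMap_comap_of_isIntegral _ ?_ _ hZ.1
    exact algebraMap_isIntegral_iff.2 inferInstance
  · exact isOpenMap_comap_algebraMap_tensorProduct_of_field _ hZ.2

/-- Base change by rational function fields preserves integrality of fields. -/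
theorem isDomain_tensor (K : Type*) [Field K] (M : Type*) [Field M] [Algebra K M] (ι : Type*) (F : Type*) [Field F]
    [Algebra K F] [Algebra (MvPolynomial ι K) F] [IsScalarTower K (MvPolynomial ι K) F]
    [IsFractionRing (MvPolynomial ι K) F] : IsDomain (M ⊗[K] F) := by
  let P := MvPolynomial ι K
  let S := P ⊗[K] M
  have e1 : S ≃ₐ[K] MvPolynomial ι M :=
    (Algebra.TensorProduct.comm K P M).trans ((MvPolynomial.algebraTensorAlgEquiv K M).restrictScalars K)
  have hS : IsDomain S := e1.toRingEquiv.toMulEquiv.isDomain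
  have hinj : Function.Injective (algebraMap P S) := Algebra.TensorProduct.includeLeft_injective (S := K)
    (FaithfulSMul.algebraMap_injective K M)
  have hloc : IsLocalization (Algebra.algebraMapSubmonoid S (nonZeroDivisors P)) (S ⊗[P] F) := inferInstance
  have hle : Algebra.algebraMapSubmonoid S (nonZeroDivisors P) ≤ nonZeroDivisors S := by
    rintro _ ⟨x, hx, rfl⟩
    apply mem_nonZeroDivisors_of_ne_zero
    intro h0
    have := hinj (h0.trans (map_zero _).symm)
    exact nonZeroDivisors.ne_zero hx this
  have : IsDomain (S ⊗[P] F) := IsLocalization.isDomain_of_le_nonZeroDivisors (R := S) (S ⊗[P] F) hle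
  have : IsDomain (F ⊗[P] S) := (Algebra.TensorProduct.comm P F S).toRingEquiv.toMulEquiv.isDomain
  have e2 : F ⊗[P] S ≃ₐ[F] F ⊗[K] M := Algebra.TensorProduct.cancelBaseChange K P F F M
  have : IsDomain (F ⊗[K] M) := e2.symm.toRingEquiv.toMulEquiv.isDomain
  exact (Algebra.TensorProduct.comm K M F).toRingEquiv.toMulEquiv.isDomain

/-- Extensions with geometrically integral fibres. -/
theorem clopenIm_of_isDomain (K : Type u) (F : Type v) (E : Type w) [Field K] [Field F] [Algebra K F] [CommRing E]
    [Algebra K E] (h : ∀ (x : PrimeSpectrum E), IsDomain (x.asIdeal.ResidueField ⊗[K] F)) :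
    ClopenIm (algebraMap E (E ⊗[K] F)) := by
  intro Z hZ
  have hopen : IsOpenMap (PrimeSpectrum.comap (algebraMap E (E ⊗[K] F))) :=
    isOpenMap_comap_algebraMap_tensorProduct_of_field
  refine ⟨?_, hopen _ hZ.2⟩
  have hdisj : (PrimeSpectrum.comap (algebraMap E (E ⊗[K] F)) '' Z)ᶜ =
      PrimeSpectrum.comap (algebraMap E (E ⊗[K] F)) '' Zᶜ := by
    obtain ⟨e, f, hef, hadd, hZe, hZf⟩ := exists_mul_eq_zero_add_eq_one_basicOpen_eq_of_isClopen hZ
    ext x
    rw [hZf, hZe, Set.mem_compl_iff]
    rw [PrimeSpectrum.mem_image_comap_basicOpen, PrimeSpectrum.mem_image_comap_basicOpen, not_not]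
    have hdom : IsDomain ((E ⊗[K] F) ⊗[E] x.asIdeal.ResidueField) := by
      have := h x
      have e1 := (Algebra.TensorProduct.comm E (E ⊗[K] F) x.asIdeal.ResidueField)
      have e2 := Algebra.TensorProduct.cancelBaseChange K E x.asIdeal.ResidueField x.asIdeal.ResidueField F
      have : IsDomain (x.asIdeal.ResidueField ⊗[E] (E ⊗[K] F)) := e2.toRingEquiv.toMulEquiv.isDomain
      exact e1.toRingEquiv.toMulEquiv.isDomain
    rw [isNilpotent_iff_eq_zero, isNilpotent_iff_eq_zero]
    have h1 := congrArg (algebraMap (E ⊗[K] F) ((E ⊗[K] F) ⊗[E] x.asIdeal.ResidueField)) hef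
    have h2 := congrArg (algebraMap (E ⊗[K] F) ((E ⊗[K] F) ⊗[E] x.asIdeal.ResidueField)) hadd
    rw [map_mul, map_zero] at h1
    rw [map_add, map_one] at h2
    constructor
    · intro h3 h4
      rw [h3, h4, add_zero] at h2
      exact zero_ne_one h2
    · intro h3
      rcases mul_eq_zero.1 h1 with h4 | h4
      · exact h4
      · exact absurd h4 h3
  rw [← isOpen_compl_iff, hdisj]
  exact hopen _ hZ.1.isOpen_compl

theorem clopenIm_tower (K : Type*) (F : Type*) (L : Type*) (E : Type*) [Field K] [Field F] [Field L] [Algebra K L]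
    [Algebra K F] [Algebra F L] [IsScalarTower K F L] [Algebra.IsAlgebraic F L] [CommRing E] [Algebra K E]
    (h1 : ClopenIm (algebraMap E (E ⊗[K] F))) :
    ClopenIm (Algebra.TensorProduct.includeRight : E →ₐ[K] L ⊗[K] E).toRingHom := by
  have h2 : ClopenIm (algebraMap (F ⊗[K] E) ((F ⊗[K] E) ⊗[F] L)) := clopenIm_of_isIntegral F L (F ⊗[K] E)
  have h3 := ClopenIm.of_equiv (Algebra.TensorProduct.comm K E F).toRingEquiv
  let e : (F ⊗[K] E) ⊗[F] L ≃ₐ[F] L ⊗[K] E :=
    (Algebra.TensorProduct.comm F (F ⊗[K] E) L).trans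
      ((Algebra.TensorProduct.cancelBaseChange K F L L E).restrictScalars F)
  have h4 := ClopenIm.of_equiv e.toRingEquiv
  have h5 := h4.comp (h2.comp (h3.comp h1))
  convert h5 using 1
  ext x
  simp [e]

/-- **Main result**: for any field extension `L/K` and any `K`-algebra `E`, images of clopen sets under
`Spec (L ⊗[K] E) → Spec E` are clopen. -/
theorem clopenIm_includeRight (K : Type u) (L : Type v) (E : Type w) [Field K] [Field L] [Algebra K L] [CommRing E]
    [Algebra K E] : ClopenIm (Algebra.TensorProduct.includeRight : E →ₐ[K] L ⊗[K] E).toRingHom := by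
  obtain ⟨s, hs⟩ := exists_isTranscendenceBasis K L
  let F := IntermediateField.adjoin K (Set.range ((↑) : s → L))
  have halg : Algebra.IsAlgebraic F L := hs.isAlgebraic_field
  have h1 : ClopenIm (algebraMap E (E ⊗[K] F)) := by
    apply clopenIm_of_isDomain
    intro x
    have := isDomain_tensor K x.asIdeal.ResidueField s (FractionRing (MvPolynomial s K))
    let e := hs.1.aevalEquivField
    exact (Algebra.TensorProduct.congr (AlgEquiv.refl : x.asIdeal.ResidueField ≃ₐ[K] _) e.symm).toRingEquiv.toMulEquiv.isDomain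
  exact clopenIm_tower K F L E h1

end Groth.Agent.Etalg.ClopenImage
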