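import Groth.Agent.Fdesc.FlatStalk
import Mathlib

/-!
# Opens whose complement has codimension at least two in every fibre

`Codim2 f j`: every point of a fibre of `f` outside the image of `j` has stalk of dimension `≥ 2`.
Stability under étale localisation and arbitrary base change; density.
-/

set_option autoImplicit false
universe u
open CategoryTheory CategoryTheory.Limits AlgebraicGeometry

namespace Groth.Agent.Etalg.Codim2

/-- codimension at least two in every fibre -/
def Codim2 {X U S : Scheme.{u}} (f : X ⟶ S) (j : U ⟶ X) : Prop :=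
  ∀ (s : S) (z : f.fiber s), (f.fiberι s).base z ∉ Set.range j →
      (2 : WithBot ℕ∞) ≤ ringKrullDim ((f.fiber s).presheaf.stalk z)

theorem le_ringKrullDim_of_flat {Z' Z : Scheme.{u}} (φ : Z' ⟶ Z) [Flat φ] (z : Z') :
    ringKrullDim (Z.presheaf.stalk (φ z)) ≤ ringKrullDim (Z'.presheaf.stalk z) := by
  rw [ringKrullDim_stalk_eq_coheight, ringKrullDim_stalk_eq_coheight]
  refine WithBot.coe_le_coe.mpr ?_
  have hg : GeneralizingMap φ := Flat.generalizingMap φ
  refine Order.coheight_le fun p hp => ?_
  have key : ∀ (p : LTSeries Z) (z : Z'), p.head = φ z → ∃ q : LTSeries Z', q.head = z ∧ q.length = p.length := by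
    intro p
    induction p using RelSeries.inductionOn with
    | singleton y => exact fun z hz => ⟨RelSeries.singleton _ z, rfl, rfl⟩
    | cons p y hy ih =>
      intro z hz
      have h1 : y = φ z := by simpa using hz
      subst h1
      obtain ⟨z1, hz1, h2⟩ := hg ((Scheme.le_iff_specializes).1 hy.le)
      obtain ⟨q, hq, hl⟩ := ih z1 h2.symm
      have hlt : z < q.head := by
        rw [hq]
        refine lt_of_le_not_ge ((Scheme.le_iff_specializes).2 hz1) fun h => ?_
        refine not_le_of_gt hy ((Scheme.le_iff_specializes).2 ?_)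
        rw [← h2]
        exact ((Scheme.le_iff_specializes).1 h).map φ.continuous
      exact ⟨q.cons z hlt, by simp, by simp [hl]⟩
  obtain ⟨q, hq, hl⟩ := key p z hp
  rw [← hl]
  exact Order.length_le_coheight hq.ge

/-- Localisation along a flat morphism to the source. -/
theorem codim2_flat_comp {V X U U' S : Scheme.{u}} (g : V ⟶ X) [Flat g] (f : X ⟶ S) (j : U ⟶ X)
    (j' : U' ⟶ V) (hr : ∀ v : V, g v ∈ Set.range j → v ∈ Set.range j') (h : Codim2 f j) :
    Codim2 (g ≫ f) j' := by
  intro s z hz
  let φ : (g ≫ f).fiber s ⟶ f.fiber s :=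
    pullback.map (g ≫ f) (S.fromSpecResidueField s) f (S.fromSpecResidueField s) g (𝟙 _) (𝟙 _)
      (Category.comp_id _) ((Category.comp_id _).trans (Category.id_comp _).symm)
  have hφ1 : φ ≫ f.fiberι s = (g ≫ f).fiberι s ≫ g := pullback.lift_fst _ _ _
  have hφ2 : φ ≫ f.fiberToSpecResidueField s = (g ≫ f).fiberToSpecResidueField s :=
    (pullback.lift_snd _ _ _).trans (Category.comp_id _)
  have hp : IsPullback ((g ≫ f).fiberι s) φ g (f.fiberι s) := by
    have h1 : IsPullback (f.fiberι s) (f.fiberToSpecResidueField s) f (S.fromSpecResidueField s) :=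
      IsPullback.of_hasPullback _ _
    have h2 : IsPullback ((g ≫ f).fiberι s) ((g ≫ f).fiberToSpecResidueField s) (g ≫ f)
        (S.fromSpecResidueField s) := IsPullback.of_hasPullback _ _
    rw [← hφ2] at h2
    exact (IsPullback.of_right h2.flip hφ1 h1.flip).flip
  have hfl : Flat φ := MorphismProperty.of_isPullback (P := @Flat) hp ‹_›
  refine (h s (φ z) ?_).trans (le_ringKrullDim_of_flat φ z)
  intro hc
  apply hz
  apply hr
  have : g (((g ≫ f).fiberι s) z) = (f.fiberι s) (φ z) := by
    rw [← Scheme.Hom.comp_apply, ← hφ1, Scheme.Hom.comp_apply]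
  exact this ▸ hc

/-- Base change. -/
theorem codim2_of_isPullback {P X Y Z U U' : Scheme.{u}} {fst : P ⟶ X}
    {snd : P ⟶ Y} {f : X ⟶ Z} {g : Y ⟶ Z} (hp : IsPullback fst snd f g) (j : U ⟶ X)
    (j' : U' ⟶ P) (hr : ∀ v : P, fst v ∈ Set.range j → v ∈ Set.range j') (h : Codim2 f j) :
    Codim2 snd j' := by
  intro y z hz
  let φ : snd.fiber y ⟶ f.fiber (g y) :=
    pullback.map snd (Y.fromSpecResidueField y) f (Z.fromSpecResidueField (g y)) fst
      (Spec.map (g.residueFieldMap y)) g hp.w.symm (by simp)
  have hφ : IsPullback φ (snd.fiberToSpecResidueField y)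
      (f.fiberToSpecResidueField (g y)) (Spec.map (g.residueFieldMap y)) :=
    isPullback_fiberToSpecResidueField_of_isPullback hp y
  have hφ1 : φ ≫ f.fiberι (g y) = snd.fiberι y ≫ fst := pullback.lift_fst _ _ _
  have h0 : Flat (Spec.map (g.residueFieldMap y)) := by
    have : (g.residueFieldMap y).hom.Flat := by
      algebraize [(g.residueFieldMap y).hom]
      exact Module.Flat.of_free
    rw [Flat.SpecMap_iff]
    exact this
  have hfl : Flat φ := MorphismProperty.of_isPullback (P := @Flat) hφ.flip h0
  refine (h (g y) (φ z) ?_).trans (le_ringKrullDim_of_flat φ z)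
  intro hc
  apply hz
  apply hr
  have : fst ((snd.fiberι y) z) = (f.fiberι (g y)) (φ z) := by
    rw [← Scheme.Hom.comp_apply, ← hφ1, Scheme.Hom.comp_apply]
  exact this ▸ hc

/-- Every point of a scheme is a specialisation of a point whose local ring has dimension zero. -/
theorem exists_specializes (Z : Scheme.{u}) (z : Z) :
    ∃ y : Z, y ⤳ z ∧ ringKrullDim (Z.presheaf.stalk y) = 0 := by
  obtain ⟨y, hy⟩ := QuasiSober.sober (isIrreducible_irreducibleComponent (x := z))
    isClosed_irreducibleComponent
  have h1 : y ⤳ z := by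
    rw [specializes_iff_mem_closure, hy.def]
    exact mem_irreducibleComponent
  refine ⟨y, h1, ?_⟩
  rw [ringKrullDim_stalk_eq_coheight]
  have : Order.coheight y = 0 := by
    rw [Order.coheight_eq_zero]
    intro w hw
    have hw' : w ⤳ y := Scheme.le_iff_specializes.1 hw
    have h2 : closure {w} = irreducibleComponent z :=
      eq_irreducibleComponent (isPreirreducible_singleton.closure) (by
        have : closure ({y} : Set Z) ⊆ closure {w} := hw'.closure_subset
        rwa [hy.def] at this)
    have h3 : y ∈ closure {w} := by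
      rw [h2, ← hy.def]
      exact subset_closure rfl
    have h4 : w ∈ closure {y} := by
      rw [hy.def, ← h2]
      exact subset_closure rfl
    exact Scheme.le_iff_specializes.2 (specializes_iff_mem_closure.2 h4)
  rw [this]
  rfl

/-- The open is dense in every fibre. -/
theorem Codim2.mem_closure {X U S : Scheme.{u}} {f : X ⟶ S} {j : U ⟶ X} (h : Codim2 f j) (x : X) :
    x ∈ closure (Set.range j ∩ {y : X | f.base y = f.base x}) := by
  obtain ⟨y, hy, hy0⟩ := exists_specializes (f.fiber (f x)) (f.asFiber x)
  have h1 : (f.fiberι (f x)) y ∈ Set.range j := by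
    by_contra hc
    have := h (f x) y hc
    rw [hy0] at this
    exact absurd this (by decide)
  have h2 : (f.fiberι (f x)) y ⤳ x := by
    have := hy.map (f.fiberι (f x)).continuous
    rwa [f.fiberι_asFiber] at this
  refine closure_mono (s := {(f.fiberι (f x)) y}) ?_ (specializes_iff_mem_closure.1 h2)
  rintro _ rfl
  refine ⟨h1, ?_⟩
  have := f.range_fiberι (f x)
  have h3 : (f.fiberι (f x)) y ∈ Set.range (f.fiberι (f x)) := ⟨y, rfl⟩
  rw [this] at h3
  exact h3

theorem Codim2.dense {X U S : Scheme.{u}} {f : X ⟶ S} {j : U ⟶ X} (h : Codim2 f j) :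
    Dense (Set.range j) := fun x => closure_mono Set.inter_subset_left (h.mem_closure x)

end Groth.Agent.Etalg.Codim2
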