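import Groth.Prelude.Def_EtRam
import Mathlib.RingTheory.DiscreteValuationRing.TFAE
import Mathlib.RingTheory.Noetherian.OfPrime
import Mathlib.RingTheory.LocalRing.Module
import Mathlib.RingTheory.Flat.TorsionFree
import Mathlib.RingTheory.Localization.Module
import Mathlib.RingTheory.Ideal.GoingUp
import Mathlib.RingTheory.Valuation.LocalSubring

set_option autoImplicit false

/-! Extensions of discrete valuation rings: Krull-Akizuki over a DVR, and valuation subrings of finite
extensions dominating a DVR are DVRs. -/

namespace Groth.Agent.Etalg.DVRExt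

open IsLocalRing TensorProduct

section KA

variable (A K : Type*) {K₁ : Type*} [CommRing A] [IsDomain A] [IsDiscreteValuationRing A] [Field K] [Algebra A K]
  [IsFractionRing A K] [Field K₁] [Algebra K K₁] [FiniteDimensional K K₁] [Algebra A K₁]
  [IsScalarTower A K K₁]

include K in
/-- For a DVR `A` and an `A`-submodule `N` of a finite extension of the fraction field, the fibre of `N` is
finite dimensional. -/
theorem finite_fibre {N : Type*} [AddCommGroup N] [Module A N] (f : N →ₗ[A] K₁) (hf : Function.Injective f) :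
    Module.Finite (ResidueField A) (ResidueField A ⊗[A] N) := by
  have hfs : FaithfulSMul A K₁ := by
    rw [faithfulSMul_iff_algebraMap_injective, IsScalarTower.algebraMap_eq A K K₁]
    exact (algebraMap K K₁).injective.comp (IsFractionRing.injective A K)
  have htf : Module.IsTorsionFree A K₁ := inferInstance
  have htfN : Module.IsTorsionFree A N := hf.moduleIsTorsionFree f (fun a x => f.map_smul a x)
  have : Module.rank (ResidueField A) (ResidueField A ⊗[A] N) ≤ Module.finrank K K₁ := by
    apply rank_le
    intro s hs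
    choose v hv using fun i : s => TensorProduct.mk_surjective A N (ResidueField A) Ideal.Quotient.mk_surjective i.1
    have h1 : LinearIndependent (ResidueField A) (TensorProduct.mk A (ResidueField A) N 1 ∘ v) := by
      convert hs with i
      simp [hv i]
    have h2 : LinearIndependent A v := Module.IsLocalRing.linearIndependent_of_flat v h1
    have h3 : LinearIndependent A (f ∘ v) := h2.map' f (LinearMap.ker_eq_bot.mpr hf)
    have h4 : LinearIndependent K (f ∘ v) := (LinearIndependent.iff_fractionRing A K).mp h3
    simpa using h4.fintype_card_le_finrank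
  exact Module.rank_lt_aleph0_iff.mp (lt_of_le_of_lt this (Cardinal.natCast_lt_aleph0))

include K in
/-- finitely many elements generate `N` modulo `ϖ N`. -/
theorem exists_finset_span_sup {N : Type*} [AddCommGroup N] [Module A N] (f : N →ₗ[A] K₁)
    (hf : Function.Injective f) :
    ∃ s : Finset N, Submodule.span A (s : Set N) ⊔ (maximalIdeal A) • (⊤ : Submodule A N) = ⊤ := by
  have h1 := finite_fibre A K f hf
  have h2 : Module.Finite A (ResidueField A ⊗[A] N) :=
    Module.Finite.trans (ResidueField A) _
  have h2' : Module.Finite A ((A ⧸ maximalIdeal A) ⊗[A] N) := h2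
  have h3 : Module.Finite A (N ⧸ (maximalIdeal A) • (⊤ : Submodule A N)) :=
    Module.Finite.equiv (TensorProduct.quotTensorEquivQuotSMul N (maximalIdeal A))
  obtain ⟨t, ht⟩ := h3.fg_top
  choose v hv using fun i : N ⧸ (maximalIdeal A) • (⊤ : Submodule A N) => Submodule.mkQ_surjective _ i
  classical
  refine ⟨t.image v, ?_⟩
  rw [eq_top_iff]
  intro x _
  have hx : Submodule.mkQ ((maximalIdeal A) • (⊤ : Submodule A N)) x ∈ Submodule.span A (t : Set _) := by
    rw [ht]; trivial
  have h5 : Submodule.span A (t : Set _) = (Submodule.span A ((t.image v : Finset N) : Set N)).map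
      (Submodule.mkQ ((maximalIdeal A) • (⊤ : Submodule A N))) := by
    rw [Submodule.map_span]
    congr 1
    ext y
    simp only [Finset.coe_image, Set.mem_image, Finset.mem_coe, exists_exists_and_eq_and, hv,
      exists_eq_right]
  rw [h5, Submodule.mem_map] at hx
  obtain ⟨y, hy, hxy⟩ := hx
  have h6 : x - y ∈ (maximalIdeal A) • (⊤ : Submodule A N) := by
    rw [← Submodule.ker_mkQ ((maximalIdeal A) • (⊤ : Submodule A N)), LinearMap.mem_ker, map_sub, hxy, sub_self]
  rw [← add_sub_cancel y x]
  exact Submodule.add_mem_sup hy h6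

include K in
/-- Krull-Akizuki over a DVR: every ring between the DVR `A` and a finite extension of its fraction field is
Noetherian. -/
theorem isNoetherianRing_of_injective {V : Type*} [CommRing V] [Algebra A V] (f : V →ₐ[A] K₁)
    (hf : Function.Injective f) : IsNoetherianRing V := by
  obtain ⟨ϖ, hϖ⟩ := IsDiscreteValuationRing.exists_irreducible A
  have hdom : IsDomain V := hf.isDomain f.toRingHom
  have halg : Algebra.IsAlgebraic A K₁ := by
    have := Algebra.IsAlgebraic.of_finite K K₁
    exact (IsFractionRing.comap_isAlgebraic_iff (A := A) (K := K) (C := K₁)).mpr inferInstance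
  apply IsNoetherianRing.of_prime_ne_bot
  intro P hP hP0
  -- `ϖ ∈ P`
  obtain ⟨x, hxP, hx0⟩ := Submodule.exists_mem_ne_zero_of_ne_bot hP0
  have hxalg : IsAlgebraic A x := by
    have := (halg.isAlgebraic (f x))
    exact (isAlgebraic_algHom_iff f hf).mp this
  have hcomap : P.comap (algebraMap A V) ≠ ⊥ := Ideal.comap_ne_bot_of_algebraic_mem hx0 hxP hxalg
  have hcm : P.comap (algebraMap A V) = maximalIdeal A :=
    IsLocalRing.eq_maximalIdeal (Ideal.IsPrime.isMaximal inferInstance hcomap)
  obtain ⟨s, hs⟩ := exists_finset_span_sup A K (N := P.restrictScalars A)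
    (f.toLinearMap ∘ₗ (P.restrictScalars A).subtype) (hf.comp Subtype.val_injective)
  classical
  refine ⟨insert (algebraMap A V ϖ) (s.image (fun y : P.restrictScalars A => (y : V))), ?_⟩
  apply le_antisymm
  · rw [Submodule.span_le]
    intro y hy
    simp only [Finset.coe_insert, Finset.coe_image, Set.mem_insert_iff, Set.mem_image, Finset.mem_coe] at hy
    rcases hy with rfl | ⟨z, hz, rfl⟩
    · have : ϖ ∈ P.comap (algebraMap A V) := by rw [hcm, hϖ.maximalIdeal_eq]; exact Ideal.mem_span_singleton_self _
      exact this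
    · exact z.2
  · intro y hy
    have h1 : (⟨y, hy⟩ : P.restrictScalars A) ∈ Submodule.span A (s : Set _) ⊔
      (maximalIdeal A) • (⊤ : Submodule A (P.restrictScalars A)) := by rw [hs]; trivial
    rw [Submodule.mem_sup] at h1
    obtain ⟨a, ha, b, hb, hab⟩ := h1
    have h2 : y = (a : V) + (b : V) := by
      have := congrArg Subtype.val hab
      simpa using this.symm
    rw [h2]
    apply Ideal.add_mem
    · have h3 : (a : V) ∈ Submodule.span A ((fun y : P.restrictScalars A => (y : V)) '' (s : Set _)) := by
        have := Submodule.mem_map_of_mem (f := (P.restrictScalars A).subtype) ha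
        rw [Submodule.map_span] at this
        exact this
      have h4 : Submodule.span A ((fun y : P.restrictScalars A => (y : V)) '' (s : Set _)) ≤
          (Submodule.span V ((fun y : P.restrictScalars A => (y : V)) '' (s : Set _))).restrictScalars A :=
        Submodule.span_le_restrictScalars _ _ _
      refine Submodule.span_mono ?_ (h4 h3)
      intro z hz
      simp only [Finset.coe_insert, Finset.coe_image]
      exact Set.mem_insert_of_mem _ hz
    · have h3 : (b : V) ∈ Ideal.span {algebraMap A V ϖ} := by
        rw [hϖ.maximalIdeal_eq] at hb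
        refine Submodule.smul_induction_on hb ?_ ?_
        · intro r hr n _
          rw [Ideal.mem_span_singleton] at hr
          obtain ⟨c, rfl⟩ := hr
          rw [Submodule.coe_smul, Algebra.smul_def, map_mul, mul_assoc]
          exact Ideal.mul_mem_right _ _ (Ideal.mem_span_singleton_self _)
        · intro x y hx hy
          exact Ideal.add_mem _ hx hy
      refine Ideal.span_mono ?_ h3
      simp

end KA

section Principal

/-- A Noetherian local ring whose maximal ideal is generated by a non-nilpotent element is a DVR. -/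
theorem isDVR_of_principal (R : Type*) [CommRing R] [IsNoetherianRing R] [IsLocalRing R] (ϖ : R)
    (h : maximalIdeal R = Ideal.span {ϖ}) (hn : ¬ IsNilpotent ϖ) :
    ∃ (_ : IsDomain R), IsDiscreteValuationRing R := by
  -- every nonzero element is a unit times a power of `ϖ`
  have hfac : ∀ x : R, x ≠ 0 → ∃ (k : ℕ) (u : R), IsUnit u ∧ x = ϖ ^ k * u := by
    intro x hx
    have hex : ∃ k : ℕ, x ∉ (maximalIdeal R) ^ k := by
      by_contra hcon
      push Not at hcon
      have : x ∈ (⨅ i : ℕ, (maximalIdeal R) ^ i) := by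
        rw [Submodule.mem_iInf]; exact hcon
      rw [Ideal.iInf_pow_eq_bot_of_isLocalRing _ (Ideal.IsPrime.ne_top inferInstance)] at this
      exact hx this
    classical
    have h1 := Nat.find_spec hex
    set k := Nat.find hex with hk
    have hk0 : k ≠ 0 := by
      intro h0
      rw [h0, pow_zero, Ideal.one_eq_top] at h1
      exact h1 trivial
    obtain ⟨m, hm⟩ := Nat.exists_eq_succ_of_ne_zero hk0
    have h2 : x ∈ (maximalIdeal R) ^ m := by
      by_contra hcon
      exact Nat.find_min hex (by omega : m < Nat.find hex) hcon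
    rw [h, Ideal.span_singleton_pow, Ideal.mem_span_singleton] at h2
    obtain ⟨u, rfl⟩ := h2
    refine ⟨m, u, ?_, rfl⟩
    by_contra hu
    apply h1
    have : u ∈ maximalIdeal R := hu
    rw [hm, Nat.succ_eq_add_one, pow_succ]
    refine Ideal.mul_mem_mul ?_ this
    rw [h, Ideal.span_singleton_pow]
    exact Ideal.mem_span_singleton_self _
  have hdom : IsDomain R := by
    have : NoZeroDivisors R := by
      constructor
      intro a b hab
      by_contra hcon
      push Not at hcon
      obtain ⟨k, u, hu, rfl⟩ := hfac a hcon.1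
      obtain ⟨l, v, hv, rfl⟩ := hfac b hcon.2
      apply hn
      refine ⟨k + l, ?_⟩
      have h3 : ϖ ^ (k + l) * (u * v) = 0 := by rw [← hab]; ring
      rwa [(hu.mul hv).mul_left_eq_zero] at h3
    exact NoZeroDivisors.to_isDomain R
  refine ⟨hdom, ?_⟩
  have hnf : ¬ IsField R := by
    rw [isField_iff_maximalIdeal_eq, h]
    intro h0
    rw [Ideal.span_singleton_eq_bot] at h0
    exact hn (h0 ▸ IsNilpotent.zero)
  have hpr : (maximalIdeal R).IsPrincipal := ⟨⟨ϖ, by rw [h]⟩⟩
  exact ((IsDiscreteValuationRing.TFAE R hnf).out 4 0).mp hpr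

/-- totally ramified shape: `R` integral over the local ring `A`, `R = A + ϖ R`, `m_A R ⊆ ϖ R` and a power of
`ϖ` lies in `m_A R`; then `R` is local with maximal ideal `ϖ R`. -/
theorem isLocal_of_totallyRamified (A R : Type*) [CommRing A] [IsLocalRing A] [CommRing R] [Nontrivial R]
    [Algebra A R] [Algebra.IsIntegral A R] (ϖ : R) (h1 : ∀ y : R, ∃ (a : A) (r : R), y = algebraMap A R a + ϖ * r)
    (h2 : ∀ a ∈ maximalIdeal A, algebraMap A R a ∈ Ideal.span {ϖ})
    (h3 : ∃ n : ℕ, ϖ ^ n ∈ (maximalIdeal A).map (algebraMap A R)) :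
    ∃ (_ : IsLocalRing R), maximalIdeal R = Ideal.span {ϖ} := by
  -- every maximal ideal contains `ϖ`
  have hmax : ∀ M : Ideal R, M.IsMaximal → ϖ ∈ M := by
    intro M hM
    have hc : (M.comap (algebraMap A R)).IsMaximal := Ideal.isMaximal_comap_of_isIntegral_of_isMaximal M
    have hc' : M.comap (algebraMap A R) = maximalIdeal A := IsLocalRing.eq_maximalIdeal hc
    obtain ⟨n, hn⟩ := h3
    have : ϖ ^ n ∈ M := by
      refine (Ideal.map_le_iff_le_comap.mpr ?_) hn
      rw [hc']
    exact hM.isPrime.mem_of_pow_mem n this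
  have hunit : ∀ y : R, y ∉ Ideal.span {ϖ} → IsUnit y := by
    intro y hy
    by_contra hu
    obtain ⟨M, hM, hyM⟩ := exists_max_ideal_of_mem_nonunits hu
    obtain ⟨a, r, rfl⟩ := h1 y
    have ha : IsUnit a := by
      by_contra hau
      exact hy (Ideal.add_mem _ (h2 a hau) (Ideal.mul_mem_right _ _ (Ideal.mem_span_singleton_self _)))
    have : algebraMap A R a ∈ M := by
      have := M.sub_mem hyM (M.mul_mem_right r (hmax M hM))
      simpa using this
    exact hM.ne_top (Ideal.eq_top_of_isUnit_mem _ this (ha.map _))
  have hnu : ∀ y : R, y ∈ nonunits R ↔ y ∈ Ideal.span {ϖ} := by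
    intro y
    constructor
    · intro hy
      by_contra hcon
      exact hy (hunit y hcon)
    · intro hy hu
      obtain ⟨M, hM⟩ := Ideal.exists_maximal R
      have : y ∈ M := by
        refine (Ideal.span_singleton_le_iff_mem M).mpr (hmax M hM) hy
      exact hM.ne_top (Ideal.eq_top_of_isUnit_mem _ this hu)
  have hloc : IsLocalRing R := by
    apply IsLocalRing.of_nonunits_add
    intro a b ha hb
    rw [hnu] at *
    exact Ideal.add_mem _ ha hb
  refine ⟨hloc, ?_⟩
  ext y
  rw [← hnu y]
  rfl

/-- A DVR (or any valuation ring) `R` mapping locally to a valuation subring `W` of its "fraction field" `M`: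
`W` is the image of `R`. -/
theorem exists_eq_of_local {R M : Type*} [CommRing R] [IsDomain R] [ValuationRing R] [Field M] (φ : R →+* M)
    (W : ValuationSubring M) (hloc : ∀ r ∈ maximalIdeal R, W.valuation (φ r) < 1)
    (hgen : ∀ x : M, ∃ a b : R, φ b ≠ 0 ∧ x * φ b = φ a) (x : M) (hx : x ∈ W) : ∃ r, φ r = x := by
  obtain ⟨a, b, hb, hab⟩ := hgen x
  have hv : W.valuation x ≤ 1 := (W.valuation_le_one_iff _).mpr hx
  have hb0 : b ≠ 0 := fun h => hb (by rw [h, map_zero])
  obtain ⟨c, hc⟩ | ⟨c, hc⟩ := ValuationRing.dvd_total b a |>.imp id id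
  · refine ⟨c, ?_⟩
    rw [hc, map_mul, mul_comm x] at hab
    exact (mul_left_cancel₀ hb hab).symm
  · -- `b = a c`
    have ha0 : φ a ≠ 0 := fun h => hb (by rw [hc, map_mul, h, zero_mul])
    have h1 : x * φ c = 1 := by
      have h2 : φ a * (x * φ c) = φ a * 1 := by
        calc φ a * (x * φ c) = x * φ (a * c) := by rw [map_mul]; ring
          _ = φ a * 1 := by rw [← hc, hab, mul_one]
      exact mul_left_cancel₀ ha0 h2
    have hcu : IsUnit c := by
      by_contra hcu
      have h3 : W.valuation (φ c) < 1 := hloc c hcu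
      have h4 : W.valuation x * W.valuation (φ c) = 1 := by rw [← map_mul, h1, map_one]
      have h5 : W.valuation x * W.valuation (φ c) ≤ 1 * W.valuation (φ c) := by gcongr
      rw [h4, one_mul] at h5
      exact absurd h3 (not_lt.mpr h5)
    obtain ⟨u, rfl⟩ := hcu
    refine ⟨(u⁻¹ : Rˣ), ?_⟩
    have h6 : φ (u⁻¹ : Rˣ) * φ u = 1 := by rw [← map_mul, Units.inv_mul, map_one]
    have hu0 : φ (u : R) ≠ 0 := right_ne_zero_of_mul_eq_one h6
    exact mul_right_cancel₀ hu0 (h6.trans h1.symm)

theorem mem_of_isIntegralElem {A F : Type*} [CommRing A] [Field F] (V : ValuationSubring F) (g : A →+* F)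
    (h : ∀ a, g a ∈ V) {x : F} (hx : g.IsIntegralElem x) : x ∈ V := by
  obtain ⟨p, hp, hpx⟩ := hx
  have h1 : IsIntegral V x := by
    refine ⟨p.map (g.codRestrict V h), hp.map _, ?_⟩
    rw [Polynomial.eval₂_map]
    exact hpx
  obtain ⟨y, hy⟩ := IsIntegrallyClosed.isIntegral_iff.mp h1
  rw [← hy]
  exact y.2

end Principal

end Groth.Agent.Etalg.DVRExt
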