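import Groth.Prelude.Def_EtRam
import Mathlib.RingTheory.Valuation.LocalSubring
import Mathlib.RingTheory.DiscreteValuationRing.Basic

/-!
# Basic facts on valuation subrings dominating a local ring (for ramification theory)

`EtRam.Dominates A g V`: domination of the local ring `A` by the valuation subring `V` of `F` along `g : A → F`.
-/

set_option autoImplicit false
universe u

open IsLocalRing EtRam

namespace Groth.Agent.Etalg.RamBasic

section General

variable {A : Type u} [CommRing A] [IsLocalRing A] {F E : Type u} [Field F] [Field E]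

theorem valuation_comap_lt_one_iff (W : ValuationSubring E) (f : F →+* E) (x : F) :
    (W.comap f).valuation x < 1 ↔ W.valuation (f x) < 1 := by
  rw [← ValuationSubring.mem_nonunits_iff, ← ValuationSubring.mem_nonunits_iff,
    ValuationSubring.mem_nonunits_iff_or, ValuationSubring.mem_nonunits_iff_or,
    ValuationSubring.mem_comap, map_inv₀, map_eq_zero]

theorem valuation_comap_le_one_iff (W : ValuationSubring E) (f : F →+* E) (x : F) :
    (W.comap f).valuation x ≤ 1 ↔ W.valuation (f x) ≤ 1 := by
  rw [ValuationSubring.valuation_le_one_iff, ValuationSubring.valuation_le_one_iff,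
    ValuationSubring.mem_comap]

theorem valuation_comap_le_iff (W : ValuationSubring E) (f : F →+* E) (x y : F) :
    (W.comap f).valuation x ≤ (W.comap f).valuation y ↔ W.valuation (f x) ≤ W.valuation (f y) := by
  by_cases hy : y = 0
  · subst hy
    simp
  · have h1 : (W.comap f).valuation x ≤ (W.comap f).valuation y ↔
        (W.comap f).valuation (x / y) ≤ 1 := by
      rw [map_div₀, div_le_one₀]
      exact zero_lt_iff.mpr ((Valuation.ne_zero_iff _).mpr hy)
    have h2 : W.valuation (f x) ≤ W.valuation (f y) ↔ W.valuation (f (x / y)) ≤ 1 := by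
      rw [map_div₀, map_div₀, div_le_one₀]
      exact zero_lt_iff.mpr ((Valuation.ne_zero_iff _).mpr (by simpa using hy))
    rw [h1, h2, valuation_comap_le_one_iff]

theorem valuation_comap_lt_iff (W : ValuationSubring E) (f : F →+* E) (x y : F) :
    (W.comap f).valuation x < (W.comap f).valuation y ↔ W.valuation (f x) < W.valuation (f y) := by
  rw [← not_le, ← not_le, valuation_comap_le_iff]

theorem valuation_comap_eq_iff (W : ValuationSubring E) (f : F →+* E) (x y : F) :
    (W.comap f).valuation x = (W.comap f).valuation y ↔ W.valuation (f x) = W.valuation (f y) := by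
  rw [le_antisymm_iff, le_antisymm_iff, valuation_comap_le_iff, valuation_comap_le_iff]

/-- Domination can be tested on the preimage. -/
theorem dominates_comp_iff (g : A →+* F) (f : F →+* E) (W : ValuationSubring E) :
    Dominates A (f.comp g) W ↔ Dominates A g (W.comap f) := by
  unfold Dominates
  simp only [RingHom.comp_apply, ValuationSubring.mem_comap, valuation_comap_lt_one_iff]

theorem isLocalHom_codRestrict_iff {g : A →+* F} {V : ValuationSubring F} (h : ∀ a, g a ∈ V) :
    IsLocalHom (g.codRestrict V h) ↔ ∀ a ∈ maximalIdeal A, V.valuation (g a) < 1 := by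
  constructor
  · intro hl a ha
    have h1 : g.codRestrict V h a ∈ maximalIdeal V := by
      rw [mem_maximalIdeal, mem_nonunits_iff] at ha ⊢
      exact fun hu => ha (hl.map_nonunit a hu)
    exact (V.valuation_lt_one_iff _).mp h1
  · intro hl
    refine ⟨fun a ha => ?_⟩
    by_contra hna
    have h1 := hl a ((mem_maximalIdeal a).mpr hna)
    have h2 := (V.valuation_eq_one_iff _).mp ha
    exact absurd h2 (ne_of_lt h1)

theorem Dominates.isLocalHom {g : A →+* F} {V : ValuationSubring F} (h : Dominates A g V) :
    IsLocalHom (g.codRestrict V h.1) := (isLocalHom_codRestrict_iff h.1).mpr h.2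

theorem dominates_iff_isLocalHom (g : A →+* F) (V : ValuationSubring F) :
    Dominates A g V ↔ ∃ h : ∀ a, g a ∈ V, IsLocalHom (g.codRestrict V h) :=
  ⟨fun h => ⟨h.1, Dominates.isLocalHom h⟩, fun ⟨h, hl⟩ => ⟨h, (isLocalHom_codRestrict_iff h).mp hl⟩⟩

/-- Every ring map from a local ring to a field is dominated by some valuation subring. -/
theorem exists_dominates (g : A →+* F) : ∃ V : ValuationSubring F, Dominates A g V := by
  obtain ⟨V, hV⟩ := (LocalSubring.range g).exists_le_valuationSubring
  refine ⟨V, (dominates_iff_isLocalHom g V).mpr ⟨fun a => hV.1 ⟨a, rfl⟩, ?_⟩⟩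
  have h1 := hV.2
  have h2 : IsLocalHom g.rangeRestrict := IsLocalHom.of_surjective _ g.rangeRestrict_surjective
  refine ⟨fun a ha => h2.map_nonunit a (h1.map_nonunit _ ?_)⟩
  exact ha

/-- A valuation subring is maximal for domination: the only valuation subring of `F` dominating `V` is `V`. -/
theorem eq_of_dominates_subtype {V V' : ValuationSubring F} (h : Dominates V V.subtype V') :
    V' = V := by
  have hle : V ≤ V' := fun x hx => h.1 ⟨x, hx⟩
  refine le_antisymm ?_ hle
  intro x hx
  by_contra hxV
  have hx0 : x ≠ 0 := by rintro rfl; exact hxV V.zero_mem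
  have h1 : x⁻¹ ∈ V := (V.mem_or_inv_mem x).resolve_left hxV
  have h2 : (⟨x⁻¹, h1⟩ : V) ∈ maximalIdeal V := by
    rw [ValuationSubring.valuation_lt_one_iff]
    rw [← ValuationSubring.mem_nonunits_iff, ValuationSubring.mem_nonunits_iff_or]
    right
    simpa using hxV
  have h3 := h.2 _ h2
  rw [ValuationSubring.subtype_apply, ← ValuationSubring.mem_nonunits_iff,
    ValuationSubring.mem_nonunits_iff_or] at h3
  rcases h3 with h3 | h3
  · exact hx0 (by simpa using h3)
  · exact h3 (by simpa using hx)

theorem dominates_subtype_iff {V V' : ValuationSubring F} : Dominates V V.subtype V' ↔ V' = V := by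
  refine ⟨eq_of_dominates_subtype, ?_⟩
  rintro rfl
  exact ⟨fun a => a.2, fun a ha => (ValuationSubring.valuation_lt_one_iff _ _).mp ha⟩

/-- `W` dominates the valuation subring `V` of `F` along `f : F → E` iff `W ∩ F = V`. -/
theorem dominates_comp_subtype_iff (f : F →+* E) (V : ValuationSubring F) (W : ValuationSubring E) :
    Dominates V (f.comp V.subtype) W ↔ W.comap f = V := by
  rw [dominates_comp_iff, dominates_subtype_iff]

/-- Valuation subrings extend along field extensions. -/
theorem exists_comap_eq (f : F →+* E) (V : ValuationSubring F) :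
    ∃ W : ValuationSubring E, W.comap f = V := by
  obtain ⟨W, hW⟩ := exists_dominates (f.comp V.subtype)
  exact ⟨W, (dominates_comp_subtype_iff f V W).mp hW⟩

/-- Transitivity of domination. -/
theorem Dominates.comap_eq_trans {g : A →+* F} {V : ValuationSubring F} (f : F →+* E)
    {W : ValuationSubring E} (h : Dominates A g V) (hW : W.comap f = V) :
    Dominates A (f.comp g) W := by
  rw [dominates_comp_iff, hW]
  exact h

end General

section FractionRing

variable (A : Type u) [CommRing A] [IsDomain A] [ValuationRing A]
  (K : Type u) [Field K] [Algebra A K] [IsFractionRing A K]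

/-- The valuation ring `A` viewed as a valuation subring of its fraction field `K`. -/
def vsub : ValuationSubring K where
  toSubring := (algebraMap A K).range
  mem_or_inv_mem' := fun x => by
    have := ValuationRing.isInteger_or_isInteger A x
    exact this

theorem mem_vsub_iff (x : K) : x ∈ vsub A K ↔ ∃ a : A, algebraMap A K a = x := Iff.rfl

theorem algebraMap_mem_vsub (a : A) : algebraMap A K a ∈ vsub A K := ⟨a, rfl⟩

/-- The ring isomorphism `A ≃ vsub A K`. -/
noncomputable def equivVsub : A ≃+* vsub A K :=
  RingEquiv.ofBijective ((algebraMap A K).codRestrict (vsub A K) (algebraMap_mem_vsub A K))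
    ⟨fun _ _ h => IsFractionRing.injective A K (congrArg Subtype.val h),
      fun ⟨_, a, ha⟩ => ⟨a, Subtype.ext ha⟩⟩

@[simp] theorem coe_equivVsub (a : A) : ((equivVsub A K a : vsub A K) : K) = algebraMap A K a := rfl

theorem vsub_valuation_lt_one_iff (a : A) :
    (vsub A K).valuation (algebraMap A K a) < 1 ↔ a ∈ maximalIdeal A := by
  have h1 : (vsub A K).valuation (algebraMap A K a) < 1 ↔ equivVsub A K a ∈ maximalIdeal (vsub A K) := by
    rw [ValuationSubring.valuation_lt_one_iff]; rfl
  rw [h1, mem_maximalIdeal, mem_maximalIdeal, mem_nonunits_iff, mem_nonunits_iff,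
    MulEquiv.isUnit_map]

theorem dominates_vsub : Dominates A (algebraMap A K) (vsub A K) :=
  ⟨algebraMap_mem_vsub A K, fun a ha => (vsub_valuation_lt_one_iff A K a).mpr ha⟩

variable {A K}

/-- The only valuation subring of `Frac A` dominating the valuation ring `A` is `A`. -/
theorem dominates_algebraMap_iff {V : ValuationSubring K} :
    Dominates A (algebraMap A K) V ↔ V = vsub A K := by
  refine ⟨fun h => ?_, ?_⟩
  · apply eq_of_dominates_subtype
    refine ⟨?_, ?_⟩
    · rintro ⟨_, a, rfl⟩
      exact h.1 a
    · rintro ⟨_, a, rfl⟩ ha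
      refine h.2 a ?_
      rw [← vsub_valuation_lt_one_iff A K]
      exact (ValuationSubring.valuation_lt_one_iff _ _).mp ha
  · rintro rfl
    exact dominates_vsub A K

/-- A valuation subring of an extension `E` of `K = Frac A` dominates the valuation ring `A` iff its
intersection with `K` is `A`. -/
theorem dominates_comp_algebraMap_iff {E : Type u} [Field E] (f : K →+* E) {W : ValuationSubring E} :
    Dominates A (f.comp (algebraMap A K)) W ↔ W.comap f = vsub A K := by
  rw [dominates_comp_iff, dominates_algebraMap_iff]

theorem vsub_valuationSubring (V : ValuationSubring K) : vsub V K = V := by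
  ext x
  constructor
  · rintro ⟨a, rfl⟩
    exact a.2
  · intro hx
    exact ⟨⟨x, hx⟩, rfl⟩

end FractionRing

instance isDiscreteValuationRing_vsub (A : Type u) [CommRing A] [IsDomain A] [IsDiscreteValuationRing A]
    (K : Type u) [Field K] [Algebra A K] [IsFractionRing A K] :
    IsDiscreteValuationRing (vsub A K) :=
  IsDiscreteValuationRing.RingEquivClass.isDiscreteValuationRing (equivVsub A K)

end Groth.Agent.Etalg.RamBasic
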