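import Groth.Prelude.Def_EtRam
import Mathlib.RingTheory.DiscreteValuationRing.TFAE
import Mathlib.RingTheory.Valuation.LocalSubring
import Mathlib.RingTheory.Polynomial.Content
import Mathlib.RingTheory.Algebraic.Integral
import Mathlib.FieldTheory.Minpoly.Finite

/-!
# Valuation subrings of finite extensions dominating a DVR

* `isDVR_of_dominates`: a valuation subring of a finite extension of `Frac A` dominating the DVR `A` is a DVR.
-/

set_option autoImplicit false
universe u

namespace Groth.Agent.Etalg.RamDVR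

open Polynomial IsLocalRing

section Basic

/-- units of `A` have value one -/
theorem valuation_eq_one_of_isUnit {A F : Type u} [CommRing A] [IsLocalRing A] [Field F] {g : A →+* F}
    {W : ValuationSubring F}
    (h : EtRam.Dominates A g W) {a : A} (ha : IsUnit a) : W.valuation (g a) = 1 := by
  obtain ⟨u, rfl⟩ := ha
  have h1 : W.valuation (g u) ≤ 1 := (W.valuation_le_one_iff _).2 (h.1 _)
  have h2 : W.valuation (g (u⁻¹ : Aˣ)) ≤ 1 := (W.valuation_le_one_iff _).2 (h.1 _)
  have h3 : W.valuation (g u) * W.valuation (g (u⁻¹ : Aˣ)) = 1 := by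
    rw [← map_mul, ← map_mul, Units.mul_inv, map_one, map_one]
  refine le_antisymm h1 ?_
  calc (1 : W.ValueGroup) = W.valuation (g u) * W.valuation (g (u⁻¹ : Aˣ)) := h3.symm
    _ ≤ W.valuation (g u) * 1 := by gcongr
    _ = _ := mul_one _

theorem valuation_le_one {A F : Type u} [CommRing A] [IsLocalRing A] [Field F] {g : A →+* F}
    {W : ValuationSubring F}
    (h : EtRam.Dominates A g W) (a : A) : W.valuation (g a) ≤ 1 :=
  (W.valuation_le_one_iff _).2 (h.1 _)

theorem valuation_lt_one_iff {A F : Type u} [CommRing A] [IsLocalRing A] [Field F] {g : A →+* F}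
    {W : ValuationSubring F}
    (h : EtRam.Dominates A g W) (a : A) : W.valuation (g a) < 1 ↔ a ∈ maximalIdeal A := by
  refine ⟨fun hlt => ?_, h.2 a⟩
  rw [mem_maximalIdeal, mem_nonunits_iff]
  intro ha
  rw [valuation_eq_one_of_isUnit h ha] at hlt
  exact lt_irrefl _ hlt

variable {A K F : Type u} [CommRing A] [IsDomain A] [IsDiscreteValuationRing A] [Field K] [Algebra A K]
  [IsFractionRing A K] [Field F] [Algebra K F] {W : ValuationSubring F}

/-- If `A` is a DVR with uniformizer `ϖ`, every nonzero `x` in `K` has value a power of the value of `ϖ`. -/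
theorem exists_zpow_of_frac (h : EtRam.Dominates A ((algebraMap K F).comp (algebraMap A K)) W) {ϖ : A}
    (hϖ : Irreducible ϖ) (x : K) (hx : x ≠ 0) :
    ∃ n : ℤ, W.valuation (algebraMap K F x) = W.valuation (algebraMap K F (algebraMap A K ϖ)) ^ n := by
  obtain ⟨n, u, hn⟩ := IsDiscreteValuationRing.exists_units_eq_smul_zpow_of_irreducible hϖ hx
  refine ⟨n, ?_⟩
  rw [hn, Units.smul_def, Algebra.smul_def, map_mul, map_mul, map_zpow₀, map_zpow₀]
  have := valuation_eq_one_of_isUnit h u.isUnit
  simp only [RingHom.comp_apply] at this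
  rw [this, one_mul]

/-- A sum which vanishes has two distinct terms with the same nonzero value. -/
theorem exists_ne_valuation_eq {R Γ ι : Type*} [CommRing R] [LinearOrderedCommGroupWithZero Γ]
    (v : Valuation R Γ) (s : Finset ι) (f : ι → R) (hs : s.Nonempty) (h0 : ∀ i ∈ s, v (f i) ≠ 0)
    (hsum : ∑ i ∈ s, f i = 0) : ∃ i ∈ s, ∃ j ∈ s, i ≠ j ∧ v (f i) = v (f j) := by
  classical
  obtain ⟨j, hj, hmax⟩ := Finset.exists_max_image s (fun i => v (f i)) hs
  by_contra hcon
  push Not at hcon
  have := v.map_sum_eq_of_lt (f := f) hj (fun i hi => ?_)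
  · rw [hsum, map_zero] at this
    exact h0 j hj this.symm
  · rw [Finset.mem_sdiff, Finset.mem_singleton] at hi
    exact lt_of_le_of_ne (hmax i hi.1) (hcon i hi.1 j hj hi.2)

/-- algebraic elements have a power whose value lies in the value group downstairs, with explicit exponent bound -/
theorem exists_pow_eq_zpow [FiniteDimensional K F]
    (h : EtRam.Dominates A ((algebraMap K F).comp (algebraMap A K)) W) {ϖ : A}
    (hϖ : Irreducible ϖ) (x : F) (hx : x ≠ 0) :
    ∃ n : ℕ, 0 < n ∧ n ≤ Module.finrank K F ∧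
      ∃ k : ℤ, W.valuation x ^ n = W.valuation (algebraMap K F (algebraMap A K ϖ)) ^ k := by
  classical
  have hint : IsIntegral K x := Algebra.IsIntegral.isIntegral x
  set p := minpoly K x with hp
  have hp0 : p ≠ 0 := minpoly.ne_zero hint
  have hdeg : p.natDegree ≤ Module.finrank K F := minpoly.natDegree_le x
  have hsum : ∑ i ∈ p.support, algebraMap K F (p.coeff i) * x ^ i = 0 := by
    have := minpoly.aeval K x
    rwa [aeval_def, eval₂_eq_sum, Polynomial.sum_def] at this
  obtain ⟨i, hi, j, hj, hij, hv⟩ := exists_ne_valuation_eq W.valuation p.support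
    (fun i => algebraMap K F (p.coeff i) * x ^ i) (support_nonempty.2 hp0) (fun i hi => by
      rw [Valuation.ne_zero_iff]
      refine mul_ne_zero ?_ (pow_ne_zero _ hx)
      rw [Ne, map_eq_zero]
      exact mem_support_iff.1 hi) hsum
  wlog hlt : i < j generalizing i j
  · exact this j hj i hi hij.symm hv.symm (lt_of_le_of_ne (not_lt.1 hlt) hij.symm)
  have hci : p.coeff i ≠ 0 := mem_support_iff.1 hi
  have hcj : p.coeff j ≠ 0 := mem_support_iff.1 hj
  refine ⟨j - i, Nat.sub_pos_of_lt hlt, (Nat.sub_le _ _).trans ((le_natDegree_of_mem_supp _ hj).trans hdeg), ?_⟩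
  obtain ⟨a, ha⟩ := exists_zpow_of_frac h hϖ _ hci
  obtain ⟨b, hb⟩ := exists_zpow_of_frac h hϖ _ hcj
  refine ⟨a - b, ?_⟩
  have ht0 : W.valuation (algebraMap K F (algebraMap A K ϖ)) ≠ 0 := by
    rw [Valuation.ne_zero_iff, Ne, map_eq_zero, map_eq_zero_iff _ (IsFractionRing.injective A K)]
    exact hϖ.ne_zero
  have hx0 : W.valuation x ≠ 0 := by rwa [Valuation.ne_zero_iff]
  simp only [map_mul, map_pow] at hv
  rw [ha, hb] at hv
  rw [zpow_sub₀ ht0, eq_div_iff (zpow_ne_zero _ ht0)]
  apply mul_right_cancel₀ (pow_ne_zero i hx0)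
  calc W.valuation x ^ (j - i) * _ ^ b * W.valuation x ^ i
      = _ ^ b * W.valuation x ^ j := by
        rw [mul_assoc, mul_comm, mul_assoc, ← pow_add, Nat.add_sub_cancel' hlt.le]
    _ = _ := hv.symm

/-- the uniform version -/
theorem exists_pow_factorial_eq_zpow [FiniteDimensional K F]
    (h : EtRam.Dominates A ((algebraMap K F).comp (algebraMap A K)) W) {ϖ : A}
    (hϖ : Irreducible ϖ) (x : F) (hx : x ≠ 0) :
      ∃ k : ℤ, W.valuation x ^ (Module.finrank K F).factorial =
        W.valuation (algebraMap K F (algebraMap A K ϖ)) ^ k := by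
  obtain ⟨n, hn0, hn, k, hk⟩ := exists_pow_eq_zpow h hϖ x hx
  obtain ⟨m, hm⟩ := Nat.dvd_factorial hn0 hn
  refine ⟨k * m, ?_⟩
  rw [hm, pow_mul, hk, zpow_mul, zpow_natCast]

/-- There is an element `ρ` of value `< 1` such that all values are powers of that of `ρ`. -/
theorem exists_uniformizer [FiniteDimensional K F]
    (h : EtRam.Dominates A ((algebraMap K F).comp (algebraMap A K)) W) :
    ∃ ρ : F, ρ ≠ 0 ∧ W.valuation ρ < 1 ∧ ∀ x : F, x ≠ 0 → ∃ k : ℤ, W.valuation x = W.valuation ρ ^ k := by
  classical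
  obtain ⟨ϖ, hϖ⟩ := IsDiscreteValuationRing.exists_irreducible A
  set N := (Module.finrank K F).factorial with hN
  have hN0 : 0 < N := Nat.factorial_pos _
  set t := W.valuation (algebraMap K F (algebraMap A K ϖ)) with ht
  have hϖF : algebraMap K F (algebraMap A K ϖ) ≠ 0 := by
    rw [Ne, map_eq_zero, map_eq_zero_iff _ (IsFractionRing.injective A K)]
    exact hϖ.ne_zero
  have ht0 : t ≠ 0 := by
    rwa [ht, Valuation.ne_zero_iff]
  have htpos : 0 < t := zero_lt_iff.2 ht0
  have ht1 : t < 1 := by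
    have : ϖ ∈ maximalIdeal A := by
      rw [mem_maximalIdeal, mem_nonunits_iff]; exact hϖ.not_isUnit
    exact h.2 ϖ this
  have hanti : StrictAnti (fun n : ℤ => t ^ n) := zpow_right_strictAnti₀ htpos ht1
  have key : ∀ x : F, x ≠ 0 → ∃ k : ℤ, W.valuation x ^ N = t ^ k :=
    fun x hx => exists_pow_factorial_eq_zpow h hϖ x hx
  have hex : ∃ d : ℕ, 0 < d ∧ ∃ x : F, x ≠ 0 ∧ W.valuation x ^ N = t ^ d := by
    exact ⟨N, hN0, _, hϖF, rfl⟩
  obtain ⟨hd0, ρ, hρ0, hρ⟩ := Nat.find_spec hex
  set d := Nat.find hex with hd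
  refine ⟨ρ, hρ0, ?_, fun x hx => ?_⟩
  · by_contra hcon
    rw [not_lt] at hcon
    have h1 : 1 ≤ W.valuation ρ ^ N := one_le_pow₀ hcon
    rw [hρ] at h1
    have h2 : t ^ d < 1 := pow_lt_one₀ htpos.le ht1 hd0.ne'
    exact absurd h1 (not_le.2 h2)
  · obtain ⟨k, hk⟩ := key x hx
    -- divide k by d
    have hvρ : W.valuation ρ ≠ 0 := by rwa [Valuation.ne_zero_iff]
    have hvx : W.valuation x ≠ 0 := by rwa [Valuation.ne_zero_iff]
    set q := k / (d : ℤ) with hq
    set r := k % (d : ℤ) with hr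
    have hdz : (0 : ℤ) < d := by exact_mod_cast hd0
    have hr0 : 0 ≤ r := Int.emod_nonneg _ hdz.ne'
    have hrd : r < d := Int.emod_lt_of_pos _ hdz
    have hkqr : k = d * q + r := (Int.mul_ediv_add_emod k d).symm
    have hy : W.valuation (x / ρ ^ q) ^ N = t ^ r := by
      rw [map_div₀, map_zpow₀, div_pow, hk, ← zpow_natCast (W.valuation ρ ^ q), ← zpow_mul, mul_comm q, zpow_mul,
        zpow_natCast, hρ, ← zpow_natCast t d, ← zpow_mul, ← zpow_sub₀ ht0]
      congr 1
      rw [hkqr]; ring
    have hr' : r = 0 := by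
      by_contra hne
      have hrpos : 0 < r := lt_of_le_of_ne hr0 (Ne.symm hne)
      obtain ⟨m, hm⟩ := Int.eq_ofNat_of_zero_le hr0
      have hm0 : 0 < m := by rw [hm] at hrpos; exact_mod_cast hrpos
      have hmd : m < d := by rw [hm] at hrd; exact_mod_cast hrd
      refine Nat.find_min hex hmd ⟨hm0, x / ρ ^ q, div_ne_zero hx (zpow_ne_zero _ hρ0), ?_⟩
      rw [hy, hm, zpow_natCast]
    refine ⟨q, ?_⟩
    rw [hr', zpow_zero] at hy
    have h1 : W.valuation (x / ρ ^ q) = 1 := (pow_eq_one_iff_of_nonneg zero_le hN0.ne').1 hy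
    rw [map_div₀, map_zpow₀, div_eq_one_iff_eq (zpow_ne_zero _ hvρ)] at h1
    exact h1

end Basic

/-- A valuation subring all of whose values are powers of that of one `ρ` is a DVR, and `ρ` is a uniformizer. -/
theorem isDVR_of_uniformizer {F : Type u} [Field F] (W : ValuationSubring F) (ρ : F) (hρ0 : ρ ≠ 0)
    (hρ : W.valuation ρ < 1) (hall : ∀ x : F, x ≠ 0 → ∃ k : ℤ, W.valuation x = W.valuation ρ ^ k) :
    IsDiscreteValuationRing W ∧ ∀ hm : ρ ∈ W, Irreducible (⟨ρ, hm⟩ : W) := by
  have hρm : ρ ∈ W := (W.valuation_le_one_iff _).1 hρ.le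
  have hvpos : 0 < W.valuation ρ := zero_lt_iff.2 ((Valuation.ne_zero_iff _).2 hρ0)
  have hanti : StrictAnti (fun n : ℤ => W.valuation ρ ^ n) := zpow_right_strictAnti₀ hvpos hρ
  -- each nonzero element is associated to a power
  have hassoc : ∀ x : W, x ≠ 0 → ∃ n : ℕ, Associated ((⟨ρ, hρm⟩ : W) ^ n) x := by
    intro x hx
    have hx' : (x : F) ≠ 0 := by simpa using hx
    obtain ⟨k, hk⟩ := hall x hx'
    have hk0 : 0 ≤ k := by
      by_contra hneg
      rw [not_le] at hneg
      have : W.valuation ρ ^ (0 : ℤ) < W.valuation ρ ^ k := hanti hneg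
      rw [zpow_zero, ← hk] at this
      exact absurd (W.valuation_le_one x) (not_le.2 this)
    obtain ⟨n, rfl⟩ := Int.eq_ofNat_of_zero_le hk0
    refine ⟨n, ?_⟩
    rw [zpow_natCast, ← map_pow, W.valuation_eq_iff] at hk
    obtain ⟨a, ha⟩ := hk
    refine ⟨a, ?_⟩
    apply Subtype.ext
    rw [← ha, mul_comm]
    rfl
  have hirr : Irreducible (⟨ρ, hρm⟩ : W) := by
    have hval : ∀ x : W, x ≠ 0 → ¬ IsUnit x → W.valuation (x : F) ≤ W.valuation ρ := by
      intro x hx hu
      obtain ⟨n, hn⟩ := hassoc x hx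
      have hn0 : n ≠ 0 := by
        rintro rfl
        rw [pow_zero] at hn
        exact hu ((associated_one_iff_isUnit).1 hn.symm)
      obtain ⟨a, ha⟩ := hn
      rw [← ha]
      have : (((⟨ρ, hρm⟩ : W) ^ n * (a : W) : W) : F) = ρ ^ n * ((a : W) : F) := rfl
      rw [this, map_mul, W.valuation_unit, mul_one, map_pow]
      calc W.valuation ρ ^ n ≤ W.valuation ρ ^ 1 :=
            pow_le_pow_right_of_le_one' hρ.le (Nat.one_le_iff_ne_zero.2 hn0)
        _ = _ := pow_one _
    refine ⟨fun hu => ?_, fun x y hxy => ?_⟩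
    · have := (W.valuation_eq_one_iff _).1 hu
      exact absurd this hρ.ne
    · by_contra hcon
      push Not at hcon
      have hx0 : x ≠ 0 := by
        rintro rfl
        rw [zero_mul] at hxy
        exact hρ0 (congrArg Subtype.val hxy)
      have hy0 : y ≠ 0 := by
        rintro rfl
        rw [mul_zero] at hxy
        exact hρ0 (congrArg Subtype.val hxy)
      have h1 := hval x hx0 hcon.1
      have h2 := hval y hy0 hcon.2
      have h3 : W.valuation ρ = W.valuation (x : F) * W.valuation (y : F) := by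
        rw [← map_mul]
        exact congrArg (fun z : W => W.valuation (z : F)) hxy
      have h4 : W.valuation ρ ≤ W.valuation ρ * W.valuation ρ := by
        calc W.valuation ρ = _ := h3
          _ ≤ _ := mul_le_mul' h1 h2
      have h5 : W.valuation ρ * W.valuation ρ < W.valuation ρ := by
        calc W.valuation ρ * W.valuation ρ < W.valuation ρ * 1 := mul_lt_mul_of_pos_left hρ hvpos
          _ = _ := mul_one _
      exact absurd h4 (not_le.2 h5)
  exact ⟨IsDiscreteValuationRing.ofHasUnitMulPowIrreducibleFactorization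
    ⟨_, hirr, fun {x} hx => hassoc x hx⟩, fun _ => hirr⟩

/-- A valuation subring of a finite extension of the fraction field of a DVR `A`, dominating `A`, is a DVR. -/
theorem isDVR_of_dominates {A K F : Type u} [CommRing A] [IsDomain A] [IsDiscreteValuationRing A] [Field K]
    [Algebra A K] [IsFractionRing A K] [Field F] [Algebra K F] [FiniteDimensional K F] {W : ValuationSubring F}
    (h : EtRam.Dominates A ((algebraMap K F).comp (algebraMap A K)) W) : IsDiscreteValuationRing W := by
  obtain ⟨ρ, h0, h1, h2⟩ := exists_uniformizer h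
  exact (isDVR_of_uniformizer W ρ h0 h1 h2).1

end Groth.Agent.Etalg.RamDVR
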