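import Groth.Agent.Etalg.DVRExt
import Groth.Agent.Etalg.RamBasic
import Groth.Agent.Etalg.RamDVR
import Mathlib.FieldTheory.IntermediateField.Adjoin.Algebra

set_option autoImplicit false
universe u

/-! Residue fields of valuation subrings of finite / algebraic extensions dominating a DVR. -/

namespace Groth.Agent.Etalg.DVRExt2

open IsLocalRing TensorProduct

/-- the residue field of a valuation subring of a finite extension dominating a DVR is finite over the residue
field of the DVR. -/
theorem finite_residue (A K : Type u) {K₁ : Type u} [CommRing A] [IsDomain A] [IsDiscreteValuationRing A] [Field K]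
    [Algebra A K] [IsFractionRing A K] [Field K₁] [Algebra K K₁] [FiniteDimensional K K₁] [Algebra A K₁]
    [IsScalarTower A K K₁] (V : ValuationSubring K₁) [Algebra A V] [IsScalarTower A V K₁]
    [IsLocalHom (algebraMap A V)] : Module.Finite (ResidueField A) (ResidueField V) := by
  obtain ⟨s, hs⟩ := DVRExt.exists_finset_span_sup A K (IsScalarTower.toAlgHom A V K₁).toLinearMap
    Subtype.val_injective
  have hfin : Module.Finite A (ResidueField V) := by
    classical
    refine ⟨s.image (residue V), ?_⟩
    rw [eq_top_iff]
    intro z _
    obtain ⟨v, rfl⟩ := residue_surjective z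
    have hv : v ∈ Submodule.span A (s : Set V) ⊔ (maximalIdeal A) • (⊤ : Submodule A V) := by rw [hs]; trivial
    rw [Submodule.mem_sup] at hv
    obtain ⟨a, ha, b, hb, rfl⟩ := hv
    have hb0 : residue V b = 0 := by
      rw [residue_eq_zero_iff]
      refine Submodule.smul_induction_on hb ?_ ?_
      · intro r hr n _
        rw [Algebra.smul_def]
        apply Ideal.mul_mem_right
        intro hu
        exact hr ((inferInstance : IsLocalHom (algebraMap A V)).map_nonunit r hu)
      · intro x y hx hy
        exact Ideal.add_mem _ hx hy
    rw [map_add, hb0, add_zero]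
    let ρ : V →ₗ[A] ResidueField V := (IsScalarTower.toAlgHom A V (ResidueField V)).toLinearMap
    have h1 := Submodule.mem_map_of_mem (f := ρ) ha
    rw [Submodule.map_span] at h1
    rw [Finset.coe_image]
    exact h1
  exact Module.Finite.of_restrictScalars_finite A (ResidueField A) (ResidueField V)

/-- residue fields of algebraic extensions are algebraic. -/
theorem isAlgebraic_residue (A K : Type u) {M : Type u} [CommRing A] [IsDomain A] [IsDiscreteValuationRing A] [Field K]
    [Algebra A K] [IsFractionRing A K] [Field M] [Algebra K M] [Algebra.IsAlgebraic K M] [Algebra A M]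
    [IsScalarTower A K M] (W : ValuationSubring M) [Algebra A W] [IsScalarTower A W M]
    [IsLocalHom (algebraMap A W)] : Algebra.IsAlgebraic (ResidueField A) (ResidueField W) := by
  refine ⟨fun z => ?_⟩
  obtain ⟨w, rfl⟩ := residue_surjective z
  let K₁ := IntermediateField.adjoin K {(w : M)}
  have hfin : FiniteDimensional K K₁ :=
    IntermediateField.adjoin.finiteDimensional (Algebra.IsIntegral.isIntegral (w : M))
  let f : K₁ →+* M := algebraMap K₁ M
  let V : ValuationSubring K₁ := W.comap f
  have hAV : ∀ a : A, algebraMap K K₁ (algebraMap A K a) ∈ V := by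
    intro a
    show f _ ∈ W
    have : f (algebraMap K K₁ (algebraMap A K a)) = algebraMap A W a := by
      show algebraMap K₁ M _ = algebraMap W M _
      rw [← IsScalarTower.algebraMap_apply K K₁ M, ← IsScalarTower.algebraMap_apply A K M,
        ← IsScalarTower.algebraMap_apply A W M]
    rw [this]
    exact (algebraMap A W a).2
  let _ : Algebra A K₁ := ((algebraMap K K₁).comp (algebraMap A K)).toAlgebra
  have : IsScalarTower A K K₁ := IsScalarTower.of_algebraMap_eq' rfl
  let _ : Algebra A V := (RingHom.codRestrict ((algebraMap K K₁).comp (algebraMap A K)) V hAV).toAlgebra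
  have : IsScalarTower A V K₁ := IsScalarTower.of_algebraMap_eq' rfl
  let g : V →+* W := EtRam.inclOfComap W f
  have hg : g.comp (algebraMap A V) = algebraMap A W := by
    ext a
    show f (algebraMap K K₁ (algebraMap A K a)) = algebraMap W M (algebraMap A W a)
    show algebraMap K₁ M _ = _
    rw [← IsScalarTower.algebraMap_apply K K₁ M, ← IsScalarTower.algebraMap_apply A K M,
        ← IsScalarTower.algebraMap_apply A W M]
  have hloc : IsLocalHom (algebraMap A V) := by
    refine ⟨fun a ha => ?_⟩
    have h1 : IsUnit (algebraMap A W a) := by
      rw [← hg]; exact ha.map g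
    exact (inferInstance : IsLocalHom (algebraMap A W)).map_nonunit a h1
  have h1 := finite_residue A K V
  have hwV : (⟨(w : M), IntermediateField.mem_adjoin_simple_self K (w : M)⟩ : K₁) ∈ V := w.2
  have h2 : IsAlgebraic (ResidueField A) (residue V ⟨_, hwV⟩) := Algebra.IsAlgebraic.isAlgebraic _
  have hgl : IsLocalHom g := EtRam.isLocalHom_inclOfComap W f
  let G : ResidueField V →ₐ[ResidueField A] ResidueField W :=
    { ResidueField.map g with
      commutes' := by
        intro r
        obtain ⟨a, rfl⟩ := residue_surjective r
        show ResidueField.map g (residue V (algebraMap A V a)) = residue W (algebraMap A W a)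
        rw [ResidueField.map_residue, ← hg]
        rfl }
  have h3 := h2.algHom G
  have h4 : G (residue V ⟨_, hwV⟩) = residue W w := by
    show ResidueField.map g _ = _
    rw [ResidueField.map_residue]
    rfl
  rw [← h4]
  exact h3

end Groth.Agent.Etalg.DVRExt2
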