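import Mathlib.FieldTheory.KummerExtension
import Mathlib.FieldTheory.PurelyInseparable.Basic
import Mathlib.FieldTheory.Galois.Basic
import Mathlib.FieldTheory.Fixed
import Mathlib.GroupTheory.Sylow
import Mathlib.GroupTheory.IndexNormal
import Mathlib.GroupTheory.PGroup

/-!
Pure field theory used in the devissage for Epp's theorem:
* Artin-Schreier generators of Galois extensions of degree `p` in characteristic `p`;
* Kummer generators;
* fixed field of a Sylow subgroup;
* Galois subextension of degree `p` of a Galois extension of `p`-power degree;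
* an element `x` with `x^p` in the base in a purely inseparable extension.
-/

set_option autoImplicit false

namespace Groth.Agent.Etalg.EppAlg

open Module IntermediateField

section AS

variable {K L : Type*} [Field K] [Field L] [Algebra K L] [FiniteDimensional K L] [IsGalois K L]

/-- Artin-Schreier. -/
theorem exists_artinSchreier (p : ℕ) [hp : Fact p.Prime] [CharP K p] (hdeg : finrank K L = p) :
    ∃ z : L, z ^ p - z ∈ Set.range (algebraMap K L) ∧ z ∉ Set.range (algebraMap K L) := by
  have hcharL : CharP L p := charP_of_injective_algebraMap (algebraMap K L).injective p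
  have hcard : Nat.card (L ≃ₐ[K] L) = p := by rw [IsGalois.card_aut_eq_finrank, hdeg]
  have hcyc : IsCyclic (L ≃ₐ[K] L) := isCyclic_of_prime_card hcard
  obtain ⟨σ, hσ⟩ := hcyc.exists_generator
  have hfix : ∀ x : L, σ x = x → x ∈ Set.range (algebraMap K L) := by
    intro x hx
    rw [← IntermediateField.mem_bot,
      ← OrderIso.map_bot IsGalois.intermediateFieldEquivSubgroup.symm]
    rintro ⟨τ, hτ⟩
    obtain ⟨n, rfl⟩ := Subgroup.mem_zpowers_iff.mp (hσ τ)
    have h1 : σ ∈ MulAction.stabilizer (L ≃ₐ[K] L) x := hx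
    exact Subgroup.zpow_mem _ h1 n
  have hord : σ ^ p = 1 := by
    rw [← hcard]; exact pow_card_eq_one'
  have hσ1 : σ ≠ 1 := by
    rintro rfl
    have : Nat.card (L ≃ₐ[K] L) = 1 := by
      rw [Nat.card_eq_one_iff_unique]
      refine ⟨⟨fun a b ↦ ?_⟩, ⟨1⟩⟩
      have h1 := hσ a
      have h2 := hσ b
      rw [Subgroup.zpowers_one_eq_bot, Subgroup.mem_bot] at h1 h2
      rw [h1, h2]
    rw [hcard] at this
    exact hp.out.one_lt.ne' this
  -- the nilpotent operator
  let N : L →ₗ[K] L := σ.toLinearMap - 1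
  have hN : ∀ x, N x = σ x - x := fun x ↦ rfl
  have hNp : N ^ p = 0 := by
    have hcharE : CharP (L →ₗ[K] L) p := by
      refine charP_of_injective_algebraMap (R := K) ?_ p
      exact (algebraMap K (Module.End K L)).injective
    have h1 : (σ.toLinearMap - 1 : Module.End K L) ^ p = (σ.toLinearMap : Module.End K L) ^ p - 1 ^ p :=
      sub_pow_char_of_commute _ (Commute.one_right _)
    show (σ.toLinearMap - 1 : Module.End K L) ^ p = 0
    rw [h1, ← AlgEquiv.pow_toLinearMap, hord, one_pow]
    ext x; simp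
  have hN0 : N ≠ 0 := by
    intro h
    apply hσ1
    ext x
    have := congrArg (fun f : L →ₗ[K] L ↦ f x) h
    simp only [hN, LinearMap.zero_apply, sub_eq_zero] at this
    simpa using this
  classical
  have hex : ∃ j, N ^ j = 0 := ⟨p, hNp⟩
  set j := Nat.find hex with hj
  have hj0 : N ^ j = 0 := Nat.find_spec hex
  have hj2 : 2 ≤ j := by
    by_contra hcon
    push Not at hcon
    interval_cases h : j
    · rw [pow_zero] at hj0
      exact one_ne_zero hj0
    · rw [pow_one] at hj0
      exact hN0 hj0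
  obtain ⟨i, hi⟩ : ∃ i, j = i + 2 := ⟨j - 2, by omega⟩
  have hj1 : N ^ (i + 1) ≠ 0 := Nat.find_min hex (m := i + 1) (by omega)
  obtain ⟨x, hx⟩ : ∃ x, (N ^ (i + 1)) x ≠ 0 := by
    by_contra hcon
    push Not at hcon
    exact hj1 (LinearMap.ext hcon)
  set w := (N ^ i) x with hw
  set y := (N ^ (i + 1)) x with hy
  have hyw : σ w = w + y := by
    have : N w = y := by
      rw [hw, hy, pow_succ']; rfl
    rw [hN] at this
    rw [← this]; ring
  have hyfix : σ y = y := by
    have : N y = 0 := by
      have : (N ^ (i + 2)) x = N y := by rw [pow_succ' N (i + 1)]; rfl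
      rw [← this, ← hi, hj0]; rfl
    rw [hN, sub_eq_zero] at this
    exact this
  have hσz : σ (w / y) = w / y + 1 := by
    rw [map_div₀, hyw, hyfix, add_div, div_self hx]
  refine ⟨w / y, hfix _ ?_, ?_⟩
  · rw [map_sub, map_pow, hσz, add_pow_char, one_pow]
    ring
  · rintro ⟨a, ha⟩
    rw [← ha, AlgEquiv.commutes] at hσz
    have : (1 : L) = 0 := by linear_combination (-1 : L) * hσz
    exact one_ne_zero this

end AS

section Kummer

variable {K L : Type*} [Field K] [Field L] [Algebra K L] [FiniteDimensional K L] [IsGalois K L]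

theorem exists_kummer (p : ℕ) [hp : Fact p.Prime] {ζ : K} (hζ : IsPrimitiveRoot ζ p)
    (hdeg : finrank K L = p) :
    ∃ z : L, z ^ p ∈ Set.range (algebraMap K L) ∧ K⟮z⟯ = ⊤ := by
  have hcard : Nat.card (L ≃ₐ[K] L) = p := by rw [IsGalois.card_aut_eq_finrank, hdeg]
  have hcyc : IsCyclic (L ≃ₐ[K] L) := isCyclic_of_prime_card hcard
  have hne : (primitiveRoots (finrank K L) K).Nonempty := by
    rw [hdeg]
    exact ⟨ζ, (mem_primitiveRoots hp.out.pos).mpr hζ⟩
  obtain ⟨z, hz1, hz2⟩ := exists_root_adjoin_eq_top_of_isCyclic K L hne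
  rw [hdeg] at hz1
  exact ⟨z, hz1, hz2⟩

end Kummer

section Sylow

variable {K L : Type*} [Field K] [Field L] [Algebra K L] [FiniteDimensional K L] [IsGalois K L]

/-- Fixed field of a Sylow subgroup. -/
theorem exists_sylow_field (p : ℕ) [hp : Fact p.Prime] :
    ∃ F : IntermediateField K L, Nat.Coprime p (finrank K F) ∧ ∃ n : ℕ, finrank F L = p ^ n := by
  let P : Sylow p (L ≃ₐ[K] L) := default
  have h1 : finrank (fixedField (P : Subgroup (L ≃ₐ[K] L))) L = Nat.card P :=
    finrank_fixedField_eq_card _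
  obtain ⟨n, hn⟩ := IsPGroup.iff_card.mp P.isPGroup'
  refine ⟨fixedField (P : Subgroup (L ≃ₐ[K] L)), ?_, n, by rw [h1]; exact hn⟩
  have h2 : finrank K (fixedField (P : Subgroup (L ≃ₐ[K] L))) *
      finrank (fixedField (P : Subgroup (L ≃ₐ[K] L))) L = finrank K L :=
    finrank_mul_finrank _ _ _
  have h3 : Nat.card P * (P : Subgroup (L ≃ₐ[K] L)).index = Nat.card (L ≃ₐ[K] L) :=
    Subgroup.card_mul_index _
  rw [IsGalois.card_aut_eq_finrank, ← h2, h1, mul_comm] at h3
  have h4 : (P : Subgroup (L ≃ₐ[K] L)).index =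
      finrank K (fixedField (P : Subgroup (L ≃ₐ[K] L))) :=
    Nat.eq_of_mul_eq_mul_right Nat.card_pos h3
  rw [← h4, Nat.Prime.coprime_iff_not_dvd hp.out]
  exact P.not_dvd_index

/-- A Galois extension of degree `p^(n+1)` has a Galois subextension of degree `p`. -/
theorem exists_degree_p (p : ℕ) [hp : Fact p.Prime] (n : ℕ) (hdeg : finrank K L = p ^ (n + 1)) :
    ∃ F : IntermediateField K L, finrank K F = p ∧ IsGalois K F ∧ finrank F L = p ^ n := by
  have hcard : Nat.card (L ≃ₐ[K] L) = p ^ (n + 1) := by rw [IsGalois.card_aut_eq_finrank, hdeg]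
  obtain ⟨H, hH⟩ := Sylow.exists_subgroup_card_pow_prime (G := L ≃ₐ[K] L) p (n := n)
    (by rw [hcard]; exact pow_dvd_pow _ (Nat.le_succ n))
  have hidx : H.index = p := by
    have := Subgroup.card_mul_index H
    rw [hcard, hH, pow_succ] at this
    exact Nat.eq_of_mul_eq_mul_left (pow_pos hp.out.pos n) this
  have hnormal : H.Normal := by
    apply Subgroup.normal_of_index_eq_minFac_card
    rw [hidx, hcard, Nat.pow_minFac (Nat.succ_ne_zero n), hp.out.minFac_eq]
  refine ⟨fixedField H, ?_, IsGalois.of_fixedField_normal_subgroup H, ?_⟩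
  · have h1 : finrank (fixedField H) L = Nat.card H := finrank_fixedField_eq_card _
    have h2 : finrank K (fixedField H) * finrank (fixedField H) L = finrank K L :=
      finrank_mul_finrank _ _ _
    rw [h1, hH, hdeg, pow_succ, mul_comm] at h2
    exact Nat.eq_of_mul_eq_mul_left (pow_pos hp.out.pos n) h2
  · rw [finrank_fixedField_eq_card, hH]

end Sylow

section Insep

variable {K L : Type*} [Field K] [Field L] [Algebra K L]

/-- In a nontrivial purely inseparable extension there is an element outside the base whose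
`p`-th power is in the base. -/
theorem exists_pow_mem_of_purelyInseparable (p : ℕ) [ExpChar K p] [IsPurelyInseparable K L]
    (x : L) (hx : x ∉ Set.range (algebraMap K L)) :
    ∃ y : L, y ∉ Set.range (algebraMap K L) ∧ y ^ p ∈ Set.range (algebraMap K L) := by
  obtain ⟨n, hn⟩ := IsPurelyInseparable.pow_mem K p x
  classical
  have hex : ∃ n, x ^ p ^ n ∈ (algebraMap K L).range := ⟨n, hn⟩
  set m := Nat.find hex with hm
  have h1 : x ^ p ^ m ∈ (algebraMap K L).range := Nat.find_spec hex
  have hm0 : m ≠ 0 := by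
    intro h0
    rw [h0, pow_zero, pow_one] at h1
    exact hx h1
  obtain ⟨k, hk⟩ := Nat.exists_eq_succ_of_ne_zero hm0
  refine ⟨x ^ p ^ k, fun h ↦ Nat.find_min hex (m := k) (by omega) h, ?_⟩
  rw [← pow_mul, ← pow_succ]
  rw [hk] at h1
  exact h1

end Insep

end Groth.Agent.Etalg.EppAlg
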