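import Groth.Agent.Etalg.EppSeries
import Mathlib.RingTheory.AdicCompletion.Basic
import Mathlib.RingTheory.LocalRing.ResidueField.Basic
import Mathlib.Algebra.CharP.Algebra

/-!
# The ring of integers of a subfield of an ultrametric field
-/

set_option autoImplicit false
set_option linter.unusedSectionVars false
universe u

namespace Groth.Agent.Etalg.EppBall

open Polynomial EppFrame EppSeries IsLocalRing

variable {Ω : Type u} [NormedField Ω] [IsUltrametricDist Ω]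

/-- the ring of integers of `L` -/
def O (L : Subfield Ω) : Subring Ω where
  carrier := {x | x ∈ L ∧ ‖x‖ ≤ 1}
  mul_mem' := fun ⟨h1, h2⟩ ⟨h3, h4⟩ =>
    ⟨L.mul_mem h1 h3, by rw [norm_mul]; exact mul_le_one₀ h2 (norm_nonneg _) h4⟩
  one_mem' := ⟨L.one_mem, by simp⟩
  add_mem' := fun ⟨h1, h2⟩ ⟨h3, h4⟩ => ⟨L.add_mem h1 h3, add_le h2 h4⟩
  zero_mem' := ⟨L.zero_mem, by simp⟩
  neg_mem' := fun ⟨h1, h2⟩ => ⟨L.neg_mem h1, by rwa [norm_neg]⟩

variable {L : Subfield Ω}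

theorem mem_O {x : Ω} : x ∈ O L ↔ x ∈ L ∧ ‖x‖ ≤ 1 := Iff.rfl

theorem isUnit_iff (x : O L) : IsUnit x ↔ ‖(x : Ω)‖ = 1 := by
  constructor
  · rintro ⟨u, rfl⟩
    have h1 : ‖((u : O L) : Ω)‖ * ‖((u⁻¹ : (O L)ˣ) : Ω)‖ = 1 := by
      rw [← norm_mul]
      have := congrArg (fun y : O L => (y : Ω)) u.mul_inv
      simp only [Subring.coe_mul, Subring.coe_one] at this
      rw [this, norm_one]
    have h2 := (mem_O.1 (u : O L).2).2
    have h3 := (mem_O.1 ((u⁻¹ : (O L)ˣ) : O L).2).2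
    by_contra h
    have h4 : ‖((u : O L) : Ω)‖ < 1 := lt_of_le_of_ne h2 h
    have : ‖((u : O L) : Ω)‖ * ‖((u⁻¹ : (O L)ˣ) : Ω)‖ < 1 :=
      mul_lt_one_of_nonneg_of_lt_one_left (norm_nonneg _) h4 h3
    exact absurd h1 this.ne
  · intro h
    have h0 : (x : Ω) ≠ 0 := by intro h'; rw [h', norm_zero] at h; exact zero_ne_one h
    refine IsUnit.of_mul_eq_one (⟨(x : Ω)⁻¹, L.inv_mem x.2.1, by rw [norm_inv, h, inv_one]⟩ : O L) ?_
    apply Subtype.ext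
    exact mul_inv_cancel₀ h0

instance isLocalRing : IsLocalRing (O L) := by
  apply IsLocalRing.of_nonunits_add
  intro a b ha hb
  rw [mem_nonunits_iff, isUnit_iff] at ha hb ⊢
  have h1 := lt_of_le_of_ne a.2.2 ha
  have h2 := lt_of_le_of_ne b.2.2 hb
  exact (add_lt h1 h2).ne

theorem mem_max {x : O L} : x ∈ maximalIdeal (O L) ↔ ‖(x : Ω)‖ < 1 := by
  rw [mem_maximalIdeal, mem_nonunits_iff, isUnit_iff]
  exact ⟨fun h => lt_of_le_of_ne x.2.2 h, fun h => h.ne⟩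

theorem residue_eq_iff {x y : O L} : residue (O L) x = residue (O L) y ↔ ‖(x : Ω) - y‖ < 1 := by
  rw [← sub_eq_zero, ← map_sub, residue_eq_zero_iff, mem_max]
  rfl

theorem residue_eq_zero {x : O L} : residue (O L) x = 0 ↔ ‖(x : Ω)‖ < 1 := by
  rw [residue_eq_zero_iff, mem_max]

theorem disc_le {ϖ : Ω} (hd : Disc L ϖ) {x : Ω} (hx : x ∈ L) (h1 : ‖x‖ < 1) : ‖x‖ ≤ ‖ϖ‖ := by
  by_cases h0 : x = 0
  · rw [h0, norm_zero]; exact norm_nonneg _
  · obtain ⟨n, hn⟩ := hd.2.2 x hx h0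
    rw [hn] at h1 ⊢
    have hn0 : 0 < n := by
      by_contra hneg
      push Not at hneg
      exact absurd h1 (not_lt.2 (one_le_zpow_of_nonpos₀ hd.1 hd.2.1.le hneg))
    calc ‖ϖ‖ ^ n ≤ ‖ϖ‖ ^ (1 : ℤ) := zpow_le_zpow_right_of_le_one₀ hd.1 hd.2.1.le (by omega)
      _ = ‖ϖ‖ := zpow_one _

theorem max_eq {ϖ : Ω} (hϖ : ϖ ∈ L) (hd : Disc L ϖ) :
    maximalIdeal (O L) = Ideal.span {(⟨ϖ, hϖ, hd.2.1.le⟩ : O L)} := by
  apply le_antisymm
  · intro x hx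
    rw [mem_max] at hx
    have h1 := disc_le hd x.2.1 hx
    have h0 : ϖ ≠ 0 := norm_pos_iff.1 hd.1
    rw [Ideal.mem_span_singleton]
    refine ⟨⟨(x : Ω) / ϖ, L.div_mem x.2.1 hϖ, ?_⟩, ?_⟩
    · rw [norm_div]
      exact div_le_one_of_le₀ h1 (norm_nonneg _)
    · apply Subtype.ext
      change (x : Ω) = ϖ * (x / ϖ)
      field_simp
  · rw [Ideal.span_singleton_le_iff_mem, mem_max]
    exact hd.2.1

theorem mem_pow {ϖ : Ω} (hϖ : ϖ ∈ L) (hd : Disc L ϖ) (n : ℕ) {x : O L} :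
    x ∈ maximalIdeal (O L) ^ n ↔ ‖(x : Ω)‖ ≤ ‖ϖ‖ ^ n := by
  rw [max_eq hϖ hd, Ideal.span_singleton_pow, Ideal.mem_span_singleton]
  have h0 : ϖ ≠ 0 := norm_pos_iff.1 hd.1
  constructor
  · rintro ⟨y, rfl⟩
    change ‖ϖ ^ n * (y : Ω)‖ ≤ _
    rw [norm_mul, norm_pow]
    exact mul_le_of_le_one_right (by positivity) y.2.2
  · intro h
    refine ⟨⟨(x : Ω) / ϖ ^ n, L.div_mem x.2.1 (L.pow_mem hϖ n), ?_⟩, ?_⟩
    · rw [norm_div, norm_pow]
      exact div_le_one_of_le₀ h (by positivity)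
    · apply Subtype.ext
      change (x : Ω) = ϖ ^ n * (x / ϖ ^ n)
      field_simp

theorem exists_limit (hL : IsComplete (L : Set Ω)) {s : ℕ → Ω} (hs : ∀ n, s n ∈ L) {r : ℝ}
    (hr0 : 0 < r) (hr : r < 1) (h : ∀ m n, m ≤ n → ‖s m - s n‖ ≤ r ^ m) :
    ∃ x ∈ L, ∀ n, ‖s n - x‖ ≤ r ^ n := by
  have hc : CauchySeq s := by
    rw [Metric.cauchySeq_iff']
    intro ε hε
    obtain ⟨N, hN⟩ := exists_pow_lt_of_lt_one hε hr
    refine ⟨N, fun n hn => ?_⟩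
    rw [dist_comm, dist_eq_norm]
    exact (h N n hn).trans_lt hN
  obtain ⟨x, hx, hlim⟩ := cauchySeq_tendsto_of_isComplete hL hs hc
  refine ⟨x, hx, fun n => ?_⟩
  have h1 : Filter.Tendsto (fun m => ‖s n - s m‖) Filter.atTop (nhds ‖s n - x‖) :=
    (Filter.Tendsto.const_sub _ hlim).norm
  exact le_of_tendsto h1 (Filter.eventually_atTop.2 ⟨n, fun m hm => h n m hm⟩)

theorem isAdicComplete (hL : IsComplete (L : Set Ω)) {ϖ : Ω} (hϖ : ϖ ∈ L) (hd : Disc L ϖ) :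
    IsAdicComplete (maximalIdeal (O L)) (O L) where
  haus' := by
    intro x hx
    by_contra h0
    have h0' : 0 < ‖(x : Ω)‖ := norm_pos_iff.2 (fun h => h0 (Subtype.ext h))
    obtain ⟨n, hn⟩ := exists_pow_lt_of_lt_one h0' hd.2.1
    have := hx n
    rw [SModEq.zero, smul_eq_mul, Ideal.mul_top, mem_pow hϖ hd] at this
    exact absurd hn (not_lt.2 this)
  prec' := by
    intro f hf
    have h1 : ∀ m n, m ≤ n → ‖(f m : Ω) - f n‖ ≤ ‖ϖ‖ ^ m := by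
      intro m n hmn
      have := hf hmn
      rw [SModEq.sub_mem, smul_eq_mul, Ideal.mul_top, mem_pow hϖ hd] at this
      exact this
    obtain ⟨x, hx, h2⟩ := exists_limit hL (s := fun n => (f n : Ω)) (fun n => (f n).2.1)
      hd.1 hd.2.1 h1
    have hx1 : ‖x‖ ≤ 1 := by
      have h3 := h2 0
      rw [pow_zero] at h3
      have : x = (f 0 : Ω) - ((f 0 : Ω) - x) := by ring
      rw [this]
      exact sub_le (f 0).2.2 h3
    refine ⟨⟨x, hx, hx1⟩, fun n => ?_⟩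
    rw [SModEq.sub_mem, smul_eq_mul, Ideal.mul_top, mem_pow hϖ hd]
    exact h2 n

theorem charP {p : ℕ} (hp : p.Prime) (hpn : ‖(p : Ω)‖ < 1) : CharP (ResidueField (O L)) p := by
  have h0 : ((p : ℕ) : ResidueField (O L)) = 0 := by
    rw [← map_natCast (residue (O L)), residue_eq_zero]
    exact hpn
  exact (CharP.charP_iff_prime_eq_zero hp).mpr h0

end Groth.Agent.Etalg.EppBall
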