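import Groth.Agent.Etalg.EppDescent
import Mathlib.RingTheory.Algebraic.Integral

/-!
# A discretely valued extension with trivial residue extension is finite
-/

set_option autoImplicit false

universe u

namespace Groth.Agent.Etalg.EppFin

open Polynomial Groth.Agent.Etalg.EppFrame

variable {Ω : Type u} [NormedField Ω]

/-- Norm gap in a discrete value group. -/
theorem norm_le_of_lt {L : Subfield Ω} {π : Ω} (hd : Disc L π) {x y : Ω} (hx : x ∈ L) (hy : y ∈ L)
    (h : ‖x‖ < ‖y‖) : ‖x‖ ≤ ‖π‖ * ‖y‖ := by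
  obtain ⟨h0, h1, hd⟩ := hd
  by_cases hx0 : x = 0
  · rw [hx0, norm_zero]
    positivity
  · have hy0 : y ≠ 0 := by
      rintro rfl
      rw [norm_zero] at h
      exact absurd h (not_lt.2 (norm_nonneg _))
    obtain ⟨m, hm⟩ := hd x hx hx0
    obtain ⟨n, hn⟩ := hd y hy hy0
    rw [hm, hn] at h ⊢
    have h2 : n < m := by
      by_contra h3
      rw [not_lt] at h3
      exact absurd h (not_lt.2 (zpow_le_zpow_right_of_le_one₀ h0 h1.le h3))
    rw [← zpow_one_add₀ h0.ne']
    exact zpow_le_zpow_right_of_le_one₀ h0 h1.le (by omega)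

/-- A discretely valued extension with finite ramification and trivial residue field extension of a
complete field is finite. -/
theorem finExt_of_residue {F L : Subfield Ω} (hF : IsComplete (F : Set Ω))
    (hL : IsComplete (L : Set Ω)) (hFL : F ≤ L) {τ π : Ω} (htau : τ ∈ F) (h0 : 0 < ‖τ‖)
    (h1 : ‖τ‖ < 1) (hpi : π ∈ L) (hd : Disc L π)
    (hres : ∀ x ∈ L, ‖x‖ ≤ 1 → ∃ a ∈ F, ‖x - a‖ < 1) : FinExt F L := by
  classical
  have hτ0 : τ ≠ 0 := norm_pos_iff.1 h0
  have hπ0 : π ≠ 0 := norm_pos_iff.1 hd.1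
  -- the ramification index
  obtain ⟨e, he0, he⟩ : ∃ e : ℕ, 0 < e ∧ ‖τ‖ = ‖π‖ ^ e := by
    obtain ⟨n, hn⟩ := hd.2.2 τ (hFL htau) hτ0
    have hn0 : 0 < n := by
      by_contra h3
      rw [not_lt] at h3
      have h4 := one_le_zpow_of_nonpos₀ hd.1 hd.2.1.le h3
      rw [← hn] at h4
      exact absurd h1 (not_lt.2 h4)
    refine ⟨n.toNat, by omega, ?_⟩
    rw [hn, ← zpow_natCast, Int.toNat_of_nonneg hn0.le]
  let _ : NontriviallyNormedField F :=
    { (inferInstance : NormedField F) with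
      non_trivial := by
        refine ⟨⟨τ⁻¹, F.inv_mem htau⟩, ?_⟩
        change 1 < ‖τ⁻¹‖
        rw [norm_inv]
        exact (one_lt_inv₀ h0).2 h1 }
  let _ : NormedAlgebra F Ω :=
    { (inferInstance : Algebra F Ω) with
      norm_smul_le := fun a x => by
        rw [Algebra.smul_def, norm_mul]
        exact le_rfl }
  have : CompleteSpace F := completeSpace_coe_iff_isComplete.mpr hF
  let V : Submodule F Ω := Submodule.span F (Set.range fun i : Fin e => π ^ (i : ℕ))
  have hVfin : FiniteDimensional F V := FiniteDimensional.span_of_finite F (Set.finite_range _)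
  have hVcl : IsClosed (V : Set Ω) := (Submodule.complete_of_finiteDimensional V).isClosed
  have hVgen : V ≤ (Subalgebra.toSubmodule
      (IntermediateField.adjoin F {π}).toSubalgebra : Submodule F Ω) := by
    rw [Submodule.span_le]
    rintro _ ⟨i, rfl⟩
    exact pow_mem (IntermediateField.mem_adjoin_simple_self F π) _
  have hπV : ∀ i : ℕ, i < e → ∀ a ∈ F, a * π ^ i ∈ V := by
    intro i hi a ha
    have h3 : (⟨a, ha⟩ : F) • π ^ i ∈ V :=
      V.smul_mem _ (Submodule.subset_span ⟨⟨i, hi⟩, rfl⟩)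
    exact h3
  -- `V ⊆ L`
  have hVL : ∀ v ∈ V, v ∈ L := by
    intro v hv
    induction hv using Submodule.span_induction with
    | mem x hx =>
      obtain ⟨i, rfl⟩ := hx
      exact pow_mem hpi _
    | zero => exact L.zero_mem
    | add x y _ _ hx hy => exact L.add_mem hx hy
    | smul a x _ hx => exact L.mul_mem (hFL a.2) hx
  -- one approximation step
  have hstep : ∀ y ∈ L, y ≠ 0 → ∃ v ∈ V, ‖y - v‖ < ‖y‖ := by
    intro y hy hy0
    obtain ⟨n, hn⟩ := hd.2.2 y hy hy0
    have heZ : (0 : ℤ) < e := by exact_mod_cast he0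
    set q := n / (e : ℤ)
    set r := n % (e : ℤ)
    have hr0 : 0 ≤ r := Int.emod_nonneg _ heZ.ne'
    have hre : r < e := Int.emod_lt_of_pos _ heZ
    have hnqr : n = e * q + r := (Int.mul_ediv_add_emod n e).symm
    let w : Ω := τ ^ q * π ^ r.toNat
    have hw0 : w ≠ 0 := mul_ne_zero (zpow_ne_zero _ hτ0) (pow_ne_zero _ hπ0)
    have hwn : ‖w‖ = ‖y‖ := by
      simp only [w]
      rw [norm_mul, norm_zpow, norm_pow, he, hn, hnqr, ← zpow_natCast, ← zpow_natCast,
        Int.toNat_of_nonneg hr0, ← zpow_mul, ← zpow_add₀ hd.1.ne']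
    have hwL : w ∈ L := L.mul_mem (L.zpow_mem (hFL htau) _) (L.pow_mem hpi _)
    obtain ⟨a, ha, hxa⟩ := hres (y / w) (L.div_mem hy hwL) (by
      rw [norm_div, hwn, div_self (norm_ne_zero_iff.2 hy0)])
    refine ⟨a * τ ^ q * π ^ r.toNat, hπV _ (by omega) _ (F.mul_mem ha (F.zpow_mem htau _)), ?_⟩
    have h3 : y - a * τ ^ q * π ^ r.toNat = (y / w - a) * w := by
      rw [sub_mul, div_mul_cancel₀ _ hw0]
      simp only [w]
      ring
    rw [h3, norm_mul, hwn]
    have h4 : 0 < ‖y‖ := norm_pos_iff.2 hy0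
    exact mul_lt_of_lt_one_left h4 hxa
  -- iterate
  have hiter : ∀ x ∈ L, ∀ n : ℕ, ∃ v ∈ V, ‖x - v‖ ≤ ‖π‖ ^ n * ‖x‖ := by
    intro x hx n
    induction n with
    | zero => exact ⟨0, V.zero_mem, by simp⟩
    | succ n ih =>
      obtain ⟨v, hv, hxv⟩ := ih
      by_cases h3 : x - v = 0
      · refine ⟨v, hv, ?_⟩
        rw [h3, norm_zero]
        positivity
      · have h4 : x - v ∈ L := L.sub_mem hx (hVL v hv)
        obtain ⟨v', hv', h5⟩ := hstep (x - v) h4 h3
        refine ⟨v + v', V.add_mem hv hv', ?_⟩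
        have h6 := norm_le_of_lt hd (L.sub_mem h4 (hVL v' hv')) h4 h5
        rw [← sub_sub]
        refine h6.trans ?_
        rw [pow_succ']
        rw [mul_assoc]
        exact mul_le_mul_of_nonneg_left hxv (norm_nonneg _)
  have hLV : ∀ x ∈ L, x ∈ V := by
    intro x hx
    have h3 : x ∈ closure (V : Set Ω) := by
      rw [Metric.mem_closure_iff]
      intro ε hε
      have h4 : Filter.Tendsto (fun n : ℕ => ‖π‖ ^ n * ‖x‖) Filter.atTop (nhds (0 * ‖x‖)) :=
        (tendsto_pow_atTop_nhds_zero_of_lt_one (norm_nonneg _) hd.2.1).mul_const _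
      rw [zero_mul] at h4
      obtain ⟨n, hn⟩ := (h4.eventually (gt_mem_nhds hε)).exists
      obtain ⟨v, hv, hxv⟩ := hiter x hx n
      exact ⟨v, hv, by rw [dist_eq_norm]; exact hxv.trans_lt hn⟩
    rwa [hVcl.closure_eq] at h3
  -- `L` as an intermediate field
  let LI : IntermediateField F Ω :=
    { L with
      algebraMap_mem' := fun a => hFL a.2 }
  have hLIfin : FiniteDimensional F LI := by
    have h3 : (Subalgebra.toSubmodule LI.toSubalgebra : Submodule F Ω) ≤ V := fun x hx => hLV x hx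
    exact Submodule.finiteDimensional_of_le h3
  have halg : IsAlgebraic F π := by
    have h3 : IsAlgebraic F (⟨π, hpi⟩ : LI) := IsAlgebraic.of_finite F _
    exact (isAlgebraic_algHom_iff LI.val LI.val.injective).2 h3
  refine ⟨{π}, ?_, ?_⟩
  · intro s hs
    rw [Finset.mem_singleton] at hs
    rw [hs]
    exact halg
  · apply le_antisymm
    · intro x hx
      have h3 := hVgen (hLV x hx)
      have h4 : x ∈ (IntermediateField.adjoin F {π}).toSubfield := h3
      rw [EppDescent.adjoin_toSubfield'] at h4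
      rw [Finset.coe_singleton]
      exact h4
    · rw [sup_le_iff, Subfield.closure_le]
      refine ⟨hFL, ?_⟩
      intro s hs
      rw [Finset.coe_singleton, Set.mem_singleton_iff] at hs
      rw [hs]
      exact hpi

end Groth.Agent.Etalg.EppFin
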