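import Groth.Agent.Etalg.EppFrame
import Mathlib.Topology.Algebra.Ring.Basic
import Mathlib.Topology.MetricSpace.Ultra.Basic
import Mathlib.Analysis.SpecificLimits.Basic
import Mathlib.Analysis.Normed.Group.Ultra
import Mathlib.Algebra.CharP.Lemmas
import Mathlib.Tactic.LinearCombination
import Mathlib.Tactic.FieldSimp

/-!
# Epp: `p`-basis expansion

In characteristic `p`, a complete discretely valued field `E` with perfect residue field has `t` as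
a `p`-basis: every element is `∑_{i<p} y_i^p t^i`.
-/

set_option autoImplicit false
universe u

namespace Groth.Agent.Etalg.EppPB

open EppFrame

variable {Ω : Type u} [NormedField Ω]

theorem zpow_le_of_lt_one {r : ℝ} (h0 : 0 < r) (h1 : r < 1) (n : ℤ) (h : r ^ n < 1) : r ^ n ≤ r := by
  rcases le_or_gt n 0 with hn | hn
  · exfalso
    obtain ⟨m, rfl⟩ : ∃ m : ℕ, n = -(m : ℤ) := ⟨n.natAbs, by omega⟩
    rw [zpow_neg, zpow_natCast] at h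
    have : 1 ≤ (r ^ m)⁻¹ := (one_le_inv₀ (pow_pos h0 m)).2 (pow_le_one₀ h0.le h1.le)
    linarith
  · obtain ⟨m, rfl⟩ : ∃ m : ℕ, n = (m : ℤ) + 1 := ⟨(n - 1).natAbs, by omega⟩
    rw [zpow_add₀ h0.ne', zpow_one, zpow_natCast]
    have := pow_le_one₀ (n := m) h0.le h1.le
    nlinarith

theorem one_step {p : ℕ} {E : Subfield Ω} {t : Ω} (ht : t ∈ E) (h0 : 0 < ‖t‖) (h1 : ‖t‖ < 1)
    (hd : ∀ x ∈ E, x ≠ 0 → ∃ n : ℤ, ‖x‖ = ‖t‖ ^ n)
    (hperf : ∀ x ∈ E, ‖x‖ ≤ 1 → ∃ y ∈ E, ‖y ^ p - x‖ < 1) (x : Ω) (hx : x ∈ E ∧ ‖x‖ ≤ 1) :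
    ∃ a ∈ E, ∃ z, (z ∈ E ∧ ‖z‖ ≤ 1) ∧ x = a ^ p + t * z := by
  obtain ⟨hx, hx1⟩ := hx
  obtain ⟨a, ha, hax⟩ := hperf x hx hx1
  have ht0 : t ≠ 0 := norm_pos_iff.1 h0
  refine ⟨a, ha, (x - a ^ p) / t, ⟨E.div_mem (E.sub_mem hx (E.pow_mem ha p)) ht, ?_⟩, ?_⟩
  · rw [norm_div, div_le_one h0]
    by_cases hz : x - a ^ p = 0
    · rw [hz, norm_zero]; exact h0.le
    · obtain ⟨n, hn⟩ := hd _ (E.sub_mem hx (E.pow_mem ha p)) hz
      rw [norm_sub_rev] at hax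
      rw [hn] at hax ⊢
      exact zpow_le_of_lt_one h0 h1 n hax
  · field_simp
    ring

/-- Successive approximation: coefficients `a n` and remainders `z n`. -/
theorem exists_seq {p : ℕ} {E : Subfield Ω} {t : Ω} (ht : t ∈ E) (h0 : 0 < ‖t‖) (h1 : ‖t‖ < 1)
    (hd : ∀ x ∈ E, x ≠ 0 → ∃ n : ℤ, ‖x‖ = ‖t‖ ^ n)
    (hperf : ∀ x ∈ E, ‖x‖ ≤ 1 → ∃ y ∈ E, ‖y ^ p - x‖ < 1) (x : Ω) (hx : x ∈ E ∧ ‖x‖ ≤ 1) :
    ∃ a z : ℕ → Ω, z 0 = x ∧ (∀ n, a n ∈ E) ∧ (∀ n, ‖z n‖ ≤ 1) ∧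
      ∀ n, z n = a n ^ p + t * z (n + 1) := by
  choose A hA Z hZ h using one_step ht h0 h1 hd hperf
  let S : Type u := {x : Ω // x ∈ E ∧ ‖x‖ ≤ 1}
  let z : ℕ → S := fun n => Nat.rec ⟨x, hx⟩ (fun _ y => ⟨Z y.1 y.2, hZ y.1 y.2⟩) n
  refine ⟨fun n => A (z n).1 (z n).2, fun n => (z n).1, rfl, fun n => hA _ _, fun n => (z n).2.2,
    fun n => h (z n).1 (z n).2⟩

theorem step_sum {p : ℕ} {t : Ω} {a z : ℕ → Ω} (h : ∀ n, z n = a n ^ p + t * z (n + 1)) (n m : ℕ) :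
    z n = ∑ i ∈ Finset.range m, a (n + i) ^ p * t ^ i + t ^ m * z (n + m) := by
  induction m with
  | zero => simp
  | succ m ih =>
    rw [Finset.sum_range_succ, ih, h (n + m), pow_succ, ← add_assoc n m 1]
    ring

theorem big_sum {p : ℕ} (hp : p.Prime) (hp0 : (p : Ω) = 0) {t : Ω} {a z : ℕ → Ω}
    (h : ∀ n, z n = a n ^ p + t * z (n + 1)) (M : ℕ) :
    z 0 = ∑ i ∈ Finset.range p, (∑ k ∈ Finset.range M, a (p * k + i) * t ^ k) ^ p * t ^ i +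
      t ^ (p * M) * z (p * M) := by
  have : Fact p.Prime := ⟨hp⟩
  have : CharP Ω p := (CharP.charP_iff_prime_eq_zero hp).2 hp0
  induction M with
  | zero => simp [hp.ne_zero]
  | succ M ih =>
    rw [ih, step_sum h (p * M) p]
    have e : ∀ i ∈ Finset.range p, (∑ k ∈ Finset.range (M + 1), a (p * k + i) * t ^ k) ^ p * t ^ i
        = (∑ k ∈ Finset.range M, a (p * k + i) * t ^ k) ^ p * t ^ i +
          t ^ (p * M) * (a (p * M + i) ^ p * t ^ i) := by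
      intro i _
      rw [Finset.sum_range_succ, add_pow_char, mul_pow, ← pow_mul, mul_comm M p]
      ring
    rw [Finset.sum_congr rfl e, Finset.sum_add_distrib, ← Finset.mul_sum, mul_add, Nat.mul_succ,
      pow_add]
    ring

/-- A series with terms bounded by `r^k` converges in a complete subset. -/
theorem exists_limit {E : Subfield Ω} (hE : IsComplete (E : Set Ω)) {t : Ω} (ht : t ∈ E)
    (h1 : ‖t‖ < 1) {b : ℕ → Ω} (hb : ∀ n, b n ∈ E) (hb1 : ∀ n, ‖b n‖ ≤ 1) :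
    ∃ y ∈ E, Filter.Tendsto (fun M => ∑ k ∈ Finset.range M, b k * t ^ k) Filter.atTop (nhds y) := by
  have hc : CauchySeq (fun M => ∑ k ∈ Finset.range M, b k * t ^ k) := by
    apply cauchySeq_of_le_geometric ‖t‖ 1 h1
    intro n
    rw [dist_eq_norm, Finset.sum_range_succ, sub_add_cancel_left, norm_neg, norm_mul, norm_pow]
    exact mul_le_mul_of_nonneg_right (hb1 n) (by positivity)
  have hm : ∀ M, (∑ k ∈ Finset.range M, b k * t ^ k) ∈ E := fun M =>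
    E.sum_mem fun k _ => E.mul_mem (hb k) (E.pow_mem ht k)
  exact cauchySeq_tendsto_of_isComplete hE hm hc

variable [IsUltrametricDist Ω]

theorem expand_int {p : ℕ} (hp : p.Prime) (hp0 : (p : Ω) = 0) {E : Subfield Ω}
    (hE : IsComplete (E : Set Ω)) {t : Ω} (ht : t ∈ E) (h0 : 0 < ‖t‖) (h1 : ‖t‖ < 1)
    (hd : ∀ x ∈ E, x ≠ 0 → ∃ n : ℤ, ‖x‖ = ‖t‖ ^ n)
    (hperf : ∀ x ∈ E, ‖x‖ ≤ 1 → ∃ y ∈ E, ‖y ^ p - x‖ < 1) (x : Ω) (hx : x ∈ E) (hx1 : ‖x‖ ≤ 1) :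
    ∃ y : Fin p → Ω, (∀ i, y i ∈ E) ∧ x = ∑ i, y i ^ p * t ^ (i : ℕ) := by
  obtain ⟨a, z, hz0, ha, hz, h⟩ := exists_seq ht h0 h1 hd hperf x ⟨hx, hx1⟩
  have ha1 : ∀ n, ‖a n‖ ≤ 1 := by
    intro n
    have e : a n ^ p = z n - t * z (n + 1) := by rw [h n]; ring
    have : ‖a n‖ ^ p ≤ 1 := by
      rw [← norm_pow, e]
      rw [sub_eq_add_neg]
      refine (IsUltrametricDist.norm_add_le_max _ _).trans (max_le (hz n) ?_)
      rw [norm_neg, norm_mul]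
      exact mul_le_one₀ h1.le (norm_nonneg _) (hz _)
    by_contra hc
    rw [not_le] at hc
    exact absurd this (not_le.2 (one_lt_pow₀ hc hp.ne_zero))
  choose y hy hlim using fun i : ℕ => exists_limit hE ht h1 (b := fun k => a (p * k + i))
    (fun k => ha _) (fun k => ha1 _)
  refine ⟨fun i => y i, fun i => hy i, ?_⟩
  have hrem : Filter.Tendsto (fun M => t ^ (p * M) * z (p * M)) Filter.atTop (nhds 0) := by
    rw [tendsto_zero_iff_norm_tendsto_zero]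
    have hg : Filter.Tendsto (fun M : ℕ => (‖t‖ ^ p) ^ M) Filter.atTop (nhds 0) :=
      tendsto_pow_atTop_nhds_zero_of_lt_one (by positivity)
        (pow_lt_one₀ (norm_nonneg _) h1 hp.ne_zero)
    refine squeeze_zero (fun _ => norm_nonneg _) (fun M => ?_) hg
    rw [norm_mul, norm_pow, pow_mul]
    exact mul_le_of_le_one_right (by positivity) (hz _)
  have hsum : Filter.Tendsto (fun M => ∑ i ∈ Finset.range p,
      (∑ k ∈ Finset.range M, a (p * k + i) * t ^ k) ^ p * t ^ i + t ^ (p * M) * z (p * M))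
      Filter.atTop (nhds (∑ i ∈ Finset.range p, y i ^ p * t ^ i + 0)) := by
    refine Filter.Tendsto.add (tendsto_finsetSum _ fun i _ => ?_) hrem
    exact ((hlim i).pow p).mul_const _
  have hconst : Filter.Tendsto (fun M => ∑ i ∈ Finset.range p,
      (∑ k ∈ Finset.range M, a (p * k + i) * t ^ k) ^ p * t ^ i + t ^ (p * M) * z (p * M))
      Filter.atTop (nhds x) := by
    rw [← hz0]
    simp_rw [← big_sum hp hp0 h]
    exact tendsto_const_nhds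
  rw [add_zero] at hsum
  rw [tendsto_nhds_unique hconst hsum, Finset.sum_range]

theorem expand {p : ℕ} (hp : p.Prime) (hp0 : (p : Ω) = 0) {E : Subfield Ω}
    (hE : IsComplete (E : Set Ω)) {t : Ω} (ht : t ∈ E) (h0 : 0 < ‖t‖) (h1 : ‖t‖ < 1)
    (hd : ∀ x ∈ E, x ≠ 0 → ∃ n : ℤ, ‖x‖ = ‖t‖ ^ n)
    (hperf : ∀ x ∈ E, ‖x‖ ≤ 1 → ∃ y ∈ E, ‖y ^ p - x‖ < 1) : ∀ x ∈ E,
    ∃ y : Fin p → Ω, (∀ i, y i ∈ E) ∧ x = ∑ i, y i ^ p * t ^ (i : ℕ) := by
  intro x hx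
  have ht0 : t ≠ 0 := norm_pos_iff.1 h0
  obtain ⟨n, hn⟩ : ∃ n : ℕ, ‖t ^ (p * n) * x‖ ≤ 1 := by
    by_cases hx0 : x = 0
    · exact ⟨0, by simp [hx0]⟩
    have hxp : 0 < ‖x‖ := norm_pos_iff.2 hx0
    obtain ⟨n, hn⟩ := exists_pow_lt_of_lt_one (inv_pos.2 hxp)
      (pow_lt_one₀ (norm_nonneg t) h1 hp.ne_zero)
    refine ⟨n, ?_⟩
    rw [norm_mul, norm_pow, pow_mul]
    have := mul_lt_mul_of_pos_right hn hxp
    rw [inv_mul_cancel₀ hxp.ne'] at this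
    exact this.le
  obtain ⟨y, hy, hxy⟩ := expand_int hp hp0 hE ht h0 h1 hd hperf _
    (E.mul_mem (E.pow_mem ht _) hx) hn
  refine ⟨fun i => y i / t ^ n, fun i => E.div_mem (hy i) (E.pow_mem ht n), ?_⟩
  have e : ∀ i : Fin p, (y i / t ^ n) ^ p * t ^ (i : ℕ) = (y i ^ p * t ^ (i : ℕ)) / t ^ (p * n) := by
    intro i
    rw [div_pow, ← pow_mul, mul_comm n p]
    ring
  have e2 : ∑ i : Fin p, (y i / t ^ n) ^ p * t ^ (i : ℕ) =
      (∑ i : Fin p, y i ^ p * t ^ (i : ℕ)) * (t ^ (p * n))⁻¹ := by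
    rw [Finset.sum_mul]
    exact Finset.sum_congr rfl fun i _ => by rw [e i, div_eq_mul_inv]
  rw [e2, ← hxy]
  field_simp

end Groth.Agent.Etalg.EppPB
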