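import Groth.Agent.Etalg.EppData
import Groth.Agent.Etalg.EppFin
import Groth.Agent.Etalg.EppPB

/-!
# Epp's theorem: the pair of Cohen fields inside `K ≤ L`
-/

set_option autoImplicit false
set_option linter.unusedSectionVars false
universe u

namespace Groth.Agent.Etalg.EppCohen

open Polynomial EppFrame EppSeries EppBall EppData

variable {Ω : Type u} [NormedField Ω] [IsUltrametricDist Ω]

/-- `K ≤ L` both complete, `t ∈ K` with `0 < |t| < 1`: there are `E ≤ K` and `E ≤ F ≤ L` with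
`Pair p E F`, `L/F` finite. -/
theorem exists_pair {p : ℕ} (hp : p.Prime) {K L : Subfield Ω} (hKL : K ≤ L)
    (hK : IsComplete (K : Set Ω)) (hL : IsComplete (L : Set Ω)) (hpn : ‖(p : Ω)‖ < 1)
    (hd : ∃ ϖ ∈ L, Disc L ϖ) (t : Ω) (htK : t ∈ K) (ht0 : t ≠ 0) (ht1 : ‖t‖ < 1)
    (hres : ∀ x ∈ L, ‖x‖ ≤ 1 → (∀ n : ℕ, ∃ y ∈ L, ‖y ^ p ^ n - x‖ < 1) →
      ∃ f : Polynomial Ω, f.Monic ∧ (∀ i, f.coeff i ∈ K ∧ ‖f.coeff i‖ ≤ 1) ∧ ‖f.eval x‖ < 1 ∧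
        ‖(derivative f).eval x‖ = 1) :
    ∃ E F : Subfield Ω, E ≤ K ∧ F ≤ L ∧ Pair p E F ∧ FinExt F L ∧
      ((p : Ω) = 0 → t ∈ E ∧ ∀ x ∈ E, ∃ y : Fin p → Ω, (∀ i, y i ∈ E) ∧
        x = ∑ i, y i ^ p * t ^ (i : ℕ)) := by
  obtain ⟨ϖ, hϖ, hd⟩ := hd
  obtain ⟨AE, AF, hle, hEK, hFL, hF1, hE2, hE3, hF2, hF3, hFres, hEperf, hEepp⟩ :=
    exists_data hp hK hL hpn hϖ hd hres hKL
  obtain ⟨τ, hτK, hτ0, hτ1, hτp, hτt⟩ : ∃ τ ∈ K, 0 < ‖τ‖ ∧ ‖τ‖ < 1 ∧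
      (∀ (A : Subring Ω), ∀ a ∈ A, ∃ a' ∈ A, p * a = τ * a') ∧ ((p : Ω) = 0 → τ = t) := by
    by_cases hp0 : (p : Ω) = 0
    · exact ⟨t, htK, norm_pos_iff.2 ht0, ht1, fun A a _ => ⟨0, A.zero_mem, by rw [hp0]; ring⟩,
        fun _ => rfl⟩
    · exact ⟨p, natCast_mem K p, norm_pos_iff.2 hp0, hpn, fun A a ha => ⟨a, ha, rfl⟩,
        fun h => absurd h hp0⟩
  have hE1 : ∀ a ∈ AE, ‖a‖ ≤ 1 := fun a ha => hF1 a (hle ha)
  obtain ⟨E, hAE, hτE, hEK', hEc, hEd, hEr, -, -, hEmin⟩ := exists_field (A := AE) (τ := τ) hK hEK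
    hτK hE1 (fun a ha h => by
      obtain ⟨a', ha', h1⟩ := hE2 a ha h
      obtain ⟨a'', ha'', h2⟩ := hτp AE a' ha'
      exact ⟨a'', ha'', h1.trans h2⟩) hE3 hτ0 hτ1
  obtain ⟨F, hAF, hτF, hFL', hFc, hFd, hFr, -, -, hFmin⟩ := exists_field (A := AF) (τ := τ) hL hFL
    (hKL hτK) hF1 (fun a ha h => by
      obtain ⟨a', ha', h1⟩ := hF2 a ha h
      obtain ⟨a'', ha'', h2⟩ := hτp AF a' ha'
      exact ⟨a'', ha'', h1.trans h2⟩) hF3 hτ0 hτ1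
  have hperf : ∀ x ∈ E, ‖x‖ ≤ 1 → ∃ y ∈ E, ‖y ^ p - x‖ < 1 := by
    intro x hx hx1
    obtain ⟨a, ha, hxa⟩ := hEr x hx hx1
    obtain ⟨b, hb, c, hc, rfl⟩ := hEperf a ha
    refine ⟨b, hAE hb, ?_⟩
    have h1 : b ^ p - x = -(x - (b ^ p + p * c)) - p * c := by ring
    rw [h1]
    apply EppSeries.sub_lt
    · rwa [norm_neg]
    · rw [norm_mul]
      exact mul_lt_one_of_nonneg_of_lt_one_left (norm_nonneg _) hpn (hE1 c hc)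
  refine ⟨E, F, hEK', hFL', ?_, ?_, ?_⟩
  · exact
      { le := hEmin F hFc.isClosed (fun a ha => hAF (hle ha)) hτF
        completeE := hEc
        completeF := hFc
        norm_p_lt := hpn
        disc := ⟨τ, hτE, hτ0, hτ1, hFd⟩
        perfect := hperf
        epp := by
          intro x hx hx1 hr
          obtain ⟨f, hf, hfc, hfx⟩ := hEepp x (hFL' hx) hx1 (fun n => by
            obtain ⟨y, hy, h⟩ := hr n
            exact ⟨y, hFL' hy, h⟩)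
          exact ⟨f, hf, fun i => ⟨hAE (hfc i), hE1 _ (hfc i)⟩, hfx⟩ }
  · refine EppFin.finExt_of_residue hFc hL hFL' hτF hτ0 hτ1 hϖ hd ?_
    intro x hx hx1
    obtain ⟨a, ha, h⟩ := hFres x hx hx1
    exact ⟨a, hAF ha, h⟩
  · intro hp0
    obtain rfl := hτt hp0
    exact ⟨hτE, EppPB.expand hp hp0 hEc hτE hτ0 hτ1 hEd hperf⟩

end Groth.Agent.Etalg.EppCohen
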