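import Mathlib.FieldTheory.PurelyInseparable.PerfectClosure
import Mathlib.Algebra.CharP.Subring
import Mathlib.FieldTheory.Perfect
import Mathlib.RingTheory.WittVector.DiscreteValuationRing
import Mathlib.RingTheory.WittVector.Complete
import Groth.Agent.CalgA.CoeffRing
import Groth.Agent.Ega41.CohenLift

/-!
# The perfect core of a field of characteristic `p`, and maps out of its Witt vectors
-/

set_option autoImplicit false
universe u v

namespace Groth.Agent.Etalg.EppCore

open Polynomial IsLocalRing

section core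

variable {κ : Type u} [Field κ] (p : ℕ) [CharP κ p] [Fact p.Prime]

instance charP_subfield (k : Subfield κ) : CharP k p :=
  (RingHom.charP_iff (algebraMap k κ) (algebraMap k κ).injective p).2 inferInstance

/-- `⋂ k^(p^n)` -/
noncomputable def core (k : Subfield κ) : Subfield κ := ⨅ n : ℕ, k.map (iterateFrobenius κ p n)

variable {p}

theorem mem_core {k : Subfield κ} {c : κ} : c ∈ core p k ↔ ∀ n : ℕ, ∃ d ∈ k, d ^ p ^ n = c := by
  rw [core, Subfield.mem_iInf]
  exact forall_congr' fun n => Subfield.mem_map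

theorem core_le {k : Subfield κ} : core p k ≤ k := by
  intro c hc
  obtain ⟨d, hd, rfl⟩ := mem_core.1 hc 0
  simpa using hd

theorem exists_root_core {k : Subfield κ} {c : κ} (hc : c ∈ core p k) :
    ∃ d ∈ core p k, d ^ p = c := by
  obtain ⟨d, hd, rfl⟩ := mem_core.1 hc 1
  rw [pow_one] at hc ⊢
  refine ⟨d, ?_, rfl⟩
  rw [mem_core]
  intro n
  obtain ⟨e, he, hec⟩ := mem_core.1 hc (n + 1)
  refine ⟨e, he, ?_⟩
  apply frobenius_inj κ p
  change (e ^ p ^ n) ^ p = d ^ p
  rw [← pow_mul, ← pow_succ]
  exact hec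

instance perfectRing_core (k : Subfield κ) : PerfectRing (core p k) p := by
  apply PerfectRing.ofSurjective
  rintro ⟨c, hc⟩
  obtain ⟨d, hd, h⟩ := exists_root_core hc
  exact ⟨⟨d, hd⟩, Subtype.ext h⟩

/-- an element all of whose `p`-power roots are separable over `k` is algebraic over the core. -/
theorem exists_poly {k : Subfield κ} {x : κ}
    (h : ∀ n : ℕ, ∃ y, y ^ p ^ n = x ∧ IsSeparable k y) :
    ∃ m : κ[X], m.Monic ∧ (∀ i, m.coeff i ∈ core p k) ∧ m.eval x = 0 := by
  have hx : IsIntegral k x := by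
    obtain ⟨y, hy, hs⟩ := h 0
    rw [pow_zero, pow_one] at hy
    rw [← hy]
    exact hs.isIntegral
  refine ⟨(minpoly k x).map (algebraMap k κ), (minpoly.monic hx).map _, ?_, ?_⟩
  · intro i
    rw [mem_core]
    intro n
    obtain ⟨y, hy, hs⟩ := h n
    have h1 := minpoly.iterateFrobenius_of_isSeparable (F := k) p n hs
    rw [iterateFrobenius_def, hy] at h1
    rw [h1, coeff_map, coeff_map, iterateFrobenius_def]
    exact ⟨((minpoly k y).coeff i : κ), ((minpoly k y).coeff i).2, rfl⟩
  · rw [eval_map_algebraMap, minpoly.aeval]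

theorem isSeparable_of_poly {k : Subfield κ} {x : κ} {f : κ[X]} (hf : f.Monic)
    (hfk : ∀ i, f.coeff i ∈ k) (h0 : f.eval x = 0) (h1 : (derivative f).eval x ≠ 0) :
    IsSeparable k x := by
  have hmem : f ∈ lifts (algebraMap k κ) := by
    rw [lifts_iff_coeff_lifts]
    intro i
    exact ⟨⟨f.coeff i, hfk i⟩, rfl⟩
  obtain ⟨g, hg, -, hgm⟩ := lifts_and_degree_eq_and_monic hmem hf
  subst hg
  have hx : IsIntegral k x := ⟨g, hgm, by rw [← eval_map]; exact h0⟩
  have hdvd : minpoly k x ∣ g := minpoly.dvd _ _ (by rw [← eval_map_algebraMap]; exact h0)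
  obtain ⟨q, hq⟩ := hdvd
  have h2 : aeval x (derivative (minpoly k x)) ≠ 0 := by
    intro h
    apply h1
    rw [derivative_map, eval_map_algebraMap, hq, derivative_mul, map_add, map_mul, map_mul,
      minpoly.aeval, h, zero_mul, zero_mul, add_zero]
  rw [IsSeparable, Polynomial.separable_iff_derivative_ne_zero (minpoly.irreducible hx)]
  intro h
  rw [h, map_zero] at h2
  exact h2 rfl

end core

section witt

variable (p : ℕ) [Fact p.Prime]

theorem maximalIdeal_witt (k : Type u) [Field k] [CharP k p] [PerfectRing k p] :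
    maximalIdeal (WittVector p k) = Ideal.span {(p : WittVector p k)} := by
  rw [← WittVector.ker_constantCoeff]
  exact (IsLocalRing.ker_eq_maximalIdeal _ (WittVector.constantCoeff_surjective p)).symm

theorem exists_witt_lift {Λ : Type v} [CommRing Λ] [IsLocalRing Λ]
    [IsAdicComplete (maximalIdeal Λ) Λ] (hp : (p : Λ) ∈ maximalIdeal Λ)
    {k : Type u} [Field k] [CharP k p] [PerfectRing k p] (i : k →+* ResidueField Λ) :
    ∃ g : WittVector p k →+* Λ, (residue Λ).comp g = i.comp WittVector.constantCoeff := by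
  have hH : IsHausdorff (maximalIdeal Λ) (Λ ⧸ maximalIdeal Λ) := by
    constructor
    intro x hx
    have h1 := hx 1
    rw [SModEq.zero, pow_one] at h1
    have h2 : (maximalIdeal Λ • ⊤ : Submodule Λ (Λ ⧸ maximalIdeal Λ)) ≤ ⊥ := by
      rw [Submodule.smul_le]
      rintro r hr n -
      rw [Submodule.mem_bot]
      obtain ⟨n, rfl⟩ := Ideal.Quotient.mk_surjective n
      rw [Algebra.smul_def]
      change Ideal.Quotient.mk _ r * _ = 0
      rw [Ideal.Quotient.eq_zero_iff_mem.2 hr, zero_mul]
    exact (Submodule.mem_bot _).1 (h2 h1)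
  exact Groth.Agent.Ega41.CohenLift.exists_lift_of_cohen p (maximalIdeal_witt p k)
    (WittVector.p_nonzero p k) (maximalIdeal Λ) (maximalIdeal Λ) le_rfl hp
    (i.comp WittVector.constantCoeff : WittVector p k →+* Λ ⧸ maximalIdeal Λ)

/-- Witt vectors of a perfect field: `w = [c] + p w'` -/
theorem witt_decomp {k : Type u} [Field k] [CharP k p] [PerfectRing k p] (w : WittVector p k) :
    ∃ w' : WittVector p k, w = WittVector.teichmuller p (WittVector.constantCoeff w) + p * w' := by
  have h1 : w - WittVector.teichmuller p (WittVector.constantCoeff w) ∈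
      RingHom.ker (WittVector.constantCoeff (p := p) (R := k)) := by
    rw [RingHom.mem_ker, map_sub, sub_eq_zero]
    exact (WittVector.teichmuller_coeff_zero p _).symm
  rw [WittVector.ker_constantCoeff, Ideal.mem_span_singleton] at h1
  obtain ⟨w', hw'⟩ := h1
  exact ⟨w', by rw [← hw']; ring⟩

end witt

end Groth.Agent.Etalg.EppCore
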