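import Groth.Agent.Etalg.EppBall
import Groth.Agent.Etalg.EppCore

/-!
# Coefficient rings of `K ≤ L`
-/

set_option autoImplicit false
set_option linter.unusedSectionVars false
universe u

namespace Groth.Agent.Etalg.EppData

open Polynomial EppFrame EppSeries EppBall EppCore IsLocalRing

variable {Ω : Type u} [NormedField Ω] [IsUltrametricDist Ω]

/-- the residue field of `K` inside the residue field of `L` -/
def resK (L K : Subfield Ω) : Subfield (ResidueField (O L)) where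
  carrier := {c | ∃ x : O L, (x : Ω) ∈ K ∧ residue (O L) x = c}
  mul_mem' := by
    rintro _ _ ⟨x, hx, rfl⟩ ⟨y, hy, rfl⟩
    exact ⟨x * y, K.mul_mem hx hy, map_mul _ _ _⟩
  one_mem' := ⟨1, K.one_mem, map_one _⟩
  add_mem' := by
    rintro _ _ ⟨x, hx, rfl⟩ ⟨y, hy, rfl⟩
    exact ⟨x + y, K.add_mem hx hy, map_add _ _ _⟩
  zero_mem' := ⟨0, K.zero_mem, map_zero _⟩
  neg_mem' := by
    rintro _ ⟨x, hx, rfl⟩
    exact ⟨-x, K.neg_mem hx, map_neg _ _⟩
  inv_mem' := by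
    rintro _ ⟨x, hx, rfl⟩
    by_cases h0 : residue (O L) x = 0
    · rw [h0, inv_zero]; exact ⟨0, K.zero_mem, map_zero _⟩
    · have h1 : ‖(x : Ω)‖ = 1 := by
        rw [residue_eq_zero, not_lt] at h0
        exact le_antisymm x.2.2 h0
      have hx0 : (x : Ω) ≠ 0 := by intro h; rw [h, norm_zero] at h1; exact zero_ne_one h1
      refine ⟨⟨(x : Ω)⁻¹, L.inv_mem x.2.1, by rw [norm_inv, h1, inv_one]⟩, K.inv_mem hx, ?_⟩
      apply eq_inv_of_mul_eq_one_left
      rw [← map_mul, ← map_one (residue (O L))]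
      congr 1
      apply Subtype.ext
      exact inv_mul_cancel₀ hx0

theorem pow_sub_pow_le {p : ℕ} (hp : p.Prime) {r : ℝ} (hr0 : 0 ≤ r) (hr1 : r < 1)
    (hpr : ‖(p : Ω)‖ ≤ r) {a b : Ω} (ha : ‖a‖ ≤ 1) (hb : ‖b‖ ≤ 1) {k : ℕ} (hk : 1 ≤ k)
    (h : ‖a - b‖ ≤ r ^ k) : ‖a ^ p - b ^ p‖ ≤ r ^ (k + 1) := by
  have : ∃ c : Ω, ‖c‖ ≤ 1 ∧ a ^ p = b ^ p + (a - b) ^ p + p * (a - b) * c := by
    obtain ⟨c, hc⟩ := exists_add_pow_prime_eq hp (⟨b, trivial, hb⟩ : O (⊤ : Subfield Ω))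
      (⟨a, trivial, ha⟩ - ⟨b, trivial, hb⟩)
    have h1 := congrArg (fun x : O (⊤ : Subfield Ω) => (x : Ω)) hc
    simp only [Subring.coe_pow, Subring.coe_add, Subring.coe_mul, Subring.coe_natCast,
      AddSubgroupClass.coe_sub, add_sub_cancel] at h1
    refine ⟨b * c, ?_, ?_⟩
    · rw [norm_mul]
      exact mul_le_one₀ hb (norm_nonneg _) c.2.2
    · rw [h1]; ring
  obtain ⟨c, hc, hac⟩ := this
  have h1 : a ^ p - b ^ p = (a - b) ^ p + p * (a - b) * c := by rw [hac]; ring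
  rw [h1]
  apply EppSeries.add_le
  · rw [norm_pow]
    calc ‖a - b‖ ^ p ≤ (r ^ k) ^ p := pow_le_pow_left₀ (norm_nonneg _) h p
      _ = r ^ (k * p) := (pow_mul _ _ _).symm
      _ ≤ r ^ (k + 1) := pow_le_pow_of_le_one hr0 hr1.le (by nlinarith [hp.two_le])
  · rw [norm_mul, norm_mul]
    calc ‖(p : Ω)‖ * ‖a - b‖ * ‖c‖ ≤ r * r ^ k * 1 := by gcongr
      _ = r ^ (k + 1) := by rw [mul_one, pow_succ']

theorem pow_pow_sub_le {p : ℕ} (hp : p.Prime) {r : ℝ} (hr0 : 0 ≤ r) (hr1 : r < 1)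
    (hpr : ‖(p : Ω)‖ ≤ r) {a b : Ω} (ha : ‖a‖ ≤ 1) (hb : ‖b‖ ≤ 1) (h : ‖a - b‖ ≤ r) (n : ℕ) :
    ‖a ^ p ^ n - b ^ p ^ n‖ ≤ r ^ (n + 1) := by
  induction n with
  | zero => simpa using h
  | succ n ih =>
    rw [pow_succ p n, pow_mul, pow_mul]
    refine pow_sub_pow_le hp hr0 hr1 hpr ?_ ?_ (by omega) ih
    · rw [norm_pow]; exact pow_le_one₀ (norm_nonneg _) ha
    · rw [norm_pow]; exact pow_le_one₀ (norm_nonneg _) hb

variable {L : Subfield Ω}

theorem unit_of_norm {Λ : Type*} [CommRing Λ] [IsLocalRing Λ] {p : ℕ}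
    (hΛ : maximalIdeal Λ = Ideal.span {(p : Λ)}) (f : Λ →+* O L) (hpn : ‖(p : Ω)‖ < 1) (a : Λ)
    (ha : ‖(f a : Ω)‖ = 1) : IsUnit a := by
  by_contra h
  have h1 : a ∈ maximalIdeal Λ := (mem_maximalIdeal a).2 h
  rw [hΛ, Ideal.mem_span_singleton] at h1
  obtain ⟨b, rfl⟩ := h1
  rw [map_mul, map_natCast] at ha
  have h2 : ‖((p : O L) * f b : O L)‖ < 1 := by
    change ‖((p : Ω) * (f b : Ω))‖ < 1
    rw [norm_mul]
    exact mul_lt_one_of_nonneg_of_lt_one_left (norm_nonneg _) hpn (f b).2.2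
  exact absurd ha h2.ne

theorem dvd_of_norm {Λ : Type*} [CommRing Λ] [IsLocalRing Λ] {p : ℕ}
    (hΛ : maximalIdeal Λ = Ideal.span {(p : Λ)}) (f : Λ →+* O L) (a : Λ)
    (ha : ‖(f a : Ω)‖ < 1) : ∃ b, a = p * b := by
  have h1 : a ∈ maximalIdeal Λ := by
    rw [mem_maximalIdeal, mem_nonunits_iff]
    intro h
    exact ha.ne ((isUnit_iff _).1 (h.map f))
  rwa [hΛ, Ideal.mem_span_singleton] at h1

theorem ev {S : Type*} [CommRing S] (r : O L →+* S) (G : Polynomial (O L)) (y : O L) :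
    (G.map r).eval (r y) = r (G.eval y) := by
  rw [eval_map, eval₂_at_apply]

theorem exists_data {p : ℕ} (hp : p.Prime) {K L : Subfield Ω}
    (hK : IsComplete (K : Set Ω)) (hL : IsComplete (L : Set Ω)) (hpn : ‖(p : Ω)‖ < 1)
    {ϖ : Ω} (hϖ : ϖ ∈ L) (hd : Disc L ϖ)
    (hres : ∀ x ∈ L, ‖x‖ ≤ 1 → (∀ n : ℕ, ∃ y ∈ L, ‖y ^ p ^ n - x‖ < 1) →
      ∃ f : Polynomial Ω, f.Monic ∧ (∀ i, f.coeff i ∈ K ∧ ‖f.coeff i‖ ≤ 1) ∧ ‖f.eval x‖ < 1 ∧
        ‖(derivative f).eval x‖ = 1) (hKL : K ≤ L) :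
    ∃ AE AF : Subring Ω, AE ≤ AF ∧ (AE : Set Ω) ⊆ K ∧ (AF : Set Ω) ⊆ L ∧
      (∀ a ∈ AF, ‖a‖ ≤ 1) ∧
      (∀ a ∈ AE, ‖a‖ < 1 → ∃ a' ∈ AE, a = p * a') ∧
      (∀ a ∈ AE, ‖a‖ = 1 → ∃ a' ∈ AE, ‖a * a' - 1‖ < 1) ∧
      (∀ a ∈ AF, ‖a‖ < 1 → ∃ a' ∈ AF, a = p * a') ∧
      (∀ a ∈ AF, ‖a‖ = 1 → ∃ a' ∈ AF, ‖a * a' - 1‖ < 1) ∧
      (∀ x ∈ L, ‖x‖ ≤ 1 → ∃ a ∈ AF, ‖x - a‖ < 1) ∧
      (∀ a ∈ AE, ∃ b ∈ AE, ∃ c ∈ AE, a = b ^ p + p * c) ∧
      (∀ x ∈ L, ‖x‖ ≤ 1 → (∀ n : ℕ, ∃ y ∈ L, ‖y ^ p ^ n - x‖ < 1) →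
        ∃ f : Polynomial Ω, f.Monic ∧ (∀ i, f.coeff i ∈ AE) ∧ ‖f.eval x‖ < 1) := by
  have hfp : Fact p.Prime := ⟨hp⟩
  have hac := isAdicComplete hL hϖ hd
  have hch := charP (L := L) hp hpn
  obtain ⟨Λ, i1, i2, i3, f, hΛc, hΛ, hf⟩ :=
    Groth.Agent.CalgA.CoeffRing.exists_cohenRing_map p (O L)
  let k := resK L K
  let k0 := core p k
  have hloc : IsLocalHom f := ⟨fun a ha => unit_of_norm hΛ f hpn a ((isUnit_iff _).1 ha)⟩
  have hbij : Function.Bijective (ResidueField.map f) := by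
    refine ⟨RingHom.injective _, fun c => ?_⟩
    obtain ⟨a, ha⟩ := hf c
    exact ⟨residue Λ a, by rw [← ha]; rfl⟩
  let e : ResidueField Λ ≃+* ResidueField (O L) := RingEquiv.ofBijective (ResidueField.map f) hbij
  have he : ∀ a, e (residue Λ a) = residue (O L) (f a) := fun a => rfl
  let i : k0 →+* ResidueField Λ := (e.symm : ResidueField (O L) →+* ResidueField Λ).comp k0.subtype
  obtain ⟨g, hg⟩ := exists_witt_lift p (Λ := Λ) (hΛ ▸ Ideal.mem_span_singleton_self _) i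
  let φ : WittVector p k0 →+* O L := f.comp g
  have hφ : ∀ w, residue (O L) (φ w) = ((WittVector.constantCoeff w : k0) : ResidueField (O L)) := by
    intro w
    have h1 := DFunLike.congr_fun hg w
    change residue Λ (g w) = e.symm _ at h1
    change residue (O L) (f (g w)) = _
    rw [← he, h1, e.apply_symm_apply]
    rfl
  have hWm := maximalIdeal_witt p k0
  have hW := unit_of_norm (p := p) hWm φ hpn
  have hteich : ∀ c : k0, (φ (WittVector.teichmuller p c) : Ω) ∈ K := by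
    intro c
    apply mem_of_lim hK.isClosed
    intro ε hε
    obtain ⟨n, hn⟩ := exists_pow_lt_of_lt_one hε hd.2.1
    have hroot : ∀ n : ℕ, ∀ c : k0, ∃ d : k0, d ^ p ^ n = c := by
      intro n
      induction n with
      | zero => exact fun c => ⟨c, by simp⟩
      | succ n ih =>
        intro c
        obtain ⟨d, hd⟩ := ih c
        obtain ⟨e, he⟩ := exists_root_core d.2
        refine ⟨⟨e, he.1⟩, ?_⟩
        rw [pow_succ', pow_mul, ← hd]
        have h5 : (⟨e, he.1⟩ : k0) ^ p = d := Subtype.ext he.2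
        rw [h5]
    obtain ⟨d, hdc⟩ := hroot n c
    obtain ⟨z, hzK, hz⟩ := core_le d.2
    refine ⟨(z : Ω) ^ p ^ n, K.pow_mem hzK _, ?_⟩
    have h1 : ‖(φ (WittVector.teichmuller p d) : Ω) - z‖ < 1 := by
      rw [← residue_eq_iff, hφ, hz]
      congr 1
    have h2 : ‖(φ (WittVector.teichmuller p d) : Ω) - z‖ ≤ ‖ϖ‖ :=
      disc_le hd (L.sub_mem (φ _).2.1 z.2.1) h1
    have h3 := pow_pow_sub_le hp hd.1.le hd.2.1
      (disc_le hd (natCast_mem L p) hpn) (φ (WittVector.teichmuller p d)).2.2 z.2.2 h2 n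
    have h4 : (φ (WittVector.teichmuller p c) : Ω) = (φ (WittVector.teichmuller p d) : Ω) ^ p ^ n := by
      rw [← hdc, map_pow, map_pow]
      rfl
    rw [h4]
    calc _ ≤ ‖ϖ‖ ^ (n + 1) := h3
      _ ≤ ‖ϖ‖ ^ n := pow_le_pow_of_le_one hd.1.le hd.2.1.le (Nat.le_succ _)
      _ < ε := hn
  have hwittK : ∀ w, (φ w : Ω) ∈ K := by
    have h1 : ∀ n : ℕ, ∀ w, ∃ v ∈ K, ‖(φ w : Ω) - v‖ ≤ ‖(p : Ω)‖ ^ n := by
      intro n
      induction n with
      | zero => exact fun w => ⟨0, K.zero_mem, by rw [sub_zero, pow_zero]; exact (φ w).2.2⟩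
      | succ n ih =>
        intro w
        obtain ⟨w', hw'⟩ := witt_decomp p w
        obtain ⟨v, hv, hvw⟩ := ih w'
        refine ⟨φ (WittVector.teichmuller p (WittVector.constantCoeff w)) + p * v,
          K.add_mem (hteich _) (K.mul_mem (natCast_mem K p) hv), ?_⟩
        have h2 : (φ w : Ω) - (φ (WittVector.teichmuller p (WittVector.constantCoeff w)) + p * v)
            = p * ((φ w' : Ω) - v) := by
          have h3 : φ w = φ (WittVector.teichmuller p (WittVector.constantCoeff w)) + p * φ w' := by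
            conv_lhs => rw [hw', map_add, map_mul, map_natCast]
          rw [h3]
          simp only [Subring.coe_add, Subring.coe_mul, Subring.coe_natCast]
          ring
        rw [h2, norm_mul, pow_succ']
        exact mul_le_mul_of_nonneg_left hvw (norm_nonneg _)
    intro w
    apply mem_of_lim hK.isClosed
    intro ε hε
    obtain ⟨n, hn⟩ := exists_pow_lt_of_lt_one hε hpn
    obtain ⟨v, hv, hvw⟩ := h1 n w
    exact ⟨v, hv, hvw.trans_lt hn⟩
  refine ⟨((O L).subtype.comp φ).range, ((O L).subtype.comp f).range, ?_, ?_, ?_, ?_, ?_, ?_, ?_,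
    ?_, ?_, ?_, ?_⟩
  · rintro _ ⟨w, rfl⟩
    exact ⟨g w, rfl⟩
  · rintro _ ⟨w, rfl⟩
    exact hwittK w
  · rintro _ ⟨a, rfl⟩
    exact (f a).2.1
  · rintro _ ⟨a, rfl⟩
    exact (f a).2.2
  · rintro _ ⟨w, rfl⟩ h
    obtain ⟨b, rfl⟩ := dvd_of_norm hWm φ w h
    exact ⟨_, ⟨b, rfl⟩, by rw [map_mul, map_natCast]⟩
  · rintro _ ⟨w, rfl⟩ h
    obtain ⟨u, rfl⟩ := hW w h
    refine ⟨_, ⟨((u⁻¹ : (WittVector p k0)ˣ) : WittVector p k0), rfl⟩, ?_⟩
    rw [← map_mul, Units.mul_inv, map_one, sub_self, norm_zero]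
    exact one_pos
  · rintro _ ⟨w, rfl⟩ h
    obtain ⟨b, rfl⟩ := dvd_of_norm hΛ f w h
    exact ⟨_, ⟨b, rfl⟩, by rw [map_mul, map_natCast]⟩
  · rintro _ ⟨w, rfl⟩ h
    obtain ⟨u, rfl⟩ := unit_of_norm hΛ f hpn w h
    refine ⟨_, ⟨((u⁻¹ : Λˣ) : Λ), rfl⟩, ?_⟩
    rw [← map_mul, Units.mul_inv, map_one, sub_self, norm_zero]
    exact one_pos
  · intro x hx hx1
    obtain ⟨a, ha⟩ := hf (residue (O L) ⟨x, hx, hx1⟩)
    refine ⟨f a, ⟨a, rfl⟩, ?_⟩
    exact residue_eq_iff.1 ha.symm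
  · rintro _ ⟨w, rfl⟩
    obtain ⟨w', hw'⟩ := witt_decomp p w
    obtain ⟨d, hd0, hd⟩ := exists_root_core (WittVector.constantCoeff w : k0).2
    refine ⟨_, ⟨WittVector.teichmuller p ⟨d, hd0⟩, rfl⟩, _, ⟨w', rfl⟩, ?_⟩
    conv_lhs => rw [hw']
    rw [← map_pow, ← map_pow, map_add, map_mul, map_natCast]
    have h2 : (WittVector.constantCoeff w : k0) = (⟨d, hd0⟩ : k0) ^ p := Subtype.ext hd.symm
    rw [h2]
  · intro x hx hx1 hroots
    let x' : O L := ⟨x, hx, hx1⟩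
    have key : ∀ n : ℕ, ∃ y, y ^ p ^ n = residue (O L) x' ∧ IsSeparable (resK L K) y := by
      intro n
      have hroot' : ∀ n, ∃ z : O L, residue (O L) z ^ p ^ n = residue (O L) x' := by
        intro n
        obtain ⟨z, hz, hzx⟩ := hroots n
        have hz1 : ‖z‖ ≤ 1 := by
          by_contra h
          push Not at h
          have h1 : ‖z ^ p ^ n‖ ≤ 1 := by
            have : z ^ p ^ n = (z ^ p ^ n - x) + x := by ring
            rw [this]
            exact EppSeries.add_le hzx.le hx1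
          rw [norm_pow] at h1
          exact absurd h1 (not_le.2 (one_lt_pow₀ h (pow_ne_zero _ hp.ne_zero)))
        refine ⟨⟨z, hz, hz1⟩, ?_⟩
        rw [← map_pow, residue_eq_iff]
        exact hzx
      obtain ⟨y, hy⟩ := hroot' n
      refine ⟨residue (O L) y, hy, ?_⟩
      obtain ⟨F, hFm, hFc, hF0, hF1⟩ := hres y y.2.1 y.2.2 (by
        intro m
        obtain ⟨z, hz⟩ := hroot' (m + n)
        refine ⟨z, z.2.1, ?_⟩
        have h1 : (residue (O L) z ^ p ^ m) ^ p ^ n = (residue (O L) y) ^ p ^ n := by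
          rw [← pow_mul, ← pow_add, hz, hy]
        have h2 : residue (O L) z ^ p ^ m = residue (O L) y :=
          iterateFrobenius_inj (ResidueField (O L)) p n h1
        rw [← map_pow, residue_eq_iff] at h2
        exact h2)
      have hlift : F ∈ lifts (O L).subtype := by
        rw [lifts_iff_coeff_lifts]
        intro i
        exact ⟨⟨F.coeff i, hKL (hFc i).1, (hFc i).2⟩, rfl⟩
      obtain ⟨G, hG, -, hGm⟩ := lifts_and_degree_eq_and_monic hlift hFm
      subst hG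
      apply isSeparable_of_poly (f := G.map (residue (O L))) (hGm.map _)
      · intro i
        refine ⟨G.coeff i, ?_, (coeff_map _ _).symm⟩
        have := (hFc i).1
        rwa [coeff_map] at this
      · rw [ev, residue_eq_zero]
        have h1 := ev (O L).subtype G y
        change _ = ((G.eval y : O L) : Ω) at h1
        rw [← h1]
        exact hF0
      · rw [derivative_map, ev, Ne, residue_eq_zero]
        have h1 := ev (O L).subtype (derivative G) y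
        change _ = (((derivative G).eval y : O L) : Ω) at h1
        rw [← h1, ← derivative_map]
        change ¬ ‖(derivative (G.map (O L).subtype)).eval (y : Ω)‖ < 1
        rw [hF1]
        exact lt_irrefl _
    obtain ⟨m, hm, hmc, hm0⟩ := exists_poly key
    have hlift : m ∈ lifts ((core p (resK L K)).subtype.comp
        (WittVector.constantCoeff : WittVector p k0 →+* k0)) := by
      rw [lifts_iff_coeff_lifts]
      intro i
      obtain ⟨w, hw⟩ := WittVector.constantCoeff_surjective p (⟨m.coeff i, hmc i⟩ : k0)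
      refine ⟨w, ?_⟩
      rw [RingHom.comp_apply, hw]
      rfl
    obtain ⟨M, hM, -, hMm⟩ := lifts_and_degree_eq_and_monic hlift hm
    refine ⟨M.map ((O L).subtype.comp φ), hMm.map _, ?_, ?_⟩
    · intro i
      rw [coeff_map]
      exact ⟨_, rfl⟩
    · rw [← map_map]
      have h1 := ev (O L).subtype (M.map φ) x'
      change _ = (((M.map φ).eval x' : O L) : Ω) at h1
      change ‖eval ((O L).subtype x') _‖ < 1
      rw [h1, ← residue_eq_zero, ← ev, map_map]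
      have h2 : (residue (O L)).comp φ = (core p (resK L K)).subtype.comp
        (WittVector.constantCoeff : WittVector p k0 →+* k0) := RingHom.ext hφ
      rw [h2, hM, hm0]

end Groth.Agent.Etalg.EppData
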