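import Mathlib.FieldTheory.Minpoly.Field
import Mathlib.FieldTheory.Perfect
import Mathlib.FieldTheory.IntermediateField.Adjoin.Algebra
import Mathlib.RingTheory.Algebraic.Integral
import Mathlib.FieldTheory.SeparableDegree

set_option autoImplicit false

/-! The maximal perfect subfield `⋂ κ^{p^n}` in finite extensions. -/

namespace Groth.Agent.Etalg.PerfHull

open Polynomial

variable {κ κ' : Type*} [Field κ] [Field κ'] [Algebra κ κ'] (p : ℕ) [hp : Fact p.Prime] [CharP κ p]

include hp in
/-- If a `p^n`-th root `z` of `y` has a minimal polynomial of the same degree, the coefficients of the minimal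
polynomial of `y` are `p^n`-th powers. -/
theorem coeff_eq_pow {y z : κ'} {n : ℕ} (hz : z ^ (p ^ n) = y) (hint : IsIntegral κ z)
    (hdeg : (minpoly κ z).natDegree = (minpoly κ y).natDegree) (i : ℕ) :
    ∃ c : κ, c ^ (p ^ n) = (minpoly κ y).coeff i := by
  have hpp : p.Prime := hp.out
  have : CharP κ' p := charP_of_injective_algebraMap (algebraMap κ κ').injective p
  have : ExpChar κ p := ExpChar.prime hpp
  have : ExpChar κ' p := ExpChar.prime hpp
  have hyint : IsIntegral κ y := hz ▸ hint.pow _
  set g := (minpoly κ z).map (iterateFrobenius κ p n) with hg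
  have hgm : g.Monic := (minpoly.monic hint).map _
  have hgy : aeval y g = 0 := by
    have h1 : aeval y g = iterateFrobenius κ' p n (aeval z (minpoly κ z)) := by
      rw [hg, aeval_def, eval₂_map, aeval_def, hom_eval₂, iterateFrobenius_def, hz]
      congr 1
      ext x
      simp [iterateFrobenius_def]
    rw [h1, minpoly.aeval, map_zero]
  have hgdeg : g.natDegree = (minpoly κ y).natDegree := by
    rw [hg, natDegree_map, hdeg]
  have heq : g = minpoly κ y := by
    apply (minpoly.unique_of_degree_le_degree_minpoly κ y hgm hgy ?_)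
    rw [degree_eq_natDegree hgm.ne_zero, degree_eq_natDegree (minpoly.ne_zero hyint), hgdeg]
  refine ⟨(minpoly κ z).coeff i, ?_⟩
  rw [← heq, hg, coeff_map, iterateFrobenius_def]

include hp in
/-- In a finite extension, an element with all `p^n`-th roots is a power of an element whose minimal polynomial
has coefficients with all `p^n`-th roots. -/
theorem exists_root [FiniteDimensional κ κ'] (y : κ') (hy : ∀ n : ℕ, ∃ z : κ', z ^ (p ^ n) = y) :
    ∃ (n₀ : ℕ) (z : κ'), z ^ (p ^ n₀) = y ∧ ∀ i n : ℕ, ∃ c : κ, c ^ (p ^ n) = (minpoly κ z).coeff i := by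
  have hpp : p.Prime := hp.out
  have : CharP κ' p := charP_of_injective_algebraMap (algebraMap κ κ').injective p
  have : ExpChar κ' p := ExpChar.prime hpp
  choose z hz using hy
  -- compatibility
  have hcomp : ∀ m n, z (m + n) ^ (p ^ n) = z m := by
    intro m n
    apply iterateFrobenius_inj κ' p m
    rw [iterateFrobenius_def, iterateFrobenius_def, hz, ← pow_mul, ← pow_add, add_comm n m, hz]
  let d : ℕ → ℕ := fun n => (minpoly κ (z n)).natDegree
  have hdle : ∀ n, d n ≤ Module.finrank κ κ' := fun n => minpoly.natDegree_le _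
  have hmono : Monotone d := by
    apply monotone_nat_of_le_succ
    intro n
    have h1 : z n ∈ IntermediateField.adjoin κ {z (n + 1)} := by
      rw [← hcomp n 1]
      exact pow_mem (IntermediateField.mem_adjoin_simple_self κ _) _
    have h2 : IntermediateField.adjoin κ {z n} ≤ IntermediateField.adjoin κ {z (n + 1)} := by
      rw [IntermediateField.adjoin_simple_le_iff]; exact h1
    show (minpoly κ (z n)).natDegree ≤ (minpoly κ (z (n + 1))).natDegree
    rw [← IntermediateField.adjoin.finrank (Algebra.IsIntegral.isIntegral (z n)),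
      ← IntermediateField.adjoin.finrank (Algebra.IsIntegral.isIntegral (z (n + 1)))]
    exact IntermediateField.finrank_le_of_le_right h2
  obtain ⟨n₀, hn₀⟩ : ∃ n₀, ∀ m, d m ≤ d n₀ := by
    by_contra hcon
    push Not at hcon
    choose s hs using hcon
    have h3 : ∀ k : ℕ, ∃ m, k ≤ d m := by
      intro k
      induction k with
      | zero => exact ⟨0, Nat.zero_le _⟩
      | succ k ih =>
        obtain ⟨m, hm⟩ := ih
        exact ⟨s m, Nat.succ_le_of_lt (lt_of_le_of_lt hm (hs m))⟩
    obtain ⟨m, hm⟩ := h3 (Module.finrank κ κ' + 1)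
    have := hdle m
    omega
  refine ⟨n₀, z n₀, hz n₀, ?_⟩
  intro i n
  apply coeff_eq_pow p (z := z (n₀ + n)) (hcomp n₀ n) (Algebra.IsIntegral.isIntegral _)
  exact le_antisymm (hn₀ _) (hmono (Nat.le_add_right _ _))

include hp in
/-- Stability of the condition "elements with all `p^n`-th roots are algebraic over `k`". -/
theorem isAlgebraic_of_forall_pow {k : Type*} [Field k] [Algebra k κ] [Algebra k κ'] [IsScalarTower k κ κ']
    [FiniteDimensional κ κ']
    (H : ∀ x : κ, (∀ n : ℕ, ∃ z : κ, z ^ (p ^ n) = x) → IsAlgebraic k x)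
    (y : κ') (hy : ∀ n : ℕ, ∃ z : κ', z ^ (p ^ n) = y) : IsAlgebraic k y := by
  obtain ⟨n₀, z, hz, hc⟩ := exists_root (κ := κ) p y hy
  rw [← hz]
  apply IsAlgebraic.pow
  -- the coefficients are algebraic over `k`
  have hcoeff : ∀ i, (minpoly κ z).coeff i ∈ (integralClosure k κ) := fun i =>
    (H _ (fun n => hc i n)).isIntegral
  have hlift : (minpoly κ z) ∈ lifts (algebraMap (integralClosure k κ) κ) := by
    rw [lifts_iff_coeff_lifts]
    intro i
    exact ⟨⟨_, hcoeff i⟩, rfl⟩
  obtain ⟨q, hq, hqdeg, hqm⟩ := lifts_and_natDegree_eq_and_monic hlift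
    (minpoly.monic (Algebra.IsIntegral.isIntegral z))
  have t1 : IsScalarTower (integralClosure k κ) κ κ' := inferInstance
  have t2 : IsScalarTower k (integralClosure k κ) κ' := inferInstance
  have hzint : IsIntegral (integralClosure k κ) z := by
    refine ⟨q, hqm, ?_⟩
    have h1 : eval₂ (algebraMap (integralClosure k κ) κ') z q = aeval z (minpoly κ z) := by
      rw [← hq, aeval_def, eval₂_map]
      rfl
    rw [h1, minpoly.aeval]
  exact (isIntegral_trans (R := k) z hzint).isAlgebraic

end Groth.Agent.Etalg.PerfHull
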