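import Groth.Agent.CalgC.SepField
import Groth.Agent.Ega41.RedTensor
import Mathlib.FieldTheory.PurelyInseparable.Tower
import Mathlib.FieldTheory.Separable

set_option autoImplicit false
universe u

/-! Field theory: algebraic geometrically reduced extensions are separable; finiteness of inseparable degrees. -/

namespace Groth.Agent.Etalg.SepSol2

open Polynomial

/-- An algebraic, geometrically reduced field extension is separable. -/
theorem isSeparable_of_isGeometricallyReduced (F : Type u) (Ω : Type u) [Field F] [Field Ω] [Algebra F Ω]
    [Algebra.IsAlgebraic F Ω] [Algebra.IsGeometricallyReduced F Ω] : Algebra.IsSeparable F Ω := by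
  obtain ⟨p, hp⟩ := CharP.exists F
  rcases CharP.char_is_prime_or_zero F p with hpp | h0
  · refine ⟨fun x => ?_⟩
    have hfact : Fact p.Prime := ⟨hpp⟩
    have hint : IsIntegral F x := Algebra.IsIntegral.isIntegral x
    have hirr := minpoly.irreducible hint
    rcases Polynomial.separable_or p hirr with h | ⟨_, g, hg, hexp⟩
    · exact h
    · exfalso
      have hpow := CalgC.SepField.powIndep_of_isGeometricallyReduced (k := F) (K := Ω) p
      have hdeg : (minpoly F x).natDegree = g.natDegree * p := by
        rw [← hexp, natDegree_expand]
      have hg0 : 0 < g.natDegree := hg.natDegree_pos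
      have hlt : g.natDegree + 1 ≤ (minpoly F x).natDegree := by
        rw [hdeg]
        have := hpp.two_le
        nlinarith
      have h1 : LinearIndependent F (fun i : Fin (g.natDegree + 1) => x ^ (i : ℕ)) :=
        (linearIndependent_pow (K := F) x).comp (Fin.castLE hlt) (Fin.castLE_injective hlt)
      have h2 := hpow.linearIndependent h1
      have h3 : ∑ i : Fin (g.natDegree + 1), g.coeff i • ((x ^ (i : ℕ)) ^ p) = 0 := by
        have h4 : aeval (x ^ p) g = 0 := by
          rw [← expand_aeval, hexp, minpoly.aeval]
        rw [aeval_eq_sum_range, Finset.sum_range] at h4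
        rw [← h4]
        apply Finset.sum_congr rfl
        intro i _
        rw [← pow_mul, ← pow_mul, mul_comm]
      rw [Fintype.linearIndependent_iff] at h2
      have h5 := h2 (fun i => g.coeff i) h3 (Fin.last _)
      exact hg.ne_zero (leadingCoeff_eq_zero.mp h5)
  · subst h0
    have : CharZero F := CharP.charP_to_charZero F
    infer_instance

/-- A separable algebraic extension is geometrically reduced. -/
theorem isGeometricallyReduced_of_isSeparable (F : Type u) (Ω : Type u) [Field F] [Field Ω] [Algebra F Ω]
    [Algebra.IsSeparable F Ω] : Algebra.IsGeometricallyReduced F Ω := by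
  rw [Algebra.isGeometricallyReduced_field_iff]
  exact Ega41.RedTensor.isReduced_tensor_of_isSeparable F _ Ω

/-- finiteness of the inseparable degree -/
theorem finite_over_separableClosure (k F E Ω : Type u) [Field k] [Field F] [Field E] [Field Ω] [Algebra k F]
    [Algebra k E] [Algebra k Ω] [Algebra F Ω] [Algebra E Ω] [IsScalarTower k F Ω] [IsScalarTower k E Ω]
    [FiniteDimensional k F] [Algebra.IsAlgebraic k E] [Algebra.IsSeparable F Ω] :
    Module.Finite (separableClosure k E) E := by
  have h1 := Field.insepDegree_mul_insepDegree_of_isAlgebraic k E Ω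
  have h2 := Field.insepDegree_mul_insepDegree_of_isAlgebraic k F Ω
  have h3 : Field.insepDegree F Ω = 1 := Algebra.IsSeparable.insepDegree_eq F Ω
  rw [h3, mul_one] at h2
  have h4 : Field.insepDegree k F < Cardinal.aleph0 :=
    lt_of_le_of_lt (Field.insepDegree_le_rank k F) (Module.rank_lt_aleph0 k F)
  have h5 : Field.insepDegree E Ω ≠ 0 := by
    have : Nontrivial (separableClosure E Ω) := inferInstance
    exact (Field.instNeZeroInsepDegree E Ω).out
  have h6 : Field.insepDegree k E < Cardinal.aleph0 := by
    refine lt_of_le_of_lt ?_ h4
    rw [h2, ← h1]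
    exact le_mul_of_one_le_right (by positivity) (Cardinal.one_le_iff_ne_zero.mpr h5)
  exact Module.rank_lt_aleph0_iff.mp h6

/-- a finite set controlling separability -/
theorem exists_finset_isSeparable (k E : Type u) [Field k] [Field E] [Algebra k E]
    [Module.Finite (separableClosure k E) E] :
    ∃ s : Finset E, ∀ (F' : Type u) [Field F'] [Algebra k F'] [Algebra F' E] [IsScalarTower k F' E],
      (∀ y ∈ s, y ∈ Set.range (algebraMap F' E)) → Algebra.IsSeparable F' E := by
  obtain ⟨s, hs⟩ := (inferInstance : Module.Finite (separableClosure k E) E).fg_top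
  refine ⟨s, ?_⟩
  intro F' _ _ _ _ hF'
  rw [← separableClosure.eq_top_iff, eq_top_iff]
  intro x _
  have hx : x ∈ Submodule.span (separableClosure k E) (s : Set E) := by rw [hs]; trivial
  induction hx using Submodule.span_induction with
  | mem y hy =>
    obtain ⟨z, rfl⟩ := hF' y hy
    exact (separableClosure F' E).algebraMap_mem z
  | zero => exact zero_mem _
  | add x y _ _ hx hy => exact add_mem (hx trivial) (hy trivial)
  | smul a x _ hx =>
    refine mul_mem ?_ (hx trivial)
    have ha : IsSeparable k (a : E) := mem_separableClosure_iff.mp a.2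
    exact mem_separableClosure_iff.mpr (ha.tower_top F')

end Groth.Agent.Etalg.SepSol2
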