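import Groth.Agent.Etalg.RamBasic
import Mathlib.RingTheory.Flat.TorsionFree
import Mathlib.RingTheory.Ideal.MinimalPrime.Basic
import Mathlib.RingTheory.Ideal.MinimalPrime.Localization
import Mathlib.RingTheory.TensorProduct.Basic
import Mathlib.RingTheory.Flat.Stability
import Mathlib.LinearAlgebra.FreeModule.Basic
import Mathlib.RingTheory.Flat.FaithfullyFlat.Basic

/-!
# Amalgamation of extensions of valued fields
-/

set_option autoImplicit false
universe u

open IsLocalRing EtRam Groth.Agent.Etalg.RamBasic TensorProduct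

namespace Groth.Agent.Etalg.RamAmalgam

theorem flat_of_injective {V S : Type u} [CommRing V] [IsDomain V] [ValuationRing V] [CommRing S] [IsDomain S]
    [Algebra V S] (hinj : Function.Injective (algebraMap V S)) : Module.Flat V S := by
  rw [Module.Flat.flat_iff_torsion_eq_bot_of_isBezout]
  rw [eq_bot_iff]
  intro x hx
  rw [Submodule.mem_torsion_iff] at hx
  obtain ⟨a, ha⟩ := hx
  have ha' : algebraMap V S a * x = 0 := by
    rw [← Algebra.smul_def]; exact ha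
  rcases mul_eq_zero.mp ha' with h | h
  · exact absurd ((map_eq_zero_iff _ hinj).mp h) (nonZeroDivisors.coe_ne_zero a)
  · exact h

/-- Two field extensions have a common overfield. -/
theorem exists_common_field (k k₁ k₂ : Type u) [Field k] [Field k₁] [Field k₂] [Algebra k k₁] [Algebra k k₂] :
    ∃ (Λ : Type u) (_ : Field Λ) (s₁ : k₁ →+* Λ) (s₂ : k₂ →+* Λ),
      s₁.comp (algebraMap k k₁) = s₂.comp (algebraMap k k₂) := by
  haveI : Nontrivial (k₁ ⊗[k] k₂) :=
    (Algebra.TensorProduct.includeLeft_injective (S := k) (A := k₁) (B := k₂)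
      (algebraMap k k₂).injective).nontrivial
  obtain ⟨q, hq⟩ := Ideal.exists_maximal (k₁ ⊗[k] k₂)
  letI : Field ((k₁ ⊗[k] k₂) ⧸ q) := Ideal.Quotient.field q
  refine ⟨(k₁ ⊗[k] k₂) ⧸ q, inferInstance,
    (Ideal.Quotient.mk q).comp (Algebra.TensorProduct.includeLeft (R := k) (S := k) (A := k₁) (B := k₂)).toRingHom,
    (Ideal.Quotient.mk q).comp (Algebra.TensorProduct.includeRight (R := k) (A := k₁) (B := k₂)).toRingHom, ?_⟩
  ext v
  show (Ideal.Quotient.mk q) ((algebraMap k k₁ v) ⊗ₜ[k] (1 : k₂)) =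
    (Ideal.Quotient.mk q) ((1 : k₁) ⊗ₜ[k] (algebraMap k k₂ v))
  rw [Algebra.algebraMap_eq_smul_one, Algebra.algebraMap_eq_smul_one, TensorProduct.smul_tmul]

/-- The local step of the amalgamation. -/
theorem exists_amalgam_aux {E₁ E₂ : Type u} [Field E₁] [Field E₂]
    (V₁ : ValuationSubring E₁) (V₂ : ValuationSubring E₂) (R : Type u) [CommRing R]
    (j₁ : V₁ →+* R) (j₂ : V₂ →+* R) (Q : Ideal R) [Q.IsPrime]
    (hQ₁ : ∀ a ∈ maximalIdeal V₁, j₁ a ∈ Q) (hQ₂ : ∀ a ∈ maximalIdeal V₂, j₂ a ∈ Q)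
    (h₁ : ∀ a : V₁, a ≠ 0 → j₁ a ∈ nonZeroDivisors R) (h₂ : ∀ a : V₂, a ≠ 0 → j₂ a ∈ nonZeroDivisors R)
    (hgen : ∀ S : Subring R, j₁.range ≤ S → j₂.range ≤ S → S = ⊤) :
    ∃ (Ω : Type u) (_ : Field Ω) (π : R →+* Ω) (f₁ : E₁ →+* Ω) (f₂ : E₂ →+* Ω) (W : ValuationSubring Ω),
      f₁.comp V₁.subtype = π.comp j₁ ∧ f₂.comp V₂.subtype = π.comp j₂ ∧
      W.comap f₁ = V₁ ∧ W.comap f₂ = V₂ ∧
      ∀ S : Subfield Ω, f₁.fieldRange ≤ S → f₂.fieldRange ≤ S → S = ⊤ := by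
  obtain ⟨P, hP, hPQ⟩ := Ideal.exists_minimalPrimes_le (I := (⊥ : Ideal R)) (J := Q) bot_le
  haveI hPp : P.IsPrime := hP.1.1
  have hdisj := Ideal.disjoint_nonZeroDivisors_of_mem_minimalPrimes hP
  let Ω := FractionRing (R ⧸ P)
  let π : R →+* Ω := (algebraMap (R ⧸ P) Ω).comp (Ideal.Quotient.mk P)
  have hπ0 : ∀ z : R, z ∉ P → π z ≠ 0 := by
    intro z hz h0
    apply hz
    rw [← Ideal.Quotient.eq_zero_iff_mem]
    exact (map_eq_zero_iff _ (IsFractionRing.injective (R ⧸ P) Ω)).mp h0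
  let g : Localization.AtPrime Q →+* Ω := IsLocalization.lift (M := Q.primeCompl) (g := π)
    (fun s => isUnit_iff_ne_zero.mpr (hπ0 _ (fun hs => s.2 (hPQ hs))))
  obtain ⟨W, hW⟩ := exists_dominates g
  have hg : ∀ z : R, g (algebraMap R (Localization.AtPrime Q) z) = π z := fun z =>
    IsLocalization.lift_eq _ z
  have hmem : ∀ z : R, z ∈ Q → algebraMap R (Localization.AtPrime Q) z ∈
      maximalIdeal (Localization.AtPrime Q) := fun z hz => by
    rw [← Localization.AtPrime.map_eq_maximalIdeal]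
    exact Ideal.mem_map_of_mem _ hz
  have hdom₁ : Dominates V₁ (π.comp j₁) W := by
    refine ⟨fun a => ?_, fun a ha => ?_⟩
    · rw [RingHom.comp_apply, ← hg]; exact hW.1 _
    · rw [RingHom.comp_apply, ← hg]
      exact hW.2 _ (hmem _ (hQ₁ a ha))
  have hdom₂ : Dominates V₂ (π.comp j₂) W := by
    refine ⟨fun a => ?_, fun a ha => ?_⟩
    · rw [RingHom.comp_apply, ← hg]; exact hW.1 _
    · rw [RingHom.comp_apply, ← hg]
      exact hW.2 _ (hmem _ (hQ₂ a ha))
  have hinjπ₁ : Function.Injective (π.comp j₁) := by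
    rw [injective_iff_map_eq_zero]
    intro a ha
    by_contra ha0
    exact hπ0 _ (fun hm => Set.disjoint_left.mp hdisj hm (h₁ a ha0)) ha
  have hinjπ₂ : Function.Injective (π.comp j₂) := by
    rw [injective_iff_map_eq_zero]
    intro a ha
    by_contra ha0
    exact hπ0 _ (fun hm => Set.disjoint_left.mp hdisj hm (h₂ a ha0)) ha
  let f₁ : E₁ →+* Ω := IsFractionRing.lift hinjπ₁
  let f₂ : E₂ →+* Ω := IsFractionRing.lift hinjπ₂
  have hf₁ : ∀ a : V₁, f₁ (a : E₁) = π (j₁ a) := fun a => IsFractionRing.lift_algebraMap hinjπ₁ a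
  have hf₂ : ∀ a : V₂, f₂ (a : E₂) = π (j₂ a) := fun a => IsFractionRing.lift_algebraMap hinjπ₂ a
  have e₁ : f₁.comp V₁.subtype = π.comp j₁ := by ext a; exact hf₁ a
  have e₂ : f₂.comp V₂.subtype = π.comp j₂ := by ext a; exact hf₂ a
  refine ⟨Ω, inferInstance, π, f₁, f₂, W, e₁, e₂, ?_, ?_, ?_⟩
  · rw [← dominates_comp_subtype_iff, e₁]; exact hdom₁
  · rw [← dominates_comp_subtype_iff, e₂]; exact hdom₂
  · intro S hS₁ hS₂
    rw [eq_top_iff]
    have hR : ∀ z : R, π z ∈ S := by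
      have h0 : S.toSubring.comap π = ⊤ := by
        refine hgen _ ?_ ?_
        · rintro _ ⟨a, rfl⟩
          show π (j₁ a) ∈ S
          rw [← hf₁]; exact hS₁ ⟨_, rfl⟩
        · rintro _ ⟨a, rfl⟩
          show π (j₂ a) ∈ S
          rw [← hf₂]; exact hS₂ ⟨_, rfl⟩
      intro z
      have : z ∈ S.toSubring.comap π := by rw [h0]; trivial
      exact this
    rintro ω -
    obtain ⟨a, b, hb, rfl⟩ := IsFractionRing.div_surjective (A := R ⧸ P) ω
    obtain ⟨a, rfl⟩ := Ideal.Quotient.mk_surjective a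
    obtain ⟨b, rfl⟩ := Ideal.Quotient.mk_surjective b
    exact S.div_mem (hR a) (hR b)

/-- Two extensions of a valued field embed into a common one, generated by their images. -/
theorem exists_amalgam {F E₁ E₂ : Type u} [Field F] [Field E₁] [Field E₂] [Algebra F E₁] [Algebra F E₂]
    (V₁ : ValuationSubring E₁) (V₂ : ValuationSubring E₂)
    (h : V₁.comap (algebraMap F E₁) = V₂.comap (algebraMap F E₂)) :
    ∃ (Ω : Type u) (_ : Field Ω) (f₁ : E₁ →+* Ω) (f₂ : E₂ →+* Ω) (W : ValuationSubring Ω),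
      f₁.comp (algebraMap F E₁) = f₂.comp (algebraMap F E₂) ∧ W.comap f₁ = V₁ ∧ W.comap f₂ = V₂ ∧
      ∀ S : Subfield Ω, f₁.fieldRange ≤ S → f₂.fieldRange ≤ S → S = ⊤ := by
  classical
  obtain ⟨V, hV₁, hV₂⟩ : ∃ V : ValuationSubring F, V₁.comap (algebraMap F E₁) = V ∧
      V₂.comap (algebraMap F E₂) = V := ⟨_, rfl, h.symm⟩
  have hd₁ : Dominates V ((algebraMap F E₁).comp V.subtype) V₁ := (dominates_comp_subtype_iff _ _ _).mpr hV₁
  have hd₂ : Dominates V ((algebraMap F E₂).comp V.subtype) V₂ := (dominates_comp_subtype_iff _ _ _).mpr hV₂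
  let i₁ : V →+* V₁ := ((algebraMap F E₁).comp V.subtype).codRestrict V₁ hd₁.1
  let i₂ : V →+* V₂ := ((algebraMap F E₂).comp V.subtype).codRestrict V₂ hd₂.1
  have hi₁ : ∀ v : V, ((i₁ v : V₁) : E₁) = algebraMap F E₁ v := fun _ => rfl
  have hi₂ : ∀ v : V, ((i₂ v : V₂) : E₂) = algebraMap F E₂ v := fun _ => rfl
  letI : Algebra V V₁ := i₁.toAlgebra
  letI : Algebra V V₂ := i₂.toAlgebra
  haveI : IsLocalHom (algebraMap V V₁) := Dominates.isLocalHom hd₁
  haveI : IsLocalHom (algebraMap V V₂) := Dominates.isLocalHom hd₂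
  have hinj₁ : Function.Injective (algebraMap V V₁) := fun a b hab =>
    Subtype.ext ((algebraMap F E₁).injective (congrArg Subtype.val hab))
  have hinj₂ : Function.Injective (algebraMap V V₂) := fun a b hab =>
    Subtype.ext ((algebraMap F E₂).injective (congrArg Subtype.val hab))
  haveI : Module.Flat V V₁ := flat_of_injective hinj₁
  haveI : Module.Flat V V₂ := flat_of_injective hinj₂
  -- a common residue field
  obtain ⟨Λ, _, s₁, s₂, hs⟩ := exists_common_field (ResidueField V) (ResidueField V₁) (ResidueField V₂)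
  let r₁ : V₁ →+* Λ := s₁.comp (residue V₁)
  let r₂ : V₂ →+* Λ := s₂.comp (residue V₂)
  have hr : ∀ v : V, r₁ (algebraMap V V₁ v) = r₂ (algebraMap V V₂ v) := fun v =>
    RingHom.congr_fun hs (residue V v)
  letI : Algebra V Λ := (r₁.comp (algebraMap V V₁)).toAlgebra
  let r₁' : V₁ →ₐ[V] Λ := { r₁ with commutes' := fun _ => rfl }
  let r₂' : V₂ →ₐ[V] Λ := { r₂ with commutes' := fun v => (hr v).symm }
  let ρ : V₁ ⊗[V] V₂ →ₐ[V] Λ := Algebra.TensorProduct.lift r₁' r₂' (fun _ _ => Commute.all _ _)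
  have hρ₁ : ∀ x : V₁, ρ (x ⊗ₜ 1) = r₁ x := by
    intro x
    show Algebra.TensorProduct.lift r₁' r₂' _ (x ⊗ₜ 1) = _
    rw [Algebra.TensorProduct.lift_tmul, map_one, mul_one]; rfl
  have hρ₂ : ∀ x : V₂, ρ (1 ⊗ₜ x) = r₂ x := by
    intro x
    show Algebra.TensorProduct.lift r₁' r₂' _ (1 ⊗ₜ x) = _
    rw [Algebra.TensorProduct.lift_tmul, map_one, one_mul]; rfl
  haveI hQ : (RingHom.ker ρ).IsPrime := RingHom.ker_isPrime ρ
  -- nonzero elements of `V₁`, `V₂` are nonzero divisors on `R`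
  have hnz₁ : ∀ x : V₁, x ≠ 0 → (x ⊗ₜ[V] (1 : V₂) : V₁ ⊗[V] V₂) ∈ nonZeroDivisors (V₁ ⊗[V] V₂) := by
    intro x hx
    have hi : Function.Injective (LinearMap.rTensor V₂ (LinearMap.mulLeft V x)) :=
      Module.Flat.rTensor_preserves_injective_linearMap _ (fun a b hab => mul_left_cancel₀ hx hab)
    have he : ∀ z : V₁ ⊗[V] V₂, (LinearMap.rTensor V₂ (LinearMap.mulLeft V x)) z =
        (x ⊗ₜ[V] (1 : V₂) : V₁ ⊗[V] V₂) * z := by
      intro z
      induction z using TensorProduct.induction_on with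
      | zero => rw [map_zero, mul_zero]
      | tmul a b => rw [LinearMap.rTensor_tmul, Algebra.TensorProduct.tmul_mul_tmul, one_mul]; rfl
      | add a b ha hb => rw [map_add, ha, hb, mul_add]
    rw [mem_nonZeroDivisors_iff]
    refine ⟨fun z hz => ?_, fun z hz => ?_⟩
    · exact hi (by rw [he, hz, map_zero])
    · exact hi (by rw [he, mul_comm, hz, map_zero])
  have hnz₂ : ∀ x : V₂, x ≠ 0 → ((1 : V₁) ⊗ₜ[V] x : V₁ ⊗[V] V₂) ∈ nonZeroDivisors (V₁ ⊗[V] V₂) := by
    intro x hx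
    have hi : Function.Injective (LinearMap.lTensor V₁ (LinearMap.mulLeft V x)) :=
      Module.Flat.lTensor_preserves_injective_linearMap _ (fun a b hab => mul_left_cancel₀ hx hab)
    have he : ∀ z : V₁ ⊗[V] V₂, (LinearMap.lTensor V₁ (LinearMap.mulLeft V x)) z =
        ((1 : V₁) ⊗ₜ[V] x : V₁ ⊗[V] V₂) * z := by
      intro z
      induction z using TensorProduct.induction_on with
      | zero => rw [map_zero, mul_zero]
      | tmul a b => rw [LinearMap.lTensor_tmul, Algebra.TensorProduct.tmul_mul_tmul, one_mul]; rfl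
      | add a b ha hb => rw [map_add, ha, hb, mul_add]
    rw [mem_nonZeroDivisors_iff]
    refine ⟨fun z hz => ?_, fun z hz => ?_⟩
    · exact hi (by rw [he, hz, map_zero])
    · exact hi (by rw [he, mul_comm, hz, map_zero])
  let j₁ : V₁ →+* V₁ ⊗[V] V₂ :=
    (Algebra.TensorProduct.includeLeft (R := V) (S := V) (A := V₁) (B := V₂)).toRingHom
  let j₂ : V₂ →+* V₁ ⊗[V] V₂ := (Algebra.TensorProduct.includeRight (R := V) (A := V₁) (B := V₂)).toRingHom
  obtain ⟨Ω, _, π, f₁, f₂, W, e₁, e₂, hW₁, hW₂, hgen⟩ := exists_amalgam_aux V₁ V₂ (V₁ ⊗[V] V₂) j₁ j₂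
    (RingHom.ker ρ) (fun a ha => by
      show ρ (a ⊗ₜ 1) = 0
      rw [hρ₁]
      show s₁ (residue V₁ a) = 0
      rw [(residue_eq_zero_iff a).mpr ha, map_zero]) (fun a ha => by
      show ρ (1 ⊗ₜ a) = 0
      rw [hρ₂]
      show s₂ (residue V₂ a) = 0
      rw [(residue_eq_zero_iff a).mpr ha, map_zero]) hnz₁ hnz₂ (fun S hS₁ hS₂ => by
      rw [eq_top_iff]
      rintro z -
      induction z using TensorProduct.induction_on with
      | zero => exact S.zero_mem
      | tmul a b =>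
        have : (a ⊗ₜ[V] b : V₁ ⊗[V] V₂) = j₁ a * j₂ b := by
          show _ = (a ⊗ₜ[V] (1 : V₂) : V₁ ⊗[V] V₂) * ((1 : V₁) ⊗ₜ[V] b : V₁ ⊗[V] V₂)
          rw [Algebra.TensorProduct.tmul_mul_tmul, one_mul, mul_one]
        rw [this]
        exact S.mul_mem (hS₁ ⟨_, rfl⟩) (hS₂ ⟨_, rfl⟩)
      | add a b ha hb => exact S.add_mem ha hb)
  refine ⟨Ω, inferInstance, f₁, f₂, W, ?_, hW₁, hW₂, hgen⟩
  refine IsLocalization.ringHom_ext (nonZeroDivisors V) ?_
  ext v
  show f₁ (algebraMap F E₁ (v : F)) = f₂ (algebraMap F E₂ (v : F))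
  have h1 : f₁ ((i₁ v : V₁) : E₁) = π (j₁ (i₁ v)) := RingHom.congr_fun e₁ (i₁ v)
  have h2 : f₂ ((i₂ v : V₂) : E₂) = π (j₂ (i₂ v)) := RingHom.congr_fun e₂ (i₂ v)
  rw [← hi₁, ← hi₂, h1, h2]
  congr 1
  show (algebraMap V V₁ v) ⊗ₜ[V] (1 : V₂) = (1 : V₁) ⊗ₜ[V] (algebraMap V V₂ v)
  rw [Algebra.algebraMap_eq_smul_one, Algebra.algebraMap_eq_smul_one, TensorProduct.smul_tmul]

end Groth.Agent.Etalg.RamAmalgam
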