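import Groth.Agent.Etalg.RamBasic

/-!
# Weak unramifiedness of `W ∩ K₁ → W` in terms of valuations
-/

set_option autoImplicit false
universe u

open IsLocalRing EtRam Groth.Agent.Etalg.RamBasic

namespace Groth.Agent.Etalg.RamWeak

variable {K₁ M Ω : Type u} [Field K₁] [Field M] [Field Ω]

/-- `W ∩ K₁ → W` is weakly unramified iff every element of value `< 1` is bounded by an element of `K₁`
of value `< 1`. -/
theorem isWeaklyUnramified_incl_iff (W : ValuationSubring M) (f : K₁ →+* M) :
    (letI : Algebra (W.comap f) W := (inclOfComap W f).toAlgebra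
     IsWeaklyUnramified (W.comap f) W) ↔
    ∀ x : M, W.valuation x < 1 → ∃ a : K₁, W.valuation (f a) < 1 ∧ W.valuation x ≤ W.valuation (f a) := by
  constructor
  · intro h x hx
    have hxW : x ∈ W := (W.valuation_le_one_iff x).mp hx.le
    have hxm : (⟨x, hxW⟩ : W) ∈ maximalIdeal W := (W.valuation_lt_one_iff _).mpr hx
    have h' : (maximalIdeal (W.comap f)).map (inclOfComap W f) = maximalIdeal W := h
    rw [← h'] at hxm
    have key : ∀ y : W, y ∈ (maximalIdeal (W.comap f)).map (inclOfComap W f) →
        ∃ a : K₁, W.valuation (f a) < 1 ∧ W.valuation (y : M) ≤ W.valuation (f a) := by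
      intro y hy
      induction hy using Submodule.span_induction with
      | mem y hy =>
        obtain ⟨a, ha, rfl⟩ := hy
        refine ⟨(a : K₁), ?_, le_rfl⟩
        rw [← valuation_comap_lt_one_iff]
        exact ((W.comap f).valuation_lt_one_iff a).mp ha
      | zero => exact ⟨0, by simp, by simp⟩
      | add y z _ _ hy hz =>
        obtain ⟨a, ha, hya⟩ := hy
        obtain ⟨b, hb, hzb⟩ := hz
        rcases le_total (W.valuation (f a)) (W.valuation (f b)) with hab | hab
        · refine ⟨b, hb, ?_⟩
          exact (W.valuation.map_add _ _).trans (max_le (hya.trans hab) hzb)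
        · refine ⟨a, ha, ?_⟩
          exact (W.valuation.map_add _ _).trans (max_le hya (hzb.trans hab))
      | smul c y _ hy =>
        obtain ⟨a, ha, hya⟩ := hy
        refine ⟨a, ha, ?_⟩
        show W.valuation ((c : M) * (y : M)) ≤ _
        rw [map_mul]
        calc W.valuation (c : M) * W.valuation (y : M) ≤ 1 * W.valuation (f a) :=
              mul_le_mul' (W.valuation_le_one c) hya
          _ = _ := one_mul _
    exact key _ hxm
  · intro h
    show (maximalIdeal (W.comap f)).map (inclOfComap W f) = maximalIdeal W
    apply le_antisymm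
    · exact (((local_hom_TFAE (inclOfComap W f)).out 0 2 rfl rfl).mp inferInstance)
    · intro x hx
      obtain ⟨a, ha, hxa⟩ := h x ((W.valuation_lt_one_iff _).mp hx)
      have haW : a ∈ W.comap f := by
        rw [ValuationSubring.mem_comap, ← W.valuation_le_one_iff]; exact ha.le
      have ham : (⟨a, haW⟩ : W.comap f) ∈ maximalIdeal (W.comap f) := by
        rw [(W.comap f).valuation_lt_one_iff, valuation_comap_lt_one_iff]; exact ha
      obtain ⟨c, hc⟩ := (W.valuation_le_iff _ _).mp hxa
      have : x = c * inclOfComap W f ⟨a, haW⟩ := Subtype.ext hc.symm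
      rw [this]
      exact Ideal.mul_mem_left _ _ (Ideal.mem_map_of_mem _ ham)

/-- If `W ∩ K₁ → W` is weakly unramified then so is `W ∩ K₁ → W ∩ M` for an intermediate field `M`. -/
theorem isWeaklyUnramified_of_comp (W : ValuationSubring Ω) (f : K₁ →+* M) (g : M →+* Ω)
    (h : letI : Algebra (W.comap (g.comp f)) W := (inclOfComap W (g.comp f)).toAlgebra
         IsWeaklyUnramified (W.comap (g.comp f)) W) :
    letI : Algebra ((W.comap g).comap f) (W.comap g) := (inclOfComap (W.comap g) f).toAlgebra
    IsWeaklyUnramified ((W.comap g).comap f) (W.comap g) := by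
  rw [isWeaklyUnramified_incl_iff] at h ⊢
  intro x hx
  rw [valuation_comap_lt_one_iff] at hx
  obtain ⟨a, ha, hxa⟩ := h (g x) hx
  refine ⟨a, (valuation_comap_lt_one_iff _ _ _).mpr ha, (valuation_comap_le_iff _ _ _ _).mpr hxa⟩

/-- Transitivity of weak unramifiedness. -/
theorem isWeaklyUnramified_comp (W : ValuationSubring Ω) (f : K₁ →+* M) (g : M →+* Ω)
    (h₁ : letI : Algebra ((W.comap g).comap f) (W.comap g) := (inclOfComap (W.comap g) f).toAlgebra
          IsWeaklyUnramified ((W.comap g).comap f) (W.comap g))
    (h₂ : letI : Algebra (W.comap g) W := (inclOfComap W g).toAlgebra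
          IsWeaklyUnramified (W.comap g) W) :
    letI : Algebra (W.comap (g.comp f)) W := (inclOfComap W (g.comp f)).toAlgebra
    IsWeaklyUnramified (W.comap (g.comp f)) W := by
  rw [isWeaklyUnramified_incl_iff] at h₁ h₂ ⊢
  intro x hx
  obtain ⟨y, hy, hxy⟩ := h₂ x hx
  obtain ⟨a, ha, hya⟩ := h₁ y ((valuation_comap_lt_one_iff _ _ _).mpr hy)
  exact ⟨a, (valuation_comap_lt_one_iff W g (f a)).mp ha,
    hxy.trans ((valuation_comap_le_iff W g y (f a)).mp hya)⟩

/-- The residue field version: geometric reducedness passes to an intermediate valuation subring. -/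
theorem isGeometricallyReduced_of_comp (W : ValuationSubring Ω) (f : K₁ →+* M) (g : M →+* Ω)
    (h : @Algebra.IsGeometricallyReduced (ResidueField (W.comap (g.comp f))) (ResidueField W) _ _
        (ResidueField.map (inclOfComap W (g.comp f))).toAlgebra) :
    @Algebra.IsGeometricallyReduced (ResidueField ((W.comap g).comap f)) (ResidueField (W.comap g)) _ _
        (ResidueField.map (inclOfComap (W.comap g) f)).toAlgebra := by
  letI : Algebra (ResidueField ((W.comap g).comap f)) (ResidueField (W.comap g)) :=
    (ResidueField.map (inclOfComap (W.comap g) f)).toAlgebra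
  letI : Algebra (ResidueField ((W.comap g).comap f)) (ResidueField W) :=
    (ResidueField.map (inclOfComap W (g.comp f))).toAlgebra
  let φ : ResidueField (W.comap g) →ₐ[ResidueField ((W.comap g).comap f)] ResidueField W :=
    { ResidueField.map (inclOfComap W g) with
      commutes' := by
        intro x
        obtain ⟨x, rfl⟩ := residue_surjective x
        rfl }
  haveI : Algebra.IsGeometricallyReduced (ResidueField ((W.comap g).comap f)) (ResidueField W) := h
  exact Algebra.IsGeometricallyReduced.of_injective φ (RingHom.injective _)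

end Groth.Agent.Etalg.RamWeak
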