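import Groth.Agent.Etalg.RamBasic
import Groth.Agent.Etalg.RamAmalgam
import Groth.Agent.Etalg.RamWeak
import Mathlib.FieldTheory.Normal.Closure
import Mathlib.FieldTheory.IsAlgClosed.Basic

set_option autoImplicit false
universe u

/-! A finite normal subextension of an algebraically closed valued field which is good is a solution. -/

namespace Groth.Agent.Etalg.SolNormal

open IsLocalRing EtRam TensorProduct IntermediateField

/-- transport of geometric reducedness along a semilinear embedding of the top -/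
theorem geomReduced_of_hom {k₁ k₁' k₂ k₂' : Type u} [Field k₁] [Field k₁'] [Field k₂] [Field k₂'] [Algebra k₁ k₁']
    [Algebra k₂ k₂'] (e : k₁ ≃+* k₂) (e' : k₁' →+* k₂')
    (h : ∀ x, e' (algebraMap k₁ k₁' x) = algebraMap k₂ k₂' (e x)) (hg : Algebra.IsGeometricallyReduced k₂ k₂') :
    Algebra.IsGeometricallyReduced k₁ k₁' := by
  let _ : Algebra k₁ k₂ := e.toRingHom.toAlgebra
  let _ : Algebra k₁ k₂' := ((algebraMap k₂ k₂').comp e.toRingHom).toAlgebra
  have t1 : IsScalarTower k₁ k₂ k₂' := IsScalarTower.of_algebraMap_eq' rfl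
  let _ : Algebra k₂ (AlgebraicClosure k₁) := ((algebraMap k₁ (AlgebraicClosure k₁)).comp e.symm.toRingHom).toAlgebra
  have t2 : IsScalarTower k₁ k₂ (AlgebraicClosure k₁) := by
    apply IsScalarTower.of_algebraMap_eq
    intro x
    show _ = algebraMap k₁ _ (e.symm (e x))
    rw [e.symm_apply_apply]
  have halg : Algebra.IsAlgebraic k₂ (AlgebraicClosure k₁) := Algebra.IsAlgebraic.tower_top (K := k₁) k₂
  have hred : IsReduced ((AlgebraicClosure k₁) ⊗[k₂] k₂') := inferInstance
  have hc : CompatibleSMul k₁ k₂ (AlgebraicClosure k₁) k₂' := by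
    refine ⟨fun r m n => ?_⟩
    obtain ⟨s, rfl⟩ := e.surjective r
    have h1 : (e s) • m = s • m := by
      rw [Algebra.smul_def, Algebra.smul_def, IsScalarTower.algebraMap_apply k₁ k₂ (AlgebraicClosure k₁)]
      rfl
    have h2 : (e s) • n = s • n := by
      rw [Algebra.smul_def, Algebra.smul_def, IsScalarTower.algebraMap_apply k₁ k₂ k₂']
      rfl
    rw [h1, h2, smul_tmul]
  have hred2 : IsReduced ((AlgebraicClosure k₁) ⊗[k₁] k₂') :=
    isReduced_of_injective (Algebra.TensorProduct.equivOfCompatibleSMul k₂ k₁ k₁ (AlgebraicClosure k₁) k₂')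
      (AlgEquiv.injective _)
  have hgr : Algebra.IsGeometricallyReduced k₁ k₂' := (Algebra.isGeometricallyReduced_field_iff _ _).mpr hred2
  let φ : k₁' →ₐ[k₁] k₂' := { e' with commutes' := h }
  exact Algebra.IsGeometricallyReduced.of_injective φ e'.injective

/-- Every algebraic valued extension `(M', W')` of `(L, B)` embeds into an algebraically closed one `(Ω, O)`. -/
theorem exists_embedding {B L M' Ω : Type u} [CommRing B] [IsDomain B] [ValuationRing B]
    [Field L] [Field M'] [Field Ω] [Algebra B L] [IsFractionRing B L]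
    [Algebra L Ω] [IsAlgClosed Ω] [Algebra L M'] [Algebra.IsAlgebraic L M']
    (O : ValuationSubring Ω) (hO : Dominates B ((algebraMap L Ω).comp (algebraMap B L)) O)
    (W' : ValuationSubring M') (hW' : Dominates B ((algebraMap L M').comp (algebraMap B L)) W') :
    ∃ φ : M' →+* Ω, φ.comp (algebraMap L M') = algebraMap L Ω ∧ O.comap φ = W' := by
  have hcomap : W'.comap (algebraMap L M') = O.comap (algebraMap L Ω) := by
    rw [(RamBasic.dominates_comp_algebraMap_iff (A := B) (K := L) (algebraMap L M')).mp hW',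
      (RamBasic.dominates_comp_algebraMap_iff (A := B) (K := L) (algebraMap L Ω)).mp hO]
  obtain ⟨Λ, _, f₁, f₂, W, hf, h₁, h₂, -⟩ := RamAmalgam.exists_amalgam W' O hcomap
  have hrange : ∀ x : M', ∃ y : Ω, f₂ y = f₁ x := by
    intro x
    obtain ⟨p, hp0, hpx⟩ := Algebra.IsAlgebraic.isAlgebraic (R := L) x
    have hsp : (p.map (algebraMap L Ω)).Splits := IsAlgClosed.splits _
    have hp0' : p.map (algebraMap L Ω) ≠ 0 := Polynomial.map_ne_zero hp0
    obtain ⟨y, hy⟩ := hsp.mem_range_of_isRoot hp0' (i := f₂) (x := f₁ x) (by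
      rw [Polynomial.IsRoot.def, Polynomial.map_map, ← hf, Polynomial.eval_map, ← Polynomial.hom_eval₂,
        ← Polynomial.aeval_def, hpx, map_zero])
    exact ⟨y, hy⟩
  choose j hj using hrange
  let φ : M' →+* Ω :=
    { toFun := j
      map_one' := f₂.injective (by rw [hj, map_one, map_one])
      map_mul' := fun x y => f₂.injective (by rw [hj, map_mul, map_mul, hj, hj])
      map_zero' := f₂.injective (by rw [hj, map_zero, map_zero])
      map_add' := fun x y => f₂.injective (by rw [hj, map_add, map_add, hj, hj]) }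
  have hφ : f₂.comp φ = f₁ := by ext x; exact hj x
  refine ⟨φ, ?_, ?_⟩
  · ext x
    apply f₂.injective
    show f₂ (j _) = _
    rw [hj]
    exact congrArg (fun g : L →+* Λ => g x) hf
  · rw [← h₂, ValuationSubring.comap_comap, hφ, h₁]

/-- The comparison data: for a compositum `M'` of `L` and a finite normal `N ⊆ Ω`, an isomorphism of `M'` with
`L N ⊆ Ω` compatible with everything. -/
theorem exists_comparison {B K L Ω : Type u} [CommRing B] [IsDomain B] [ValuationRing B]
    [Field K] [Field L] [Field Ω] [Algebra K L] [Algebra B L] [IsFractionRing B L]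
    [Algebra L Ω] [Algebra K Ω] [IsScalarTower K L Ω] [IsAlgClosed Ω]
    (O : ValuationSubring Ω) (hO : Dominates B ((algebraMap L Ω).comp (algebraMap B L)) O)
    (N : IntermediateField K Ω) [Normal K N]
    (M : IntermediateField K Ω) (hM : M = (IsScalarTower.toAlgHom K L Ω).fieldRange ⊔ N)
    (f : N →+* M) (hf : ∀ x : N, ((f x : M) : Ω) = x)
    (M' : Type u) [Field M'] [Algebra K M'] [Algebra L M'] [Algebra N M'] [IsScalarTower K L M']
    [IsScalarTower K N M'] (hadj : Algebra.adjoin L (Set.range (algebraMap N M')) = ⊤)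
    (W' : ValuationSubring M') (hW' : Dominates B ((algebraMap L M').comp (algebraMap B L)) W') :
    ∃ (ψ : M' ≃+* M) (σ : N ≃+* N), (O.comap (algebraMap M Ω)).comap ψ.toRingHom = W' ∧
      ∀ x, ψ (algebraMap N M' x) = f (σ x) := by
  have halgM' : Algebra.IsAlgebraic L M' := by
    refine ⟨fun x => ?_⟩
    have hx : x ∈ Algebra.adjoin L (Set.range (algebraMap N M')) := by rw [hadj]; trivial
    refine IsIntegral.isAlgebraic ?_
    refine Algebra.adjoin_le (S := integralClosure L M') ?_ hx
    rintro _ ⟨y, rfl⟩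
    exact ((Algebra.IsIntegral.isIntegral (R := K) y).map (IsScalarTower.toAlgHom K N M')).tower_top
  obtain ⟨φ, hφL, hφW⟩ := exists_embedding (B := B) O hO W' hW'
  -- `φ` as a `K`-algebra map
  have hφK : ∀ x : K, φ (algebraMap K M' x) = algebraMap K Ω x := by
    intro x
    rw [IsScalarTower.algebraMap_apply K L M', IsScalarTower.algebraMap_apply K L Ω, ← hφL]
    rfl
  let τ : N →ₐ[K] Ω := { φ.comp (algebraMap N M') with
    commutes' := fun x => by
      show φ (algebraMap N M' (algebraMap K N x)) = _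
      rw [← IsScalarTower.algebraMap_apply K N M', hφK] }
  have hτ : τ.fieldRange = N := AlgHom.fieldRange_of_normal τ
  have hτN : ∀ x : N, τ x ∈ N := by
    intro x
    have h1 : τ x ∈ τ.fieldRange := ⟨x, rfl⟩
    exact hτ.le h1
  let σ₀ : N →+* N := (τ : N →+* Ω).codRestrict N.toSubfield.toSubring hτN
  have hσ₀ : ∀ x, ((σ₀ x : N) : Ω) = τ x := fun x => rfl
  have hσsurj : Function.Surjective σ₀ := by
    intro y
    have : (y : Ω) ∈ τ.fieldRange := by rw [hτ]; exact y.2
    obtain ⟨x, hx⟩ := this
    exact ⟨x, Subtype.ext hx⟩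
  let σ : N ≃+* N := RingEquiv.ofBijective σ₀ ⟨σ₀.injective, hσsurj⟩
  let φK : M' →ₐ[K] Ω := { φ with commutes' := hφK }
  have hφM : ∀ x : M', φ x ∈ M := by
    intro x
    have hx : x ∈ Algebra.adjoin L (Set.range (algebraMap N M')) := by rw [hadj]; trivial
    induction hx using Algebra.adjoin_induction with
    | mem y hy =>
      obtain ⟨z, rfl⟩ := hy
      rw [hM]
      have h1 : N ≤ (IsScalarTower.toAlgHom K L Ω).fieldRange ⊔ N := le_sup_right
      exact h1 (hτN z)
    | algebraMap l =>
      rw [hM]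
      have h1 : (IsScalarTower.toAlgHom K L Ω).fieldRange ≤ (IsScalarTower.toAlgHom K L Ω).fieldRange ⊔ N :=
        le_sup_left
      apply h1
      exact ⟨l, congrArg (fun g : L →+* Ω => g l) hφL.symm⟩
    | add x y _ _ hx hy => rw [map_add]; exact add_mem hx hy
    | mul x y _ _ hx hy => rw [map_mul]; exact mul_mem hx hy
  have hMφ : M ≤ φK.fieldRange := by
    rw [hM]
    refine sup_le ?_ ?_
    · rintro _ ⟨l, rfl⟩
      exact ⟨algebraMap L M' l, congrArg (fun g : L →+* Ω => g l) hφL⟩
    · intro y hy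
      rw [← hτ] at hy
      obtain ⟨x, hx⟩ := hy
      exact ⟨algebraMap N M' x, hx⟩
  let ψ₀ : M' →+* M := φ.codRestrict M.toSubfield.toSubring hφM
  have hψ₀ : ∀ x, ((ψ₀ x : M) : Ω) = φ x := fun x => rfl
  have hψsurj : Function.Surjective ψ₀ := by
    intro y
    obtain ⟨x, hx⟩ := hMφ y.2
    exact ⟨x, Subtype.ext hx⟩
  let ψ : M' ≃+* M := RingEquiv.ofBijective ψ₀ ⟨ψ₀.injective, hψsurj⟩
  refine ⟨ψ, σ, ?_, ?_⟩
  · rw [← hφW, ValuationSubring.comap_comap]
    rfl
  · intro x
    apply Subtype.ext
    rw [hf]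
    rfl

/-- weak version -/
theorem isWeakSolution_of_normal {B K L Ω : Type u} [CommRing B] [IsDomain B] [IsDiscreteValuationRing B]
    [Field K] [Field L] [Field Ω] [Algebra K L] [Algebra B L] [IsFractionRing B L]
    [Algebra L Ω] [Algebra K Ω] [IsScalarTower K L Ω] [IsAlgClosed Ω]
    (O : ValuationSubring Ω) (hO : Dominates B ((algebraMap L Ω).comp (algebraMap B L)) O)
    (N : IntermediateField K Ω) [Normal K N]
    (M : IntermediateField K Ω) (hM : M = (IsScalarTower.toAlgHom K L Ω).fieldRange ⊔ N)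
    (f : N →+* M) (hf : ∀ x : N, ((f x : M) : Ω) = x)
    (hw : letI : Algebra ((O.comap (algebraMap M Ω)).comap f) (O.comap (algebraMap M Ω)) :=
        (inclOfComap (O.comap (algebraMap M Ω)) f).toAlgebra
      IsWeaklyUnramified ((O.comap (algebraMap M Ω)).comap f) (O.comap (algebraMap M Ω))) :
    IsWeakSolution B K L N := by
  intro M' _ _ _ _ _ _ hadj W' hW'
  obtain ⟨ψ, σ, hψW, hψσ⟩ := exists_comparison O hO N M hM f hf M' hadj W' hW'
  rw [RamWeak.isWeaklyUnramified_incl_iff] at hw ⊢
  intro x hx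
  have h1 : (O.comap (algebraMap M Ω)).valuation (ψ x) < 1 := by
    rw [← hψW, RamBasic.valuation_comap_lt_one_iff] at hx
    exact hx
  obtain ⟨a, ha, hxa⟩ := hw (ψ x) h1
  refine ⟨σ.symm a, ?_, ?_⟩
  · rw [← hψW, RamBasic.valuation_comap_lt_one_iff]
    show (O.comap (algebraMap M Ω)).valuation (ψ (algebraMap N M' (σ.symm a))) < 1
    rw [hψσ, σ.apply_symm_apply]
    exact ha
  · rw [← hψW, RamBasic.valuation_comap_le_iff]
    show (O.comap (algebraMap M Ω)).valuation (ψ x) ≤ (O.comap (algebraMap M Ω)).valuation (ψ (algebraMap N M' (σ.symm a)))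
    rw [hψσ, σ.apply_symm_apply]
    exact hxa

/-- A finite normal subextension `N` of the algebraically closed valued field `(Ω, O)` such that `O ∩ N → O ∩ L N`
is weakly unramified with geometrically reduced residue field extension is a solution. -/
theorem isSolution_of_normal {B K L Ω : Type u} [CommRing B] [IsDomain B] [IsDiscreteValuationRing B]
    [Field K] [Field L] [Field Ω] [Algebra K L] [Algebra B L] [IsFractionRing B L]
    [Algebra L Ω] [Algebra K Ω] [IsScalarTower K L Ω] [IsAlgClosed Ω]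
    (O : ValuationSubring Ω) (hO : Dominates B ((algebraMap L Ω).comp (algebraMap B L)) O)
    (N : IntermediateField K Ω) [FiniteDimensional K N] [Normal K N]
    (M : IntermediateField K Ω) (hM : M = (IsScalarTower.toAlgHom K L Ω).fieldRange ⊔ N)
    (f : N →+* M) (hf : ∀ x : N, ((f x : M) : Ω) = x)
    (hw : letI : Algebra ((O.comap (algebraMap M Ω)).comap f) (O.comap (algebraMap M Ω)) :=
        (inclOfComap (O.comap (algebraMap M Ω)) f).toAlgebra
      IsWeaklyUnramified ((O.comap (algebraMap M Ω)).comap f) (O.comap (algebraMap M Ω)))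
    (hg : @Algebra.IsGeometricallyReduced (ResidueField ((O.comap (algebraMap M Ω)).comap f))
      (ResidueField (O.comap (algebraMap M Ω))) _ _
      (ResidueField.map (inclOfComap (O.comap (algebraMap M Ω)) f)).toAlgebra) :
    IsSolution B K L N := by
  have hweak := isWeakSolution_of_normal O hO N M hM f hf hw
  intro M' _ _ _ _ _ _ hadj W' hW'
  refine ⟨hweak M' hadj W' hW', ?_⟩
  obtain ⟨ψ, σ, hψW, hψσ⟩ := exists_comparison O hO N M hM f hf M' hadj W' hW'
  subst hψW
  let P : ValuationSubring M := O.comap (algebraMap M Ω)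
  let R₁ := ((P.comap ψ.toRingHom).comap (algebraMap N M'))
  let R₂ := P.comap f
  have hmem : ∀ x : N, x ∈ R₁ ↔ σ x ∈ R₂ := by
    intro x
    show ψ (algebraMap N M' x) ∈ P ↔ f (σ x) ∈ P
    rw [hψσ]
  let ε : R₁ ≃+* R₂ :=
    { toFun := fun x => ⟨σ x, (hmem x).mp x.2⟩
      invFun := fun y => ⟨σ.symm y, (hmem _).mpr (by rw [σ.apply_symm_apply]; exact y.2)⟩
      left_inv := fun x => Subtype.ext (σ.symm_apply_apply _)
      right_inv := fun y => Subtype.ext (σ.apply_symm_apply _)
      map_mul' := fun x y => Subtype.ext (map_mul σ _ _)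
      map_add' := fun x y => Subtype.ext (map_add σ _ _) }
  let _ : Algebra (ResidueField R₁) (ResidueField (P.comap ψ.toRingHom)) :=
    (ResidueField.map (inclOfComap (P.comap ψ.toRingHom) (algebraMap N M'))).toAlgebra
  let _ : Algebra (ResidueField R₂) (ResidueField P) := (ResidueField.map (inclOfComap P f)).toAlgebra
  refine geomReduced_of_hom (ResidueField.mapEquiv ε) (ResidueField.map (inclOfComap P ψ.toRingHom)) ?_ hg
  intro z
  obtain ⟨x, rfl⟩ := residue_surjective z
  show ResidueField.map (inclOfComap P ψ.toRingHom) (ResidueField.map (inclOfComap (P.comap ψ.toRingHom)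
    (algebraMap N M')) (residue _ x)) = ResidueField.map (inclOfComap P f) (ResidueField.mapEquiv ε (residue _ x))
  rw [ResidueField.map_residue, ResidueField.map_residue]
  have h2 : ResidueField.mapEquiv ε (residue _ x) = residue _ (ε x) := rfl
  rw [h2, ResidueField.map_residue]
  congr 1
  apply Subtype.ext
  exact hψσ x

end Groth.Agent.Etalg.SolNormal
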