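import Groth.Agent.Etalg.RamApp
import Mathlib.RingTheory.IntegralClosure.IntegrallyClosed

/-!
# Abhyankar's lemma for valuation subrings of composita
-/

set_option autoImplicit false
universe u

namespace Groth.Agent.Etalg.RamAbh

open Polynomial TensorProduct IsLocalRing RamRed RamKey RamKey2 RamDVR RamApp

variable {A B K L : Type u} [CommRing A] [IsDomain A] [IsDiscreteValuationRing A]
    [CommRing B] [IsDomain B] [IsDiscreteValuationRing B] [Algebra A B] [IsLocalHom (algebraMap A B)]
    [Field K] [Field L] [Algebra A K] [IsFractionRing A K] [Algebra B L] [IsFractionRing B L]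
    [Algebra K L] [Algebra A L] [IsScalarTower A K L] [IsScalarTower A B L]

omit [IsFractionRing A K] [IsFractionRing B L] in
/-- `W ∩ K₁` dominates `A`. -/
theorem dominates_comap {K₁ M : Type u} [Field K₁] [Algebra K K₁] [Field M] [Algebra K M] [Algebra L M]
    [Algebra K₁ M] [IsScalarTower K L M] [IsScalarTower K K₁ M] {W : ValuationSubring M}
    (hW : EtRam.Dominates B ((algebraMap L M).comp (algebraMap B L)) W) :
    EtRam.Dominates A ((algebraMap K K₁).comp (algebraMap A K)) (W.comap (algebraMap K₁ M)) := by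
  have hcomm : ∀ a : A, algebraMap K₁ M (algebraMap K K₁ (algebraMap A K a)) =
      algebraMap L M (algebraMap B L (algebraMap A B a)) := by
    intro a
    rw [← IsScalarTower.algebraMap_apply K K₁ M, ← IsScalarTower.algebraMap_apply A B L,
      IsScalarTower.algebraMap_apply A K L, ← IsScalarTower.algebraMap_apply K L M]
  refine ⟨fun a => ?_, fun a ha => ?_⟩
  · rw [ValuationSubring.mem_comap, RingHom.comp_apply, hcomm]
    exact hW.1 _
  · rw [comap_valuation_lt_one_iff, RingHom.comp_apply, hcomm]
    refine hW.2 _ ?_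
    rw [mem_maximalIdeal, mem_nonunits_iff] at ha ⊢
    intro h
    exact ha (isUnit_of_map_unit (algebraMap A B) _ h)

/-- Abhyankar's lemma, core version. -/
theorem core (hinj : Function.Injective (algebraMap A B))
    [Algebra.IsGeometricallyReduced (ResidueField A) (ResidueField B)]
    (he : IsUnit ((Ideal.ramificationIdx' (maximalIdeal A) (maximalIdeal B) : ℕ) : ResidueField A))
    (K₁ : Type u) [Field K₁] [Algebra K K₁] [FiniteDimensional K K₁]
    (M : Type u) [Field M] [Algebra K M] [Algebra L M] [Algebra K₁ M] [IsScalarTower K L M]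
    [IsScalarTower K K₁ M] (hadj : Algebra.adjoin L (Set.range (algebraMap K₁ M)) = ⊤)
    (W : ValuationSubring M) (hW : EtRam.Dominates B ((algebraMap L M).comp (algebraMap B L)) W)
    (V : ValuationSubring K₁) (hVdom : EtRam.Dominates A ((algebraMap K K₁).comp (algebraMap A K)) V)
    [Algebra A V] (hAV : ∀ a : A, ((algebraMap A V a : V) : K₁) = algebraMap K K₁ (algebraMap A K a))
    [Algebra V W] (hVW : ∀ x : V, ((algebraMap V W x : W) : M) = algebraMap K₁ M (x : K₁))
    [IsLocalHom (algebraMap V W)]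
    (hdvd : Ideal.ramificationIdx' (maximalIdeal A) (maximalIdeal B) ∣
      Ideal.ramificationIdx' (maximalIdeal A) (maximalIdeal V)) :
    EtRam.IsWeaklyUnramified V W ∧ Algebra.IsGeometricallyReduced (ResidueField V) (ResidueField W) := by
  have hfdM : FiniteDimensional L M := finite_of_adjoin_eq_top (K := K) (K₁ := K₁) hadj
  have hVdvr : IsDiscreteValuationRing V := isDVR_of_dominates hVdom
  have hWdvr : IsDiscreteValuationRing W := isDVR_of_dominates hW
  let algBW : Algebra B W := (RingHom.codRestrict ((algebraMap L M).comp (algebraMap B L)) W hW.1).toAlgebra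
  let algAW : Algebra A W := ((algebraMap B W).comp (algebraMap A B)).toAlgebra
  have hcomm : ∀ a : A, algebraMap K₁ M (algebraMap K K₁ (algebraMap A K a)) =
      algebraMap L M (algebraMap B L (algebraMap A B a)) := by
    intro a
    rw [← IsScalarTower.algebraMap_apply K K₁ M, ← IsScalarTower.algebraMap_apply A B L,
      IsScalarTower.algebraMap_apply A K L, ← IsScalarTower.algebraMap_apply K L M]
  have : IsScalarTower A B W := IsScalarTower.of_algebraMap_eq fun a => rfl
  have : IsScalarTower A V W := IsScalarTower.of_algebraMap_eq fun a => Subtype.ext (by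
    rw [hVW, hAV, hcomm]; rfl)
  have hlAV : IsLocalHom (algebraMap A V) := by
    have h1 := isLocalHom_codRestrict hVdom
    have h2 : RingHom.codRestrict ((algebraMap K K₁).comp (algebraMap A K)) V hVdom.1 = algebraMap A V := by
      ext a
      exact (hAV a).symm
    rwa [h2] at h1
  have hlBW : IsLocalHom (algebraMap B W) := isLocalHom_codRestrict hW
  have hinjAV : Function.Injective (algebraMap A V) := by
    intro x y hxy
    have h1 : algebraMap K K₁ (algebraMap A K x) = algebraMap K K₁ (algebraMap A K y) := by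
      rw [← hAV, ← hAV, hxy]
    exact IsFractionRing.injective A K ((algebraMap K K₁).injective h1)
  have hinjVW : Function.Injective (algebraMap V W) := by
    intro x y hxy
    have h1 : algebraMap K₁ M (x : K₁) = algebraMap K₁ M (y : K₁) := by
      rw [← hVW, ← hVW, hxy]
    exact Subtype.ext ((algebraMap K₁ M).injective h1)
  have hinjBW : Function.Injective (algebraMap B W) := by
    intro x y hxy
    have h1 : algebraMap L M (algebraMap B L x) = algebraMap L M (algebraMap B L y) := congrArg Subtype.val hxy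
    exact IsFractionRing.injective B L ((algebraMap L M).injective h1)
  have halg : Algebra.IsAlgebraic A V := by
    constructor
    intro x
    have h1 : IsAlgebraic K (x : K₁) := Algebra.IsAlgebraic.isAlgebraic (x : K₁)
    let : Algebra A K₁ := ((algebraMap K K₁).comp (algebraMap A K)).toAlgebra
    have : IsScalarTower A K K₁ := IsScalarTower.of_algebraMap_eq fun a => rfl
    have h2 : IsAlgebraic A (x : K₁) := (IsFractionRing.isAlgebraic_iff A K K₁).2 h1
    obtain ⟨p, hp0, hp⟩ := h2
    refine ⟨p, hp0, ?_⟩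
    apply Subtype.val_injective
    have h3 : ((aeval x p : V) : K₁) = aeval (x : K₁) p := by
      rw [aeval_def, aeval_def]
      have h4 : V.subtype.comp (algebraMap A V) = algebraMap A K₁ := RingHom.ext hAV
      rw [← h4]
      exact hom_eval₂ p (algebraMap A V) V.subtype x
    rw [h3, hp]; rfl
  have hresalg : Algebra.IsAlgebraic (ResidueField A) (ResidueField V) := isAlgebraic_residueField hinjAV
  obtain ⟨π, hπ⟩ := IsDiscreteValuationRing.exists_irreducible A
  obtain ⟨ρ, hρ⟩ := IsDiscreteValuationRing.exists_irreducible B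
  obtain ⟨ϖ, hϖ⟩ := IsDiscreteValuationRing.exists_irreducible V
  obtain ⟨he0, u, hu⟩ := exists_unit_ramificationIdx hinj hπ hρ
  obtain ⟨he1, v, hv⟩ := exists_unit_ramificationIdx hinjAV hπ hϖ
  set e := Ideal.ramificationIdx' (maximalIdeal A) (maximalIdeal B) with hedef
  obtain ⟨d, hd⟩ := hdvd
  rw [hd] at hv he1
  have hd0 : d ≠ 0 := right_ne_zero_of_mul he1
  have hϖW : algebraMap V W ϖ ≠ 0 := by
    rw [Ne, map_eq_zero_iff _ hinjVW]; exact hϖ.ne_zero
  have hρW : algebraMap B W ρ ≠ 0 := by
    rw [Ne, map_eq_zero_iff _ hinjBW]; exact hρ.ne_zero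
  -- `u ρ^e = v ϖ^(e d)` in `W`
  have hrel : algebraMap B W u * algebraMap B W ρ ^ e = algebraMap V W v * (algebraMap V W ϖ ^ d) ^ e := by
    rw [← map_pow, ← map_mul, ← hu, ← pow_mul, mul_comm d e, ← map_pow, ← map_mul, ← hv,
      ← IsScalarTower.algebraMap_apply, ← IsScalarTower.algebraMap_apply]
  have hdv : algebraMap V W ϖ ^ d ∣ algebraMap B W ρ := by
    rw [← IsIntegrallyClosed.pow_dvd_pow_iff he0]
    have h1 : (algebraMap V W ϖ ^ d) ^ e ∣ algebraMap B W u * algebraMap B W ρ ^ e := by
      rw [hrel]; exact dvd_mul_left _ _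
    rwa [(u.isUnit.map (algebraMap B W)).dvd_mul_left] at h1
  obtain ⟨ω, hω⟩ := hdv
  rw [mul_comm] at hω
  set c : B ⊗[A] V := ((u⁻¹ : Bˣ) : B) ⊗ₜ[A] (v : V) with hc
  have hcunit : IsUnit c := by
    refine ⟨⟨c, (u : B) ⊗ₜ[A] ((v⁻¹ : Vˣ) : V), ?_, ?_⟩, rfl⟩
    · rw [hc, Algebra.TensorProduct.tmul_mul_tmul, Units.inv_mul, Units.mul_inv, Algebra.TensorProduct.one_def]
    · rw [hc, Algebra.TensorProduct.tmul_mul_tmul, Units.mul_inv, Units.inv_mul, Algebra.TensorProduct.one_def]
  have hωe : ω ^ e = φW A B V W c := by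
    have h1 : algebraMap B W u * ω ^ e = algebraMap V W v := by
      have h2 : algebraMap B W u * ω ^ e * (algebraMap V W ϖ ^ d) ^ e =
          algebraMap V W v * (algebraMap V W ϖ ^ d) ^ e := by
        rw [← hrel, hω]; ring
      exact mul_right_cancel₀ (pow_ne_zero _ (pow_ne_zero _ hϖW)) h2
    have h3 : φW A B V W c = algebraMap B W ((u⁻¹ : Bˣ) : B) * algebraMap V W v := rfl
    rw [h3, ← h1, ← mul_assoc, ← map_mul, Units.inv_mul, map_one, one_mul]
  have hfrac : ∀ w : W, ∃ a ∈ (φW A B V W).range, a ≠ 0 ∧ a * w ∈ (φW A B V W).range := by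
    have key : ∀ m : M, ∃ a ∈ (φW A B V W).range, a ≠ 0 ∧ ∃ b ∈ (φW A B V W).range, (a : M) * m = b := by
      intro m
      have hm : m ∈ Algebra.adjoin L (Set.range (algebraMap K₁ M)) := by rw [hadj]; trivial
      refine Algebra.adjoin_induction (p := fun m _ => ∃ a ∈ (φW A B V W).range, a ≠ 0 ∧
        ∃ b ∈ (φW A B V W).range, (a : M) * m = b) ?_ ?_ ?_ ?_ hm
      · rintro _ ⟨x, rfl⟩
        obtain ⟨a, b, hb, rfl⟩ := IsFractionRing.div_surjective (A := V) x
        have hb0 : b ≠ 0 := nonZeroDivisors.ne_zero hb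
        refine ⟨φW A B V W (1 ⊗ₜ b), ⟨_, rfl⟩, ?_, φW A B V W (1 ⊗ₜ a), ⟨_, rfl⟩, ?_⟩
        · have : φW A B V W (1 ⊗ₜ b) = algebraMap V W b := by simp [φW]
          rw [this, Ne, map_eq_zero_iff _ hinjVW]; exact hb0
        · have h1 : φW A B V W (1 ⊗ₜ b) = algebraMap V W b := by simp [φW]
          have h2 : φW A B V W (1 ⊗ₜ a) = algebraMap V W a := by simp [φW]
          rw [h1, h2]
          rw [hVW, hVW]
          change algebraMap K₁ M (b : K₁) * algebraMap K₁ M ((a : K₁) / (b : K₁)) = algebraMap K₁ M (a : K₁)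
          rw [← map_mul, mul_div_cancel₀]
          intro h
          exact hb0 (Subtype.ext h)
      · intro x
        obtain ⟨a, b, hb, rfl⟩ := IsFractionRing.div_surjective (A := B) x
        have hb0 : b ≠ 0 := nonZeroDivisors.ne_zero hb
        refine ⟨φW A B V W (b ⊗ₜ 1), ⟨_, rfl⟩, ?_, φW A B V W (a ⊗ₜ 1), ⟨_, rfl⟩, ?_⟩
        · have : φW A B V W (b ⊗ₜ 1) = algebraMap B W b := by simp [φW]
          rw [this, Ne, map_eq_zero_iff _ hinjBW]; exact hb0
        · have h1 : φW A B V W (b ⊗ₜ 1) = algebraMap B W b := by simp [φW]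
          have h2 : φW A B V W (a ⊗ₜ 1) = algebraMap B W a := by simp [φW]
          rw [h1, h2]
          change algebraMap L M (algebraMap B L b) * algebraMap L M (algebraMap B L a / algebraMap B L b) =
            algebraMap L M (algebraMap B L a)
          rw [← map_mul, mul_div_cancel₀]
          rwa [Ne, map_eq_zero_iff _ (IsFractionRing.injective B L)]
      · rintro x y _ _ ⟨a, ha, ha0, b, hb, hab⟩ ⟨a', ha', ha0', b', hb', hab'⟩
        refine ⟨a * a', mul_mem ha ha', mul_ne_zero ha0 ha0', a' * b + a * b',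
          add_mem (mul_mem ha' hb) (mul_mem ha hb'), ?_⟩
        push_cast
        rw [← hab, ← hab']; ring
      · rintro x y _ _ ⟨a, ha, ha0, b, hb, hab⟩ ⟨a', ha', ha0', b', hb', hab'⟩
        refine ⟨a * a', mul_mem ha ha', mul_ne_zero ha0 ha0', b * b', mul_mem hb hb', ?_⟩
        push_cast
        rw [← hab, ← hab']; ring
    intro w
    obtain ⟨a, ha, ha0, b, hb, hab⟩ := key (w : M)
    refine ⟨a, ha, ha0, ?_⟩
    have : a * w = b := Subtype.ext hab
    rwa [this]
  refine ⟨?_, ?_⟩
  · have := (main_unif ρ hρ.maximalIdeal_eq ϖ hϖ.maximalIdeal_eq hϖW e d he hd0 c (hcunit.map _) ω hω hωe hfrac).1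
    unfold EtRam.IsWeaklyUnramified
    rw [hϖ.maximalIdeal_eq, Ideal.map_span, Set.image_singleton]
    exact this
  · exact main_geom ρ hρ.maximalIdeal_eq ϖ hϖ.maximalIdeal_eq hϖW e d he hd0 c (hcunit.map _) ω hω hωe hfrac

/-- comparison of the two algebra structures on the residue field -/
theorem geomReduced_map {V W : Type*} [CommRing V] [IsLocalRing V] [CommRing W] [IsLocalRing W] [Algebra V W]
    [IsLocalHom (algebraMap V W)] (h : Algebra.IsGeometricallyReduced (ResidueField V) (ResidueField W)) :
    @Algebra.IsGeometricallyReduced (ResidueField V) (ResidueField W) _ _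
      (ResidueField.map (algebraMap V W)).toAlgebra := by
  have : (ResidueField.map (algebraMap V W)).toAlgebra =
      (inferInstance : Algebra (ResidueField V) (ResidueField W)) := by
    refine Algebra.algebra_ext _ _ fun r => ?_
    obtain ⟨r, rfl⟩ := residue_surjective r
    rfl
  rw [this]
  exact h

end Groth.Agent.Etalg.RamAbh
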