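import Groth.Agent.Etalg.EppVal
import Groth.Agent.Etalg.PerfHull
import Groth.Agent.Etalg.SolNormal
import Groth.Agent.Etalg.SepSol2
import Groth.Agent.S1983

/-!
# Epp's theorem: stability of the class `Pair`
-/

set_option autoImplicit false
universe u

namespace Groth.Agent.Etalg.EppUp

open Polynomial EppFrame EppVal IsLocalRing

section Fin

variable {Ω : Type u} [NormedField Ω]

theorem adjoin_eq {A B : Subfield Ω} {S : Finset Ω} (hB : B = A ⊔ Subfield.closure (S : Set Ω)) :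
    ((IntermediateField.adjoin A (S : Set Ω) : IntermediateField A Ω) : Set Ω) = (B : Set Ω) := by
  apply le_antisymm
  · intro x hx
    have h1 : (IntermediateField.adjoin A (S : Set Ω)).toSubfield ≤ B := by
      show Subfield.closure (Set.range (algebraMap A Ω) ∪ (S : Set Ω)) ≤ B
      rw [Subfield.closure_le, hB]
      rintro y (⟨a, rfl⟩ | hy)
      · exact (le_sup_left : A ≤ A ⊔ Subfield.closure (S : Set Ω)) a.2
      · exact (le_sup_right : Subfield.closure (S : Set Ω) ≤ A ⊔ Subfield.closure (S : Set Ω))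
          (Subfield.subset_closure hy)
    exact h1 hx
  · intro x hx
    have h1 : B ≤ (IntermediateField.adjoin A (S : Set Ω)).toSubfield := by
      rw [hB]
      refine sup_le ?_ ?_
      · intro a ha
        exact (IntermediateField.adjoin A (S : Set Ω)).algebraMap_mem ⟨a, ha⟩
      · rw [Subfield.closure_le]
        exact IntermediateField.subset_adjoin A _
    exact h1 hx

/-- `FinExt` gives a finite dimensional extension -/
theorem finiteDimensional_of_finExt {A B : Subfield Ω} (h : FinExt A B) :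
    letI : Algebra A B := (Subfield.inclusion h.le).toAlgebra
    FiniteDimensional A B := by
  let _ : Algebra A B := (Subfield.inclusion h.le).toAlgebra
  obtain ⟨S, hS, hB⟩ := h
  have hfd : FiniteDimensional A (IntermediateField.adjoin A (S : Set Ω)) :=
    IntermediateField.finiteDimensional_adjoin (fun x hx => (hS x hx).isIntegral)
  have hset := adjoin_eq hB
  let f : B →ₗ[A] (IntermediateField.adjoin A (S : Set Ω)) :=
    { toFun := fun x => ⟨x, by
        have : (x : Ω) ∈ (B : Set Ω) := x.2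
        rw [← hset] at this
        exact this⟩
      map_add' := fun x y => rfl
      map_smul' := fun a x => rfl }
  have hf : Function.Injective f := by
    intro x y hxy
    exact Subtype.ext (congrArg (fun z : (IntermediateField.adjoin A (S : Set Ω)) => (z : Ω)) hxy)
  exact FiniteDimensional.of_injective f hf

/-- a finite extension of a complete nontrivially valued subfield is complete -/
theorem complete_of_finExt {F F₁ : Subfield Ω} (hF : IsComplete (F : Set Ω))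
    (h0 : ∃ π ∈ F, 0 < ‖π‖ ∧ ‖π‖ < 1) (h : FinExt F F₁) : IsComplete (F₁ : Set Ω) := by
  obtain ⟨π, hπF, hπ0, hπ1⟩ := h0
  obtain ⟨S, hS, hB⟩ := h
  have hfd : FiniteDimensional F (IntermediateField.adjoin F (S : Set Ω)) :=
    IntermediateField.finiteDimensional_adjoin (fun x hx => (hS x hx).isIntegral)
  rw [← adjoin_eq hB]
  let _ : NontriviallyNormedField F :=
    { (inferInstance : NormedField F) with
      non_trivial := by
        refine ⟨⟨π⁻¹, F.inv_mem hπF⟩, ?_⟩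
        show 1 < ‖π⁻¹‖
        rw [norm_inv]
        exact (one_lt_inv₀ hπ0).mpr hπ1 }
  have hc : CompleteSpace F := (completeSpace_coe_iff_isComplete (s := (F : Set Ω))).mpr hF
  have hfd' : FiniteDimensional F (IntermediateField.adjoin F (S : Set Ω)).toSubalgebra.toSubmodule := hfd
  exact Submodule.complete_of_finiteDimensional (𝕜 := F)
    (IntermediateField.adjoin F (S : Set Ω)).toSubalgebra.toSubmodule

end Fin

section Residue

variable {Ω : Type u} [NormedField Ω] [IsUltrametricDist Ω]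

/-- inclusion of valuation rings -/
def inc {A B : Subfield Ω} (h : A ≤ B) : VA A →+* VA B where
  toFun x := ⟨⟨((x : A) : Ω), h (x : A).2⟩, x.2⟩
  map_one' := rfl
  map_mul' _ _ := rfl
  map_zero' := rfl
  map_add' _ _ := rfl

theorem coe_inc {A B : Subfield Ω} (h : A ≤ B) (x : VA A) : (((inc h x : VA B) : B) : Ω) = ((x : A) : Ω) := rfl

instance isLocalHom_inc {A B : Subfield Ω} (h : A ≤ B) : IsLocalHom (inc h) := by
  refine ⟨fun x hx => ?_⟩
  by_contra hcon
  have h1 : x ∈ maximalIdeal (VA A) := hcon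
  rw [mem_maximalIdeal_VA] at h1
  have h2 : inc h x ∈ maximalIdeal (VA B) := by
    rw [mem_maximalIdeal_VA, coe_inc]; exact h1
  exact h2 hx

theorem residue_eq_zero {A : Subfield Ω} (x : VA A) : residue (VA A) x = 0 ↔ ‖((x : A) : Ω)‖ < 1 := by
  rw [residue_eq_zero_iff, mem_maximalIdeal_VA]

theorem alg_iff {A B : Subfield Ω} (h : A ≤ B) (x : VA B) :
    letI : Algebra (VA A) (VA B) := (inc h).toAlgebra
    haveI : IsLocalHom (algebraMap (VA A) (VA B)) := isLocalHom_inc h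
    (IsAlgebraic (ResidueField (VA A)) (residue (VA B) x) ↔
      ∃ f : Polynomial Ω, f.Monic ∧ (∀ i, f.coeff i ∈ A ∧ ‖f.coeff i‖ ≤ 1) ∧ ‖f.eval ((x : B) : Ω)‖ < 1) := by
  let _ : Algebra (VA A) (VA B) := (inc h).toAlgebra
  have : IsLocalHom (algebraMap (VA A) (VA B)) := isLocalHom_inc h
  let j : VA A →+* Ω := A.subtype.comp (VA A).subtype
  let jB : VA B →+* Ω := B.subtype.comp (VA B).subtype
  have hj : jB.comp (inc h) = j := rfl
  have heval : ∀ g : (VA A)[X], (g.map j).eval ((x : B) : Ω) = jB (aeval x g) := by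
    intro g
    rw [aeval_def, hom_eval₂, eval_map]
    rfl
  constructor
  · intro hx
    have hint : IsIntegral (ResidueField (VA A)) (residue (VA B) x) := hx.isIntegral
    obtain ⟨g, hg, -, hgm⟩ := lifts_and_degree_eq_and_monic (f := residue (VA A))
      (p := minpoly (ResidueField (VA A)) (residue (VA B) x)) (by
        rw [lifts_iff_coeff_lifts]
        intro i
        exact residue_surjective _) (minpoly.monic hint)
    refine ⟨g.map j, hgm.map j, ?_, ?_⟩
    · intro i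
      rw [coeff_map]
      exact ⟨(g.coeff i : A).2, (g.coeff i).2⟩
    · rw [heval]
      have h1 : residue (VA B) (aeval x g) = 0 := by
        have h2 : residue (VA B) (aeval x g) = aeval (residue (VA B) x) (g.map (residue (VA A))) := by
          rw [aeval_def, aeval_def, hom_eval₂, eval₂_map]
          rfl
        rw [h2, hg, minpoly.aeval]
      rw [residue_eq_zero] at h1
      exact h1
  · rintro ⟨f, hfm, hfc, hfx⟩
    obtain ⟨g, hg, -, hgm⟩ := lifts_and_degree_eq_and_monic (f := j) (p := f) (by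
        rw [lifts_iff_coeff_lifts]
        intro i
        exact ⟨⟨⟨f.coeff i, (hfc i).1⟩, (hfc i).2⟩, rfl⟩) hfm
    refine ⟨g.map (residue (VA A)), (hgm.map _).ne_zero, ?_⟩
    have h2 : aeval (residue (VA B) x) (g.map (residue (VA A))) = residue (VA B) (aeval x g) := by
      rw [aeval_def, aeval_def, hom_eval₂, eval₂_map]
      rfl
    rw [h2, residue_eq_zero]
    rw [← hg, heval] at hfx
    exact hfx

theorem charP_residue {p : ℕ} (hp : p.Prime) (hpn : ‖(p : Ω)‖ < 1) (A : Subfield Ω) :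
    CharP (ResidueField (VA A)) p := by
  have h1 : ((p : ℕ) : ResidueField (VA A)) = 0 := by
    have h2 : ((p : ℕ) : ResidueField (VA A)) = residue (VA A) ((p : ℕ) : VA A) := (map_natCast _ _).symm
    rw [h2, residue_eq_zero]
    have h3 : ((((p : ℕ) : VA A) : A) : Ω) = (p : Ω) := by
      rw [show ((((p : ℕ) : VA A) : A) : Ω) = (A.subtype.comp (VA A).subtype) (p : VA A) from rfl, map_natCast]
    rw [h3]
    exact hpn
  exact (CharP.charP_iff_prime_eq_zero hp).mpr h1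

theorem residue_pow_eq {A : Subfield Ω} (x y : VA A) (n : ℕ) :
    residue (VA A) y ^ n = residue (VA A) x ↔ ‖((y : A) : Ω) ^ n - ((x : A) : Ω)‖ < 1 := by
  rw [← map_pow, ← sub_eq_zero, ← map_sub, residue_eq_zero]
  rfl

end Residue

section Pair

variable {Ω : Type u} [NormedField Ω] [IsUltrametricDist Ω]

/-- the valuation ring of a finite extension is a DVR -/
theorem isDVR_of_finExt {A B : Subfield Ω} (h : FinExt A B) [IsDiscreteValuationRing (VA A)] :
    IsDiscreteValuationRing (VA B) := by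
  let _ : Algebra A B := (Subfield.inclusion h.le).toAlgebra
  have hfd : FiniteDimensional A B := finiteDimensional_of_finExt h
  refine RamDVR.isDVR_of_dominates (A := VA A) (K := A) (F := B) ⟨fun a => a.2, fun a ha => ?_⟩
  rw [VA_lt_one_iff]
  exact (mem_maximalIdeal_VA a).mp ha

/-- residue field of a finite extension is finite (discrete base) -/
theorem finite_residue {A B : Subfield Ω} (h : FinExt A B) [IsDiscreteValuationRing (VA A)] :
    letI : Algebra (VA A) (VA B) := (inc h.le).toAlgebra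
    haveI : IsLocalHom (algebraMap (VA A) (VA B)) := isLocalHom_inc h.le
    Module.Finite (ResidueField (VA A)) (ResidueField (VA B)) := by
  let _ : Algebra (VA A) (VA B) := (inc h.le).toAlgebra
  have : IsLocalHom (algebraMap (VA A) (VA B)) := isLocalHom_inc h.le
  let _ : Algebra A B := (Subfield.inclusion h.le).toAlgebra
  have hfd : FiniteDimensional A B := finiteDimensional_of_finExt h
  let _ : Algebra (VA A) B := ((Subfield.inclusion h.le).comp (VA A).subtype).toAlgebra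
  have t1 : IsScalarTower (VA A) A B := IsScalarTower.of_algebraMap_eq' rfl
  have t2 : IsScalarTower (VA A) (VA B) B := IsScalarTower.of_algebraMap_eq' rfl
  exact DVRExt2.finite_residue (VA A) A (VA B)

theorem norm_le_one_of_pow {y x : Ω} {n : ℕ} (hn : n ≠ 0) (hx : ‖x‖ ≤ 1) (h : ‖y ^ n - x‖ < 1) : ‖y‖ ≤ 1 := by
  have h1 : ‖y ^ n‖ ≤ 1 := by
    have h2 : y ^ n = (y ^ n - x) + x := by ring
    rw [h2]
    exact (IsUltrametricDist.norm_add_le_max _ _).trans (max_le h.le hx)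
  rw [norm_pow] at h1
  exact (pow_le_one_iff_of_nonneg (norm_nonneg _) hn).mp h1

/-- Epp's condition passes to finite extensions of `F` -/
theorem epp_of_finExt {p : ℕ} (hp : p.Prime) {E F F₁ : Subfield Ω} (h : Pair p E F) (h₁ : FinExt F F₁) :
    ∀ x ∈ F₁, ‖x‖ ≤ 1 → (∀ n : ℕ, ∃ y ∈ F₁, ‖y ^ p ^ n - x‖ < 1) →
    ∃ f : Polynomial Ω, f.Monic ∧ (∀ i, f.coeff i ∈ E ∧ ‖f.coeff i‖ ≤ 1) ∧ ‖f.eval x‖ < 1 := by
  intro x hx hx1 hxn
  obtain ⟨π, hπE, hπ⟩ := h.disc
  have hdvr : IsDiscreteValuationRing (VA F) := (isDVR_of_disc (h.le hπE) hπ).1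
  have hle : E ≤ F₁ := h.le.trans h₁.le
  let _ : Algebra (VA E) (VA F) := (inc h.le).toAlgebra
  let _ : Algebra (VA F) (VA F₁) := (inc h₁.le).toAlgebra
  let _ : Algebra (VA E) (VA F₁) := (inc hle).toAlgebra
  have l1 : IsLocalHom (algebraMap (VA E) (VA F)) := isLocalHom_inc h.le
  have l2 : IsLocalHom (algebraMap (VA F) (VA F₁)) := isLocalHom_inc h₁.le
  have l3 : IsLocalHom (algebraMap (VA E) (VA F₁)) := isLocalHom_inc hle
  have t1 : IsScalarTower (VA E) (VA F) (VA F₁) := IsScalarTower.of_algebraMap_eq' rfl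
  have hfin : Module.Finite (ResidueField (VA F)) (ResidueField (VA F₁)) := finite_residue h₁
  have hfact : Fact p.Prime := ⟨hp⟩
  have hcp : CharP (ResidueField (VA F)) p := charP_residue hp h.norm_p_lt F
  rw [← alg_iff hle (⟨⟨x, hx⟩, hx1⟩ : VA F₁)]
  apply PerfHull.isAlgebraic_of_forall_pow p (κ := ResidueField (VA F))
  · intro z hz
    obtain ⟨w, rfl⟩ := residue_surjective z
    have h2 := alg_iff h.le w
    rw [h2]
    apply h.epp _ (w : F).2 w.2
    intro n
    obtain ⟨v, hv⟩ := hz n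
    obtain ⟨v, rfl⟩ := residue_surjective v
    rw [residue_pow_eq] at hv
    exact ⟨((v : F) : Ω), (v : F).2, hv⟩
  · intro n
    obtain ⟨y, hy, hyn⟩ := hxn n
    have hy1 : ‖y‖ ≤ 1 := norm_le_one_of_pow (pow_ne_zero _ hp.ne_zero) hx1 hyn
    refine ⟨residue _ (⟨⟨y, hy⟩, hy1⟩ : VA F₁), ?_⟩
    rw [residue_pow_eq]
    exact hyn

/-- the class is stable under finite extensions of `F` not changing the value group -/
theorem pair_fin {p : ℕ} (hp : p.Prime) {E F F₁ : Subfield Ω} (h : Pair p E F) (h₁ : FinExt F F₁)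
    (h₂ : NormLe E F₁) : Pair p E F₁ := by
  obtain ⟨π, hπE, hπ0, hπ1, hd⟩ := h.disc
  refine ⟨h.le.trans h₁.le, h.completeE, complete_of_finExt h.completeF ⟨π, h.le hπE, hπ0, hπ1⟩ h₁,
    h.norm_p_lt, ⟨π, hπE, hπ0, hπ1, ?_⟩, h.perfect, epp_of_finExt hp h h₁⟩
  intro x hx hx0
  obtain ⟨y, hy, hyx⟩ := h₂ x hx
  have hy0 : y ≠ 0 := by
    intro h0
    rw [h0, norm_zero, eq_comm, norm_eq_zero] at hyx
    exact hx0 hyx
  obtain ⟨n, hn⟩ := hd y (h.le hy) hy0
  exact ⟨n, by rw [← hyx, hn]⟩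

theorem perfectField_residue {p : ℕ} (hp : p.Prime) {E : Subfield Ω} (hpn : ‖(p : Ω)‖ < 1)
    (hperf : ∀ x ∈ E, ‖x‖ ≤ 1 → ∃ y ∈ E, ‖y ^ p - x‖ < 1) : PerfectField (ResidueField (VA E)) := by
  have hfact : Fact p.Prime := ⟨hp⟩
  have hcp : CharP (ResidueField (VA E)) p := charP_residue hp hpn E
  have hexp : ExpChar (ResidueField (VA E)) p := ExpChar.prime hp
  have hs : Function.Surjective (frobenius (ResidueField (VA E)) p) := by
    intro z
    obtain ⟨w, rfl⟩ := residue_surjective z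
    obtain ⟨y, hy, hyw⟩ := hperf _ (w : E).2 w.2
    have hy1 : ‖y‖ ≤ 1 := norm_le_one_of_pow hp.ne_zero w.2 hyw
    refine ⟨residue _ (⟨⟨y, hy⟩, hy1⟩ : VA E), ?_⟩
    rw [frobenius_def, residue_pow_eq]
    exact hyw
  have : PerfectRing (ResidueField (VA E)) p := PerfectRing.ofSurjective _ p hs
  exact PerfectRing.toPerfectField _ p

/-- perfectness of the residue field passes to finite extensions -/
theorem perfect_of_finExt {p : ℕ} (hp : p.Prime) {E E₁ : Subfield Ω} (hpn : ‖(p : Ω)‖ < 1)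
    (hperf : ∀ x ∈ E, ‖x‖ ≤ 1 → ∃ y ∈ E, ‖y ^ p - x‖ < 1) (h₁ : FinExt E E₁)
    [IsDiscreteValuationRing (VA E)] : ∀ x ∈ E₁, ‖x‖ ≤ 1 → ∃ y ∈ E₁, ‖y ^ p - x‖ < 1 := by
  intro x hx hx1
  have hfact : Fact p.Prime := ⟨hp⟩
  have hcp : CharP (ResidueField (VA E₁)) p := charP_residue hp hpn E₁
  have hexp : ExpChar (ResidueField (VA E₁)) p := ExpChar.prime hp
  have hpf := perfectField_residue hp hpn hperf
  let _ : Algebra (VA E) (VA E₁) := (inc h₁.le).toAlgebra
  have l1 : IsLocalHom (algebraMap (VA E) (VA E₁)) := isLocalHom_inc h₁.le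
  have hfin : Module.Finite (ResidueField (VA E)) (ResidueField (VA E₁)) := finite_residue h₁
  have hpf1 : PerfectField (ResidueField (VA E₁)) :=
    Algebra.IsAlgebraic.perfectField (K := ResidueField (VA E)) (L := ResidueField (VA E₁))
  have hpr : PerfectRing (ResidueField (VA E₁)) p := PerfectField.toPerfectRing p
  obtain ⟨z, hz⟩ := PerfectRing.bijective_frobenius (R := ResidueField (VA E₁)) (p := p) |>.2
    (residue _ (⟨⟨x, hx⟩, hx1⟩ : VA E₁))
  obtain ⟨y, rfl⟩ := residue_surjective z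
  have hz' : residue (VA E₁) y ^ p = residue _ (⟨⟨x, hx⟩, hx1⟩ : VA E₁) := hz
  rw [residue_pow_eq] at hz'
  exact ⟨((y : E₁) : Ω), (y : E₁).2, hz'⟩

omit [IsUltrametricDist Ω] in
theorem adjoin_range_eq_top {E F E₁ : Subfield Ω} (hEF : E ≤ F) (halg : ∀ x ∈ E₁, IsAlgebraic E x) :
    letI : Algebra F ↥(F ⊔ E₁) := (Subfield.inclusion (le_sup_left : F ≤ F ⊔ E₁)).toAlgebra
    letI : Algebra E₁ ↥(F ⊔ E₁) := (Subfield.inclusion (le_sup_right : E₁ ≤ F ⊔ E₁)).toAlgebra
    Algebra.adjoin F (Set.range (algebraMap E₁ ↥(F ⊔ E₁))) = ⊤ := by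
  let _ : Algebra F ↥(F ⊔ E₁) := (Subfield.inclusion (le_sup_left : F ≤ F ⊔ E₁)).toAlgebra
  let _ : Algebra E₁ ↥(F ⊔ E₁) := (Subfield.inclusion (le_sup_right : E₁ ≤ F ⊔ E₁)).toAlgebra
  have halgF : ∀ x ∈ (E₁ : Set Ω), IsAlgebraic F x := fun x hx => isAlgebraic_mono hEF (halg x hx)
  have h1 : F ⊔ E₁ ≤ (IntermediateField.adjoin F (E₁ : Set Ω)).toSubfield := by
    refine sup_le ?_ ?_
    · intro a ha
      exact (IntermediateField.adjoin F (E₁ : Set Ω)).algebraMap_mem ⟨a, ha⟩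
    · exact IntermediateField.subset_adjoin F _
  let v : ↥(F ⊔ E₁) →ₐ[F] Ω := { (F ⊔ E₁).subtype with commutes' := fun x => rfl }
  have hv : ∀ x, v x = (x : Ω) := fun x => rfl
  have hvi : Function.Injective v := v.toRingHom.injective
  rw [eq_top_iff]
  intro m _
  have h2 : (m : Ω) ∈ (IntermediateField.adjoin F (E₁ : Set Ω)) := h1 m.2
  rw [← IntermediateField.mem_toSubalgebra, IntermediateField.adjoin_toSubalgebra_of_isAlgebraic halgF] at h2
  have h3 : v '' (Set.range (algebraMap E₁ ↥(F ⊔ E₁))) = (E₁ : Set Ω) := by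
    ext y
    constructor
    · rintro ⟨_, ⟨z, rfl⟩, rfl⟩
      exact z.2
    · intro hy
      exact ⟨_, ⟨⟨y, hy⟩, rfl⟩, rfl⟩
  rw [← h3, Algebra.adjoin_image] at h2
  obtain ⟨m', hm', hmm⟩ := h2
  have : m' = m := hvi hmm
  rw [← this]
  exact hm'

/-- the value group does not grow in `F E₁` -/
theorem bound_of_pair {p : ℕ} (hp : p.Prime) {E F E₁ : Subfield Ω} (h : Pair p E F) (h₁ : FinExt E E₁) :
    ∀ x ∈ F ⊔ E₁, ‖x‖ < 1 → ∃ a ∈ E₁, ‖a‖ < 1 ∧ ‖x‖ ≤ ‖a‖ := by
  obtain ⟨π, hπE, hπ⟩ := h.disc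
  have hπE' : Disc E π := ⟨hπ.1, hπ.2.1, fun x hx => hπ.2.2 x (h.le hx)⟩
  have hdE := isDVR_of_disc hπE hπE'
  have hdF := isDVR_of_disc (h.le hπE) hπ
  have : IsDiscreteValuationRing (VA E) := hdE.1
  have : IsDiscreteValuationRing (VA F) := hdF.1
  let _ : Algebra (VA E) (VA F) := (inc h.le).toAlgebra
  have l1 : IsLocalHom (algebraMap (VA E) (VA F)) := isLocalHom_inc h.le
  let _ : Algebra E F := (Subfield.inclusion h.le).toAlgebra
  let _ : Algebra (VA E) F := ((Subfield.inclusion h.le).comp (VA E).subtype).toAlgebra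
  have t1 : IsScalarTower (VA E) E F := IsScalarTower.of_algebraMap_eq' rfl
  have t2 : IsScalarTower (VA E) (VA F) F := IsScalarTower.of_algebraMap_eq' rfl
  let _ : Algebra E E₁ := (Subfield.inclusion h₁.le).toAlgebra
  have hfd : FiniteDimensional E E₁ := finiteDimensional_of_finExt h₁
  have hpf : PerfectField (ResidueField (VA E)) := perfectField_residue hp h.norm_p_lt h.perfect
  have hgr : Algebra.IsGeometricallyReduced (ResidueField (VA E)) (ResidueField (VA F)) :=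
    CalgC.SepField.isGeometricallyReduced_of_perfectField _ _
  have hinj : Function.Injective (algebraMap (VA E) (VA F)) := by
    intro x y hxy
    exact Subtype.ext (Subtype.ext (congrArg (fun z : VA F => ((z : F) : Ω)) hxy))
  have hw : EtRam.IsWeaklyUnramified (VA E) (VA F) := by
    show (maximalIdeal (VA E)).map (inc h.le) = maximalIdeal (VA F)
    have e1 := hdE.2 (mem_VA.mpr hπ.2.1.le)
    have e2 := hdF.2 (mem_VA.mpr hπ.2.1.le)
    rw [e1.maximalIdeal_eq, e2.maximalIdeal_eq, Ideal.map_span, Set.image_singleton]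
    rfl
  let _ : Algebra F ↥(F ⊔ E₁) := (Subfield.inclusion (le_sup_left : F ≤ F ⊔ E₁)).toAlgebra
  let _ : Algebra E₁ ↥(F ⊔ E₁) := (Subfield.inclusion (le_sup_right : E₁ ≤ F ⊔ E₁)).toAlgebra
  let _ : Algebra E ↥(F ⊔ E₁) := (Subfield.inclusion (h.le.trans le_sup_left : E ≤ F ⊔ E₁)).toAlgebra
  have t3 : IsScalarTower E F ↥(F ⊔ E₁) := IsScalarTower.of_algebraMap_eq' rfl
  have t4 : IsScalarTower E E₁ ↥(F ⊔ E₁) := IsScalarTower.of_algebraMap_eq' rfl
  have hsol := S1983.result (VA E) (VA F) E F hinj hw E₁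
  have hdom : EtRam.Dominates (VA F) ((algebraMap F ↥(F ⊔ E₁)).comp (algebraMap (VA F) F)) (VA (F ⊔ E₁)) := by
    refine ⟨fun a => a.2, fun a ha => ?_⟩
    rw [VA_lt_one_iff]
    exact (mem_maximalIdeal_VA a).mp ha
  have hW := (hsol ↥(F ⊔ E₁) (adjoin_range_eq_top h.le h₁.algebraic) (VA (F ⊔ E₁)) hdom).1
  rw [RamWeak.isWeaklyUnramified_incl_iff] at hW
  intro x hx hx1
  obtain ⟨a, ha1, hxa⟩ := hW ⟨x, hx⟩ (VA_lt_one_iff.mpr hx1)
  have ha1' := (VA_lt_one_iff (A := F ⊔ E₁)).mp ha1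
  have hxa' := (VA_le_iff (A := F ⊔ E₁)).mp hxa
  exact ⟨a, a.2, ha1', hxa'⟩

/-- going up: the class is stable under base change to finite extensions of `E` -/
theorem pair_up {p : ℕ} (hp : p.Prime) {E F E₁ : Subfield Ω} (h : Pair p E F) (h₁ : FinExt E E₁) :
    Pair p E₁ (F ⊔ E₁) := by
  obtain ⟨π, hπE, hπ⟩ := h.disc
  have hπE' : Disc E π := ⟨hπ.1, hπ.2.1, fun x hx => hπ.2.2 x (h.le hx)⟩
  have hdE : IsDiscreteValuationRing (VA E) := (isDVR_of_disc hπE hπE').1
  have hdF : IsDiscreteValuationRing (VA F) := (isDVR_of_disc (h.le hπE) hπ).1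
  have hF₁ : FinExt F (F ⊔ E₁) := FinExt.sup' h.le h₁
  have hd₁ : IsDiscreteValuationRing (VA E₁) := isDVR_of_finExt h₁
  have hdM : IsDiscreteValuationRing (VA (F ⊔ E₁)) := isDVR_of_finExt hF₁
  refine ⟨le_sup_right, complete_of_finExt h.completeE ⟨π, hπE, hπ.1, hπ.2.1⟩ h₁,
    complete_of_finExt h.completeF ⟨π, h.le hπE, hπ.1, hπ.2.1⟩ hF₁, h.norm_p_lt, ?_,
    perfect_of_finExt hp h.norm_p_lt h.perfect h₁, ?_⟩
  · obtain ⟨ϖ, hϖ⟩ := IsDiscreteValuationRing.exists_irreducible (VA E₁)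
    obtain ⟨ρ, hρ⟩ := IsDiscreteValuationRing.exists_irreducible (VA (F ⊔ E₁))
    have d1 := disc_of_irreducible hϖ
    have d2 := disc_of_irreducible hρ
    refine ⟨((ϖ : E₁) : Ω), (ϖ : E₁).2, ?_⟩
    obtain ⟨a, ha, ha1, hρa⟩ := bound_of_pair hp h h₁ _ (ρ : ↥(F ⊔ E₁)).2 d2.2.1
    have ha0 : a ≠ 0 := by
      rintro rfl
      rw [norm_zero] at hρa
      exact absurd d2.1 (not_lt.mpr hρa)
    have hle : ∀ (x : Ω), x ∈ F ⊔ E₁ → x ≠ 0 → ‖x‖ < 1 → ‖x‖ ≤ ‖(((ρ : ↥(F ⊔ E₁))) : Ω)‖ := by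
      intro x hx hx0 hx1
      have h3 : (⟨⟨x, hx⟩, mem_VA.mpr hx1.le⟩ : VA (F ⊔ E₁)) ∈ maximalIdeal (VA (F ⊔ E₁)) := by
        rw [mem_maximalIdeal_VA]; exact hx1
      rw [hρ.maximalIdeal_eq, Ideal.mem_span_singleton] at h3
      obtain ⟨c, hc⟩ := h3
      have h4 : x = (((ρ : ↥(F ⊔ E₁))) : Ω) * ((c : ↥(F ⊔ E₁)) : Ω) :=
        congrArg (fun z : VA (F ⊔ E₁) => ((z : ↥(F ⊔ E₁)) : Ω)) hc
      have h5 : ‖((c : ↥(F ⊔ E₁)) : Ω)‖ ≤ 1 := c.2
      rw [h4, norm_mul]
      exact mul_le_of_le_one_right (norm_nonneg _) h5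
    have hle' : ∀ (x : Ω), x ∈ E₁ → x ≠ 0 → ‖x‖ < 1 → ‖x‖ ≤ ‖((ϖ : E₁) : Ω)‖ := by
      intro x hx hx0 hx1
      have h3 : (⟨⟨x, hx⟩, mem_VA.mpr hx1.le⟩ : VA E₁) ∈ maximalIdeal (VA E₁) := by
        rw [mem_maximalIdeal_VA]; exact hx1
      rw [hϖ.maximalIdeal_eq, Ideal.mem_span_singleton] at h3
      obtain ⟨c, hc⟩ := h3
      have h4 : x = ((ϖ : E₁) : Ω) * ((c : E₁) : Ω) :=
        congrArg (fun z : VA E₁ => ((z : E₁) : Ω)) hc
      have h5 : ‖((c : E₁) : Ω)‖ ≤ 1 := c.2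
      rw [h4, norm_mul]
      exact mul_le_of_le_one_right (norm_nonneg _) h5
    have hϖ0 : ((ϖ : E₁) : Ω) ≠ 0 := norm_pos_iff.mp d1.1
    have heq : ‖((ϖ : E₁) : Ω)‖ = ‖(((ρ : ↥(F ⊔ E₁))) : Ω)‖ := by
      apply le_antisymm
      · exact hle _ ((le_sup_right : E₁ ≤ F ⊔ E₁) (ϖ : E₁).2) hϖ0 d1.2.1
      · exact hρa.trans (hle' a ha ha0 ha1)
    refine ⟨d1.1, d1.2.1, fun x hx hx0 => ?_⟩
    rw [heq]
    exact d2.2.2 x hx hx0
  · intro x hx hx1 hxn
    obtain ⟨f, hf, hfc, hfx⟩ := epp_of_finExt hp h hF₁ x hx hx1 hxn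
    exact ⟨f, hf, fun i => ⟨h₁.le (hfc i).1, (hfc i).2⟩, hfx⟩

end Pair

end Groth.Agent.Etalg.EppUp
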