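import Groth.Agent.Etalg.EppTower0
import Groth.Agent.Etalg.EppUp

/-!
# Epp's theorem: the degree `p` step

Purely inseparable extensions of degree `p`, and the reduction of Kummer extensions to
`‖z ^ p - 1‖ < 1`.
-/

set_option autoImplicit false
set_option linter.unusedSectionVars false
universe u

namespace Groth.Agent.Etalg.EppDeg0

open Polynomial EppFrame EppSub2 EppNorm EppTower0

variable {Ω : Type u} [NormedField Ω] [IsUltrametricDist Ω] [IsAlgClosed Ω]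

theorem norm_le_one_of_pow_le {x : Ω} {n : ℕ} (hn : n ≠ 0) (h : ‖x ^ n‖ = 1) : ‖x‖ = 1 := by
  rw [norm_pow] at h
  exact (pow_eq_one_iff_of_nonneg (norm_nonneg _) hn).mp h

/-- fierce lemma for `p`-th roots -/
theorem fierce' {p : ℕ} (hp : p.Prime) (hpn : ‖(p : Ω)‖ < 1) {F : Subfield Ω} {z : Ω}
    (hz : ‖z‖ ≤ 1) (hu : z ^ p ∈ F) (h2 : ∀ b ∈ F, 1 ≤ ‖z ^ p - b ^ p‖) :
    NormLe F (F ⊔ Subfield.closure {z}) := by
  refine fierce hp hpn hz hu (by simp) h2 (f := X ^ p - C (z ^ p)) (monic_X_pow_sub_C _ hp.ne_zero) ?_ ?_ ?_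
  · intro i
    simp only [coeff_sub, coeff_X_pow, coeff_C]
    refine F.sub_mem ?_ ?_ <;> split_ifs
    exacts [F.one_mem, F.zero_mem, hu, F.zero_mem]
  · rw [natDegree_X_pow_sub_C]
  · simp

/-- adjoining a `p`-th root of a uniformizer -/
theorem exists_root_pair {p : ℕ} (hp : p.Prime) {E F : Subfield Ω} (h : Pair p E F) :
    ∃ π ϖ : Ω, π ∈ E ∧ Disc F π ∧ ϖ ^ p = π ∧ FinExt E (E ⊔ Subfield.closure {ϖ}) ∧
      Pair p (E ⊔ Subfield.closure {ϖ}) (F ⊔ (E ⊔ Subfield.closure {ϖ})) := by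
  obtain ⟨π, hπE, hπ⟩ := h.disc
  obtain ⟨ϖ, hϖ⟩ := IsAlgClosed.exists_pow_nat_eq π hp.pos
  have h1 : FinExt E (E ⊔ Subfield.closure {ϖ}) :=
    finExt_closure (isAlgebraic_of_pow_mem hp.pos (by rw [hϖ]; exact hπE))
  exact ⟨π, ϖ, hπE, hπ, hϖ, h1, EppUp.pair_up hp h h1⟩

theorem mem_closure_self (z : Ω) (A : Subfield Ω) : z ∈ A ⊔ Subfield.closure {z} :=
  (le_sup_right : Subfield.closure {z} ≤ A ⊔ Subfield.closure {z}) (Subfield.subset_closure rfl)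

/-- The purely inseparable step of degree `p`. -/
theorem insep {p : ℕ} (hp : p.Prime) {E F : Subfield Ω} (h : Pair p E F) (h0 : (p : Ω) = 0) (z : Ω)
    (hz : z ^ p ∈ F) :
    ∃ E₁ : Subfield Ω, FinExt E E₁ ∧ NormLe E₁ (E₁ ⊔ F ⊔ Subfield.closure {z}) := by
  have : Fact p.Prime := ⟨hp⟩
  have hchar : CharP Ω p := charP_of_cast_eq_zero hp h0
  obtain ⟨π, ϖ, hπE, hπ, hϖπ, h1, hpair⟩ := exists_root_pair hp h
  set E₁ := E ⊔ Subfield.closure {ϖ} with hE₁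
  set F₁ := F ⊔ E₁ with hF₁
  have hϖE₁ : ϖ ∈ E₁ := mem_closure_self ϖ E
  have hϖF₁ : ϖ ∈ F₁ := (le_sup_right : E₁ ≤ F₁) hϖE₁
  have hπ0 := hπ.1
  have hπne : π ≠ 0 := norm_pos_iff.mp hπ0
  have hϖne : ϖ ≠ 0 := by rintro rfl; rw [zero_pow hp.ne_zero] at hϖπ; exact hπne hϖπ.symm
  have hϖpos : 0 < ‖ϖ‖ := norm_pos_iff.mpr hϖne
  have hϖn : ‖ϖ‖ ^ p = ‖π‖ := by rw [← norm_pow, hϖπ]
  have hϖ1 : ‖ϖ‖ < 1 := by
    by_contra hcon
    push Not at hcon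
    have := one_le_pow₀ (n := p) hcon
    rw [hϖn] at this
    exact absurd hπ.2.1 (not_lt.mpr this)
  -- `F₁ ^ p ⊆ F`
  have hfrob : ∀ g ∈ F₁, g ^ p ∈ F := by
    have hle : F₁ ≤ F.comap (frobenius Ω p) := by
      rw [hF₁, hE₁, sup_le_iff, sup_le_iff, Subfield.closure_le, Set.singleton_subset_iff]
      refine ⟨fun x hx ↦ F.pow_mem hx p, fun x hx ↦ F.pow_mem (h.le hx) p, ?_⟩
      change ϖ ^ p ∈ F
      rw [hϖπ]; exact h.le hπE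
    exact fun g hg ↦ hle hg
  refine ⟨E₁, h1, ?_⟩
  by_cases hzF : z ∈ F₁
  · refine hpair.normLe.mono le_rfl ?_
    rw [sup_le_iff, sup_le_iff, Subfield.closure_le, Set.singleton_subset_iff]
    exact ⟨⟨le_sup_right, le_sup_left⟩, hzF⟩
  -- distances from `z` to `F₁`
  have hdist : ∀ g ∈ F₁, ∃ n : ℤ, ‖z - g‖ = ‖ϖ‖ ^ n := by
    intro g hg
    have hne : z - g ≠ 0 := fun h ↦ hzF (by rw [sub_eq_zero.mp h]; exact hg)
    have hpow : (z - g) ^ p = z ^ p - g ^ p := sub_pow_char z g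
    have hmem : (z - g) ^ p ∈ F := by rw [hpow]; exact F.sub_mem hz (hfrob g hg)
    obtain ⟨n, hn⟩ := hπ.2.2 _ hmem (pow_ne_zero _ hne)
    refine ⟨n, ?_⟩
    refine (pow_left_inj₀ (norm_nonneg _) (by positivity) hp.ne_zero).mp ?_
    rw [← norm_pow, hn, ← hϖn, ← zpow_natCast, ← zpow_natCast, ← zpow_mul, ← zpow_mul, mul_comm]
  -- bounded below
  have hclosed : IsClosed (F₁ : Set Ω) := hpair.completeF.isClosed
  obtain ⟨ε, hε, hball⟩ : ∃ ε > 0, ∀ g ∈ F₁, ε ≤ ‖z - g‖ := by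
    have hopen : IsOpen ((F₁ : Set Ω)ᶜ) := hclosed.isOpen_compl
    obtain ⟨ε, hε, hb⟩ := Metric.isOpen_iff.mp hopen z hzF
    refine ⟨ε, hε, fun g hg ↦ ?_⟩
    by_contra hcon
    push Not at hcon
    refine hb (show g ∈ Metric.ball z ε from ?_) hg
    rw [Metric.mem_ball, dist_eq_norm, norm_sub_rev]
    exact hcon
  obtain ⟨N, hN⟩ := exists_pow_lt_of_lt_one hε hϖ1
  have hbdd : ∀ n : ℤ, (∃ g ∈ F₁, ‖z - g‖ = ‖ϖ‖ ^ n) → n ≤ N := by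
    rintro n ⟨g, hg, hgn⟩
    by_contra hcon
    push Not at hcon
    have h3 : ‖ϖ‖ ^ n < ‖ϖ‖ ^ (N : ℤ) := zpow_lt_zpow_right_of_lt_one₀ hϖpos hϖ1 hcon
    have h4 := hball g hg
    rw [hgn] at h4
    rw [zpow_natCast] at h3
    linarith
  obtain ⟨n₀, ⟨g₀, hg₀, hgn₀⟩, hmax⟩ := Int.exists_greatest_of_bdd
    (P := fun n ↦ ∃ g ∈ F₁, ‖z - g‖ = ‖ϖ‖ ^ n) ⟨N, hbdd⟩
    (by obtain ⟨n, hn⟩ := hdist 0 F₁.zero_mem; exact ⟨n, 0, F₁.zero_mem, hn⟩)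
  let z' : Ω := (z - g₀) / ϖ ^ n₀
  have hϖn₀ : ϖ ^ n₀ ≠ 0 := zpow_ne_zero _ hϖne
  have hz'1 : ‖z'‖ = 1 := by
    simp only [z']
    rw [norm_div, norm_zpow, hgn₀, div_self (by positivity)]
  have hzz' : z = g₀ + ϖ ^ n₀ * z' := by simp only [z']; field_simp; ring
  have hz'F : z' ^ p ∈ F₁ := by
    simp only [z']
    rw [div_pow, sub_pow_char z g₀]
    exact F₁.div_mem (F₁.sub_mem ((le_sup_left : F ≤ F₁) hz) (F₁.pow_mem hg₀ p))
      (F₁.pow_mem (F₁.zpow_mem hϖF₁ n₀) p)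
  have hfar : ∀ b ∈ F₁, 1 ≤ ‖z' - b‖ := by
    intro b hb
    by_contra hcon
    push Not at hcon
    have hg₁ : g₀ + ϖ ^ n₀ * b ∈ F₁ := F₁.add_mem hg₀ (F₁.mul_mem (F₁.zpow_mem hϖF₁ n₀) hb)
    obtain ⟨n, hn⟩ := hdist _ hg₁
    have h5 : ‖z - (g₀ + ϖ ^ n₀ * b)‖ < ‖ϖ‖ ^ n₀ := by
      have : z - (g₀ + ϖ ^ n₀ * b) = ϖ ^ n₀ * (z' - b) := by
        conv_lhs => rw [hzz']
        ring
      rw [this, norm_mul, norm_zpow]
      exact mul_lt_of_lt_one_right (by positivity) hcon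
    have h6 : n ≤ n₀ := hmax n ⟨_, hg₁, hn⟩
    have h7 : ‖ϖ‖ ^ n₀ ≤ ‖ϖ‖ ^ n := zpow_le_zpow_right_of_le_one₀ hϖpos hϖ1.le h6
    rw [hn] at h5
    linarith
  have hfierce : NormLe F₁ (F₁ ⊔ Subfield.closure {z'}) := by
    refine fierce' hp h.norm_p_lt hz'1.le hz'F fun b hb ↦ ?_
    rw [← sub_pow_char z' b, norm_pow]
    exact one_le_pow₀ (hfar b hb)
  refine (hpair.normLe.trans hfierce).mono le_rfl ?_
  rw [sup_le_iff, sup_le_iff, Subfield.closure_le, Set.singleton_subset_iff]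
  refine ⟨⟨(le_sup_right : E₁ ≤ F₁).trans le_sup_left, (le_sup_left : F ≤ F₁).trans le_sup_left⟩, ?_⟩
  rw [hzz']
  refine Subfield.add_mem _ ((le_sup_left : F₁ ≤ _) hg₀) (Subfield.mul_mem _ ?_ (mem_closure_self _ _))
  exact (le_sup_left : F₁ ≤ _) (F₁.zpow_mem hϖF₁ n₀)

/-- The Kummer step of degree `p`, from the case `‖z ^ p - 1‖ < 1`. -/
theorem kummer {p : ℕ} (hp : p.Prime)
    (hK : ∀ {E F : Subfield Ω}, Pair p E F → ∀ ζ ∈ E, IsPrimitiveRoot ζ p → ∀ z : Ω, z ^ p ∈ F →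
      ‖z ^ p - 1‖ < 1 →
      ∃ E₁ : Subfield Ω, FinExt E E₁ ∧ NormLe E₁ (E₁ ⊔ F ⊔ Subfield.closure {z}))
    {E F : Subfield Ω} (h : Pair p E F) {ζ : Ω} (hζE : ζ ∈ E) (hζ : IsPrimitiveRoot ζ p) (z : Ω)
    (hz : z ^ p ∈ F) :
    ∃ E₁ : Subfield Ω, FinExt E E₁ ∧ NormLe E₁ (E₁ ⊔ F ⊔ Subfield.closure {z}) := by
  by_cases hz0 : z = 0
  · subst hz0
    refine ⟨E, FinExt.refl E, h.normLe.mono le_rfl ?_⟩
    rw [sup_le_iff, sup_le_iff, Subfield.closure_le, Set.singleton_subset_iff]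
    exact ⟨⟨h.le, le_rfl⟩, F.zero_mem⟩
  obtain ⟨π, ϖ, hπE, hπ, hϖπ, h1, hpair⟩ := exists_root_pair hp h
  set E' := E ⊔ Subfield.closure {ϖ} with hE'
  set F' := F ⊔ E' with hF'
  have hϖE' : ϖ ∈ E' := mem_closure_self ϖ E
  have hϖF' : ϖ ∈ F' := (le_sup_right : E' ≤ F') hϖE'
  have hπ0 := hπ.1
  have hπne : π ≠ 0 := norm_pos_iff.mp hπ0
  have hϖne : ϖ ≠ 0 := by rintro rfl; rw [zero_pow hp.ne_zero] at hϖπ; exact hπne hϖπ.symm
  have hϖn : ‖ϖ‖ ^ p = ‖π‖ := by rw [← norm_pow, hϖπ]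
  obtain ⟨n, hn⟩ := hπ.2.2 _ hz (pow_ne_zero _ hz0)
  let z' : Ω := z / ϖ ^ n
  have hϖnn : ϖ ^ n ≠ 0 := zpow_ne_zero _ hϖne
  have hz'1 : ‖z'‖ = 1 := by
    refine norm_le_one_of_pow_le hp.ne_zero ?_
    simp only [z']
    rw [div_pow, norm_div, hn, norm_pow, norm_zpow, ← hϖn, ← zpow_natCast, ← zpow_natCast, ← zpow_mul,
      ← zpow_mul, mul_comm, div_self]
    exact zpow_ne_zero _ (norm_ne_zero_iff.mpr hϖne)
  have hzz' : z = ϖ ^ n * z' := by simp only [z']; field_simp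
  have hz'F : z' ^ p ∈ F' := by
    simp only [z']
    rw [div_pow]
    exact F'.div_mem ((le_sup_left : F ≤ F') hz) (F'.pow_mem (F'.zpow_mem hϖF' n) p)
  by_cases hb : ∀ b ∈ F', 1 ≤ ‖z' ^ p - b ^ p‖
  · have hf := fierce' hp h.norm_p_lt hz'1.le hz'F hb
    refine ⟨E', h1, (hpair.normLe.trans hf).mono le_rfl ?_⟩
    rw [sup_le_iff, sup_le_iff, Subfield.closure_le, Set.singleton_subset_iff]
    refine ⟨⟨(le_sup_right : E' ≤ F').trans le_sup_left, (le_sup_left : F ≤ F').trans le_sup_left⟩, ?_⟩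
    rw [hzz']
    exact Subfield.mul_mem _ ((le_sup_left : F' ≤ _) (F'.zpow_mem hϖF' n)) (mem_closure_self _ _)
  · push Not at hb
    obtain ⟨b, hbF, hb⟩ := hb
    have hbp : ‖b ^ p‖ = 1 := by
      have h3 : ‖z' ^ p‖ = 1 := by rw [norm_pow, hz'1, one_pow]
      have h4 : b ^ p = z' ^ p - (z' ^ p - b ^ p) := by ring
      refine le_antisymm ?_ ?_
      · rw [h4]
        exact (norm_sub_le_max _ _).trans (max_le h3.le hb.le)
      · by_contra hcon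
        push Not at hcon
        have h5 : ‖z' ^ p‖ < 1 := by
          have : z' ^ p = (z' ^ p - b ^ p) + b ^ p := by ring
          rw [this]
          exact lt_of_le_of_lt (IsUltrametricDist.norm_add_le_max _ _) (max_lt hb hcon)
        rw [h3] at h5
        exact lt_irrefl _ h5
    have hb0 : b ≠ 0 := by
      rintro rfl
      rw [zero_pow hp.ne_zero, norm_zero] at hbp
      exact zero_ne_one hbp
    let z'' : Ω := z' / b
    have hz''F : z'' ^ p ∈ F' := by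
      simp only [z'']
      rw [div_pow]
      exact F'.div_mem hz'F (F'.pow_mem hbF p)
    have hz''1 : ‖z'' ^ p - 1‖ < 1 := by
      have : z'' ^ p - 1 = (z' ^ p - b ^ p) / b ^ p := by
        simp only [z'']
        rw [div_pow, sub_div, div_self (pow_ne_zero _ hb0)]
      rw [this, norm_div, hbp, div_one]
      exact hb
    obtain ⟨E₁, hE₁, hE₁z⟩ := hK hpair ζ (h1.le hζE) hζ z'' hz''F hz''1
    refine ⟨E₁, h1.trans hE₁, hE₁z.mono le_rfl ?_⟩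
    rw [sup_le_iff, sup_le_iff, Subfield.closure_le, Set.singleton_subset_iff]
    have hF'le : F' ≤ E₁ ⊔ F' ⊔ Subfield.closure {z''} := le_sup_right.trans le_sup_left
    refine ⟨⟨le_sup_left.trans le_sup_left, (le_sup_left : F ≤ F').trans hF'le⟩, ?_⟩
    have h6 : z = ϖ ^ n * b * z'' := by
      rw [hzz']; simp only [z'']; field_simp
    rw [h6]
    exact Subfield.mul_mem _ (hF'le (F'.mul_mem (F'.zpow_mem hϖF' n) hbF)) (mem_closure_self _ _)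

/-- **degree `p` step** from the two core statements. -/
theorem degree_p {p : ℕ} (hp : p.Prime)
    (hAS : ∀ {E F : Subfield Ω}, Pair p E F → (p : Ω) = 0 → ∀ z : Ω, z ^ p - z ∈ F →
      ∃ E₁ : Subfield Ω, FinExt E E₁ ∧ NormLe E₁ (E₁ ⊔ F ⊔ Subfield.closure {z}))
    (hK : ∀ {E F : Subfield Ω}, Pair p E F → ∀ ζ ∈ E, IsPrimitiveRoot ζ p → ∀ z : Ω, z ^ p ∈ F →
      ‖z ^ p - 1‖ < 1 →
      ∃ E₁ : Subfield Ω, FinExt E E₁ ∧ NormLe E₁ (E₁ ⊔ F ⊔ Subfield.closure {z}))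
    {E F : Subfield Ω} (h : Pair p E F) (z : Ω)
    (hz : (z ^ p ∈ F ∧ ((p : Ω) = 0 ∨ ∃ ζ ∈ E, IsPrimitiveRoot ζ p)) ∨ ((p : Ω) = 0 ∧ z ^ p - z ∈ F)) :
    ∃ E₁ : Subfield Ω, FinExt E E₁ ∧ NormLe E₁ (E₁ ⊔ F ⊔ Subfield.closure {z}) := by
  rcases hz with ⟨hz, h0 | ⟨ζ, hζE, hζ⟩⟩ | ⟨h0, hz⟩
  · exact insep hp h h0 z hz
  · exact kummer hp hK h hζE hζ z hz
  · exact hAS h h0 z hz

/-- **The dévissage** from the two core statements. -/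
theorem tower {p : ℕ} (hp : p.Prime)
    (hAS : ∀ {E F : Subfield Ω}, Pair p E F → (p : Ω) = 0 → ∀ z : Ω, z ^ p - z ∈ F →
      ∃ E₁ : Subfield Ω, FinExt E E₁ ∧ NormLe E₁ (E₁ ⊔ F ⊔ Subfield.closure {z}))
    (hK : ∀ {E F : Subfield Ω}, Pair p E F → ∀ ζ ∈ E, IsPrimitiveRoot ζ p → ∀ z : Ω, z ^ p ∈ F →
      ‖z ^ p - 1‖ < 1 →
      ∃ E₁ : Subfield Ω, FinExt E E₁ ∧ NormLe E₁ (E₁ ⊔ F ⊔ Subfield.closure {z}))
    {E F M : Subfield Ω} (h : Pair p E F) (hM : FinExt F M) :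
    ∃ E₁ : Subfield Ω, FinExt E E₁ ∧ NormLe E₁ (E₁ ⊔ M) :=
  EppTower0.tower hp
    { complete := fun h1 h2 h3 ↦ EppUp.complete_of_finExt h1 h2 h3
      up := fun h1 h2 ↦ EppUp.pair_up hp h1 h2
      fin := fun h1 h2 h3 ↦ EppUp.pair_fin hp h1 h2 h3
      deg := fun h1 z hz ↦ degree_p hp hAS hK h1 z hz } h hM

end Groth.Agent.Etalg.EppDeg0
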