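import Mathlib.Analysis.Normed.Field.Krasner
import Mathlib.Analysis.Normed.Field.Dense
import Mathlib.RingTheory.RootsOfUnity.PrimitiveRoots
import Mathlib.FieldTheory.IntermediateField.Adjoin.Algebra
import Mathlib.FieldTheory.AlgebraicClosure

/-!
# Epp's theorem (Stacks 09F9): the frame

Everything happens inside one algebraically closed ultrametric normed field `Ω`; all fields are
`Subfield Ω`.

* `NormLe A B`: `|B| ⊆ |A|` (so for `A ≤ B`: the value groups agree).
* `FinExt A B`: `B` is obtained from `A` by adjoining finitely many elements algebraic over `A`.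
* `Pair p E F`: `E ≤ F` both complete, `|F| = |E|` discrete, residue characteristic `p`, residue field
  of `E` perfect, and Epp's condition: elements of `⋂ κ(F)^(p^n)` are algebraic over `κ(E)`.
-/

set_option autoImplicit false
universe u

namespace Groth.Agent.Etalg.EppFrame

open Polynomial

variable {Ω : Type u} [NormedField Ω]

/-- `|B| ⊆ |A|`. -/
def NormLe (A B : Subfield Ω) : Prop := ∀ x ∈ B, ∃ y ∈ A, ‖y‖ = ‖x‖

/-- `B` is a finite extension of `A` inside `Ω`. -/
def FinExt (A B : Subfield Ω) : Prop :=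
  ∃ S : Finset Ω, (∀ s ∈ S, IsAlgebraic A s) ∧ B = A ⊔ Subfield.closure (S : Set Ω)

/-- `A` is normal in `B` inside `Ω`: all `A`-conjugates in `Ω` of elements of `B` are in `B`. -/
def NormalIn (A B : Subfield Ω) : Prop :=
  ∀ x ∈ B, ∀ y : Ω, aeval y (minpoly A x) = 0 → y ∈ B

/-- Discreteness of the value group of `F`, with `|F*| = |π|^ℤ`. -/
def Disc (F : Subfield Ω) (π : Ω) : Prop :=
  0 < ‖π‖ ∧ ‖π‖ < 1 ∧ ∀ x ∈ F, x ≠ 0 → ∃ n : ℤ, ‖x‖ = ‖π‖ ^ n

/-- The class of pairs for which Epp's dévissage works. -/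
structure Pair (p : ℕ) (E F : Subfield Ω) : Prop where
  le : E ≤ F
  completeE : IsComplete (E : Set Ω)
  completeF : IsComplete (F : Set Ω)
  norm_p_lt : ‖(p : Ω)‖ < 1
  disc : ∃ π ∈ E, Disc F π
  perfect : ∀ x ∈ E, ‖x‖ ≤ 1 → ∃ y ∈ E, ‖y ^ p - x‖ < 1
  epp : ∀ x ∈ F, ‖x‖ ≤ 1 → (∀ n : ℕ, ∃ y ∈ F, ‖y ^ p ^ n - x‖ < 1) →
    ∃ f : Ω[X], f.Monic ∧ (∀ i, f.coeff i ∈ E ∧ ‖f.coeff i‖ ≤ 1) ∧ ‖f.eval x‖ < 1

theorem Pair.normLe {p : ℕ} {E F : Subfield Ω} (h : Pair p E F) : NormLe E F := by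
  intro x hx
  obtain ⟨π, hπ, h0, h1, hd⟩ := h.disc
  by_cases hx0 : x = 0
  · exact ⟨0, E.zero_mem, by simp [hx0]⟩
  · obtain ⟨n, hn⟩ := hd x hx hx0
    exact ⟨π ^ n, E.zpow_mem hπ n, by rw [norm_zpow, hn]⟩

section Basic

theorem NormLe.refl (A : Subfield Ω) : NormLe A A := fun x hx => ⟨x, hx, rfl⟩

theorem NormLe.trans {A B C : Subfield Ω} (h : NormLe A B) (h' : NormLe B C) : NormLe A C := by
  intro x hx
  obtain ⟨y, hy, hxy⟩ := h' x hx
  obtain ⟨z, hz, hyz⟩ := h y hy
  exact ⟨z, hz, hyz.trans hxy⟩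

theorem NormLe.mono {A A' B B' : Subfield Ω} (h : NormLe A B) (hA : A ≤ A') (hB : B' ≤ B) :
    NormLe A' B' := by
  intro x hx
  obtain ⟨y, hy, hxy⟩ := h x (hB hx)
  exact ⟨y, hA hy, hxy⟩

theorem FinExt.le {A B : Subfield Ω} (h : FinExt A B) : A ≤ B := by
  obtain ⟨S, -, rfl⟩ := h
  exact le_sup_left

theorem FinExt.refl (A : Subfield Ω) : FinExt A A := ⟨∅, by simp, by simp⟩

theorem isAlgebraic_mono {A A' : Subfield Ω} (h : A ≤ A') {x : Ω} (hx : IsAlgebraic A x) :
    IsAlgebraic A' x := by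
  let : Algebra A A' := (Subfield.inclusion h).toAlgebra
  have : IsScalarTower A A' Ω := IsScalarTower.of_algebraMap_eq fun _ => rfl
  exact hx.extendScalars (Subfield.inclusion h).injective

theorem FinExt.sup {A B : Subfield Ω} (C : Subfield Ω) (h : FinExt A B) :
    FinExt (C ⊔ A) (C ⊔ B) := by
  obtain ⟨S, hS, rfl⟩ := h
  exact ⟨S, fun s hs => isAlgebraic_mono le_sup_right (hS s hs), by rw [sup_assoc]⟩

/-- base change to a bigger field -/
theorem FinExt.sup' {A B C : Subfield Ω} (hAC : A ≤ C) (h : FinExt A B) :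
    FinExt C (C ⊔ B) := by
  have := h.sup C
  rwa [sup_eq_left.2 hAC] at this

theorem mem_closure_algebraic {A : Subfield Ω} {S : Set Ω} (hS : ∀ s ∈ S, IsAlgebraic A s) :
    ∀ x ∈ A ⊔ Subfield.closure S, IsAlgebraic A x := by
  have hmem : ∀ x, x ∈ (algebraicClosure A Ω).toSubfield ↔ IsAlgebraic A x := fun x => by
    rw [IntermediateField.mem_toSubfield, mem_algebraicClosure_iff]
  have h : A ⊔ Subfield.closure S ≤ (algebraicClosure A Ω).toSubfield := by
    rw [sup_le_iff, Subfield.closure_le]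
    constructor
    · intro x hx
      rw [hmem]
      exact (isAlgebraic_algebraMap (⟨x, hx⟩ : A) : IsAlgebraic A (algebraMap A Ω ⟨x, hx⟩))
    · intro s hs
      exact (hmem s).2 (hS s hs)
  exact fun x hx => (hmem x).1 (h hx)

theorem FinExt.algebraic {A B : Subfield Ω} (h : FinExt A B) : ∀ x ∈ B, IsAlgebraic A x := by
  obtain ⟨S, hS, rfl⟩ := h
  exact mem_closure_algebraic (fun s hs => hS s hs)

theorem isAlgebraic_trans {A B : Subfield Ω} (hAB : A ≤ B) (h : ∀ x ∈ B, IsAlgebraic A x) {x : Ω}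
    (hx : IsAlgebraic B x) : IsAlgebraic A x := by
  let : Algebra A B := (Subfield.inclusion hAB).toAlgebra
  have : IsScalarTower A B Ω := IsScalarTower.of_algebraMap_eq fun _ => rfl
  have : Algebra.IsAlgebraic A B := ⟨fun b => by
    have := h b b.2
    exact (isAlgebraic_algebraMap_iff (R := A) (S := B) (A := Ω) (algebraMap B Ω).injective).1 this⟩
  exact hx.restrictScalars A

theorem FinExt.trans {A B C : Subfield Ω} (h : FinExt A B) (h' : FinExt B C) : FinExt A C := by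
  classical
  have halg := h.algebraic
  have hle := h.le
  obtain ⟨S, hS, rfl⟩ := h
  obtain ⟨T, hT, rfl⟩ := h'
  refine ⟨S ∪ T, ?_, ?_⟩
  · intro s hs
    rcases Finset.mem_union.1 hs with hs | hs
    · exact hS s hs
    · exact isAlgebraic_trans hle halg (hT s hs)
  · rw [Finset.coe_union, Subfield.closure_union, sup_assoc]

theorem FinExt.top {A B C : Subfield Ω} (h : FinExt A C) (hAB : A ≤ B) (hBC : B ≤ C) :
    FinExt B C := by
  have := h.sup' hAB
  rwa [sup_eq_right.2 hBC] at this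

end Basic

end Groth.Agent.Etalg.EppFrame
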