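import Mathlib.FieldTheory.SeparableClosure
import Mathlib.FieldTheory.PurelyInseparable.Basic
import Mathlib.FieldTheory.Normal.Basic
import Mathlib.FieldTheory.Galois.Basic
import Mathlib.Algebra.Polynomial.Expand
import Mathlib.FieldTheory.IsAlgClosed.Basic
import Mathlib.RingTheory.Polynomial.SeparableDegree

/-!
# Finite extensions of a field generated by one element over its `p`-th powers become separable
after adjoining a `p^n`-th root
-/

set_option autoImplicit false

namespace Groth.Agent.Etalg.EppInsep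

open Polynomial IntermediateField

/-- A high enough `p`-power of an integral element is separable. -/
theorem exists_pow_isSeparable {F E : Type*} [Field F] [Field E] [Algebra F E] (p : ℕ)
    [ExpChar F p] {x : E} (hx : IsIntegral F x) :
    ∃ n : ℕ, ∀ m : ℕ, n ≤ m → IsSeparable F (x ^ p ^ m) := by
  obtain ⟨g, h1, n, h2⟩ := (minpoly.irreducible hx).hasSeparableContraction p
  have h3 : IsSeparable F (x ^ p ^ n) := by
    refine h1.of_dvd (minpoly.dvd _ _ ?_)
    have := minpoly.aeval F x
    rw [← h2, expand_aeval] at this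
    exact this
  refine ⟨n, fun m hm => ?_⟩
  obtain ⟨k, rfl⟩ := Nat.exists_eq_add_of_le hm
  have h5 : x ^ p ^ (n + k) = (x ^ p ^ n) ^ p ^ k := by rw [pow_add, pow_mul]
  rw [h5]
  generalize x ^ p ^ n = y at h3
  rw [← mem_separableClosure_iff] at h3 ⊢
  exact pow_mem h3 _

variable {Ω : Type*} [Field Ω]

/-- If every element of `E` is a `p`-th power combination with `t`, then it is a `p^n`-th power
in `E(θ)`, `θ^(p^n) = t`. -/
theorem exists_root_of_closure (p : ℕ) [ExpChar Ω p] (E : Subfield Ω) (t : Ω)
    (hE : ∀ x ∈ E, x ∈ Subfield.closure ((fun y => y ^ p) '' (E : Set Ω) ∪ {t})) (n : ℕ) (θ : Ω)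
    (hθ : θ ^ p ^ n = t) (x : Ω) (hx : x ∈ E) :
    ∃ d ∈ Subfield.closure ((E : Set Ω) ∪ {θ}), d ^ p ^ n = x := by
  -- first: `E` is generated by `p^k`-th powers and `t`
  have h1 : ∀ k : ℕ, ∀ x ∈ E, x ∈ Subfield.closure ((fun y => y ^ p ^ k) '' (E : Set Ω) ∪ {t}) := by
    intro k
    induction k with
    | zero =>
      intro x hx
      exact Subfield.subset_closure (Or.inl ⟨x, hx, by simp⟩)
    | succ k ih =>
      intro x hx
      have h2 := hE x hx
      refine (Subfield.closure_le.mpr ?_) h2
      rintro y (⟨z, hz, rfl⟩ | hy)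
      · -- `z ^ p`
        have h3 := ih z hz
        have h4 : z ^ p ∈ (Subfield.closure ((fun y => y ^ p ^ k) '' (E : Set Ω) ∪ {t})).map
            (frobenius Ω p) := ⟨z, h3, rfl⟩
        rw [RingHom.map_field_closure] at h4
        refine (Subfield.closure_le.mpr ?_) h4
        rintro _ ⟨w, (⟨v, hv, rfl⟩ | hw), rfl⟩
        · refine Subfield.subset_closure (Or.inl ⟨v, hv, ?_⟩)
          simp only [frobenius_def]
          rw [← pow_mul, ← pow_succ]
        · rw [Set.mem_singleton_iff.mp hw, frobenius_def]
          have h5 : t ∈ Subfield.closure ((fun y : Ω => y ^ p ^ (k + 1)) '' (E : Set Ω) ∪ {t}) :=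
            Subfield.subset_closure (Or.inr (Set.mem_singleton t))
          exact pow_mem h5 _
      · exact Subfield.subset_closure (Or.inr hy)
  have h2 := h1 n x hx
  have h3 : Subfield.closure ((fun y : Ω => y ^ p ^ n) '' (E : Set Ω) ∪ {t}) ≤
      (Subfield.closure ((E : Set Ω) ∪ {θ}) : Subfield Ω).map (iterateFrobenius Ω p n) := by
    rw [Subfield.closure_le]
    rintro y (⟨z, hz, rfl⟩ | hy)
    · exact ⟨z, Subfield.subset_closure (Or.inl hz), rfl⟩
    · rw [Set.mem_singleton_iff.mp hy]
      exact ⟨θ, Subfield.subset_closure (Or.inr rfl), by rw [iterateFrobenius_def, hθ]⟩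
  obtain ⟨d, hd, hdx⟩ := h3 h2
  exact ⟨d, hd, by rw [iterateFrobenius_def] at hdx; exact hdx⟩

/-- Separability descends along `p^n`-th roots. -/
theorem isSeparable_of_pow (p : ℕ) [ExpChar Ω p] (E F : Subfield Ω) (n : ℕ)
    (h : ∀ x ∈ E, ∃ d ∈ F, d ^ p ^ n = x) (a : Ω) (ha : IsSeparable E (a ^ p ^ n)) :
    IsSeparable F a := by
  have : ExpChar F p := (algebraMap F Ω).expChar (algebraMap F Ω).injective p
  choose! r hr hrp using h
  -- a separable polynomial over `F`
  let m := minpoly E (a ^ p ^ n)
  let q : F[X] := ∑ i ∈ Finset.range (m.natDegree + 1),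
    C (⟨r (m.coeff i), hr _ (m.coeff i).2⟩ : F) * X ^ i
  have hq : (q.map (iterateFrobenius F p n)).map (algebraMap F Ω) = m.map (algebraMap E Ω) := by
    ext i
    simp only [q, Polynomial.map_sum, Polynomial.map_mul, map_C, Polynomial.map_pow, map_X,
      finsetSum_coeff, coeff_C_mul, coeff_X_pow, mul_ite, mul_one, mul_zero, coeff_map]
    rw [Finset.sum_ite_eq]
    split_ifs with hi
    · rw [iterateFrobenius_def, map_pow]
      exact hrp _ (m.coeff i).2
    · rw [Finset.mem_range, not_lt] at hi
      rw [coeff_eq_zero_of_natDegree_lt (by omega), map_zero]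
  have hsep : q.Separable := by
    rw [← separable_map (iterateFrobenius F p n), ← separable_map (algebraMap F Ω), hq,
      separable_map]
    exact ha
  refine hsep.of_dvd (minpoly.dvd _ _ ?_)
  have h1 : (aeval a q) ^ p ^ n = 0 := by
    have h2 : (aeval a q) ^ p ^ n = eval (a ^ p ^ n) ((q.map (iterateFrobenius F p n)).map
        (algebraMap F Ω)) := by
      have h3 : (q.map (iterateFrobenius F p n)).map (algebraMap F Ω) =
          (q.map (algebraMap F Ω)).map (iterateFrobenius Ω p n) := by
        rw [Polynomial.map_map, Polynomial.map_map]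
        congr 1
      rw [h3, ← iterateFrobenius_def p n (aeval a q), ← iterateFrobenius_def p n a, eval_map,
        eval₂_at_apply, aeval_def, eval₂_eq_eval_map]
    rw [h2, hq, eval_map, ← aeval_def]
    exact minpoly.aeval _ _
  exact pow_eq_zero_iff (pow_ne_zero _ (expChar_pos Ω p).ne') |>.mp h1

end Groth.Agent.Etalg.EppInsep
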