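import Groth.Agent.Etalg.EppKrasner2
import Groth.Agent.Etalg.EppInsep
import Groth.Agent.Etalg.EppFrame
import Mathlib.FieldTheory.PrimitiveElement
import Mathlib.Topology.Algebra.Module.FiniteDimension

/-!
# Descent of finite extensions of a complete subfield to finite normal extensions of a dense one
-/

set_option autoImplicit false

universe u

namespace Groth.Agent.Etalg.EppDescent

open Polynomial Groth.Agent.Etalg.EppKrasner Groth.Agent.Etalg.EppKrasner2
  Groth.Agent.Etalg.EppInsep Groth.Agent.Etalg.EppFrame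

section Complete

variable {Ω : Type*} [NormedField Ω]

/-- A finite extension of a complete subfield is complete. -/
theorem completeSpace_closure_insert (F : Subfield Ω) (hc : CompleteSpace F)
    (hnt : ∃ x ∈ F, 1 < ‖x‖) (N : IntermediateField F Ω) [FiniteDimensional F N] :
    CompleteSpace N.toSubfield := by
  let _ : NontriviallyNormedField F :=
    { (inferInstance : NormedField F) with
      non_trivial := by
        obtain ⟨x, hx, hx1⟩ := hnt
        exact ⟨⟨x, hx⟩, hx1⟩ }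
  let _ : NormedAlgebra F Ω :=
    { (inferInstance : Algebra F Ω) with
      norm_smul_le := fun a x => by
        rw [Algebra.smul_def, norm_mul]
        exact le_rfl }
  have h1 : IsComplete (N.toSubmodule : Set Ω) := by
    have : FiniteDimensional F (Subalgebra.toSubmodule N.toSubalgebra) :=
      inferInstanceAs (FiniteDimensional F N)
    exact Submodule.complete_of_finiteDimensional _
  exact completeSpace_coe_iff_isComplete.mpr h1

theorem adjoin_toSubfield' (F : Subfield Ω) (S : Set Ω) :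
    (IntermediateField.adjoin F S).toSubfield = F ⊔ Subfield.closure S := by
  have h6 : Set.range (algebraMap F Ω) = (F : Set Ω) := by
    ext x
    constructor
    · rintro ⟨y, rfl⟩; exact y.2
    · intro hx; exact ⟨⟨x, hx⟩, rfl⟩
  rw [IntermediateField.adjoin_toSubfield, h6, Subfield.closure_union, Subfield.closure_eq]

end Complete

section Alg

/-- A polynomial all of whose roots are separable can be replaced by a separable one. -/
theorem exists_separable_rootSet {F Ω : Type*} [Field F] [Field Ω] [Algebra F Ω] (P : F[X])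
    (hP : P ≠ 0) (h : ∀ a ∈ P.rootSet Ω, IsSeparable F a) :
    ∃ f : F[X], f.Monic ∧ f.Separable ∧ f.rootSet Ω = P.rootSet Ω := by
  classical
  let s : Finset F[X] := (P.rootSet Ω).toFinset.image (minpoly F)
  have hint : ∀ a ∈ P.rootSet Ω, IsIntegral F a := fun a ha => (h a ha).isIntegral
  have hs : ∀ m ∈ s, ∃ a ∈ P.rootSet Ω, minpoly F a = m := by
    intro m hm
    obtain ⟨a, ha, rfl⟩ := Finset.mem_image.1 hm
    exact ⟨a, Set.mem_toFinset.1 ha, rfl⟩
  have hmon : (∏ m ∈ s, m).Monic := by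
    refine monic_prod_of_monic _ _ fun m hm => ?_
    obtain ⟨a, ha, rfl⟩ := hs m hm
    exact minpoly.monic (hint a ha)
  refine ⟨∏ m ∈ s, m, hmon, ?_, ?_⟩
  · refine separable_prod' ?_ ?_
    · intro x hx y hy hxy
      obtain ⟨a, ha, rfl⟩ := hs x hx
      obtain ⟨b, hb, rfl⟩ := hs y hy
      have h1 := minpoly.irreducible (hint a ha)
      have h2 := minpoly.irreducible (hint b hb)
      rw [h1.coprime_iff_not_dvd]
      intro h3
      exact hxy (eq_of_monic_of_associated (minpoly.monic (hint a ha)) (minpoly.monic (hint b hb))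
        (h1.associated_of_dvd h2 h3))
    · intro x hx
      obtain ⟨a, ha, rfl⟩ := hs x hx
      exact h a ha
  · ext x
    rw [mem_rootSet_of_ne hmon.ne_zero, map_prod, Finset.prod_eq_zero_iff]
    constructor
    · rintro ⟨m, hm, hmx⟩
      obtain ⟨a, ha, rfl⟩ := hs m hm
      rw [mem_rootSet_of_ne hP] at ha ⊢
      exact aeval_eq_zero_of_dvd_aeval_eq_zero (minpoly.dvd F a ha) hmx
    · intro hx
      exact ⟨minpoly F x, Finset.mem_image.2 ⟨x, Set.mem_toFinset.2 hx, rfl⟩, minpoly.aeval _ _⟩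

end Alg

section Frame

variable {Ω : Type u} [NormedField Ω] [IsAlgClosed Ω]

omit [IsAlgClosed Ω] in
theorem finExt_rootSet (K : Subfield Ω) (H : K[X]) :
    FinExt K (K ⊔ Subfield.closure (H.rootSet Ω)) := by
  classical
  refine ⟨(H.rootSet Ω).toFinset, ?_, by rw [Set.coe_toFinset]⟩
  intro s hs
  rw [Set.mem_toFinset, mem_rootSet] at hs
  exact ⟨H, hs.1, hs.2⟩

theorem normalIn_rootSet (K : Subfield Ω) (H : K[X]) :
    NormalIn K (K ⊔ Subfield.closure (H.rootSet Ω)) := by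
  have hsf := IntermediateField.adjoin_rootSet_isSplittingField (K := K) (p := H) (L := Ω)
        (IsAlgClosed.splits _)
  have hn : Normal K (IntermediateField.adjoin K (H.rootSet Ω)) := Normal.of_isSplittingField H
  rw [← adjoin_toSubfield']
  intro x hx y hy
  have hx' : x ∈ IntermediateField.adjoin K (H.rootSet Ω) := hx
  change y ∈ IntermediateField.adjoin K (H.rootSet Ω)
  have h1 := Normal.splits hn (⟨x, hx'⟩ : IntermediateField.adjoin K (H.rootSet Ω))
  have h2 : minpoly K (⟨x, hx'⟩ : IntermediateField.adjoin K (H.rootSet Ω)) = minpoly K x :=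
    (minpoly.algHom_eq (IntermediateField.adjoin K (H.rootSet Ω)).val
      (IntermediateField.adjoin K (H.rootSet Ω)).val.injective _).symm
  rw [h2] at h1
  have hi : IsIntegral K x := by
    have := (Normal.isIntegral hn (⟨x, hx'⟩ : IntermediateField.adjoin K (H.rootSet Ω)))
    exact this.map (IntermediateField.adjoin K (H.rootSet Ω)).val
  have h3 : y ∈ (minpoly K x).rootSet Ω := by
    rw [mem_rootSet_of_ne (minpoly.ne_zero hi)]
    exact hy
  rw [← h1.image_rootSet (IntermediateField.adjoin K (H.rootSet Ω)).val] at h3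
  obtain ⟨c, _, rfl⟩ := h3
  exact c.2

/-- `q^n`-th powers of elements of `K(θ)`, `θ^(q^n) ∈ K`, are in `K`. -/
theorem pow_mem_of_mem_closure {Ω : Type*} [Field Ω] (q : ℕ) [ExpChar Ω q] (K : Subfield Ω) (n : ℕ) (θ : Ω)
    (hθ : θ ^ q ^ n ∈ K) (x : Ω) (hx : x ∈ K ⊔ Subfield.closure {θ}) : x ^ q ^ n ∈ K := by
  have h : K ⊔ Subfield.closure {θ} ≤ K.comap (iterateFrobenius Ω q n) := by
    rw [sup_le_iff, Subfield.closure_le]
    constructor
    · intro y hy
      rw [Subfield.mem_comap, iterateFrobenius_def]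
      exact pow_mem hy _
    · rintro y hy
      rw [Set.mem_singleton_iff] at hy
      subst hy
      rw [SetLike.mem_coe, Subfield.mem_comap, iterateFrobenius_def]
      exact hθ
  have h1 := h hx
  rwa [Subfield.mem_comap, iterateFrobenius_def] at h1

/-- A polynomial over `K(θ)` has the same roots as a polynomial over `K`. -/
theorem exists_rootSet_eq {Ω : Type*} [Field Ω] (q : ℕ) [ExpChar Ω q] (K K' : Subfield Ω) (n : ℕ)
    (h : ∀ x ∈ K', x ^ q ^ n ∈ K) (g : K'[X]) (hg : g ≠ 0) :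
    ∃ G : K[X], G ≠ 0 ∧ G.rootSet Ω = g.rootSet Ω := by
  let m : K[X] := ∑ i ∈ Finset.range (g.natDegree + 1),
    C (⟨(g.coeff i : Ω) ^ q ^ n, h _ (g.coeff i).2⟩ : K) * X ^ i
  have hm : m.map (algebraMap K Ω) = (g.map (algebraMap K' Ω)).map (iterateFrobenius Ω q n) := by
    ext i
    simp only [m, Polynomial.map_sum, Polynomial.map_mul, map_C, Polynomial.map_pow, map_X,
      finsetSum_coeff, coeff_C_mul, coeff_X_pow, mul_ite, mul_one, mul_zero, coeff_map]
    rw [Finset.sum_ite_eq]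
    split_ifs with hi
    · rw [iterateFrobenius_def]
      rfl
    · rw [Finset.mem_range, not_lt] at hi
      rw [coeff_eq_zero_of_natDegree_lt (by omega), map_zero, map_zero]
  have hev : ∀ x : Ω, aeval x (expand K (q ^ n) m) = (aeval x g) ^ q ^ n := by
    intro x
    rw [expand_aeval, aeval_def, eval₂_eq_eval_map, hm, ← iterateFrobenius_def q n x, eval_map,
      eval₂_at_apply, iterateFrobenius_def, aeval_def, eval₂_eq_eval_map]
  have hq : 0 < q ^ n := pow_pos (expChar_pos Ω q) n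
  have hm0 : m ≠ 0 := by
    intro h0
    rw [h0, Polynomial.map_zero] at hm
    have h1 := (Polynomial.map_injective _ (iterateFrobenius Ω q n).injective)
      ((Polynomial.map_zero (iterateFrobenius Ω q n)).trans hm)
    have h2 := (Polynomial.map_injective _ (algebraMap K' Ω).injective)
      ((Polynomial.map_zero (algebraMap K' Ω)).trans h1)
    exact hg h2.symm
  have hG : expand K (q ^ n) m ≠ 0 := by
    rwa [Ne, expand_eq_zero hq]
  refine ⟨expand K (q ^ n) m, hG, ?_⟩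
  ext x
  rw [mem_rootSet_of_ne hG, mem_rootSet_of_ne hg, hev, pow_eq_zero_iff hq.ne']

variable [IsUltrametricDist Ω]

omit [IsAlgClosed Ω] [IsUltrametricDist Ω] in
theorem completeSpace_sup_root {Kh : Subfield Ω} (hc : IsComplete (Kh : Set Ω))
    (hnt : ∃ x ∈ Kh, 1 < ‖x‖) (θ : Ω) (hθalg : IsIntegral Kh θ) :
    CompleteSpace (Kh ⊔ Subfield.closure {θ} : Subfield Ω) := by
  have := IntermediateField.adjoin.finiteDimensional hθalg
  have h1 := completeSpace_closure_insert Kh (completeSpace_coe_iff_isComplete.mpr hc) hnt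
    (IntermediateField.adjoin Kh {θ})
  rwa [adjoin_toSubfield'] at h1

/-- Krasner approximation over `Kh(θ)` followed by descent to `K`. -/
theorem exists_descent_poly (q : ℕ) [ExpChar Ω q] {K Kh : Subfield Ω} (hKh : K ≤ Kh)
    (hc : IsComplete (Kh : Set Ω)) (hdense : (Kh : Set Ω) ⊆ closure (K : Set Ω))
    (hnt : ∃ x ∈ Kh, 1 < ‖x‖) (t : Ω) (htK : t ∈ K) (n : ℕ) (θ : Ω) (hθ : θ ^ q ^ n = t)
    (Q : (Kh ⊔ Subfield.closure {θ} : Subfield Ω)[X]) (hQ0 : Q ≠ 0)
    (hQsep : ∀ a ∈ Q.rootSet Ω, IsSeparable (Kh ⊔ Subfield.closure {θ} : Subfield Ω) a) :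
    ∃ H : K[X], Kh ⊔ Subfield.closure (H.rootSet Ω) =
      Kh ⊔ Subfield.closure {θ} ⊔ Subfield.closure (Q.rootSet Ω) := by
  have hq : 0 < q ^ n := pow_pos (expChar_pos Ω q) n
  have hθalg : IsIntegral Kh θ := by
    refine ⟨X ^ q ^ n - C (⟨t, hKh htK⟩ : Kh), monic_X_pow_sub_C _ hq.ne', ?_⟩
    rw [eval₂_sub, eval₂_X_pow, eval₂_C, hθ]
    exact sub_self t
  have hc' := completeSpace_sup_root hc hnt θ hθalg
  have hK'Kh' : K ⊔ Subfield.closure {θ} ≤ Kh ⊔ Subfield.closure {θ} := sup_le_sup_right hKh _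
  have hcl : ((Kh ⊔ Subfield.closure {θ} : Subfield Ω) : Set Ω) ⊆
      closure ((K ⊔ Subfield.closure {θ} : Subfield Ω) : Set Ω) := by
    have h1 := closure_sup_subset K Kh (K ⊔ Subfield.closure {θ}) le_sup_left hdense
    refine subset_trans ?_ h1
    rw [SetLike.coe_subset_coe]
    exact sup_le_sup_left le_sup_right _
  have hnt' : ∃ x ∈ Kh ⊔ Subfield.closure {θ}, 1 < ‖x‖ := by
    obtain ⟨x, hx, hx1⟩ := hnt
    exact ⟨x, (le_sup_left : Kh ≤ Kh ⊔ Subfield.closure {θ}) hx, hx1⟩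
  obtain ⟨f, hfm, hfs, hfR⟩ := exists_separable_rootSet Q hQ0 hQsep
  obtain ⟨g, hgm, hgs, -, hfg⟩ := exists_approx_subfield (K ⊔ Subfield.closure {θ})
    (Kh ⊔ Subfield.closure {θ}) hK'Kh' hcl hc' hnt' f hfm hfs
  obtain ⟨G, hG0, hGR⟩ := exists_rootSet_eq q K (K ⊔ Subfield.closure {θ}) n
    (fun x hx => pow_mem_of_mem_closure q K n θ (by rw [hθ]; exact htK) x hx) g hgm.ne_zero
  have hT0 : (X ^ q ^ n - C (⟨t, htK⟩ : K)) ≠ 0 := (monic_X_pow_sub_C _ hq.ne').ne_zero
  have hTR : (X ^ q ^ n - C (⟨t, htK⟩ : K)).rootSet Ω = {θ} := by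
    ext x
    rw [mem_rootSet_of_ne hT0, Set.mem_singleton_iff, map_sub, map_pow, aeval_X, aeval_C]
    change x ^ q ^ n - t = 0 ↔ _
    rw [← hθ, sub_eq_zero, ← iterateFrobenius_def, ← iterateFrobenius_def]
    exact (iterateFrobenius Ω q n).injective.eq_iff
  have hHR : (G * (X ^ q ^ n - C (⟨t, htK⟩ : K))).rootSet Ω = g.rootSet Ω ∪ {θ} := by
    ext x
    rw [← hGR, ← hTR, Set.mem_union, mem_rootSet_of_ne hG0, mem_rootSet_of_ne hT0,
      mem_rootSet_of_ne (mul_ne_zero hG0 hT0), map_mul, mul_eq_zero]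
  refine ⟨G * (X ^ q ^ n - C (⟨t, htK⟩ : K)), ?_⟩
  rw [Subfield.closure_union, Subfield.closure_union, Subfield.closure_eq] at hfg
  rw [← hfR, hfg, hHR, Subfield.closure_union, sup_assoc, sup_comm (Subfield.closure {θ})]

/-- The descent statement, in exponential characteristic `q`. -/
theorem descent (q : ℕ) [ExpChar Ω q] {K Kh E : Subfield Ω} (hKh : K ≤ Kh)
    (hc : IsComplete (Kh : Set Ω)) (hdense : (Kh : Set Ω) ⊆ closure (K : Set Ω))
    (hEK : E ≤ Kh) (hnt : ∃ x ∈ Kh, 1 < ‖x‖) (t : Ω) (htK : t ∈ K)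
    (hE : ∀ x ∈ E, x ∈ Subfield.closure ((fun y => y ^ q) '' (E : Set Ω) ∪ {t})) (htE : t ∈ E)
    {E₁ : Subfield Ω} (h₁ : FinExt E E₁) :
    ∃ K₁ E₂ : Subfield Ω, FinExt K K₁ ∧ NormalIn K K₁ ∧ FinExt E E₂ ∧ E₁ ≤ E₂ ∧
      Kh ⊔ K₁ = Kh ⊔ E₂ ∧ NormLe K₁ (Kh ⊔ K₁) := by
  classical
  obtain ⟨S, hS, rfl⟩ := h₁
  -- 1. all conjugates over `E` of the generators
  obtain ⟨P, hPmon, hSR⟩ : ∃ P : E[X], P.Monic ∧ (S : Set Ω) ⊆ P.rootSet Ω := by
    have hPmon : (∏ s ∈ S, minpoly E s).Monic :=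
      monic_prod_of_monic _ _ fun s hs => minpoly.monic (hS s hs).isIntegral
    refine ⟨∏ s ∈ S, minpoly E s, hPmon, ?_⟩
    intro s hs
    rw [mem_rootSet_of_ne hPmon.ne_zero, map_prod, Finset.prod_eq_zero_iff]
    exact ⟨s, hs, minpoly.aeval _ _⟩
  -- 2. the exponent
  have : ExpChar E q := (algebraMap E Ω).expChar (algebraMap E Ω).injective q
  obtain ⟨n, hn⟩ : ∃ n : ℕ, ∀ a ∈ P.rootSet Ω, IsSeparable E (a ^ q ^ n) := by
    have h1 : ∀ a ∈ P.rootSet Ω, ∃ n : ℕ, ∀ m : ℕ, n ≤ m → IsSeparable E (a ^ q ^ m) := by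
      intro a ha
      rw [mem_rootSet_of_ne hPmon.ne_zero] at ha
      exact exists_pow_isSeparable q ⟨P, hPmon, ha⟩
    choose! N hN using h1
    refine ⟨(P.rootSet Ω).toFinset.sup N, fun a ha => hN a ha _ ?_⟩
    exact Finset.le_sup (f := N) (Set.mem_toFinset.2 ha)
  have hq : 0 < q ^ n := pow_pos (expChar_pos Ω q) n
  -- 3. the root
  obtain ⟨θ, hθ⟩ := IsAlgClosed.exists_pow_nat_eq t hq
  -- 4. separability over `E(θ)`
  have hsep : ∀ a ∈ P.rootSet Ω, IsSeparable (Subfield.closure ((E : Set Ω) ∪ {θ}) : Subfield Ω) a := by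
    intro a ha
    exact isSeparable_of_pow q E _ n
      (fun x hx => exists_root_of_closure q E t hE n θ hθ x hx) a (hn a ha)
  -- 5. the fields `K(θ) ≤ Kh(θ)`
  have hEKh' : Subfield.closure ((E : Set Ω) ∪ {θ}) ≤ Kh ⊔ Subfield.closure {θ} := by
    rw [Subfield.closure_union, Subfield.closure_eq]
    exact sup_le_sup_right hEK _
  -- 6. a separable polynomial over `Kh(θ)` with the same roots as `P`
  obtain ⟨Q, hQ0, hQR⟩ : ∃ Q : (Kh ⊔ Subfield.closure {θ} : Subfield Ω)[X],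
      Q ≠ 0 ∧ Q.rootSet Ω = P.rootSet Ω := by
    refine ⟨P.map (Subfield.inclusion (hEK.trans le_sup_left)), (hPmon.map _).ne_zero, ?_⟩
    ext x
    rw [mem_rootSet_of_ne (hPmon.map _).ne_zero, mem_rootSet_of_ne hPmon.ne_zero, aeval_def,
      eval₂_map, aeval_def]
    exact Iff.rfl
  have hQsep : ∀ a ∈ Q.rootSet Ω, IsSeparable (Kh ⊔ Subfield.closure {θ} : Subfield Ω) a := by
    intro a ha
    rw [hQR] at ha
    have h1 := hsep a ha
    let _ : Algebra (Subfield.closure ((E : Set Ω) ∪ {θ}) : Subfield Ω)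
      (Kh ⊔ Subfield.closure {θ} : Subfield Ω) := (Subfield.inclusion hEKh').toAlgebra
    have : IsScalarTower (Subfield.closure ((E : Set Ω) ∪ {θ}) : Subfield Ω)
      (Kh ⊔ Subfield.closure {θ} : Subfield Ω) Ω :=
      IsScalarTower.of_algebraMap_eq fun _ => rfl
    exact h1.tower_top _
  -- 7. down to `K`
  obtain ⟨H, hH⟩ := exists_descent_poly q hKh hc hdense hnt t htK n θ hθ Q hQ0 hQsep
  refine ⟨K ⊔ Subfield.closure (H.rootSet Ω),
    E ⊔ Subfield.closure (({θ} : Set Ω) ∪ P.rootSet Ω), finExt_rootSet K _, normalIn_rootSet K _,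
    ?_, ?_, ?_, ?_⟩
  · refine ⟨insert θ (P.rootSet Ω).toFinset, ?_, ?_⟩
    · intro s hs
      rcases Finset.mem_insert.1 hs with rfl | hs
      · refine IsIntegral.isAlgebraic ⟨X ^ q ^ n - C (⟨t, htE⟩ : E), monic_X_pow_sub_C _ hq.ne', ?_⟩
        rw [eval₂_sub, eval₂_X_pow, eval₂_C, hθ]
        exact sub_self t
      · rw [Set.mem_toFinset, mem_rootSet] at hs
        exact ⟨P, hs.1, hs.2⟩
    · rw [Finset.coe_insert, Set.coe_toFinset, Set.insert_eq]
  · exact sup_le_sup_left (Subfield.closure_mono (hSR.trans Set.subset_union_right)) _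
  · rw [← sup_assoc, ← sup_assoc, sup_eq_left.2 hKh, sup_eq_left.2 hEK, hH, hQR,
      Subfield.closure_union, ← sup_assoc]
  · intro x hx
    exact exists_norm_eq_of_mem_closure _ (closure_sup_subset K Kh _ le_sup_left hdense hx)

/-- `K` dense in the complete `Kh`; `E ≤ Kh` complete; in char p `t ∈ K ∩ E` with `E = E^p[t]`. -/
theorem krasner_descent {p : ℕ} (hp : p.Prime) {K Kh E : Subfield Ω} (hKh : K ≤ Kh)
    (hc : IsComplete (Kh : Set Ω)) (hdense : ∀ x ∈ Kh, ∀ ε > 0, ∃ y ∈ K, ‖x - y‖ < ε)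
    (hEK : E ≤ Kh) (hE : IsComplete (E : Set Ω)) (h0 : ∃ π ∈ E, 0 < ‖π‖ ∧ ‖π‖ < 1)
    (hpn : ‖(p : Ω)‖ < 1) (t : Ω) (htK : t ∈ K)
    (ht : (p : Ω) = 0 → t ∈ E ∧ ∀ x ∈ E, ∃ y : Fin p → Ω, (∀ i, y i ∈ E) ∧ x = ∑ i, y i ^ p * t ^ (i : ℕ))
    {E₁ : Subfield Ω} (h₁ : FinExt E E₁) :
    ∃ K₁ E₂ : Subfield Ω, FinExt K K₁ ∧ NormalIn K K₁ ∧ FinExt E E₂ ∧ E₁ ≤ E₂ ∧
      Kh ⊔ K₁ = Kh ⊔ E₂ ∧ NormLe K₁ (Kh ⊔ K₁) := by
  have hdense' : (Kh : Set Ω) ⊆ closure (K : Set Ω) := by
    intro x hx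
    rw [Metric.mem_closure_iff]
    intro ε hε
    obtain ⟨y, hy, hxy⟩ := hdense x hx ε hε
    exact ⟨y, hy, by rwa [dist_eq_norm]⟩
  have hnt : ∃ x ∈ Kh, 1 < ‖x‖ := by
    obtain ⟨π, hπ, h1, h2⟩ := h0
    refine ⟨π⁻¹, Kh.inv_mem (hEK hπ), ?_⟩
    rw [norm_inv]
    exact (one_lt_inv₀ h1).2 h2
  by_cases hp0 : (p : Ω) = 0
  · have : Fact p.Prime := ⟨hp⟩
    have : CharP Ω p := by
      obtain ⟨r, hr⟩ := CharP.exists Ω
      have h1 : r ∣ p := (CharP.cast_eq_zero_iff Ω r p).1 hp0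
      rcases (Nat.dvd_prime hp).1 h1 with h2 | h2
      · subst h2
        exact absurd rfl (CharP.char_ne_one Ω 1)
      · rwa [← h2]
    have : ExpChar Ω p := ExpChar.prime hp
    clear hE
    obtain ⟨htE, hE⟩ := ht hp0
    refine descent p hKh hc hdense' hEK hnt t htK ?_ htE h₁
    intro x hx
    obtain ⟨y, hy, rfl⟩ := hE x hx
    have h3 : t ∈ Subfield.closure ((fun y : Ω => y ^ p) '' (E : Set Ω) ∪ {t}) :=
      Subfield.subset_closure (Or.inr (Set.mem_singleton t))
    exact sum_mem fun i _ => mul_mem (Subfield.subset_closure (Or.inl ⟨y i, hy i, rfl⟩))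
      (pow_mem h3 _)
  · have : CharZero Ω := by
      obtain ⟨r, hr⟩ := CharP.exists Ω
      rcases CharP.char_is_prime_or_zero Ω r with h2 | h2
      · exfalso
        -- `r` and `p` are coprime
        have h3 : Nat.Coprime p r := by
          rw [Nat.coprime_primes hp h2]
          rintro rfl
          exact hp0 (CharP.cast_eq_zero Ω p)
        have h4 : IsCoprime (p : ℤ) (r : ℤ) := Nat.isCoprime_iff_coprime.2 h3
        obtain ⟨a, b, hab⟩ := h4
        have h5 : (a : Ω) * (p : Ω) = 1 := by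
          have h6 := congrArg (Int.cast : ℤ → Ω) hab
          push_cast at h6
          rwa [CharP.cast_eq_zero Ω r, mul_zero, add_zero] at h6
        have h7 := congrArg norm h5
        rw [norm_mul, norm_one] at h7
        have h8 : ‖(a : Ω)‖ ≤ 1 := IsUltrametricDist.norm_intCast_le_one Ω a
        have h9 : ‖(a : Ω)‖ * ‖(p : Ω)‖ < 1 :=
          mul_lt_one_of_nonneg_of_lt_one_right h8 (norm_nonneg _) hpn
        exact h9.ne h7
      · subst h2
        exact CharP.charP_to_charZero Ω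
    have : ExpChar Ω 1 := ExpChar.zero
    refine descent 1 hKh hc hdense' hEK hnt 1 K.one_mem ?_ E.one_mem h₁
    intro x hx
    exact Subfield.subset_closure (Or.inl ⟨x, hx, pow_one x⟩)

end Frame

end Groth.Agent.Etalg.EppDescent
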