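import Groth.Agent.Etalg.EppFrame
import Mathlib.RingTheory.Valuation.Discrete.IsDiscreteValuationRing
import Mathlib.Analysis.Normed.Field.WithAbs
import Mathlib.Analysis.Normed.Field.Instances
import Mathlib.Analysis.Normed.Module.Completion
import Mathlib.Analysis.Normed.Unbundled.SpectralNorm
import Mathlib.FieldTheory.IsAlgClosed.AlgebraicClosure

/-!
# The completion of a discrete valuation ring and its algebraic closure as a normed field
-/

set_option autoImplicit false
universe u

namespace Groth.Agent.Etalg.EppOmega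

open Polynomial EppFrame

theorem isUltrametricDist_completion {F : Type u} [PseudoMetricSpace F] [IsUltrametricDist F] :
    IsUltrametricDist (UniformSpace.Completion F) := by
  refine ⟨fun x y z => ?_⟩
  induction x, y, z using UniformSpace.Completion.induction_on₃ with
  | hp =>
    apply isClosed_le
    · fun_prop
    · fun_prop
  | ih a b c =>
    simp only [UniformSpace.Completion.dist_eq]
    exact dist_triangle_max a b c

/-- The completion of the fraction field of a discrete valuation ring, as a normed field. -/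
theorem exists_completion (B L : Type u) [CommRing B] [IsDomain B] [IsDiscreteValuationRing B]
    [Field L] [Algebra B L] [IsFractionRing B L] :
    ∃ (C : Type u) (_ : NontriviallyNormedField C) (_ : CompleteSpace C) (_ : IsUltrametricDist C)
      (ι : L →+* C), DenseRange ι ∧ ∀ x : L, ‖ι x‖ ≤ 1 ↔ x ∈ (algebraMap B L).range := by
  let v := IsDiscreteValuationRing.maximalIdeal B
  have hb : (1 : NNReal) < 2 := by norm_num
  let a : AbsoluteValue L ℝ := v.adicAbv hb
  have ha : ∀ x : L, a x ≤ 1 ↔ x ∈ (algebraMap B L).range := by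
    intro x
    constructor
    · intro h
      have h1 : v.valuation L x ≤ 1 := by
        have h2 : (WithZeroMulInt.toNNReal (ne_zero_of_lt hb) (v.valuation L x) : ℝ) ≤ 1 := h
        rw [← NNReal.coe_one, NNReal.coe_le_coe] at h2
        exact (WithZeroMulInt.toNNReal_le_one_iff hb).1 h2
      obtain ⟨b, hb⟩ := IsDiscreteValuationRing.exists_lift_of_le_one h1
      exact ⟨b, hb⟩
    · rintro ⟨b, rfl⟩
      exact v.adicAbv_coe_le_one hb b
  let F := WithAbs a
  have hFnorm : ∀ x : F, ‖x‖ = a (WithAbs.equiv a x) := fun x => rfl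
  have hFu : IsUltrametricDist F := by
    refine IsUltrametricDist.isUltrametricDist_of_isNonarchimedean_norm ?_
    intro x y
    exact v.isNonarchimedean_adicAbv hb (WithAbs.equiv a x) (WithAbs.equiv a y)
  obtain ⟨ϖ, hϖ⟩ := IsDiscreteValuationRing.exists_irreducible B
  have hϖ0 : algebraMap B L ϖ ≠ 0 := by
    rw [Ne, FaithfulSMul.algebraMap_eq_zero_iff]; exact hϖ.ne_zero
  have haϖ : a (algebraMap B L ϖ) < 1 := by
    have := (v.adicAbv_coe_lt_one_iff (K := L) hb ϖ).2
      ((IsLocalRing.mem_maximalIdeal ϖ).2 hϖ.not_isUnit)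
    exact this
  let ι : L →+* UniformSpace.Completion F := (UniformSpace.Completion.coeRingHom (α := F)).comp
    ((WithAbs.equiv a).symm : L →+* F)
  have hι : ∀ x : L, ‖ι x‖ = a x := by
    intro x
    have h1 : ι x = (((WithAbs.equiv a).symm x : F) : UniformSpace.Completion F) := rfl
    rw [h1, UniformSpace.Completion.norm_coe, hFnorm, RingEquiv.apply_symm_apply]
  have hnt : ∃ x : UniformSpace.Completion F, 1 < ‖x‖ := by
    refine ⟨ι (algebraMap B L ϖ)⁻¹, ?_⟩
    rw [hι, map_inv₀]
    exact (one_lt_inv₀ (a.pos hϖ0)).2 haϖ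
  have hd : DenseRange ι := by
    have h1 : DenseRange ((↑) : F → UniformSpace.Completion F) := UniformSpace.Completion.denseRange_coe
    have h2 : Function.Surjective ((WithAbs.equiv a).symm : L → F) := (WithAbs.equiv a).symm.surjective
    have h3 : (ι : L → UniformSpace.Completion F) =
      ((↑) : F → UniformSpace.Completion F) ∘ ((WithAbs.equiv a).symm : L → F) := rfl
    rw [h3]
    exact h1.comp h2.denseRange (UniformSpace.Completion.continuous_coe F)
  refine ⟨UniformSpace.Completion F, 
    { (inferInstance : NormedField (UniformSpace.Completion F)) with non_trivial := hnt },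
    inferInstance, isUltrametricDist_completion, ι, hd, ?_⟩
  intro x
  have h4 := hι x
  exact (by rw [h4]; exact ha x : ‖ι x‖ ≤ 1 ↔ x ∈ (algebraMap B L).range)

/-- completion of a DVR and algebraic closure, as a normed field -/
theorem exists_omega (B L : Type u) [CommRing B] [IsDomain B] [IsDiscreteValuationRing B]
    [Field L] [Algebra B L] [IsFractionRing B L] :
    ∃ (Ω : Type u) (_ : NormedField Ω) (_ : IsUltrametricDist Ω) (_ : IsAlgClosed Ω) (j : L →+* Ω)
      (Lh : Subfield Ω), j.fieldRange ≤ Lh ∧ IsComplete (Lh : Set Ω) ∧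
      (∀ x ∈ Lh, ∀ ε > 0, ∃ y : L, ‖x - j y‖ < ε) ∧
      (∀ x : L, ‖j x‖ ≤ 1 ↔ x ∈ (algebraMap B L).range) := by
  obtain ⟨C, _, _, _, ι, hd, ha⟩ := exists_completion B L
  let Ω := AlgebraicClosure C
  let _ : NormedField Ω := spectralNorm.normedField C Ω
  let _ : NormedAlgebra C Ω := spectralNorm.normedAlgebra C Ω
  have hΩu : IsUltrametricDist Ω := IsUltrametricDist.of_normedAlgebra C
  have hΩc : IsAlgClosed Ω := AlgebraicClosure.isAlgClosed C
  have hiso : Isometry (algebraMap C Ω) := algebraMap_isometry C Ω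
  refine ⟨Ω, inferInstance, hΩu, hΩc, (algebraMap C Ω).comp ι, (algebraMap C Ω).fieldRange,
    ?_, ?_, ?_, ?_⟩
  · rintro _ ⟨x, rfl⟩
    exact ⟨ι x, rfl⟩
  · rw [RingHom.coe_fieldRange]
    exact hiso.isUniformInducing.isComplete_range
  · rintro _ ⟨x, rfl⟩ ε hε
    obtain ⟨y, hy⟩ := Metric.denseRange_iff.1 hd x ε hε
    refine ⟨y, ?_⟩
    rw [dist_eq_norm] at hy
    rw [RingHom.comp_apply, ← map_sub, norm_algebraMap']
    exact hy
  · intro x
    rw [RingHom.comp_apply, norm_algebraMap']
    exact ha x

end Groth.Agent.Etalg.EppOmega
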