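import Groth.Agent.Etalg.EppFrame
import Mathlib.RingTheory.DiscreteValuationRing.Basic
import Mathlib.RingTheory.LocalRing.ResidueField.Basic
import Mathlib.RingTheory.Localization.FractionRing
import Mathlib.Algebra.Polynomial.Lifts
import Mathlib.FieldTheory.Separable
import Mathlib.Algebra.CharP.Defs

/-!
# Translation of the hypotheses of Epp's theorem to the normed frame
-/

set_option autoImplicit false
universe u

namespace Groth.Agent.Etalg.EppOmega2

open Polynomial EppFrame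

variable {Ω : Type u} [NormedField Ω] 

section

variable {B L : Type u} [CommRing B] [IsDomain B] [IsDiscreteValuationRing B]
    [Field L] [Algebra B L] [IsFractionRing B L] (j : L →+* Ω)
    (hj : ∀ x : L, ‖j x‖ ≤ 1 ↔ x ∈ (algebraMap B L).range)

include hj

omit [IsDomain B] [IsDiscreteValuationRing B] [IsFractionRing B L] in
theorem norm_le_one (b : B) : ‖j (algebraMap B L b)‖ ≤ 1 := (hj _).2 ⟨b, rfl⟩

theorem norm_unit {b : B} (hb : IsUnit b) : ‖j (algebraMap B L b)‖ = 1 := by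
  obtain ⟨u, rfl⟩ := hb
  apply le_antisymm (norm_le_one j hj _)
  have h1 := norm_le_one j hj (B := B) (↑u⁻¹ : B)
  have h2 : ‖j (algebraMap B L (u : B))‖ * ‖j (algebraMap B L (↑u⁻¹ : B))‖ = 1 := by
    rw [← norm_mul, ← map_mul, ← map_mul, Units.mul_inv, map_one, map_one, norm_one]
  have h3 : 0 ≤ ‖j (algebraMap B L (u : B))‖ := norm_nonneg _
  nlinarith [norm_nonneg (j (algebraMap B L (↑u⁻¹ : B)))]

theorem norm_lt_one_iff (b : B) : ‖j (algebraMap B L b)‖ < 1 ↔ b ∈ IsLocalRing.maximalIdeal B := by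
  constructor
  · intro h
    rw [IsLocalRing.mem_maximalIdeal]
    intro hu
    rw [norm_unit j hj hu] at h
    exact lt_irrefl _ h
  · intro h
    refine lt_of_le_of_ne (norm_le_one j hj b) ?_
    intro h1
    by_cases hb : b = 0
    · rw [hb, map_zero, map_zero, norm_zero] at h1
      exact zero_ne_one h1
    have hb' : algebraMap B L b ≠ 0 := by
      rw [Ne, FaithfulSMul.algebraMap_eq_zero_iff]; exact hb
    have h2 : ‖j (algebraMap B L b)⁻¹‖ ≤ 1 := by rw [map_inv₀, norm_inv, h1, inv_one]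
    obtain ⟨c, hc⟩ := (hj _).1 h2
    rw [IsLocalRing.mem_maximalIdeal] at h
    apply h
    refine IsUnit.of_mul_eq_one c ?_
    apply IsFractionRing.injective B L
    rw [map_mul, hc, mul_inv_cancel₀ hb', map_one]

theorem norm_eq_zpow {ϖ : B} (hϖ : Irreducible ϖ) (y : L) (hy : y ≠ 0) :
    ∃ n : ℤ, ‖j y‖ = ‖j (algebraMap B L ϖ)‖ ^ n := by
  obtain ⟨a, b, hb, rfl⟩ := IsFractionRing.div_surjective (A := B) y
  have hb0 : b ≠ 0 := nonZeroDivisors.ne_zero hb
  have ha0 : a ≠ 0 := by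
    rintro rfl
    apply hy
    rw [map_zero, zero_div]
  obtain ⟨n, u, rfl⟩ := IsDiscreteValuationRing.eq_unit_mul_pow_irreducible ha0 hϖ
  obtain ⟨m, w, rfl⟩ := IsDiscreteValuationRing.eq_unit_mul_pow_irreducible hb0 hϖ
  refine ⟨n - m, ?_⟩
  have h0 : ‖j (algebraMap B L ϖ)‖ ≠ 0 := by
    rw [Ne, norm_eq_zero, map_eq_zero, FaithfulSMul.algebraMap_eq_zero_iff]
    exact hϖ.ne_zero
  rw [map_div₀, norm_div, map_mul, map_mul, norm_mul, map_mul, map_mul, norm_mul,
    norm_unit j hj u.isUnit, norm_unit j hj w.isUnit, one_mul, one_mul, map_pow, map_pow, map_pow,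
    map_pow, norm_pow, norm_pow, zpow_sub₀ h0, zpow_natCast, zpow_natCast]

theorem norm_eq_one_iff (b : B) : ‖j (algebraMap B L b)‖ = 1 ↔ b ∉ IsLocalRing.maximalIdeal B := by
  rw [← norm_lt_one_iff j hj, not_lt]
  exact ⟨fun h => h.ge, fun h => le_antisymm (norm_le_one j hj b) h⟩

theorem disc [IsUltrametricDist Ω] (Lh : Subfield Ω)
    (hd : ∀ x ∈ Lh, ∀ ε > 0, ∃ y : L, ‖x - j y‖ < ε) {ϖ : B} (hϖ : Irreducible ϖ) :
    Disc Lh (j (algebraMap B L ϖ)) := by
  refine ⟨?_, ?_, ?_⟩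
  · rw [norm_pos_iff, Ne, map_eq_zero, FaithfulSMul.algebraMap_eq_zero_iff]
    exact hϖ.ne_zero
  · rw [norm_lt_one_iff j hj, IsLocalRing.mem_maximalIdeal]
    exact hϖ.not_isUnit
  · intro x hx hx0
    obtain ⟨y, hy⟩ := hd x hx ‖x‖ (norm_pos_iff.2 hx0)
    have h1 : ‖j y‖ = ‖x‖ := by
      rw [norm_sub_rev] at hy
      have h2 := IsUltrametricDist.norm_add_eq_max_of_norm_ne_norm (ne_of_gt hy : ‖x‖ ≠ ‖j y - x‖)
      rw [add_sub_cancel, max_eq_left hy.le] at h2
      exact h2
    have hy0 : y ≠ 0 := by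
      rintro rfl
      rw [map_zero, norm_zero] at h1
      exact hx0 (norm_eq_zero.1 h1.symm)
    obtain ⟨n, hn⟩ := norm_eq_zpow j hj hϖ y hy0
    exact ⟨n, by rw [← h1, hn]⟩

end

section Eval

variable [IsUltrametricDist Ω]

theorem norm_pow_sub_pow_le {x y : Ω} (hx : ‖x‖ ≤ 1) (hy : ‖y‖ ≤ 1) (n : ℕ) :
    ‖x ^ n - y ^ n‖ ≤ ‖x - y‖ := by
  induction n with
  | zero => simp
  | succ n ih =>
    have h1 : x ^ (n + 1) - y ^ (n + 1) = x ^ n * (x - y) + (x ^ n - y ^ n) * y := by ring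
    rw [h1]
    refine (IsUltrametricDist.norm_add_le_max _ _).trans (max_le ?_ ?_)
    · rw [norm_mul, norm_pow]
      calc ‖x‖ ^ n * ‖x - y‖ ≤ 1 * ‖x - y‖ := by
            gcongr
            exact pow_le_one₀ (norm_nonneg _) hx
        _ = ‖x - y‖ := one_mul _
    · rw [norm_mul]
      calc ‖x ^ n - y ^ n‖ * ‖y‖ ≤ ‖x - y‖ * 1 := by gcongr
        _ = ‖x - y‖ := mul_one _

theorem norm_eval_sub_eval_le {x y : Ω} (hx : ‖x‖ ≤ 1) (hy : ‖y‖ ≤ 1) (f : Ω[X])
    (hf : ∀ i, ‖f.coeff i‖ ≤ 1) : ‖f.eval x - f.eval y‖ ≤ ‖x - y‖ := by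
  rw [eval_eq_sum_range, eval_eq_sum_range, ← Finset.sum_sub_distrib]
  refine IsUltrametricDist.norm_sum_le_of_forall_le_of_nonneg (norm_nonneg _) ?_
  intro i _
  rw [← mul_sub, norm_mul]
  calc ‖f.coeff i‖ * ‖x ^ i - y ^ i‖ ≤ 1 * ‖x - y‖ := by
        gcongr
        · exact hf i
        · exact norm_pow_sub_pow_le hx hy i
    _ = ‖x - y‖ := one_mul _

end Eval

section Residue

variable [IsUltrametricDist Ω] {A B K L : Type u} [CommRing A] [IsDomain A] [IsDiscreteValuationRing A]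
    [CommRing B] [IsDomain B] [IsDiscreteValuationRing B] [Algebra A B] [IsLocalHom (algebraMap A B)]
    [Field K] [Field L] [Algebra A K] [IsFractionRing A K] [Algebra B L] [IsFractionRing B L]
    [Algebra K L] [Algebra A L] [IsScalarTower A K L] [IsScalarTower A B L]

/-- Epp's hypothesis on residue fields, in the normed frame. -/
theorem hres_translate (j : L →+* Ω)
    (hj : ∀ x : L, ‖j x‖ ≤ 1 ↔ x ∈ (algebraMap B L).range) (Lh : Subfield Ω)
    (hd : ∀ x ∈ Lh, ∀ ε > 0, ∃ y : L, ‖x - j y‖ < ε) (p : ℕ) (hp : p.Prime)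
    (hres : ∀ x : IsLocalRing.ResidueField B, (∀ n : ℕ, ∃ y : IsLocalRing.ResidueField B, y ^ (p ^ n) = x) →
        IsSeparable (IsLocalRing.ResidueField A) x) :
    ∀ x ∈ Lh, ‖x‖ ≤ 1 → (∀ n : ℕ, ∃ y ∈ Lh, ‖y ^ p ^ n - x‖ < 1) →
      ∃ f : Ω[X], f.Monic ∧ (∀ i, f.coeff i ∈ (j.comp (algebraMap K L)).fieldRange ∧ ‖f.coeff i‖ ≤ 1) ∧
        ‖f.eval x‖ < 1 ∧ ‖(derivative f).eval x‖ = 1 := by
  have hclose : ∀ x ∈ Lh, ‖x‖ ≤ 1 → ∃ b : B, ‖x - j (algebraMap B L b)‖ < 1 := by
    intro x hx hx1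
    obtain ⟨y, hy⟩ := hd x hx 1 one_pos
    have h1 : ‖j y‖ ≤ 1 := by
      have h2 : j y = x + (j y - x) := by ring
      rw [h2]
      rw [norm_sub_rev] at hy
      exact (IsUltrametricDist.norm_add_le_max _ _).trans (max_le hx1 hy.le)
    obtain ⟨b, hb⟩ := (hj y).1 h1
    exact ⟨b, by rw [hb]; exact hy⟩
  have hresidue : ∀ a b : B, ‖j (algebraMap B L a) - j (algebraMap B L b)‖ < 1 →
      IsLocalRing.residue B a = IsLocalRing.residue B b := by
    intro a b h
    rw [← map_sub, ← map_sub, norm_lt_one_iff j hj] at h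
    rw [← sub_eq_zero, ← map_sub, IsLocalRing.residue_eq_zero_iff]
    exact h
  intro x hx hx1 hroot
  obtain ⟨b, hb⟩ := hclose x hx hx1
  have hsep : IsSeparable (IsLocalRing.ResidueField A) (IsLocalRing.residue B b) := by
    apply hres
    intro n
    obtain ⟨y, hy, hyx⟩ := hroot n
    have hpn : 0 < p ^ n := pow_pos hp.pos n
    have hy1 : ‖y‖ ≤ 1 := by
      have h1 : ‖y ^ p ^ n‖ ≤ 1 := by
        have h2 : y ^ p ^ n = (y ^ p ^ n - x) + x := by ring
        rw [h2]
        exact (IsUltrametricDist.norm_add_le_max _ _).trans (max_le hyx.le hx1)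
      rw [norm_pow] at h1
      by_contra h3
      exact absurd h1 (not_le.2 (one_lt_pow₀ (not_le.1 h3) hpn.ne'))
    obtain ⟨c, hc⟩ := hclose y hy hy1
    refine ⟨IsLocalRing.residue B c, ?_⟩
    rw [← map_pow]
    apply hresidue
    have h4 : j (algebraMap B L (c ^ p ^ n)) - j (algebraMap B L b) =
        ((j (algebraMap B L c)) ^ p ^ n - y ^ p ^ n) + ((y ^ p ^ n - x) + (x - j (algebraMap B L b))) := by
      rw [map_pow, map_pow]; ring
    rw [h4]
    refine (IsUltrametricDist.norm_add_le_max _ _).trans_lt (max_lt ?_ ?_)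
    · rw [norm_sub_rev]
      exact (norm_pow_sub_pow_le hy1 (norm_le_one j hj c) _).trans_lt hc
    · exact (IsUltrametricDist.norm_add_le_max _ _).trans_lt (max_lt hyx hb)
  have hint : IsIntegral (IsLocalRing.ResidueField A) (IsLocalRing.residue B b) := hsep.isIntegral
  obtain ⟨g, hg, -, hgm⟩ := lifts_and_natDegree_eq_and_monic (f := IsLocalRing.residue A)
    (p := minpoly (IsLocalRing.ResidueField A) (IsLocalRing.residue B b)) (by
      rw [lifts_iff_coeff_lifts]
      intro n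
      exact IsLocalRing.residue_surjective _) (minpoly.monic hint)
  have haev : ∀ q : A[X], IsLocalRing.residue B (aeval b q) =
      aeval (IsLocalRing.residue B b) (q.map (IsLocalRing.residue A)) := by
    intro q
    rw [aeval_def, aeval_def, eval₂_map, hom_eval₂]
    rfl
  let φ : A →+* Ω := (j.comp (algebraMap B L)).comp (algebraMap A B)
  have hφ : ∀ a : A, φ a = j (algebraMap K L (algebraMap A K a)) := by
    intro a
    show j (algebraMap B L (algebraMap A B a)) = _
    rw [← IsScalarTower.algebraMap_apply, ← IsScalarTower.algebraMap_apply]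
  have hevφ : ∀ q : A[X], (q.map φ).eval (j (algebraMap B L b)) = j (algebraMap B L (aeval b q)) := by
    intro q
    rw [eval_map, aeval_def]
    have h1 := hom_eval₂ q (algebraMap A B) (j.comp (algebraMap B L)) b
    exact h1.symm
  have hcoeff : ∀ (q : A[X]) (i : ℕ), ‖(q.map φ).coeff i‖ ≤ 1 := by
    intro q i
    rw [coeff_map]
    exact norm_le_one j hj _
  refine ⟨g.map φ, hgm.map _, fun i => ⟨?_, hcoeff g i⟩, ?_, ?_⟩
  · rw [coeff_map, hφ]
    exact ⟨algebraMap A K (g.coeff i), rfl⟩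
  · have h1 : ‖(g.map φ).eval (j (algebraMap B L b))‖ < 1 := by
      rw [hevφ, norm_lt_one_iff j hj, ← IsLocalRing.residue_eq_zero_iff, haev, hg, minpoly.aeval]
    have h2 := norm_eval_sub_eval_le hx1 (norm_le_one j hj b) (g.map φ) (hcoeff g)
    have h3 : (g.map φ).eval x = ((g.map φ).eval x - (g.map φ).eval (j (algebraMap B L b))) +
      (g.map φ).eval (j (algebraMap B L b)) := by ring
    rw [h3]
    exact (IsUltrametricDist.norm_add_le_max _ _).trans_lt (max_lt (h2.trans_lt hb) h1)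
  · rw [derivative_map]
    have h1 : ‖((derivative g).map φ).eval (j (algebraMap B L b))‖ = 1 := by
      rw [hevφ, norm_eq_one_iff j hj, ← IsLocalRing.residue_eq_zero_iff, haev, ← derivative_map, hg]
      exact hsep.aeval_derivative_ne_zero (minpoly.aeval _ _)
    have h2 := norm_eval_sub_eval_le hx1 (norm_le_one j hj b) ((derivative g).map φ) (hcoeff _)
    have h3 : ((derivative g).map φ).eval x =
      ((derivative g).map φ).eval (j (algebraMap B L b)) +
      (((derivative g).map φ).eval x - ((derivative g).map φ).eval (j (algebraMap B L b))) := by ring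
    rw [h3]
    have h4 : ‖((derivative g).map φ).eval x - ((derivative g).map φ).eval (j (algebraMap B L b))‖ < 1 :=
      h2.trans_lt hb
    rw [IsUltrametricDist.norm_add_eq_max_of_norm_ne_norm, h1, max_eq_left h4.le]
    rw [h1]; exact ne_of_gt h4

omit [IsUltrametricDist Ω] [Algebra A L] [IsScalarTower A B L] in
/-- The residue characteristic has norm less than one. -/
theorem norm_p_lt_one (j : L →+* Ω)
    (hj : ∀ x : L, ‖j x‖ ≤ 1 ↔ x ∈ (algebraMap B L).range) (p : ℕ)
    [CharP (IsLocalRing.ResidueField A) p] : ‖(p : Ω)‖ < 1 := by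
  have h1 : ((p : A)) ∈ IsLocalRing.maximalIdeal A := by
    rw [← IsLocalRing.residue_eq_zero_iff, map_natCast, CharP.cast_eq_zero]
  have h2 : ((p : B)) ∈ IsLocalRing.maximalIdeal B := by
    rw [IsLocalRing.mem_maximalIdeal] at h1 ⊢
    intro h3
    apply h1
    have h4 : algebraMap A B (p : A) = (p : B) := map_natCast _ _
    rw [← h4] at h3
    exact (isUnit_map_iff (algebraMap A B) _).1 h3
  have h3 := (norm_lt_one_iff j hj _).2 h2
  rwa [map_natCast, map_natCast] at h3

end Residue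

end Groth.Agent.Etalg.EppOmega2
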