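import Groth.Agent.Etalg.EppFrame
import Mathlib.FieldTheory.Separable
import Mathlib.RingTheory.DiscreteValuationRing.Basic
import Mathlib.RingTheory.LocalRing.ResidueField.Basic
import Mathlib.Algebra.Polynomial.Lifts
import Mathlib.Topology.Algebra.Valued.NormedValued

/-!
# Epp's theorem: translating the residue field condition to the normed completion
-/

set_option autoImplicit false
universe u

namespace Groth.Agent.Etalg.EppResid

open Polynomial EppFrame IsLocalRing

section

variable {Ω : Type u} [NormedField Ω] [IsUltrametricDist Ω] {B L : Type u} [CommRing B] [IsDomain B]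
  [IsDiscreteValuationRing B] [Field L] [Algebra B L] [IsFractionRing B L] (j : L →+* Ω)
  (hj : ∀ x : L, ‖j x‖ ≤ 1 ↔ x ∈ (algebraMap B L).range)

include hj

omit [IsUltrametricDist Ω] [IsDomain B] [IsDiscreteValuationRing B] [IsFractionRing B L] in
theorem norm_le_one (b : B) : ‖j (algebraMap B L b)‖ ≤ 1 := (hj _).2 ⟨b, rfl⟩

omit [IsUltrametricDist Ω] [IsDomain B] [IsDiscreteValuationRing B] in
theorem norm_eq_one_iff (b : B) : ‖j (algebraMap B L b)‖ = 1 ↔ IsUnit b := by
  constructor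
  · intro h
    have hb : b ≠ 0 := by
      rintro rfl
      rw [map_zero, map_zero, norm_zero] at h
      exact zero_ne_one h
    have hb' : algebraMap B L b ≠ 0 := by
      rwa [Ne, map_eq_zero_iff _ (IsFractionRing.injective B L)]
    have h1 : ‖j (algebraMap B L b)⁻¹‖ ≤ 1 := by rw [map_inv₀, norm_inv, h, inv_one]
    obtain ⟨c, hc⟩ := (hj _).1 h1
    refine IsUnit.of_mul_eq_one c ?_
    apply IsFractionRing.injective B L
    rw [map_mul, hc, map_one, mul_inv_cancel₀ hb']
  · rintro ⟨u, rfl⟩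
    have h1 := norm_le_one j hj (u : B)
    have h2 := norm_le_one j hj ((u⁻¹ : Bˣ) : B)
    have h3 : ‖j (algebraMap B L u)‖ * ‖j (algebraMap B L (u⁻¹ : Bˣ))‖ = 1 := by
      rw [← norm_mul, ← map_mul, ← map_mul, Units.mul_inv, map_one, map_one, norm_one]
    refine le_antisymm h1 ?_
    calc (1 : ℝ) = ‖j (algebraMap B L u)‖ * ‖j (algebraMap B L (u⁻¹ : Bˣ))‖ := h3.symm
      _ ≤ ‖j (algebraMap B L u)‖ * 1 := by gcongr
      _ = _ := mul_one _

omit [IsUltrametricDist Ω] in
theorem norm_lt_one_iff (b : B) : ‖j (algebraMap B L b)‖ < 1 ↔ b ∈ maximalIdeal B := by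
  rw [mem_maximalIdeal, mem_nonunits_iff, ← norm_eq_one_iff j hj]
  have := norm_le_one j hj b
  constructor
  · intro h h'; exact absurd h' h.ne
  · intro h; exact lt_of_le_of_ne this h

end

/-- polynomials with integral coefficients take congruent values at congruent points -/
theorem norm_eval_sub_lt {Ω : Type*} [NormedField Ω] [IsUltrametricDist Ω] (f : Ω[X])
    (hf : ∀ i, ‖f.coeff i‖ ≤ 1) {x y : Ω} (hx : ‖x‖ ≤ 1) (hxy : ‖x - y‖ < 1) : ‖f.eval x - f.eval y‖ < 1 := by
  have hy : ‖y‖ ≤ 1 := by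
    have : y = x - (x - y) := by ring
    rw [this, sub_eq_add_neg]
    refine (IsUltrametricDist.norm_add_le_max _ _).trans (max_le hx ?_)
    rw [norm_neg]; exact hxy.le
  have hmem : ∀ z : Ω, z ∈ (NormedField.valuation (K := Ω)).integer ↔ ‖z‖ ≤ 1 := fun z => by
    rw [Valuation.mem_integer_iff, NormedField.valuation_apply, ← NNReal.coe_le_coe, coe_nnnorm, NNReal.coe_one]
  set O := (NormedField.valuation (K := Ω)).integer with hO
  have hlift : f ∈ Polynomial.lifts O.subtype := by
    rw [Polynomial.lifts_iff_coeff_lifts]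
    intro i
    exact ⟨⟨f.coeff i, (hmem _).2 (hf i)⟩, rfl⟩
  obtain ⟨g, rfl⟩ := (Polynomial.mem_lifts _).1 hlift
  let x' : O := ⟨x, (hmem _).2 hx⟩
  let y' : O := ⟨y, (hmem _).2 hy⟩
  obtain ⟨q, hq⟩ := Polynomial.sub_dvd_eval_sub x' y' g
  have h1 : (g.map O.subtype).eval x = ((g.eval x' : O) : Ω) := by
    rw [Polynomial.eval_map]
    exact Polynomial.eval₂_at_apply O.subtype x'
  have h2 : (g.map O.subtype).eval y = ((g.eval y' : O) : Ω) := by
    rw [Polynomial.eval_map]
    exact Polynomial.eval₂_at_apply O.subtype y'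
  rw [h1, h2]
  have h3 : ((g.eval x' : O) : Ω) - ((g.eval y' : O) : Ω) = (x - y) * (q : Ω) := by
    have := congrArg Subtype.val hq
    simpa using this
  rw [h3, norm_mul]
  calc ‖x - y‖ * ‖(q : Ω)‖ ≤ ‖x - y‖ * 1 := by
        gcongr
        exact (hmem _).1 q.2
    _ < 1 := by rwa [mul_one]

/-- congruent integral elements have congruent powers -/
theorem norm_pow_sub_lt {Ω : Type*} [NormedField Ω] [IsUltrametricDist Ω] (n : ℕ) {x y : Ω} (hx : ‖x‖ ≤ 1)
    (hxy : ‖x - y‖ < 1) : ‖x ^ n - y ^ n‖ < 1 := by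
  have := norm_eval_sub_lt (X ^ n : Ω[X]) (fun i => by
    rw [coeff_X_pow]; split_ifs <;> simp) hx hxy
  simpa using this

/-- The residue condition of Epp's theorem, transported. -/
theorem residue_condition {Ω : Type u} [NormedField Ω] [IsUltrametricDist Ω]
    {A B K L : Type u} [CommRing A] [IsDomain A] [IsDiscreteValuationRing A]
    [CommRing B] [IsDomain B] [IsDiscreteValuationRing B] [Algebra A B] [IsLocalHom (algebraMap A B)]
    [Field K] [Field L] [Algebra A K] [IsFractionRing A K] [Algebra B L] [IsFractionRing B L]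
    [Algebra K L] [Algebra A L] [IsScalarTower A K L] [IsScalarTower A B L] (j : L →+* Ω)
    (hj : ∀ x : L, ‖j x‖ ≤ 1 ↔ x ∈ (algebraMap B L).range) (Lh : Subfield Ω)
    (hdense : ∀ x ∈ Lh, ∀ ε > 0, ∃ y : L, ‖x - j y‖ < ε) (p : ℕ) (hp : p.Prime)
    (hres : ∀ x : IsLocalRing.ResidueField B, (∀ n : ℕ, ∃ y : IsLocalRing.ResidueField B, y ^ (p ^ n) = x) →
        IsSeparable (IsLocalRing.ResidueField A) x) :
    ∀ x ∈ Lh, ‖x‖ ≤ 1 → (∀ n : ℕ, ∃ y ∈ Lh, ‖y ^ p ^ n - x‖ < 1) →
      ∃ f : Ω[X], f.Monic ∧ (∀ i, f.coeff i ∈ (j.comp (algebraMap K L)).fieldRange ∧ ‖f.coeff i‖ ≤ 1) ∧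
        ‖f.eval x‖ < 1 ∧ ‖(derivative f).eval x‖ = 1 := by
  intro x hx hx1 hn
  have hadd : ∀ a b : Ω, ‖a‖ < 1 → ‖b‖ < 1 → ‖a + b‖ < 1 := fun a b ha hb =>
    lt_of_le_of_lt (IsUltrametricDist.norm_add_le_max _ _) (max_lt ha hb)
  have hint : ∀ z : Ω, ‖z‖ ≤ 1 → ∀ y : L, ‖z - j y‖ < 1 → ∃ b : B, algebraMap B L b = y := by
    intro z hz y hy
    apply (hj y).1
    have : j y = z + (-(z - j y)) := by ring
    rw [this]
    refine (IsUltrametricDist.norm_add_le_max _ _).trans (max_le hz ?_)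
    rw [norm_neg]; exact hy.le
  obtain ⟨x₀, hx₀⟩ := hdense x hx 1 one_pos
  obtain ⟨b, rfl⟩ := hint x hx1 x₀ hx₀
  -- the residue of `b` is infinitely `p`-divisible
  have hb : ∀ n : ℕ, ∃ y : ResidueField B, y ^ (p ^ n) = residue B b := by
    intro n
    obtain ⟨y, hy, hyx⟩ := hn n
    have hy1 : ‖y‖ ≤ 1 := by
      by_contra hcon
      rw [not_le] at hcon
      have h1 : ‖y ^ p ^ n‖ ≤ 1 := by
        have : y ^ p ^ n = (y ^ p ^ n - x) + x := by ring
        rw [this]
        exact (IsUltrametricDist.norm_add_le_max _ _).trans (max_le hyx.le hx1)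
      rw [norm_pow] at h1
      exact absurd h1 (not_le.2 (one_lt_pow₀ hcon (pow_ne_zero n hp.ne_zero)))
    obtain ⟨c, hc⟩ := hdense y hy 1 one_pos
    obtain ⟨d, rfl⟩ := hint y hy1 c hc
    refine ⟨residue B d, ?_⟩
    rw [← map_pow, ← sub_eq_zero, ← map_sub, IsLocalRing.residue_eq_zero_iff, ← norm_lt_one_iff j hj, map_sub,
      map_sub, map_pow, map_pow]
    have h1 := norm_pow_sub_lt (p ^ n) hy1 hc
    have : j (algebraMap B L d) ^ p ^ n - j (algebraMap B L b) =
      -(y ^ p ^ n - j (algebraMap B L d) ^ p ^ n) + ((y ^ p ^ n - x) + (x - j (algebraMap B L b))) := by ring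
    rw [this]
    exact hadd _ _ (by rwa [norm_neg]) (hadd _ _ hyx hx₀)
  have hsep := hres _ hb
  set q := minpoly (ResidueField A) (residue B b) with hq
  have hqm : q.Monic := minpoly.monic hsep.isIntegral
  obtain ⟨f₀, hf₀q, -, hf₀m⟩ := Polynomial.lifts_and_natDegree_eq_and_monic
    (f := residue A) (p := q) (by
      rw [Polynomial.lifts_iff_coeff_lifts]
      intro i
      exact residue_surjective _) hqm
  let g : A →+* Ω := (j.comp (algebraMap B L)).comp (algebraMap A B)
  have hg : ∀ a, g a = j (algebraMap K L (algebraMap A K a)) := fun a => by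
    simp only [g, RingHom.comp_apply]
    rw [← IsScalarTower.algebraMap_apply A B L, IsScalarTower.algebraMap_apply A K L]
  have hg1 : ∀ a, ‖g a‖ ≤ 1 := fun a => norm_le_one j hj _
  have heval : ∀ h : A[X], (h.map g).eval (j (algebraMap B L b)) = j (algebraMap B L (aeval b h)) := by
    intro h
    rw [eval_map, aeval_def]
    exact (hom_eval₂ h (algebraMap A B) (j.comp (algebraMap B L)) b).symm
  have hresid : ∀ h : A[X], residue B (aeval b h) = aeval (residue B b) (h.map (residue A)) := by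
    intro h
    rw [aeval_def, aeval_def, eval₂_map, hom_eval₂]
    rfl
  have hcoeff : ∀ (h : A[X]) i, ‖(h.map g).coeff i‖ ≤ 1 := fun h i => by rw [coeff_map]; exact hg1 _
  refine ⟨f₀.map g, hf₀m.map g, fun i => ⟨?_, hcoeff _ _⟩, ?_, ?_⟩
  · rw [coeff_map, hg]
    exact ⟨_, rfl⟩
  · have h1 : ‖(f₀.map g).eval (j (algebraMap B L b))‖ < 1 := by
      rw [heval, norm_lt_one_iff j hj, ← IsLocalRing.residue_eq_zero_iff, hresid, hf₀q]
      exact minpoly.aeval _ _
    have h2 := norm_eval_sub_lt (f₀.map g) (hcoeff _) hx1 hx₀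
    have : (f₀.map g).eval x = ((f₀.map g).eval x - (f₀.map g).eval (j (algebraMap B L b))) +
      (f₀.map g).eval (j (algebraMap B L b)) := by ring
    rw [this]
    exact hadd _ _ h2 h1
  · rw [derivative_map]
    have h1 : ‖((derivative f₀).map g).eval (j (algebraMap B L b))‖ = 1 := by
      rw [heval, norm_eq_one_iff j hj]
      by_contra hnu
      have h0 : residue B (aeval b (derivative f₀)) = 0 := by
        rw [IsLocalRing.residue_eq_zero_iff, mem_maximalIdeal, mem_nonunits_iff]; exact hnu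
      rw [hresid, ← derivative_map, hf₀q] at h0
      exact hsep.aeval_derivative_ne_zero (minpoly.aeval _ _) h0
    have h2 := norm_eval_sub_lt ((derivative f₀).map g) (hcoeff _) hx1 hx₀
    have h3 : ((derivative f₀).map g).eval x = (((derivative f₀).map g).eval x -
      ((derivative f₀).map g).eval (j (algebraMap B L b))) + ((derivative f₀).map g).eval (j (algebraMap B L b)) := by
      ring
    rw [h3, IsUltrametricDist.norm_add_eq_max_of_norm_ne_norm (by rw [h1]; exact h2.ne), h1]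
    exact max_eq_right h2.le

end Groth.Agent.Etalg.EppResid
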