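import Groth.Agent.Etalg.EppUp
import Groth.Agent.Etalg.SolNormal

/-!
# Epp's theorem: from a normal extension inside `Ω` to a weak solution
-/

set_option autoImplicit false
universe u

namespace Groth.Agent.Etalg.EppWeak

open Polynomial EppFrame EppVal IsLocalRing EtRam

variable {Ω : Type u} [NormedField Ω] [IsUltrametricDist Ω] [IsAlgClosed Ω]

/-- a finite normal `K₁ ⊆ Ω` with `|L K₁| = |K₁|` is a weak solution (all composita and all valuation rings) -/
theorem isWeakSolution_of_normal {B K L : Type u} [CommRing B] [IsDomain B] [IsDiscreteValuationRing B]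
    [Field K] [Field L] [Algebra K L] [Algebra B L] [IsFractionRing B L] (j : L →+* Ω)
    (hj : ∀ x : L, ‖j x‖ ≤ 1 ↔ x ∈ (algebraMap B L).range)
    (K₁ : Subfield Ω) (h₁ : FinExt (j.comp (algebraMap K L)).fieldRange K₁)
    (h₂ : NormalIn (j.comp (algebraMap K L)).fieldRange K₁)
    (h₃ : NormLe K₁ (j.fieldRange ⊔ K₁)) :
    ∃ (K₂ : Type u) (_ : Field K₂) (_ : Algebra K K₂) (_ : FiniteDimensional K K₂),
      EtRam.IsWeakSolution B K L K₂ := by
  let _ : Algebra L Ω := j.toAlgebra
  let _ : Algebra K Ω := (j.comp (algebraMap K L)).toAlgebra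
  have tt : IsScalarTower K L Ω := IsScalarTower.of_algebraMap_eq' rfl
  let A : Subfield Ω := (j.comp (algebraMap K L)).fieldRange
  let φ : K →+* A := (j.comp (algebraMap K L)).rangeRestrictField
  have hφ : ∀ x, ((φ x : A) : Ω) = algebraMap K Ω x := fun x => rfl
  have hφs : Function.Surjective φ := (j.comp (algebraMap K L)).rangeRestrictField_bijective.2
  let e : K ≃+* A := RingEquiv.ofBijective φ (j.comp (algebraMap K L)).rangeRestrictField_bijective
  let N : IntermediateField K Ω := { K₁ with algebraMap_mem' := fun x => h₁.le ⟨x, rfl⟩ }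
  have hN : ∀ x, x ∈ N ↔ x ∈ K₁ := fun x => Iff.rfl
  have hfd : FiniteDimensional K N := by
    let _ : Algebra K A := φ.toAlgebra
    let _ : Algebra A K₁ := (Subfield.inclusion h₁.le).toAlgebra
    let _ : Algebra K K₁ := ((Subfield.inclusion h₁.le).comp φ).toAlgebra
    have t1 : IsScalarTower K A K₁ := IsScalarTower.of_algebraMap_eq' rfl
    have f1 : FiniteDimensional A K₁ := EppUp.finiteDimensional_of_finExt h₁
    have f2 : Module.Finite K A := Module.Finite.of_surjective (Algebra.linearMap K A) hφs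
    have f3 : Module.Finite K K₁ := Module.Finite.trans A K₁
    let ψ : K₁ →ₗ[K] N :=
      { toFun := fun x => ⟨x, x.2⟩
        map_add' := fun x y => rfl
        map_smul' := fun a x => Subtype.ext (by
          show ((a • x : K₁) : Ω) = a • (x : Ω)
          rw [Algebra.smul_def, Algebra.smul_def]
          rfl) }
    exact Module.Finite.of_surjective ψ (fun x => ⟨⟨x, x.2⟩, rfl⟩)
  have hnormal : Normal K N := by
    have halg : Algebra.IsAlgebraic K N := Algebra.IsAlgebraic.of_finite K N
    rw [normal_iff]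
    intro x
    refine ⟨Algebra.IsIntegral.isIntegral x, ?_⟩
    apply IntermediateField.splits_of_splits (IsAlgClosed.splits _)
    intro y hy
    rw [mem_rootSet'] at hy
    have hy2 := hy.2
    refine h₂ x x.2 y ?_
    -- minpoly K x divides (minpoly A x).map e.symm
    have hdvd : minpoly K x ∣ (minpoly A (x : Ω)).map e.symm.toRingHom := by
      rw [minpoly.dvd_iff]
      apply Subtype.ext
      show ((aeval x ((minpoly A (x : Ω)).map e.symm.toRingHom) : N) : Ω) = 0
      rw [show ((aeval x ((minpoly A (x : Ω)).map e.symm.toRingHom) : N) : Ω) =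
        aeval (x : Ω) ((minpoly A (x : Ω)).map e.symm.toRingHom) from (aeval_algHom_apply N.val x _).symm]
      have h3 := minpoly.aeval A (x : Ω)
      rw [aeval_def] at h3 ⊢
      rw [eval₂_map]
      rw [show (algebraMap K Ω).comp e.symm.toRingHom = algebraMap A Ω from ?_]
      · exact h3
      · ext a
        show algebraMap K Ω (e.symm a) = a
        rw [← hφ]
        exact congrArg Subtype.val (e.apply_symm_apply a)
    obtain ⟨c, hc⟩ := hdvd
    have h4 : aeval y ((minpoly A (x : Ω)).map e.symm.toRingHom) = 0 := by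
      rw [hc, map_mul, hy2, zero_mul]
    rw [aeval_def, eval₂_map] at h4
    rw [aeval_def]
    rw [show (algebraMap K Ω).comp e.symm.toRingHom = algebraMap A Ω from ?_] at h4
    · exact h4
    · ext a
      show algebraMap K Ω (e.symm a) = a
      rw [← hφ]
      exact congrArg Subtype.val (e.apply_symm_apply a)
  let M : IntermediateField K Ω := (IsScalarTower.toAlgHom K L Ω).fieldRange ⊔ N
  let f : N →+* M := (IntermediateField.inclusion (le_sup_right : N ≤ M)).toRingHom
  have hO : Dominates B ((algebraMap L Ω).comp (algebraMap B L)) (VO Ω) := by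
    refine ⟨fun b => ?_, fun b hb => ?_⟩
    · exact (hj _).mpr ⟨b, rfl⟩
    · rw [valuation_lt_one_iff]
      show ‖j (algebraMap B L b)‖ < 1
      by_contra hcon
      rw [not_lt] at hcon
      have h5 : ‖j (algebraMap B L b)⁻¹‖ ≤ 1 := by
        rw [map_inv₀, norm_inv]
        exact inv_le_one_of_one_le₀ hcon
      obtain ⟨c, hc⟩ := (hj _).mp h5
      have hb0 : algebraMap B L b ≠ 0 := by
        intro h0
        rw [h0, map_zero, norm_zero] at hcon
        exact absurd hcon (by norm_num)
      have h6 : b * c = 1 := by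
        apply IsFractionRing.injective B L
        rw [map_mul, hc, map_one, mul_inv_cancel₀ hb0]
      exact hb (IsUnit.of_mul_eq_one _ h6)
  refine ⟨N, inferInstance, inferInstance, hfd, SolNormal.isWeakSolution_of_normal (VO Ω) hO N M rfl f
    (fun x => rfl) ?_⟩
  rw [RamWeak.isWeaklyUnramified_incl_iff]
  intro x hx
  rw [RamBasic.valuation_comap_lt_one_iff, valuation_lt_one_iff] at hx
  let Q : IntermediateField K Ω := { j.fieldRange ⊔ K₁ with
    algebraMap_mem' := fun x => (le_sup_left : j.fieldRange ≤ j.fieldRange ⊔ K₁) ⟨algebraMap K L x, rfl⟩ }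
  have hMQ : M ≤ Q := by
    refine sup_le ?_ ?_
    · rintro _ ⟨l, rfl⟩
      exact (le_sup_left : j.fieldRange ≤ j.fieldRange ⊔ K₁) ⟨l, rfl⟩
    · intro y hy
      exact (le_sup_right : K₁ ≤ j.fieldRange ⊔ K₁) hy
  obtain ⟨y, hy, hyx⟩ := h₃ (x : Ω) (hMQ x.2)
  refine ⟨⟨y, hy⟩, ?_, ?_⟩
  · rw [RamBasic.valuation_comap_lt_one_iff, valuation_lt_one_iff]
    show ‖y‖ < 1
    rw [hyx]
    exact hx
  · rw [RamBasic.valuation_comap_le_iff, valuation_le_iff]
    show ‖(x : Ω)‖ ≤ ‖y‖
    rw [hyx]

end Groth.Agent.Etalg.EppWeak
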