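import Groth.Agent.S1982
import Groth.Agent.Etalg.RamAbh
import Mathlib.FieldTheory.SplittingField.Construction

/-!
# Epp's theorem in residue characteristic zero
-/

set_option autoImplicit false
universe u

namespace Groth.Agent.Etalg.EppZero

open Polynomial IsLocalRing RamDVR RamApp RamAbh

/-- if `x ^ e` is a uniformizer of `A` in a DVR `V` over `A` then `e` divides the ramification index -/
theorem dvd_ramificationIdx' {A V : Type*} [CommRing A] [IsDomain A] [IsDiscreteValuationRing A] [CommRing V]
    [IsDomain V] [IsDiscreteValuationRing V] [Algebra A V] [IsLocalHom (algebraMap A V)]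
    (hinj : Function.Injective (algebraMap A V)) {π : A} (hπ : Irreducible π) {x : V} {e : ℕ} (he : e ≠ 0)
    (hx : x ^ e = algebraMap A V π) :
    e ∣ Ideal.ramificationIdx' (maximalIdeal A) (maximalIdeal V) := by
  obtain ⟨τ, hτ⟩ := IsDiscreteValuationRing.exists_irreducible V
  obtain ⟨-, u, hu⟩ := exists_unit_ramificationIdx hinj hπ hτ
  have hx0 : x ≠ 0 := by
    rintro rfl
    rw [zero_pow he] at hx
    exact hπ.ne_zero (hinj (by rw [← hx, map_zero]))
  obtain ⟨d, v, hv⟩ := IsDiscreteValuationRing.eq_unit_mul_pow_irreducible hx0 hτ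
  have h1 : (↑(v ^ e) : V) * τ ^ (d * e) = u * τ ^ Ideal.ramificationIdx' (maximalIdeal A) (maximalIdeal V) := by
    rw [← hu, ← hx, hv, mul_pow, ← pow_mul, Units.val_pow_eq_pow_val]
  have h2 := IsDiscreteValuationRing.unit_mul_pow_congr_pow hτ hτ (v ^ e) u _ _ h1
  rw [← h2]
  exact Dvd.intro_left d rfl

theorem exists_weakSolution (A B K L : Type u) [CommRing A] [IsDomain A] [IsDiscreteValuationRing A]
    [CommRing B] [IsDomain B] [IsDiscreteValuationRing B] [Algebra A B] [IsLocalHom (algebraMap A B)]
    (hinj : Function.Injective (algebraMap A B))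
    [Field K] [Field L] [Algebra A K] [IsFractionRing A K] [Algebra B L] [IsFractionRing B L]
    [Algebra K L] [Algebra A L] [IsScalarTower A K L] [IsScalarTower A B L]
    (hzero : CharZero (IsLocalRing.ResidueField A)) :
    ∃ (K₁ : Type u) (_ : Field K₁) (_ : Algebra K K₁) (_ : FiniteDimensional K K₁), EtRam.IsWeakSolution B K L K₁ := by
  set e := Ideal.ramificationIdx' (maximalIdeal A) (maximalIdeal B) with he
  obtain ⟨π, hπ⟩ := IsDiscreteValuationRing.exists_irreducible A
  obtain ⟨ρ, hρ⟩ := IsDiscreteValuationRing.exists_irreducible B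
  have he0 : e ≠ 0 := (exists_unit_ramificationIdx hinj hπ hρ).1
  let f : K[X] := X ^ e - C (algebraMap A K π)
  obtain ⟨ϖ, hϖ⟩ : ∃ ϖ : f.SplittingField, ϖ ^ e = algebraMap K f.SplittingField (algebraMap A K π) := by
    have hs := SplittingField.splits f
    have hdeg : (f.map (algebraMap K f.SplittingField)).degree ≠ 0 := by
      rw [degree_map, degree_X_pow_sub_C (Nat.pos_of_ne_zero he0)]
      exact_mod_cast he0
    obtain ⟨x, hx⟩ := hs.exists_eval_eq_zero hdeg
    refine ⟨x, ?_⟩
    simpa [f, sub_eq_zero] using hx
  refine ⟨f.SplittingField, inferInstance, inferInstance, inferInstance, ?_⟩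
  intro M _ _ _ _ _ _ hadj W hW
  have hVdom := dominates_comap (A := A) (B := B) (K := K) (L := L) (K₁ := f.SplittingField) (M := M) hW
  refine (Groth.Agent.S1982.result A B K L hinj (Or.inl hzero) f.SplittingField M hadj W hW hVdom.1 ?_).1
  have hVdvr : IsDiscreteValuationRing (W.comap (algebraMap f.SplittingField M)) := isDVR_of_dominates hVdom
  let algAV : Algebra A (W.comap (algebraMap f.SplittingField M)) := (RingHom.codRestrict
    ((algebraMap K f.SplittingField).comp (algebraMap A K)) (W.comap (algebraMap f.SplittingField M)) hVdom.1).toAlgebra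
  have hloc : IsLocalHom (algebraMap A (W.comap (algebraMap f.SplittingField M))) := isLocalHom_codRestrict hVdom
  have hinjV : Function.Injective (algebraMap A (W.comap (algebraMap f.SplittingField M))) := by
    intro a b hab
    have h1 : algebraMap K f.SplittingField (algebraMap A K a) = algebraMap K f.SplittingField (algebraMap A K b) :=
      congrArg Subtype.val hab
    exact IsFractionRing.injective A K ((algebraMap K f.SplittingField).injective h1)
  have hmem : ϖ ∈ W.comap (algebraMap f.SplittingField M) := by
    rw [← ValuationSubring.valuation_le_one_iff]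
    have h1 : (W.comap (algebraMap f.SplittingField M)).valuation (ϖ ^ e) ≤ 1 := by
      rw [hϖ, ValuationSubring.valuation_le_one_iff]
      exact hVdom.1 π
    rw [map_pow] at h1
    exact (pow_le_one_iff_of_nonneg zero_le he0).1 h1
  exact dvd_ramificationIdx' hinjV hπ (x := ⟨ϖ, hmem⟩) he0 (Subtype.ext hϖ)

end Groth.Agent.Etalg.EppZero
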