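import Groth.Agent.Etalg.EppFrame
import Groth.Agent.Etalg.EppUp
import Groth.Agent.Etalg.EppOmega
import Groth.Agent.Etalg.EppOmega2
import Groth.Agent.Etalg.EppResid
import Groth.Agent.Etalg.EppZero
import Groth.Agent.Etalg.EppWeak
import Mathlib.Topology.Algebra.Field

/-!
# Epp's theorem: final assembly, conditional on the three remaining pieces

`StPair`, `StTower`, `StKrasner`, `StInner` are the statements `exists_pair`, `tower`, `krasner_descent`, `inner`.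
-/

set_option autoImplicit false
universe u

namespace Groth.Agent.Etalg.EppEnd

open EppFrame

/-- the statement of `exists_pair` -/
def StPair : Prop := ∀ {Ω : Type u} [NormedField Ω] [IsUltrametricDist Ω] [IsAlgClosed Ω]
    {p : ℕ} (_ : p.Prime) {K L : Subfield Ω} (_ : K ≤ L)
    (_ : IsComplete (K : Set Ω)) (_ : IsComplete (L : Set Ω)) (_ : ‖(p : Ω)‖ < 1)
    (_ : ∃ ϖ ∈ L, Disc L ϖ) (t : Ω) (_ : t ∈ K) (_ : t ≠ 0) (_ : ‖t‖ < 1)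
    (_ : ∀ x ∈ L, ‖x‖ ≤ 1 → (∀ n : ℕ, ∃ y ∈ L, ‖y ^ p ^ n - x‖ < 1) →
      ∃ f : Polynomial Ω, f.Monic ∧ (∀ i, f.coeff i ∈ K ∧ ‖f.coeff i‖ ≤ 1) ∧ ‖f.eval x‖ < 1 ∧
        ‖(Polynomial.derivative f).eval x‖ = 1),
    ∃ E F : Subfield Ω, E ≤ K ∧ F ≤ L ∧ Pair p E F ∧ FinExt F L ∧
      ((p : Ω) = 0 → t ∈ E ∧ ∀ x ∈ E, ∃ y : Fin p → Ω, (∀ i, y i ∈ E) ∧ x = ∑ i, y i ^ p * t ^ (i : ℕ))

/-- the statement of `tower` -/
def StTower : Prop := ∀ {Ω : Type u} [NormedField Ω] [IsUltrametricDist Ω] [IsAlgClosed Ω]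
    {p : ℕ} (_ : p.Prime) {E F M : Subfield Ω} (_ : Pair p E F) (_ : FinExt F M),
    ∃ E₁ : Subfield Ω, FinExt E E₁ ∧ NormLe E₁ (E₁ ⊔ M)

/-- the statement of `krasner_descent` -/
def StKrasner : Prop := ∀ {Ω : Type u} [NormedField Ω] [IsUltrametricDist Ω] [IsAlgClosed Ω]
    {p : ℕ} (_ : p.Prime) {K Kh E : Subfield Ω} (_ : K ≤ Kh)
    (_ : IsComplete (Kh : Set Ω)) (_ : ∀ x ∈ Kh, ∀ ε > 0, ∃ y ∈ K, ‖x - y‖ < ε)
    (_ : E ≤ Kh) (_ : IsComplete (E : Set Ω)) (_ : ∃ π ∈ E, 0 < ‖π‖ ∧ ‖π‖ < 1)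
    (_ : ‖(p : Ω)‖ < 1) (t : Ω) (_ : t ∈ K)
    (_ : (p : Ω) = 0 → t ∈ E ∧ ∀ x ∈ E, ∃ y : Fin p → Ω, (∀ i, y i ∈ E) ∧ x = ∑ i, y i ^ p * t ^ (i : ℕ))
    {E₁ : Subfield Ω} (_ : FinExt E E₁),
    ∃ K₁ E₂ : Subfield Ω, FinExt K K₁ ∧ NormalIn K K₁ ∧ FinExt E E₂ ∧ E₁ ≤ E₂ ∧
      Kh ⊔ K₁ = Kh ⊔ E₂ ∧ NormLe K₁ (Kh ⊔ K₁)

/-- the statement of `inner` -/
def StInner : Prop := ∀ {Ω : Type u} [NormedField Ω] [IsUltrametricDist Ω] [IsAlgClosed Ω]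
    {p : ℕ} (_ : p.Prime) {K Lh : Subfield Ω} (_ : K ≤ Lh)
    (_ : IsComplete (Lh : Set Ω)) (_ : ‖(p : Ω)‖ < 1)
    (_ : ∃ ϖ ∈ Lh, Disc Lh ϖ) (t : Ω) (_ : t ∈ K) (_ : t ≠ 0) (_ : ‖t‖ < 1)
    (_ : ∀ x ∈ Lh, ‖x‖ ≤ 1 → (∀ n : ℕ, ∃ y ∈ Lh, ‖y ^ p ^ n - x‖ < 1) →
      ∃ f : Polynomial Ω, f.Monic ∧ (∀ i, f.coeff i ∈ K ∧ ‖f.coeff i‖ ≤ 1) ∧ ‖f.eval x‖ < 1 ∧
        ‖(Polynomial.derivative f).eval x‖ = 1),
    ∃ K₁ : Subfield Ω, FinExt K K₁ ∧ NormalIn K K₁ ∧ NormLe K₁ (Lh ⊔ K₁)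

theorem stInner (HP : StPair.{u}) (HT : StTower.{u}) (HK : StKrasner.{u}) : StInner.{u} := by
  intro Ω _ _ _ p hp K Lh hKL hc hpn hd t htK ht0 ht1 hres
  set Kh := K.topologicalClosure with hKh
  have hKKh : K ≤ Kh := K.le_topologicalClosure
  have hKhL : Kh ≤ Lh := K.topologicalClosure_minimal hKL hc.isClosed
  have hKhc : IsComplete (Kh : Set Ω) := by
    have h1 : IsClosed (Kh : Set Ω) := K.isClosed_topologicalClosure
    intro f hf hfK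
    obtain ⟨x, -, hx⟩ := hc f hf (hfK.trans (Filter.principal_mono.2 hKhL))
    have := hf.1
    exact ⟨x, isClosed_iff_frequently.1 h1 x (by
      refine Filter.Frequently.filter_mono ?_ hx
      have h2 : ∀ᶠ y in f, y ∈ (Kh : Set Ω) := Filter.le_principal_iff.1 hfK
      exact Filter.Eventually.frequently h2), hx⟩
  have hdense : ∀ x ∈ Kh, ∀ ε > 0, ∃ y ∈ K, ‖x - y‖ < ε := by
    intro x hx ε hε
    have hx' : x ∈ closure (K : Set Ω) := hx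
    obtain ⟨y, hy, hxy⟩ := Metric.mem_closure_iff.1 hx' ε hε
    exact ⟨y, hy, by rwa [dist_eq_norm] at hxy⟩
  obtain ⟨E, F, hEK, hFL, hpair, hfin, hchar⟩ := HP hp hKhL hKhc hc hpn hd t (hKKh htK) ht0 ht1
    (fun x hx hx1 hn => by
      obtain ⟨f, hm, hc, h1, h2⟩ := hres x hx hx1 hn
      exact ⟨f, hm, fun i => ⟨hKKh (hc i).1, (hc i).2⟩, h1, h2⟩)
  obtain ⟨E₁, hE₁, hn₁⟩ := HT hp hpair hfin
  have h0 : ∃ π ∈ E, 0 < ‖π‖ ∧ ‖π‖ < 1 := by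
    obtain ⟨π, hπ, h1, h2, -⟩ := hpair.disc
    exact ⟨π, hπ, h1, h2⟩
  obtain ⟨K₁, E₂, hK₁, hnorm, hE₂, h12, hsup, hnl⟩ := HK hp hKKh hKhc hdense hEK hpair.completeE
    h0 hpn t htK hchar hE₁
  refine ⟨K₁, hK₁, hnorm, ?_⟩
  -- `Pair p E₁ (Lh ⊔ E₁)`
  have hp1 : Pair p E₁ (F ⊔ E₁) := EppUp.pair_up hp hpair hE₁
  have hf1 : FinExt (F ⊔ E₁) (Lh ⊔ E₁) := by
    have := hfin.sup E₁
    rwa [sup_comm E₁ F, sup_comm E₁ Lh] at this
  have hp2 : Pair p E₁ (Lh ⊔ E₁) := EppUp.pair_fin hp hp1 hf1 (by rwa [sup_comm] at hn₁)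
  have hE12 : FinExt E₁ E₂ := hE₂.top hE₁.le h12
  have hp3 : Pair p E₂ (Lh ⊔ E₁ ⊔ E₂) := EppUp.pair_up hp hp2 hE12
  have hn3 := hp3.normLe
  refine hnl.trans ?_
  rw [hsup]
  refine hn3.mono le_sup_right ?_
  refine sup_le (le_sup_left.trans le_sup_left) ?_
  calc K₁ ≤ Kh ⊔ K₁ := le_sup_right
    _ = Kh ⊔ E₂ := hsup
    _ ≤ Lh ⊔ E₁ ⊔ E₂ := sup_le_sup (hKhL.trans le_sup_left) le_rfl

/-- Epp's theorem from `inner`. -/
theorem epp_of_stInner (HI : StInner.{u}) (A B K L : Type u) [CommRing A] [IsDomain A] [IsDiscreteValuationRing A]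
    [CommRing B] [IsDomain B] [IsDiscreteValuationRing B] [Algebra A B] [IsLocalHom (algebraMap A B)]
    (hinj : Function.Injective (algebraMap A B))
    [Field K] [Field L] [Algebra A K] [IsFractionRing A K] [Algebra B L] [IsFractionRing B L]
    [Algebra K L] [Algebra A L] [IsScalarTower A K L] [IsScalarTower A B L]
    (hres : ∀ p : ℕ, p.Prime → CharP (IsLocalRing.ResidueField A) p →
      ∀ x : IsLocalRing.ResidueField B, (∀ n : ℕ, ∃ y : IsLocalRing.ResidueField B, y ^ (p ^ n) = x) →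
        IsSeparable (IsLocalRing.ResidueField A) x) :
    ∃ (K₁ : Type u) (_ : Field K₁) (_ : Algebra K K₁) (_ : FiniteDimensional K K₁), EtRam.IsWeakSolution B K L K₁ := by
  rcases CharP.exists' (IsLocalRing.ResidueField A) with h0 | ⟨p, hp, hchar⟩
  · exact EppZero.exists_weakSolution A B K L hinj h0
  · have hpp : p.Prime := hp.out
    obtain ⟨Ω, _, _, _, j, Lh, hjL, hc, hdense, hj⟩ := EppOmega.exists_omega B L
    obtain ⟨π, hπ⟩ := IsDiscreteValuationRing.exists_irreducible A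
    obtain ⟨ρ, hρ⟩ := IsDiscreteValuationRing.exists_irreducible B
    have hpn : ‖(p : Ω)‖ < 1 := EppOmega2.norm_p_lt_one (A := A) j hj p
    have hKL : (j.comp (algebraMap K L)).fieldRange ≤ Lh := by
      rintro _ ⟨x, rfl⟩
      exact hjL ⟨algebraMap K L x, rfl⟩
    have ht1 : ‖j (algebraMap B L (algebraMap A B π))‖ < 1 := by
      rw [EppResid.norm_lt_one_iff j hj, IsLocalRing.mem_maximalIdeal, mem_nonunits_iff]
      intro h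
      exact hπ.not_isUnit (isUnit_of_map_unit (algebraMap A B) _ h)
    obtain ⟨K₁, h1, h2, h3⟩ := HI hpp hKL hc hpn
      ⟨j (algebraMap B L ρ), hjL ⟨_, rfl⟩, EppOmega2.disc j hj Lh hdense hρ⟩
      (j (algebraMap B L (algebraMap A B π)))
      ⟨algebraMap A K π, by
        rw [RingHom.comp_apply, ← IsScalarTower.algebraMap_apply A K L, IsScalarTower.algebraMap_apply A B L]⟩
      (by
        rw [Ne, map_eq_zero, map_eq_zero_iff _ (IsFractionRing.injective B L), map_eq_zero_iff _ hinj]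
        exact hπ.ne_zero) ht1
      (EppResid.residue_condition j hj Lh hdense p hpp (hres p hpp hchar))
    exact EppWeak.isWeakSolution_of_normal j hj K₁ h1 h2 (h3.mono le_rfl (sup_le_sup hjL le_rfl))

end Groth.Agent.Etalg.EppEnd
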