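import Mathlib.Analysis.Normed.Field.Dense
import Mathlib.FieldTheory.PrimitiveElement
import Mathlib.FieldTheory.Galois.Basic
import Mathlib.FieldTheory.Normal.Closure
import Mathlib.FieldTheory.AlgebraicClosure
import Mathlib.Analysis.Normed.Module.FiniteDimension
import Mathlib.Topology.Algebra.Field

/-!
# Krasner's lemma and density descent of finite normal extensions

`K` is a dense subfield of the complete nonarchimedean field `Kh`, both inside a normed field `Ω`.

* `krasner`: Krasner's lemma for elements of an arbitrary normed extension.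
* `exists_poly_of_isGalois`: a finite Galois extension of `Kh` in the algebraically closed `Ω` is generated by
  the roots of a separable polynomial over `K`.
* `exists_normal`: a finite normal extension of `Kh` of the form (finite Galois)·(roots of `h ∈ K[X]`) is generated
  by a finite normal extension of `K`.
* `exists_norm_eq`: norms on `Kh(K₁)` are norms of elements of `K₁`.
* `exists_normal_good`: descent of `|L N| = |N|`.
-/

set_option autoImplicit false

universe u v w

open Polynomial IntermediateField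

namespace Groth.Agent.Etalg.EppKrasnerA

section Krasner

variable {Kh : Type u} {Ω : Type v} [NontriviallyNormedField Kh] [CompleteSpace Kh]
  [IsUltrametricDist Kh] [NormedField Ω] [NormedAlgebra Kh Ω]

/-- Krasner's lemma for two algebraic elements of an arbitrary normed extension. -/
theorem krasner {x y : Ω} (hx : IsSeparable Kh x)
    (sp : ((minpoly Kh x).map (algebraMap Kh Ω)).Splits) (hy : IsIntegral Kh y)
    (h : ∀ x' : Ω, aeval x' (minpoly Kh x) = 0 → x ≠ x' → ‖x - y‖ < ‖x - x'‖) : x ∈ Kh⟮y⟯ := by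
  let C : IntermediateField Kh Ω := algebraicClosure Kh Ω
  let xC : C := ⟨x, (mem_algebraicClosure_iff (F := Kh) (E := Ω)).2 hx.isIntegral.isAlgebraic⟩
  let yC : C := ⟨y, (mem_algebraicClosure_iff (F := Kh) (E := Ω)).2 hy.isAlgebraic⟩
  have hval : Function.Injective (C.val) := C.val.injective
  have hmx : minpoly Kh xC = minpoly Kh x := by
    exact (minpoly.algHom_eq C.val hval xC).symm
  have hmy : minpoly Kh yC = minpoly Kh y := (minpoly.algHom_eq C.val hval yC).symm
  have hkr : xC ∈ Kh⟮yC⟯ := by
    refine IsKrasner.krasner (K := Kh) (L := C) ?_ ?_ ?_ ?_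
    · rw [hmx]; exact hx
    · rw [hmx]
      refine IntermediateField.splits_of_splits sp ?_
      intro z hz
      refine (mem_algebraicClosure_iff (F := Kh) (E := Ω)).2 ?_
      refine ⟨minpoly Kh x, minpoly.ne_zero hx.isIntegral, ?_⟩
      exact aeval_eq_zero_of_mem_rootSet hz
    · rw [← isIntegral_algHom_iff C.val hval]; exact hy
    · intro x' hx' hne
      have h1 : aeval (x' : Ω) (minpoly Kh x) = 0 := by
        have h2 := hx'.aeval_eq_zero
        rw [hmx] at h2
        have h3 := congrArg C.val h2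
        rwa [← Polynomial.aeval_algHom_apply, map_zero] at h3
      have h4 : x ≠ (x' : Ω) := fun hh => hne (Subtype.ext hh)
      exact h x' h1 h4
  have h5 : C.val xC ∈ (Kh⟮yC⟯).map C.val := ⟨xC, hkr, rfl⟩
  rw [IntermediateField.adjoin_map, Set.image_singleton] at h5
  exact h5

end Krasner

theorem exists_sep {Ω : Type v} [NormedField Ω] (s : Finset Ω) :
    ∃ δ : ℝ, 0 < δ ∧ ∀ a ∈ s, ∀ b ∈ s, a ≠ b → δ ≤ ‖a - b‖ := by
  classical
  by_cases h : (s.offDiag.image (fun p => ‖p.1 - p.2‖)).Nonempty
  · refine ⟨(s.offDiag.image (fun p => ‖p.1 - p.2‖)).min' h, ?_, ?_⟩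
    · rw [Finset.lt_min'_iff]
      intro y hy
      obtain ⟨p, hp, rfl⟩ := Finset.mem_image.1 hy
      rw [Finset.mem_offDiag] at hp
      exact norm_pos_iff.2 (sub_ne_zero.2 hp.2.2)
    · intro a ha b hb hab
      apply Finset.min'_le
      exact Finset.mem_image.2 ⟨(a, b), Finset.mem_offDiag.2 ⟨ha, hb, hab⟩, rfl⟩
  · refine ⟨1, one_pos, ?_⟩
    intro a ha b hb hab
    exact absurd ⟨_, Finset.mem_image.2 ⟨(a, b), Finset.mem_offDiag.2 ⟨ha, hb, hab⟩, rfl⟩⟩ h

theorem exists_bound {Ω : Type v} [NormedField Ω] (s : Finset Ω) :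
    ∃ M : ℝ, 1 ≤ M ∧ ∀ a ∈ s, max ‖a‖ 1 ≤ M := by
  classical
  induction s using Finset.induction_on with
  | empty => exact ⟨1, le_refl _, by simp⟩
  | insert a s ha ih =>
    obtain ⟨M, hM, h⟩ := ih
    refine ⟨max M (max ‖a‖ 1), le_max_of_le_left hM, ?_⟩
    intro b hb
    rcases Finset.mem_insert.1 hb with rfl | hb
    · exact le_max_right _ _
    · exact (h b hb).trans (le_max_left _ _)

section Approx

variable {K : Type w} {Kh : Type u} {Ω : Type v} [Field K] [NontriviallyNormedField Kh]
  [NormedField Ω] [NormedAlgebra Kh Ω] [Algebra K Kh]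

/-- Approximation of a separable polynomial over the completion by a polynomial over the dense
subfield, with control of the roots. -/
theorem exists_close (hd : DenseRange (algebraMap K Kh)) (f : Polynomial Kh) (hf : f.Monic) (hdeg : f.natDegree ≠ 0)
    (hΩ : ∀ g : Polynomial Kh, (g.map (algebraMap Kh Ω)).Splits)
    (δ : ℝ) (hδ : 0 < δ) :
    ∃ g : Polynomial K, g.Monic ∧ g.natDegree = f.natDegree ∧
      ∀ a : Ω, aeval a f = 0 → ∃ b : Ω, aeval b (g.map (algebraMap K Kh)) = 0 ∧ ‖a - b‖ < δ := by
  classical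
  obtain ⟨M, hM1, hM⟩ := exists_bound (f.rootSet Ω).toFinset
  have hM0 : 0 < M := lt_of_lt_of_le one_pos hM1
  have hε : (δ / M) ^ f.natDegree / (f.natDegree + 1) > 0 := by positivity
  obtain ⟨g, gmon, gdeg, gcoeff⟩ :=
    exists_monic_and_natDegree_eq_and_norm_map_algebraMap_coeff_sub_lt hd hf hε
  refine ⟨g, gmon, gdeg.symm, ?_⟩
  intro a ha
  obtain ⟨b, hb, hab⟩ := exists_aroots_norm_sub_lt_of_norm_coeff_sub_lt (L := Ω)
      hε ha hf (gmon.map _) (gdeg ▸ (g.natDegree_map _)) gcoeff (hΩ _)
  refine ⟨b, ?_, ?_⟩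
  · rw [mem_aroots] at hb
    exact hb.2
  · have h1 : (((f.natDegree : ℝ) + 1) * ((δ / M) ^ f.natDegree / (f.natDegree + 1))) = (δ / M) ^ f.natDegree := by
      field_simp
    rw [h1, Real.pow_rpow_inv_natCast (by positivity) hdeg] at hab
    refine hab.trans_le ?_
    have h2 : max ‖a‖ 1 ≤ M := hM a (by
      rw [Set.mem_toFinset, mem_rootSet]
      exact ⟨hf.ne_zero, ha⟩)
    calc δ / M * max ‖a‖ 1 ≤ δ / M * M := by gcongr
      _ = δ := by field_simp

end Approx

section Main

variable {K : Type w} {Kh : Type u} {Ω : Type v} [Field K] [NontriviallyNormedField Kh]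
  [NormedField Ω] [NormedAlgebra Kh Ω] [Algebra K Kh] [Algebra K Ω] [IsScalarTower K Kh Ω]

/-- Adjoining a set to the dense subfield is dense in adjoining it to the big field. -/
theorem adjoin_subset_closure (hd : DenseRange (algebraMap K Kh)) (S : Set Ω) :
    ((IntermediateField.adjoin Kh S : IntermediateField Kh Ω) : Set Ω) ⊆
      closure ((IntermediateField.adjoin K S : IntermediateField K Ω) : Set Ω) := by
  have hcl : (closure ((IntermediateField.adjoin K S : IntermediateField K Ω) : Set Ω)) =
      ((IntermediateField.adjoin K S).toSubfield.topologicalClosure : Set Ω) := rfl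
  rw [hcl]
  have h1 : ∀ a : Kh, algebraMap Kh Ω a ∈
      (IntermediateField.adjoin K S).toSubfield.topologicalClosure := by
    intro a
    have h2 : a ∈ closure (Set.range (algebraMap K Kh)) := hd a
    have h3 : algebraMap Kh Ω a ∈ closure (algebraMap Kh Ω '' (Set.range (algebraMap K Kh))) :=
      image_closure_subset_closure_image (continuous_algebraMap Kh Ω) ⟨a, h2, rfl⟩
    refine closure_mono ?_ h3
    rintro _ ⟨_, ⟨b, rfl⟩, rfl⟩
    rw [← IsScalarTower.algebraMap_apply]
    exact (IntermediateField.adjoin K S).algebraMap_mem b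
  let E : IntermediateField Kh Ω :=
    { (IntermediateField.adjoin K S).toSubfield.topologicalClosure with
      algebraMap_mem' := h1 }
  have h4 : IntermediateField.adjoin Kh S ≤ E := by
    rw [IntermediateField.adjoin_le_iff]
    intro s hs
    exact subset_closure (IntermediateField.subset_adjoin K S hs)
  exact h4

theorem adjoin_subset (S : Set Ω) :
    ((IntermediateField.adjoin K S : IntermediateField K Ω) : Set Ω) ⊆
      ((IntermediateField.adjoin Kh S : IntermediateField Kh Ω) : Set Ω) := by
  have h : IntermediateField.adjoin K S ≤ (IntermediateField.adjoin Kh S).restrictScalars K := by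
    rw [IntermediateField.adjoin_le_iff]
    exact IntermediateField.subset_adjoin Kh S
  exact h

omit [Field K] [NormedField Ω] [NormedAlgebra Kh Ω] [Algebra K Kh] [Algebra K Ω] [IsScalarTower K Kh Ω]
  [NontriviallyNormedField Kh] in
theorem adjoin_adjoin_top {F : Type*} {L : Type*} {E : Type*} [Field F] [Field L] [Field E] [Algebra F L] [Algebra L E]
    [Algebra F E] [IsScalarTower F L E] (S : Set E) :
    IntermediateField.adjoin L ((IntermediateField.adjoin F S : IntermediateField F E) : Set E) =
      IntermediateField.adjoin L S := by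
  apply le_antisymm
  · rw [IntermediateField.adjoin_le_iff]
    have h : IntermediateField.adjoin F S ≤ (IntermediateField.adjoin L S).restrictScalars F := by
      rw [IntermediateField.adjoin_le_iff]
      exact IntermediateField.subset_adjoin L S
    exact h
  · exact IntermediateField.adjoin.mono _ _ _ (IntermediateField.subset_adjoin F S)

/-- Transitivity of adjoining along the base extension `K → Kh`. -/
theorem adjoin_adjoin (S : Set Ω) :
    IntermediateField.adjoin Kh ((IntermediateField.adjoin K S : IntermediateField K Ω) : Set Ω) =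
      IntermediateField.adjoin Kh S := by
  apply le_antisymm
  · rw [IntermediateField.adjoin_le_iff]
    exact adjoin_subset S
  · exact IntermediateField.adjoin.mono _ _ _ (IntermediateField.subset_adjoin K S)

variable [CompleteSpace Kh] [IsUltrametricDist Kh]

/-- A finite Galois extension of the completion comes from a polynomial over the dense subfield. -/
theorem exists_poly_of_isGalois [IsAlgClosed Ω] (hd : DenseRange (algebraMap K Kh))
    (N : IntermediateField Kh Ω) [FiniteDimensional Kh N] [IsGalois Kh N] :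
    ∃ g : Polynomial K, g.Monic ∧ g.Separable ∧ 
      (∀ b ∈ g.rootSet Ω, Kh⟮b⟯ = N) ∧ IntermediateField.adjoin Kh (g.rootSet Ω) = N := by
  classical
  have : IsUltrametricDist Ω := IsUltrametricDist.of_normedAlgebra Kh
  obtain ⟨γ, hγ⟩ := Field.exists_primitive_element Kh N
  have hval : Function.Injective N.val := N.val.injective
  set f : Polynomial Kh := minpoly Kh γ with hf_def
  have hγi : IsIntegral Kh γ := IsIntegral.of_finite Kh γ
  have hfm : f.Monic := minpoly.monic hγi
  have hfi : Irreducible f := minpoly.irreducible hγi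
  have hfs : f.Separable := (Algebra.IsSeparable.isSeparable Kh γ)
  have hfd : f.natDegree = Module.finrank Kh N := by
    rw [hf_def, ← IntermediateField.adjoin.finrank hγi, hγ]
    exact IntermediateField.finrank_top' 
  have hfN : (f.map (algebraMap Kh N)).Splits := Normal.splits inferInstance γ
  have hrootN : ∀ a : Ω, aeval a f = 0 → a ∈ N := by
    intro a ha
    have h1 : a ∈ f.rootSet Ω := by
      rw [mem_rootSet]; exact ⟨hfm.ne_zero, ha⟩
    have h2 := hfN.image_rootSet (N.val : N →ₐ[Kh] Ω)
    rw [← h2] at h1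
    obtain ⟨c, _, rfl⟩ := h1
    exact c.2
  have hfin : Module.finrank Kh N ≠ 0 := Module.finrank_pos.ne'
  have hfd0 : f.natDegree ≠ 0 := by rw [hfd]; exact hfin
  have hΩ : ∀ g : Polynomial Kh, (g.map (algebraMap Kh Ω)).Splits := fun g => IsAlgClosed.splits _
  obtain ⟨δ, hδ, hδ'⟩ := exists_sep (f.rootSet Ω).toFinset
  obtain ⟨g, hgm, hgd, hg⟩ := exists_close hd f hfm hfd0 hΩ δ hδ
  have hroot : ∀ a : Ω, aeval a f = 0 → ∃ b : Ω, aeval b g = 0 ∧ ‖a - b‖ < δ := by
    intro a ha
    obtain ⟨b, hb, hab⟩ := hg a ha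
    refine ⟨b, ?_, hab⟩
    rwa [aeval_map_algebraMap] at hb
  choose! β hβ hβ' using hroot
  have hmem : ∀ {a : Ω}, a ∈ f.rootSet Ω ↔ aeval a f = 0 := by
    intro a; rw [mem_rootSet]; exact ⟨fun h => h.2, fun h => ⟨hfm.ne_zero, h⟩⟩
  have hmemg : ∀ {a : Ω}, a ∈ g.rootSet Ω ↔ aeval a g = 0 := by
    intro a; rw [mem_rootSet]; exact ⟨fun h => h.2, fun h => ⟨hgm.ne_zero, h⟩⟩
  have hinj : Set.InjOn β (f.rootSet Ω) := by
    intro a ha a' ha' haa'
    by_contra hne
    have h1 : δ ≤ ‖a - a'‖ := hδ' a (Set.mem_toFinset.2 ha) a' (Set.mem_toFinset.2 ha') hne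
    have h2 : ‖a - a'‖ ≤ max ‖a - β a‖ ‖β a - a'‖ := by
      have h3 := IsUltrametricDist.norm_add_le_max (a - β a) (β a - a')
      rwa [sub_add_sub_cancel] at h3
    have h3 : ‖a - β a‖ < δ := hβ' a (hmem.1 ha)
    have h4 : ‖β a - a'‖ < δ := by
      rw [haa', norm_sub_rev]; exact hβ' a' (hmem.1 ha')
    exact absurd (h1.trans h2) (not_le.2 (max_lt h3 h4))
  have hcardf : Fintype.card (f.rootSet Ω) = f.natDegree :=
    card_rootSet_eq_natDegree hfs (hΩ f)
  have hcardf' : (f.rootSet Ω).toFinset.card = f.natDegree := by rw [Set.toFinset_card, hcardf]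
  have hmaps : Set.MapsTo β (f.rootSet Ω) (g.rootSet Ω) := fun a ha => hmemg.2 (hβ a (hmem.1 ha))
  have hΩg : (g.map (algebraMap K Ω)).Splits := IsAlgClosed.splits _
  have hcardg : (g.rootSet Ω).toFinset.card ≤ g.natDegree := by
    have h1 : (g.rootSet Ω).toFinset = (g.aroots Ω).toFinset := by
      ext x; simp [rootSet]
    rw [h1]
    refine (Multiset.toFinset_card_le _).trans ((card_roots' _).trans ?_)
    rw [natDegree_map]
  have himg : (f.rootSet Ω).toFinset.image β = (g.rootSet Ω).toFinset := by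
    apply Finset.eq_of_subset_of_card_le
    · intro b hb
      obtain ⟨a, ha, rfl⟩ := Finset.mem_image.1 hb
      exact Set.mem_toFinset.2 (hmaps (Set.mem_toFinset.1 ha))
    · rw [Finset.card_image_of_injOn (by rwa [Set.coe_toFinset]), hcardf', ← hgd]
      exact hcardg
  have hsurj : ∀ b ∈ g.rootSet Ω, ∃ a ∈ f.rootSet Ω, β a = b := by
    intro b hb
    rw [← Set.mem_toFinset, ← himg] at hb
    obtain ⟨a, ha, rfl⟩ := Finset.mem_image.1 hb
    exact ⟨a, Set.mem_toFinset.1 ha, rfl⟩
  have hgs : g.Separable := by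
    rw [← card_rootSet_eq_natDegree_iff_of_splits (K := Ω) hgm.ne_zero hΩg, ← Set.toFinset_card,
      ← himg, Finset.card_image_of_injOn (by rwa [Set.coe_toFinset]), hcardf', hgd]
  have hmin : ∀ a : Ω, aeval a f = 0 → minpoly Kh a = f := fun a ha =>
    (minpoly.eq_of_irreducible_of_monic hfi ha hfm).symm
  have hN : ∀ a : Ω, aeval a f = 0 → Kh⟮a⟯ = N := by
    intro a ha
    have hai : IsIntegral Kh a := ⟨f, hfm, by rwa [aeval_def] at ha⟩
    refine IntermediateField.eq_of_le_of_finrank_eq ?_ ?_
    · rw [IntermediateField.adjoin_simple_le_iff]; exact hrootN a ha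
    · rw [IntermediateField.adjoin.finrank hai, hmin a ha, hfd]
  have hkr : ∀ a : Ω, aeval a f = 0 → Kh⟮β a⟯ = N := by
    intro a ha
    have hai : IsIntegral Kh a := ⟨f, hfm, by rwa [aeval_def] at ha⟩
    have hbi : IsIntegral Kh (β a) := by
      refine ⟨g.map (algebraMap K Kh), hgm.map _, ?_⟩
      rw [← aeval_def, aeval_map_algebraMap]; exact hβ a ha
    have h1 : a ∈ Kh⟮β a⟯ := by
      refine krasner ?_ (hΩ _) hbi ?_
      · rw [IsSeparable, hmin a ha]; exact hfs
      · intro x' hx' hne
        rw [hmin a ha] at hx'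
        exact (hβ' a ha).trans_le (hδ' a (Set.mem_toFinset.2 (hmem.2 ha)) x'
          (Set.mem_toFinset.2 (hmem.2 hx')) hne)
    have h2 : Kh⟮a⟯ ≤ Kh⟮β a⟯ := by rw [IntermediateField.adjoin_simple_le_iff]; exact h1
    have := IntermediateField.adjoin.finiteDimensional hbi
    rw [← hN a ha]
    refine (IntermediateField.eq_of_le_of_finrank_le h2 ?_).symm
    rw [IntermediateField.adjoin.finrank hbi, IntermediateField.adjoin.finrank hai, hmin a ha, ← hgd,
      ← natDegree_map (algebraMap K Kh) (p := g)]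
    refine natDegree_le_of_dvd (minpoly.dvd _ _ ?_) (hgm.map _).ne_zero
    rw [aeval_map_algebraMap]; exact hβ a ha
  have hfinal : ∀ b ∈ g.rootSet Ω, Kh⟮b⟯ = N := by
    intro b hb
    obtain ⟨a, ha, rfl⟩ := hsurj b hb
    exact hkr a (hmem.1 ha)
  refine ⟨g, hgm, hgs, hfinal, ?_⟩
  apply le_antisymm
  · rw [IntermediateField.adjoin_le_iff]
    intro b hb
    have := IntermediateField.mem_adjoin_simple_self Kh b
    rw [hfinal b hb] at this
    exact this
  · obtain ⟨a, ha⟩ : ∃ a : Ω, aeval a f = 0 := by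
      refine ⟨N.val γ, ?_⟩
      rw [aeval_algHom_apply, hf_def, minpoly.aeval, map_zero]
    rw [← hkr a ha, IntermediateField.adjoin_simple_le_iff]
    exact IntermediateField.subset_adjoin _ _ (hmaps (hmem.2 ha))

/-- Density descent: a finite normal extension `N` of the completion, generated by a finite Galois
extension and the roots of a polynomial over the dense subfield `K`, contains a finite normal
extension of `K` which generates it (and which is dense in it). -/
theorem exists_normal [IsAlgClosed Ω] (hd : DenseRange (algebraMap K Kh))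
    (N : IntermediateField Kh Ω) [FiniteDimensional Kh N] [IsGalois Kh N]
    (h : Polynomial K) :
    ∃ K₁ : IntermediateField K Ω, FiniteDimensional K K₁ ∧ Normal K K₁ ∧
      IntermediateField.adjoin Kh (K₁ : Set Ω) = N ⊔ IntermediateField.adjoin Kh (h.rootSet Ω) := by
  obtain ⟨g, hgm, hgs, -, hgN⟩ := exists_poly_of_isGalois hd N
  by_cases hh : h = 0
  · subst hh
    refine ⟨IntermediateField.adjoin K (g.rootSet Ω), ?_, ?_, ?_⟩
    · have := IntermediateField.adjoin_rootSet_isSplittingField (K := K) (p := g) (L := Ω)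
        (IsAlgClosed.splits _)
      exact this.finiteDimensional
    · have := IntermediateField.adjoin_rootSet_isSplittingField (K := K) (p := g) (L := Ω)
        (IsAlgClosed.splits _)
      exact Normal.of_isSplittingField g
    · rw [adjoin_adjoin, hgN, rootSet_zero, IntermediateField.adjoin_empty, sup_bot_eq]
  · have hsf := IntermediateField.adjoin_rootSet_isSplittingField (K := K) (p := g * h) (L := Ω)
        (IsAlgClosed.splits _)
    refine ⟨IntermediateField.adjoin K ((g * h).rootSet Ω), hsf.finiteDimensional, 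
      Normal.of_isSplittingField (g * h), ?_⟩
    have hr : (g * h).rootSet Ω = g.rootSet Ω ∪ h.rootSet Ω := by
      ext x
      simp only [Set.mem_union, mem_rootSet, map_mul, mul_eq_zero, ne_eq, hgm.ne_zero, hh]
      tauto
    rw [adjoin_adjoin, hr, IntermediateField.adjoin_union, hgN]

omit [CompleteSpace Kh] in
/-- Every norm of an element of `N = Kh(K₁)` is a norm of an element of `K₁`. -/
theorem exists_norm_eq (hd : DenseRange (algebraMap K Kh))
    (K₁ : IntermediateField K Ω) (x : Ω)
    (hx : x ∈ IntermediateField.adjoin Kh (K₁ : Set Ω)) :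
    ∃ y ∈ K₁, ‖y‖ = ‖x‖ := by
  have : IsUltrametricDist Ω := IsUltrametricDist.of_normedAlgebra Kh
  by_cases hx0 : x = 0
  · exact ⟨0, K₁.zero_mem, by rw [hx0]⟩
  have h1 := adjoin_subset_closure (Kh := Kh) hd (K₁ : Set Ω) hx
  rw [IntermediateField.adjoin_self] at h1
  obtain ⟨y, hy, hxy⟩ := Metric.mem_closure_iff.1 h1 ‖x‖ (norm_pos_iff.2 hx0)
  refine ⟨y, hy, ?_⟩
  rw [dist_eq_norm] at hxy
  rw [norm_sub_rev] at hxy
  have h2 := IsUltrametricDist.norm_add_eq_max_of_norm_ne_norm (ne_of_gt hxy : ‖x‖ ≠ ‖y - x‖)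
  rw [add_sub_cancel, max_eq_left hxy.le] at h2
  exact h2

/-- Density descent with the value group condition. -/
theorem exists_normal_good [IsAlgClosed Ω] (hd : DenseRange (algebraMap K Kh))
    {L : Type*} [Field L] [Algebra Kh L] [Algebra L Ω] [IsScalarTower Kh L Ω]
    (N : IntermediateField Kh Ω) [FiniteDimensional Kh N] [IsGalois Kh N] (h : Polynomial K)
    (hgood : ∀ x ∈ IntermediateField.adjoin L
      ((N ⊔ IntermediateField.adjoin Kh (h.rootSet Ω) : IntermediateField Kh Ω) : Set Ω),
      ∃ y ∈ N ⊔ IntermediateField.adjoin Kh (h.rootSet Ω), ‖y‖ = ‖x‖) :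
    ∃ K₁ : IntermediateField K Ω, FiniteDimensional K K₁ ∧ Normal K K₁ ∧
      IntermediateField.adjoin Kh (K₁ : Set Ω) = N ⊔ IntermediateField.adjoin Kh (h.rootSet Ω) ∧
      ∀ x ∈ IntermediateField.adjoin L (K₁ : Set Ω), ∃ y ∈ K₁, ‖y‖ = ‖x‖ := by
  obtain ⟨K₁, h1, h2, h3⟩ := exists_normal (Ω := Ω) hd N h
  refine ⟨K₁, h1, h2, h3, ?_⟩
  intro x hx
  rw [← h3, adjoin_adjoin_top] at hgood
  obtain ⟨y, hy, hxy⟩ := hgood x hx
  rw [← hxy]
  exact exists_norm_eq hd K₁ y hy

end Main

end Groth.Agent.Etalg.EppKrasnerA
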