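import Groth.Agent.Etalg.EppSub2
import Groth.Agent.Etalg.EppKrasnerA
import Mathlib.Analysis.Normed.Unbundled.SpectralNorm

/-!
Residual degree of elements of norm `≤ 1` in terms of norms only; the étale and the fierce lemma.
-/

set_option autoImplicit false
set_option linter.unusedSectionVars false
universe u

namespace Groth.Agent.Etalg.EppNorm

open Polynomial EppFrame

variable {Ω : Type u} [NormedField Ω] [IsUltrametricDist Ω]

/-- Coefficients in `F` of norm at most one. -/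
def IntC (F : Subfield Ω) (f : Ω[X]) : Prop := ∀ i, f.coeff i ∈ F ∧ ‖f.coeff i‖ ≤ 1

theorem norm_sub_le_max (x y : Ω) : ‖x - y‖ ≤ max ‖x‖ ‖y‖ := by
  rw [sub_eq_add_neg, ← norm_neg y]; exact IsUltrametricDist.norm_add_le_max _ _

theorem norm_pow_sub_le {w w' : Ω} (hw : ‖w‖ ≤ 1) (hw' : ‖w'‖ ≤ 1) (i : ℕ) :
    ‖w ^ i - w' ^ i‖ ≤ ‖w - w'‖ := by
  induction i with
  | zero => simp
  | succ i ih =>
    have : w ^ (i+1) - w' ^ (i+1) = w * (w ^ i - w' ^ i) + (w - w') * w' ^ i := by ring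
    rw [this]
    refine (IsUltrametricDist.norm_add_le_max _ _).trans (max_le ?_ ?_)
    · rw [norm_mul]; exact (mul_le_of_le_one_left (norm_nonneg _) hw).trans ih
    · rw [norm_mul, norm_pow]
      exact mul_le_of_le_one_right (norm_nonneg _) (pow_le_one₀ (norm_nonneg _) hw')

theorem norm_eval_le {f : Ω[X]} {C : ℝ} (hC : 0 ≤ C) (hf : ∀ i, ‖f.coeff i‖ ≤ C) {w : Ω}
    (hw : ‖w‖ ≤ 1) : ‖f.eval w‖ ≤ C := by
  rw [eval_eq_sum_range]
  refine IsUltrametricDist.norm_sum_le_of_forall_le_of_nonneg hC fun i _ ↦ ?_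
  rw [norm_mul, norm_pow]
  exact (mul_le_of_le_one_right (norm_nonneg _) (pow_le_one₀ (norm_nonneg _) hw)).trans (hf i)

theorem norm_eval_sub_le {f : Ω[X]} {C : ℝ} (hC : 0 ≤ C) (hf : ∀ i, ‖f.coeff i‖ ≤ C) {w w' : Ω}
    (hw : ‖w‖ ≤ 1) (hw' : ‖w'‖ ≤ 1) : ‖f.eval w - f.eval w'‖ ≤ C * ‖w - w'‖ := by
  rw [eval_eq_sum_range, eval_eq_sum_range, ← Finset.sum_sub_distrib]
  refine IsUltrametricDist.norm_sum_le_of_forall_le_of_nonneg (by positivity) fun i _ ↦ ?_
  rw [← mul_sub, norm_mul]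
  exact mul_le_mul (hf i) (norm_pow_sub_le hw hw' i) (norm_nonneg _) hC

/-- The residual degree of `w` over `F` is at least `d`. -/
def ResDeg (F : Subfield Ω) (w : Ω) (d : ℕ) : Prop :=
  ∀ g : Ω[X], g.Monic → IntC F g → ‖g.eval w‖ < 1 → d ≤ g.natDegree

theorem ResDeg.norm_coeff_le {F : Subfield Ω} {w : Ω} {d : ℕ} (hmin : ResDeg F w d)
    (hw : ‖w‖ ≤ 1) {a : Ω[X]} (ha : ∀ i, a.coeff i ∈ F) (hd : a.natDegree < d) (i : ℕ) :
    ‖a.coeff i‖ ≤ ‖a.eval w‖ := by
  classical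
  by_cases ha0 : a = 0
  · simp [ha0]
  have hsupp : a.support.Nonempty := by rwa [Polynomial.support_nonempty]
  obtain ⟨j, hj, hjmax⟩ := a.support.exists_max_image (fun i ↦ ‖a.coeff i‖) hsupp
  have hjmax' : ∀ i, ‖a.coeff i‖ ≤ ‖a.coeff j‖ := by
    intro i
    by_cases hi : i ∈ a.support
    · exact hjmax i hi
    · rw [Polynomial.notMem_support_iff] at hi
      rw [hi, norm_zero]; exact norm_nonneg _
  refine (hjmax' i).trans ?_
  by_contra hlt
  push Not at hlt
  set c := ‖a.coeff j‖ with hc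
  have hcpos : 0 < c := by
    rw [hc, norm_pos_iff]; exact Polynomial.mem_support_iff.mp hj
  let T := a.support.filter (fun i ↦ ‖a.coeff i‖ = c)
  have hT : T.Nonempty := ⟨j, by simp [T, hj, ← hc]⟩
  let m := T.max' hT
  have hmT : m ∈ T := T.max'_mem hT
  have hmc : ‖a.coeff m‖ = c := (Finset.mem_filter.mp hmT).2
  have hm1 : ∀ i, m < i → ‖a.coeff i‖ < c := by
    intro i hi
    refine lt_of_le_of_ne (hjmax' i) fun h ↦ ?_
    have hi' : i ∈ a.support := by
      rw [Polynomial.mem_support_iff]; intro h0; rw [h0, norm_zero] at h; exact hcpos.ne h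
    exact absurd (T.le_max' i (Finset.mem_filter.mpr ⟨hi', h⟩)) (not_le.mpr hi)
  have hm0 : a.coeff m ≠ 0 := fun h0 ↦ by rw [h0, norm_zero] at hmc; exact hcpos.ne hmc
  have hmd : m ≤ a.natDegree := Polynomial.le_natDegree_of_ne_zero hm0
  -- truncation
  let t : Ω[X] := ∑ i ∈ Finset.range (m+1), Polynomial.monomial i (a.coeff i)
  have htcoeff : ∀ i, t.coeff i = if i ≤ m then a.coeff i else 0 := by
    intro i
    simp only [t, Polynomial.finsetSum_coeff, Polynomial.coeff_monomial]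
    rw [Finset.sum_ite_eq' (Finset.range (m+1)) i]
    simp only [Finset.mem_range, Nat.lt_succ_iff]
  have htdeg : t.natDegree ≤ m := by
    rw [Polynomial.natDegree_le_iff_coeff_eq_zero]
    intro N hN
    rw [htcoeff, if_neg (not_le.mpr hN)]
  have hteval : ‖t.eval w‖ < c := by
    have hr : ∀ i, ‖(a - t).coeff i‖ < c := by
      intro i
      rw [Polynomial.coeff_sub, htcoeff]
      split_ifs with h
      · simp [hcpos]
      · rw [sub_zero]; exact hm1 i (not_le.mp h)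
    have hr2 : ‖(a - t).eval w‖ < c := by
      by_cases h0 : a - t = 0
      · simp [h0, hcpos]
      · obtain ⟨k, -, hkmax⟩ := (a-t).support.exists_max_image (fun i ↦ ‖(a-t).coeff i‖)
          (by rwa [Polynomial.support_nonempty])
        refine lt_of_le_of_lt (norm_eval_le (norm_nonneg _) (f := a - t) (C := ‖(a-t).coeff k‖) (fun i ↦ ?_) hw) (hr k)
        by_cases hi : i ∈ (a-t).support
        · exact hkmax i hi
        · rw [Polynomial.notMem_support_iff] at hi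
          rw [hi, norm_zero]; exact norm_nonneg _
    have : t.eval w = a.eval w - (a - t).eval w := by rw [eval_sub]; ring
    rw [this]
    exact lt_of_le_of_lt (norm_sub_le_max _ _) (max_lt hlt hr2)
  let g : Ω[X] := C (a.coeff m)⁻¹ * t
  have hgcoeff : ∀ i, g.coeff i = (a.coeff m)⁻¹ * (if i ≤ m then a.coeff i else 0) := by
    intro i; rw [Polynomial.coeff_C_mul, htcoeff]
  have hgdeg : g.natDegree ≤ m := (Polynomial.natDegree_C_mul_le _ _).trans htdeg
  have hgmonic : g.Monic := by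
    refine Polynomial.monic_of_natDegree_le_of_coeff_eq_one m hgdeg ?_
    rw [hgcoeff, if_pos le_rfl, inv_mul_cancel₀ hm0]
  have hgint : IntC F g := by
    intro i
    rw [hgcoeff]
    constructor
    · refine F.mul_mem (F.inv_mem (ha m)) ?_
      split_ifs
      · exact ha i
      · exact F.zero_mem
    · rw [norm_mul, norm_inv, hmc]
      split_ifs
      · rw [inv_mul_le_one₀ hcpos]; exact hjmax' i
      · simp
  have hgeval : ‖g.eval w‖ < 1 := by
    simp only [g]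
    rw [eval_mul, eval_C, norm_mul, norm_inv, hmc, inv_mul_lt_one₀ hcpos]
    exact hteval
  have := hmin g hgmonic hgint hgeval
  omega

theorem ResDeg.of_near {F : Subfield Ω} {w w' : Ω} {d : ℕ} (hmin : ResDeg F w d)
    (hw : ‖w‖ ≤ 1) (h : ‖w - w'‖ < 1) : ResDeg F w' d := by
  intro g hg hgi hge
  have hw' : ‖w'‖ ≤ 1 := by
    have : w' = w - (w - w') := by ring
    rw [this]
    exact (norm_sub_le_max _ _).trans (max_le hw h.le)
  apply hmin g hg hgi
  have h1 : g.eval w = (g.eval w - g.eval w') + g.eval w' := by ring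
  rw [h1]
  refine lt_of_le_of_lt (IsUltrametricDist.norm_add_le_max _ _) (max_lt ?_ hge)
  refine lt_of_le_of_lt (norm_eval_sub_le zero_le_one (fun i ↦ (hgi i).2) hw hw') ?_
  rwa [one_mul]

/-- elements of `F(w)` as polynomials of small degree -/
theorem exists_poly {F : Subfield Ω} {w : Ω} {g : Ω[X]} (hg : g.Monic) (hgF : ∀ i, g.coeff i ∈ F)
    (hgw : g.eval w = 0) (hd : 0 < g.natDegree) {x : Ω} (hx : x ∈ F ⊔ Subfield.closure {w}) :
    ∃ a : Ω[X], (∀ i, a.coeff i ∈ F) ∧ a.natDegree < g.natDegree ∧ a.eval w = x := by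
  rw [← EppSub.mem_adjoin_iff] at hx
  have hlift : g ∈ Polynomial.lifts (algebraMap F Ω) := by
    rw [Polynomial.lifts_iff_coeff_lifts]
    intro n
    exact ⟨⟨g.coeff n, hgF n⟩, rfl⟩
  obtain ⟨G, hG1, hG2, hG3⟩ := Polynomial.lifts_and_natDegree_eq_and_monic hlift hg
  have hGw : aeval w G = 0 := by rw [aeval_def, ← eval_map, hG1, hgw]
  have hint : IsIntegral F w := ⟨G, hG3, by rwa [← aeval_def]⟩
  rw [← IntermediateField.mem_toSubalgebra, IntermediateField.adjoin_simple_toSubalgebra_of_isAlgebraic hint.isAlgebraic,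
    Algebra.adjoin_singleton_eq_range_aeval] at hx
  obtain ⟨q, hq⟩ := hx
  have hq : aeval w q = x := hq
  refine ⟨(q %ₘ G).map (algebraMap F Ω), fun i ↦ ?_, ?_, ?_⟩
  · rw [Polynomial.coeff_map]; exact ((q %ₘ G).coeff i).2
  · rw [Polynomial.natDegree_map, ← hG2]
    refine Polynomial.natDegree_modByMonic_lt _ hG3 ?_
    rintro rfl
    rw [← hG2, Polynomial.natDegree_one] at hd
    exact lt_irrefl _ hd
  · rw [eval_map, ← aeval_def, Polynomial.aeval_modByMonic_eq_self_of_root hGw, hq]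

/-- If the residual degree of `w` is the degree, then `|F(w)| = |F|`. -/
theorem ResDeg.normLe {F : Subfield Ω} {w : Ω} {g : Ω[X]} (hw : ‖w‖ ≤ 1)
    (hg : g.Monic) (hgF : ∀ i, g.coeff i ∈ F) (hgw : g.eval w = 0)
    (hmin : ResDeg F w g.natDegree) : NormLe F (F ⊔ Subfield.closure {w}) := by
  have hd : 0 < g.natDegree := by
    rw [Nat.pos_iff_ne_zero]
    intro h0
    rw [hg.natDegree_eq_zero.mp h0, eval_one] at hgw
    exact one_ne_zero hgw
  intro x hx
  obtain ⟨a, ha, had, rfl⟩ := exists_poly hg hgF hgw hd hx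
  have h1 := hmin.norm_coeff_le hw ha had
  by_cases ha0 : a = 0
  · exact ⟨0, F.zero_mem, by simp [ha0]⟩
  obtain ⟨j, -, hjmax⟩ := a.support.exists_max_image (fun i ↦ ‖a.coeff i‖)
    (by rwa [Polynomial.support_nonempty])
  refine ⟨a.coeff j, ha j, le_antisymm (h1 j) (norm_eval_le (norm_nonneg _) (fun i ↦ ?_) hw)⟩
  by_cases hi : i ∈ a.support
  · exact hjmax i hi
  · rw [Polynomial.notMem_support_iff] at hi
    rw [hi, norm_zero]; exact norm_nonneg _

/-- existence of a minimal residual polynomial -/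
theorem exists_min {F : Subfield Ω} {w : Ω} {f : Ω[X]} (hf : f.Monic) (hfi : IntC F f)
    (hfw : ‖f.eval w‖ < 1) : ∃ g : Ω[X], g.Monic ∧ IntC F g ∧ ‖g.eval w‖ < 1 ∧
      ResDeg F w g.natDegree ∧ g.natDegree ≤ f.natDegree := by
  classical
  have hex : ∃ n, ∃ g : Ω[X], g.natDegree = n ∧ g.Monic ∧ IntC F g ∧ ‖g.eval w‖ < 1 :=
    ⟨_, f, rfl, hf, hfi, hfw⟩
  obtain ⟨g, hg1, hg2, hg3, hg4⟩ := Nat.find_spec hex
  refine ⟨g, hg2, hg3, hg4, ?_, ?_⟩
  · intro g' hg' hgi' hge'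
    rw [hg1]
    exact Nat.find_min' hex ⟨g', rfl, hg', hgi', hge'⟩
  · rw [hg1]
    exact Nat.find_min' hex ⟨f, rfl, hf, hfi, hfw⟩

variable [IsAlgClosed Ω]

/-- a polynomial with a small value has a close root -/
theorem exists_root_near {g : Ω[X]} (hg : g.Monic) {w : Ω} (hgw : ‖g.eval w‖ < 1) :
    ∃ w' : Ω, g.eval w' = 0 ∧ ‖w - w'‖ < 1 := by
  have hsplit := IsAlgClosed.splits g
  have h1 : g = (g.roots.map fun r ↦ X - C r).prod := by
    exact (hsplit.eq_prod_roots_of_monic hg)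
  by_contra hcon
  push Not at hcon
  have h2 : g.eval w = (g.roots.map fun r ↦ w - r).prod := by
    conv_lhs => rw [h1]
    rw [eval_multiset_prod, Multiset.map_map]
    congr 1
    refine Multiset.map_congr rfl fun r _ ↦ ?_
    simp
  have h3 : ∀ s : Multiset Ω, (∀ r ∈ s, 1 ≤ ‖w - r‖) → 1 ≤ ‖(s.map fun r ↦ w - r).prod‖ := by
    intro s
    induction s using Multiset.induction_on with
    | empty => intro _; simp
    | cons a s ih =>
      intro hs
      rw [Multiset.map_cons, Multiset.prod_cons, norm_mul]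
      exact one_le_mul_of_one_le_of_one_le (hs a (Multiset.mem_cons_self a s))
        (ih fun r hr ↦ hs r (Multiset.mem_cons_of_mem hr))
  have h4 : 1 ≤ ‖g.eval w‖ := by
    rw [h2]
    refine h3 _ fun r hr ↦ hcon r ?_
    exact (Polynomial.mem_roots'.mp hr).2
  exact absurd hgw (not_lt.mpr h4)

/-- roots of integral monic polynomials are integral -/
theorem norm_root_le {g : Ω[X]} (hg : g.Monic) (hgi : ∀ i, ‖g.coeff i‖ ≤ 1) {w : Ω}
    (hw : g.eval w = 0) : ‖w‖ ≤ 1 := by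
  by_contra hlt
  push Not at hlt
  have hn : g.natDegree ≠ 0 := by
    intro h0
    rw [hg.natDegree_eq_zero.mp h0, eval_one] at hw
    exact one_ne_zero hw
  obtain ⟨n, hn⟩ := Nat.exists_eq_succ_of_ne_zero hn
  rw [eval_eq_sum_range, hn, Finset.sum_range_succ] at hw
  have hlc : g.coeff n.succ = 1 := by rw [← hn]; exact hg
  rw [hlc, one_mul] at hw
  have h1 : ‖w ^ n.succ‖ ≤ ‖w‖ ^ n := by
    rw [← norm_neg, ← eq_neg_of_add_eq_zero_left hw]
    refine IsUltrametricDist.norm_sum_le_of_forall_le_of_nonneg (by positivity) fun i hi ↦ ?_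
    rw [norm_mul, norm_pow]
    refine (mul_le_of_le_one_left (by positivity) (hgi i)).trans ?_
    exact pow_le_pow_right₀ hlt.le (Nat.lt_succ_iff.mp (Finset.mem_range.mp hi))
  rw [norm_pow, Nat.succ_eq_add_one, pow_succ] at h1
  have h2 : 0 < ‖w‖ ^ n := by positivity
  nlinarith

theorem norm_pow_taylor_le {w x : Ω} (hw : ‖w‖ ≤ 1) (hx : ‖x‖ ≤ 1) (i : ℕ) :
    ‖x ^ i - w ^ i - (i : Ω) * w ^ (i - 1) * (x - w)‖ ≤ ‖x - w‖ ^ 2 := by
  induction i with
  | zero => simp
  | succ i ih =>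
    have : x ^ (i+1) - w ^ (i+1) - ((i+1 : ℕ) : Ω) * w ^ (i + 1 - 1) * (x - w) =
        x * (x ^ i - w ^ i - (i : Ω) * w ^ (i - 1) * (x - w)) +
          (i : Ω) * w ^ (i - 1) * (x - w) ^ 2 := by
      rcases i with _ | i
      · simp
      · simp only [Nat.add_sub_cancel, Nat.cast_add, Nat.cast_one]; ring
    rw [this]
    refine (IsUltrametricDist.norm_add_le_max _ _).trans (max_le ?_ ?_)
    · rw [norm_mul]; exact (mul_le_of_le_one_left (norm_nonneg _) hx).trans ih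
    · rw [norm_mul, norm_mul, norm_pow, norm_pow]
      refine mul_le_of_le_one_left (by positivity) ?_
      exact mul_le_one₀ (IsUltrametricDist.norm_natCast_le_one Ω i) (by positivity)
        (pow_le_one₀ (norm_nonneg _) hw)

theorem norm_taylor_le {f : Ω[X]} (hf : ∀ i, ‖f.coeff i‖ ≤ 1) {w x : Ω} (hw : ‖w‖ ≤ 1)
    (hx : ‖x‖ ≤ 1) : ‖f.eval x - f.eval w - f.derivative.eval w * (x - w)‖ ≤ ‖x - w‖ ^ 2 := by
  have h1 : f.derivative.eval w =
      ∑ i ∈ Finset.range (f.natDegree + 1), f.coeff i * ((i : Ω) * w ^ (i - 1)) := by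
    rw [derivative_eval, Polynomial.sum_over_range]
    · refine Finset.sum_congr rfl fun i _ ↦ by ring
    · intro n; simp
  rw [h1, eval_eq_sum_range, eval_eq_sum_range, Finset.sum_mul, ← Finset.sum_sub_distrib,
    ← Finset.sum_sub_distrib]
  refine IsUltrametricDist.norm_sum_le_of_forall_le_of_nonneg (by positivity) fun i _ ↦ ?_
  have h2 : f.coeff i * x ^ i - f.coeff i * w ^ i - f.coeff i * ((i : Ω) * w ^ (i - 1)) * (x - w) =
    f.coeff i * (x ^ i - w ^ i - (i : Ω) * w ^ (i - 1) * (x - w)) := by ring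
  rw [h2, norm_mul]
  exact (mul_le_of_le_one_left (norm_nonneg _) (hf i)).trans (norm_pow_taylor_le hw hx i)

/-- other roots of `f` are at distance one from a simple root -/
theorem one_le_norm_sub {f : Ω[X]} (hf : ∀ i, ‖f.coeff i‖ ≤ 1) {w x : Ω} (hw : ‖w‖ ≤ 1)
    (hx : ‖x‖ ≤ 1) (hfw : f.eval w = 0) (hfx : f.eval x = 0) (hd : ‖f.derivative.eval w‖ = 1)
    (hne : w ≠ x) : 1 ≤ ‖w - x‖ := by
  have h1 := norm_taylor_le hf hw hx
  rw [hfw, hfx, sub_zero, zero_sub, norm_neg, norm_mul, hd, one_mul] at h1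
  rw [norm_sub_rev]
  have h2 : 0 < ‖x - w‖ := norm_pos_iff.mpr (sub_ne_zero.mpr hne.symm)
  nlinarith

/-- The étale lemma. -/
theorem etale {F : Subfield Ω} (hF : IsComplete (F : Set Ω)) (h0 : ∃ π ∈ F, 0 < ‖π‖ ∧ ‖π‖ < 1)
    {w : Ω} {f : Ω[X]} (hf : f.Monic) (hfi : IntC F f) (hfw : f.eval w = 0)
    (hd : ‖f.derivative.eval w‖ = 1) : NormLe F (F ⊔ Subfield.closure {w}) := by
  have hw : ‖w‖ ≤ 1 := norm_root_le hf (fun i ↦ (hfi i).2) hfw
  obtain ⟨g, hg, hgi, hgw, hmin, -⟩ := exists_min hf hfi (by rw [hfw, norm_zero]; exact one_pos)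
  obtain ⟨w', hw'0, hww'⟩ := exists_root_near hg hgw
  have hw' : ‖w'‖ ≤ 1 := norm_root_le hg (fun i ↦ (hgi i).2) hw'0
  have h1 : NormLe F (F ⊔ Subfield.closure {w'}) :=
    (hmin.of_near hw hww').normLe hw' hg (fun i ↦ (hgi i).1) hw'0
  refine h1.mono le_rfl ?_
  -- Krasner
  let _ : NontriviallyNormedField F := {
    (inferInstance : NormedField F) with
    non_trivial := by
      obtain ⟨π, hπ, hπ0, hπ1⟩ := h0
      refine ⟨⟨π, hπ⟩⁻¹, ?_⟩
      rw [norm_inv]
      exact (one_lt_inv₀ hπ0).mpr hπ1 }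
  have : CompleteSpace F := hF.completeSpace_coe
  have : IsUltrametricDist F := ⟨fun x y z ↦ dist_triangle_max (x : Ω) y z⟩
  let _ : NormedAlgebra F Ω := { (inferInstance : Algebra F Ω) with
    norm_smul_le := fun r x ↦ by
      rw [Algebra.smul_def, norm_mul]; rfl }
  have hlift : ∀ g : Ω[X], g.Monic → (∀ i, g.coeff i ∈ F) → ∀ w : Ω, g.eval w = 0 →
      ∃ G : F[X], G.Monic ∧ G.map (algebraMap F Ω) = g ∧ aeval w G = 0 := by
    intro g hg hgF w hgw
    have hlift : g ∈ Polynomial.lifts (algebraMap F Ω) := by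
      rw [Polynomial.lifts_iff_coeff_lifts]
      intro n
      exact ⟨⟨g.coeff n, hgF n⟩, rfl⟩
    obtain ⟨G, hG1, hG2, hG3⟩ := Polynomial.lifts_and_natDegree_eq_and_monic hlift hg
    exact ⟨G, hG3, hG1, by rw [aeval_def, ← eval_map, hG1, hgw]⟩
  obtain ⟨F₁, hF₁, hF₁map, hF₁w⟩ := hlift f hf (fun i ↦ (hfi i).1) w hfw
  obtain ⟨G₁, hG₁, hG₁map, hG₁w⟩ := hlift g hg (fun i ↦ (hgi i).1) w' hw'0
  have hdvd : minpoly F w ∣ F₁ := minpoly.dvd F w hF₁w
  have hint : IsIntegral F w := ⟨F₁, hF₁, by rwa [← aeval_def]⟩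
  have hint' : IsIntegral F w' := ⟨G₁, hG₁, by rwa [← aeval_def]⟩
  have hfd0 : aeval w (derivative F₁) ≠ 0 := by
    have : aeval w (derivative F₁) = f.derivative.eval w := by
      rw [← hF₁map, derivative_map, eval_map, aeval_def]
    rw [this, ← norm_ne_zero_iff, hd]
    exact one_ne_zero
  have hsep : IsSeparable F w := by
    rw [IsSeparable, separable_iff_derivative_ne_zero (minpoly.irreducible hint)]
    intro h2
    obtain ⟨q, hq⟩ := hdvd
    apply hfd0
    rw [hq, derivative_mul, h2, zero_mul, zero_add, map_mul, minpoly.aeval, zero_mul]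
  have hmem : w ∈ IntermediateField.adjoin F {w'} := by
    refine EppKrasnerA.krasner (Kh := F) hsep (IsAlgClosed.splits _) hint' fun x' hx' hne ↦ ?_
    have hfx' : f.eval x' = 0 := by
      obtain ⟨q, hq⟩ := hdvd
      have : f.eval x' = aeval x' F₁ := by rw [← hF₁map, eval_map, aeval_def]
      rw [this, hq, map_mul, hx', zero_mul]
    have hx'1 : ‖x'‖ ≤ 1 := norm_root_le hf (fun i ↦ (hfi i).2) hfx'
    exact lt_of_lt_of_le hww' (one_le_norm_sub (fun i ↦ (hfi i).2) hw hx'1 hfw hfx' hd hne)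
  rw [sup_le_iff, Subfield.closure_le, Set.singleton_subset_iff]
  exact ⟨le_sup_left, (EppSub.mem_adjoin_iff F {w'} w).mp hmem⟩

theorem norm_add_pow_sub_le {p : ℕ} (hp : p.Prime) {a b : Ω} (ha : ‖a‖ ≤ 1) (hb : ‖b‖ ≤ 1) :
    ‖(a + b) ^ p - (a ^ p + b ^ p)‖ ≤ ‖(p : Ω)‖ := by
  rw [add_pow_prime_eq' hp]
  rw [add_sub_cancel_left, norm_mul]
  refine mul_le_of_le_one_right (norm_nonneg _) ?_
  refine IsUltrametricDist.norm_sum_le_of_forall_le_of_nonneg zero_le_one fun i _ ↦ ?_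
  rw [norm_mul, norm_mul, norm_pow, norm_pow]
  exact mul_le_one₀ (mul_le_one₀ (pow_le_one₀ (norm_nonneg _) ha) (by positivity)
    (pow_le_one₀ (norm_nonneg _) hb)) (norm_nonneg _) (IsUltrametricDist.norm_natCast_le_one Ω _)

theorem norm_pow_sub_pow_lt {a b : Ω} (ha : ‖a‖ ≤ 1) (hb : ‖b‖ ≤ 1)
    (h : ‖a - b‖ < 1) (n : ℕ) : ‖a ^ n - b ^ n‖ < 1 :=
  lt_of_le_of_lt (norm_pow_sub_le ha hb n) h

theorem norm_sub_lt_of_pow {p : ℕ} (hp : p.Prime) (hpn : ‖(p : Ω)‖ < 1) {a b : Ω} (ha : ‖a‖ ≤ 1)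
    (hb : ‖b‖ ≤ 1) (h : ‖a ^ p - b ^ p‖ < 1) : ‖a - b‖ < 1 := by
  have h1 : ‖a - b‖ ≤ 1 := (norm_sub_le_max _ _).trans (max_le ha hb)
  have h2 := norm_add_pow_sub_le hp h1 hb
  rw [sub_add_cancel] at h2
  have h3 : (a - b) ^ p = (a ^ p - b ^ p) - (a ^ p - ((a - b) ^ p + b ^ p)) := by ring
  have h4 : ‖(a - b) ^ p‖ < 1 := by
    rw [h3]
    exact lt_of_le_of_lt (norm_sub_le_max _ _) (max_lt h (lt_of_le_of_lt h2 hpn))
  rw [norm_pow] at h4
  by_contra h5
  push Not at h5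
  exact absurd h4 (not_lt.mpr (one_le_pow₀ h5))

theorem norm_natCast_eq_one {p : ℕ} (hpn : ‖(p : Ω)‖ < 1) {d : ℕ}
    (hd : Nat.Coprime p d) : ‖(d : Ω)‖ = 1 := by
  refine le_antisymm (IsUltrametricDist.norm_natCast_le_one Ω d) ?_
  have h1 := Nat.isCoprime_iff_coprime.mpr hd
  obtain ⟨a, b, hab⟩ := h1
  have h2 : (a : Ω) * (p : Ω) + (b : Ω) * (d : Ω) = 1 := by exact_mod_cast congrArg (Int.cast (R := Ω)) hab
  by_contra h3
  push Not at h3
  have h4 : ‖(1 : Ω)‖ < 1 := by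
    rw [← h2]
    refine lt_of_le_of_lt (IsUltrametricDist.norm_add_le_max _ _) (max_lt ?_ ?_)
    · rw [norm_mul]
      exact lt_of_le_of_lt (mul_le_of_le_one_left (norm_nonneg _) (IsUltrametricDist.norm_intCast_le_one Ω _)) hpn
    · rw [norm_mul]
      exact lt_of_le_of_lt (mul_le_of_le_one_left (norm_nonneg _) (IsUltrametricDist.norm_intCast_le_one Ω _)) h3
  rw [norm_one] at h4
  exact lt_irrefl _ h4

/-- division of integral polynomials -/
theorem IntC.divMod {F : Subfield Ω} {f g : Ω[X]} (hf : IntC F f) (hg : g.Monic) (hgi : IntC F g) :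
    IntC F (f /ₘ g) ∧ IntC F (f %ₘ g) := by
  let A : Subring Ω := {
    carrier := {x | x ∈ F ∧ ‖x‖ ≤ 1}
    mul_mem' := fun {a b} ha hb ↦ ⟨F.mul_mem ha.1 hb.1, by
      rw [norm_mul]; exact mul_le_one₀ ha.2 (norm_nonneg _) hb.2⟩
    one_mem' := ⟨F.one_mem, by simp⟩
    add_mem' := fun {a b} ha hb ↦ ⟨F.add_mem ha.1 hb.1,
      (IsUltrametricDist.norm_add_le_max _ _).trans (max_le ha.2 hb.2)⟩
    zero_mem' := ⟨F.zero_mem, by simp⟩
    neg_mem' := fun {a} ha ↦ ⟨F.neg_mem ha.1, by rw [norm_neg]; exact ha.2⟩ }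
  have hA : ∀ f : Ω[X], IntC F f → f ∈ Polynomial.lifts A.subtype := by
    intro f hf
    rw [Polynomial.lifts_iff_coeff_lifts]
    intro n
    exact ⟨⟨f.coeff n, hf n⟩, rfl⟩
  obtain ⟨f', hf'⟩ := (Polynomial.mem_lifts _).mp (hA f hf)
  obtain ⟨g', hg1, -, hg3⟩ := Polynomial.lifts_and_natDegree_eq_and_monic (hA g hgi) hg
  constructor
  · rw [← hf', ← hg1, ← Polynomial.map_divByMonic _ hg3]
    intro i
    rw [Polynomial.coeff_map]
    exact ((f' /ₘ g').coeff i).2
  · rw [← hf', ← hg1, ← Polynomial.map_modByMonic _ hg3]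
    intro i
    rw [Polynomial.coeff_map]
    exact ((f' %ₘ g').coeff i).2

/-- The fierce lemma, residual degree form. -/
theorem resDeg_of_fierce {p : ℕ} (hp : p.Prime) (hpn : ‖(p : Ω)‖ < 1) {F : Subfield Ω} {z u : Ω}
    (hz : ‖z‖ ≤ 1) (hu : u ∈ F) (h1 : ‖z ^ p - u‖ < 1) (h2 : ∀ b ∈ F, 1 ≤ ‖u - b ^ p‖) :
    ResDeg F z p := by
  intro g₀ hg₀ hg₀i hg₀z
  obtain ⟨g, hg, hgi, hgz, hmin, hle⟩ := exists_min hg₀ hg₀i hg₀z
  refine le_trans ?_ hle
  by_contra hlt
  push Not at hlt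
  have hu1 : ‖u‖ ≤ 1 := by
    have : u = z ^ p - (z ^ p - u) := by ring
    rw [this]
    refine (norm_sub_le_max _ _).trans (max_le ?_ h1.le)
    rw [norm_pow]; exact pow_le_one₀ (norm_nonneg _) hz
  let U : Ω[X] := X ^ p - C u
  have hUi : IntC F U := by
    intro i
    simp only [U, coeff_sub, coeff_X_pow, coeff_C]
    constructor
    · refine F.sub_mem ?_ ?_ <;> split_ifs
      exacts [F.one_mem, F.zero_mem, hu, F.zero_mem]
    · refine (norm_sub_le_max _ _).trans (max_le ?_ ?_) <;> split_ifs <;> simp [hu1]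
  have hgd : 0 < g.natDegree := by
    rw [Nat.pos_iff_ne_zero]
    intro h0
    rw [hg.natDegree_eq_zero.mp h0, eval_one, norm_one] at hgz
    exact lt_irrefl _ hgz
  obtain ⟨hqi, hri⟩ := hUi.divMod hg hgi
  have hdm := Polynomial.modByMonic_add_div U g
  have hrd : (U %ₘ g).natDegree < g.natDegree := by
    refine Polynomial.natDegree_modByMonic_lt _ hg ?_
    rintro rfl
    rw [natDegree_one] at hgd
    exact lt_irrefl _ hgd
  have hrz : ‖(U %ₘ g).eval z‖ < 1 := by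
    have : (U %ₘ g).eval z = U.eval z - g.eval z * (U /ₘ g).eval z := by
      have := congrArg (eval z) hdm
      rw [eval_add, eval_mul] at this
      rw [← this]; ring
    rw [this]
    refine lt_of_le_of_lt (norm_sub_le_max _ _) (max_lt ?_ ?_)
    · simpa [U] using h1
    · rw [norm_mul]
      refine lt_of_le_of_lt (mul_le_of_le_one_right (norm_nonneg _) ?_) hgz
      exact norm_eval_le zero_le_one (fun i ↦ (hqi i).2) hz
  have hrc : ∀ i, ‖(U %ₘ g).coeff i‖ ≤ ‖(U %ₘ g).eval z‖ :=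
    fun i ↦ hmin.norm_coeff_le hz (fun i ↦ (hri i).1) hrd i
  -- the roots of `g` are close to `z`
  have hroots : ∀ r ∈ g.roots, ‖r - z‖ < 1 := by
    intro r hr
    have hgr : g.eval r = 0 := (Polynomial.mem_roots'.mp hr).2
    have hr1 : ‖r‖ ≤ 1 := norm_root_le hg (fun i ↦ (hgi i).2) hgr
    refine norm_sub_lt_of_pow hp hpn hr1 hz ?_
    have h3 : r ^ p - z ^ p = (U %ₘ g).eval r - (z ^ p - u) := by
      have : (U %ₘ g).eval r = U.eval r := by
        have := congrArg (eval r) hdm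
        rw [eval_add, eval_mul, hgr, zero_mul, add_zero] at this
        exact this
      rw [this]; simp only [U, eval_sub, eval_pow, eval_X, eval_C]; ring
    rw [h3]
    refine lt_of_le_of_lt (norm_sub_le_max _ _) (max_lt ?_ h1)
    exact lt_of_le_of_lt (norm_eval_le (norm_nonneg _) hrc hr1) hrz
  have hsum : ∀ s : Multiset Ω, (∀ r ∈ s, ‖r - z‖ < 1) → ‖s.sum - (s.card : Ω) * z‖ < 1 := by
    intro s
    induction s using Multiset.induction_on with
    | empty => intro _; simp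
    | cons a s ih =>
      intro hs
      rw [Multiset.sum_cons, Multiset.card_cons]
      have : a + s.sum - ((s.card + 1 : ℕ) : Ω) * z = (a - z) + (s.sum - (s.card : Ω) * z) := by
        push_cast; ring
      rw [this]
      exact lt_of_le_of_lt (IsUltrametricDist.norm_add_le_max _ _)
        (max_lt (hs a (Multiset.mem_cons_self a s)) (ih fun r hr ↦ hs r (Multiset.mem_cons_of_mem hr)))
  have hs := hsum _ hroots
  have hcard : g.roots.card = g.natDegree := (IsAlgClosed.splits g).natDegree_eq_card_roots.symm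
  have hnc : g.nextCoeff = -g.roots.sum :=
    (IsAlgClosed.splits g).nextCoeff_eq_neg_sum_roots_of_monic hg
  rw [hcard] at hs
  have hd1 : ‖(g.natDegree : Ω)‖ = 1 := by
    refine norm_natCast_eq_one hpn ?_
    rw [Nat.Prime.coprime_iff_not_dvd hp]
    exact Nat.not_dvd_of_pos_of_lt hgd hlt
  have hd0 : (g.natDegree : Ω) ≠ 0 := by
    rw [← norm_ne_zero_iff, hd1]; exact one_ne_zero
  let b : Ω := g.roots.sum / (g.natDegree : Ω)
  have hbF : b ∈ F := by
    refine F.div_mem ?_ (natCast_mem F _)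
    have : g.roots.sum = - g.nextCoeff := by rw [hnc, neg_neg]
    rw [this, nextCoeff_of_natDegree_pos hgd]
    exact F.neg_mem (hgi _).1
  have hbz : ‖b - z‖ < 1 := by
    have : b - z = (g.roots.sum - (g.natDegree : Ω) * z) / (g.natDegree : Ω) := by
      simp only [b]; field_simp
    rw [this, norm_div, hd1, div_one]
    exact hs
  have hb1 : ‖b‖ ≤ 1 := by
    have : b = (b - z) + z := by ring
    rw [this]
    exact (IsUltrametricDist.norm_add_le_max _ _).trans (max_le hbz.le hz)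
  have h3 : ‖u - b ^ p‖ < 1 := by
    have : u - b ^ p = -(z ^ p - u) - (b ^ p - z ^ p) := by ring
    rw [this]
    refine lt_of_le_of_lt (norm_sub_le_max _ _) (max_lt ?_ ?_)
    · rw [norm_neg]; exact h1
    · exact norm_pow_sub_pow_lt hb1 hz hbz p
  exact absurd h3 (not_lt.mpr (h2 b hbF))

/-- The fierce lemma. -/
theorem fierce {p : ℕ} (hp : p.Prime) (hpn : ‖(p : Ω)‖ < 1) {F : Subfield Ω} {z u : Ω}
    (hz : ‖z‖ ≤ 1) (hu : u ∈ F) (h1 : ‖z ^ p - u‖ < 1) (h2 : ∀ b ∈ F, 1 ≤ ‖u - b ^ p‖)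
    {f : Ω[X]} (hf : f.Monic) (hfF : ∀ i, f.coeff i ∈ F) (hfd : f.natDegree ≤ p)
    (hfz : f.eval z = 0) : NormLe F (F ⊔ Subfield.closure {z}) := by
  refine ResDeg.normLe hz hf hfF hfz fun g hg hgi hgz ↦ ?_
  exact hfd.trans (resDeg_of_fierce hp hpn hz hu h1 h2 g hg hgi hgz)

end Groth.Agent.Etalg.EppNorm
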