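import Mathlib.Analysis.Normed.Ring.Ultra
import Mathlib.Analysis.Normed.Field.Basic
import Mathlib.Analysis.Normed.Group.Ultra
import Mathlib.Algebra.CharP.Lemmas
import Mathlib.Algebra.Field.Subfield.Basic
import Mathlib.Tactic

/-!
Epp's theorem, the raw dichotomy for equations `P(z) = ξ` (Artin-Schreier and Kummer at once).

`Ω` is an ultrametric normed field, `F n = F 0 (π n)` with `π (n+1) ^ p = π n`.
-/

set_option autoImplicit false

namespace Groth.Agent.Etalg.EppRaw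

section norm

variable {Ω : Type*} [NormedField Ω] [IsUltrametricDist Ω]

theorem norm_add_le' {x y : Ω} {c : ℝ} (hx : ‖x‖ ≤ c) (hy : ‖y‖ ≤ c) : ‖x + y‖ ≤ c :=
  (IsUltrametricDist.norm_add_le_max x y).trans (max_le hx hy)

theorem norm_add_lt' {x y : Ω} {c : ℝ} (hx : ‖x‖ < c) (hy : ‖y‖ < c) : ‖x + y‖ < c :=
  (IsUltrametricDist.norm_add_le_max x y).trans_lt (max_lt hx hy)

theorem norm_sub_le' {x y : Ω} {c : ℝ} (hx : ‖x‖ ≤ c) (hy : ‖y‖ ≤ c) : ‖x - y‖ ≤ c := by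
  rw [sub_eq_add_neg]
  exact norm_add_le' hx (by rwa [norm_neg])

theorem norm_sub_lt' {x y : Ω} {c : ℝ} (hx : ‖x‖ < c) (hy : ‖y‖ < c) : ‖x - y‖ < c := by
  rw [sub_eq_add_neg]
  exact norm_add_lt' hx (by rwa [norm_neg])

theorem norm_eq_of_sub_lt {x y : Ω} (h : ‖x - y‖ < ‖x‖) : ‖y‖ = ‖x‖ := by
  apply le_antisymm
  · have : y = x - (x - y) := by ring
    rw [this]
    exact norm_sub_le' le_rfl h.le
  · by_contra h'
    push Not at h'
    have h2 : ‖y + (x - y)‖ < ‖x‖ := norm_add_lt' h' h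
    rw [add_sub_cancel] at h2
    exact lt_irrefl _ h2

theorem norm_eq_of_sub_lt' {x y : Ω} (h : ‖x - y‖ < ‖y‖) : ‖x‖ = ‖y‖ := by
  rw [← norm_neg, neg_sub] at h
  exact norm_eq_of_sub_lt h

theorem norm_one_add {x : Ω} (h : ‖x‖ < 1) : ‖1 + x‖ = 1 := by
  have : ‖(1 : Ω) - (1 + x)‖ < ‖(1 : Ω)‖ := by
    rw [norm_one]
    simpa using h
  rw [norm_eq_of_sub_lt this, norm_one]

theorem one_add_ne {x : Ω} (h : ‖x‖ < 1) : 1 + x ≠ 0 := by
  intro h'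
  have := norm_one_add h
  rw [h', norm_zero] at this
  exact zero_ne_one this

theorem norm_lt_pow {x y : Ω} {n : ℕ} {c : ℝ} (hc : 0 < c) (hx : ‖x‖ ≤ c) (hy : ‖y‖ ≤ c)
    (h : ‖x - y‖ < c) (hn : n ≠ 0) : ‖x ^ n - y ^ n‖ < c ^ n := by
  obtain ⟨m, rfl⟩ := Nat.exists_eq_succ_of_ne_zero hn
  clear hn
  induction m with
  | zero => simpa using h
  | succ m ih =>
    have e : x ^ (m + 1 + 1) - y ^ (m + 1 + 1) =
        x * (x ^ (m + 1) - y ^ (m + 1)) + (x - y) * y ^ (m + 1) := by ring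
    rw [Nat.succ_eq_add_one, e]
    apply norm_add_lt'
    · rw [norm_mul, pow_succ' c]
      exact mul_lt_mul_of_le_of_lt_of_nonneg_of_pos hx ih (norm_nonneg _) hc
    · rw [norm_mul, pow_succ' c, norm_pow]
      exact mul_lt_mul_of_lt_of_le_of_nonneg_of_pos h (pow_le_pow_left₀ (norm_nonneg _) hy _)
        (norm_nonneg _) (pow_pos hc _)

theorem norm_add_pow_sub {p : ℕ} (hp : p.Prime) {a b : Ω} {c : ℝ} (ha : ‖a‖ ≤ c) (hb : ‖b‖ ≤ c) :
    ‖(a + b) ^ p - a ^ p - b ^ p‖ ≤ ‖(p : Ω)‖ * c ^ p := by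
  have hc : 0 ≤ c := (norm_nonneg _).trans ha
  have hsum : ‖∑ k ∈ Finset.Ioo 0 p, a ^ (k - 1) * b ^ (p - k - 1) * ((p.choose k / p : ℕ) : Ω)‖ ≤
      c ^ (p - 2) := by
    apply IsUltrametricDist.norm_sum_le_of_forall_le_of_nonneg (pow_nonneg hc _)
    intro k hk
    rw [Finset.mem_Ioo] at hk
    rw [norm_mul, norm_mul, norm_pow, norm_pow]
    have h1 : ‖a‖ ^ (k - 1) * ‖b‖ ^ (p - k - 1) ≤ c ^ (k - 1) * c ^ (p - k - 1) :=
      mul_le_mul (pow_le_pow_left₀ (norm_nonneg _) ha _) (pow_le_pow_left₀ (norm_nonneg _) hb _)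
        (pow_nonneg (norm_nonneg _) _) (pow_nonneg hc _)
    rw [← pow_add, show k - 1 + (p - k - 1) = p - 2 by omega] at h1
    calc ‖a‖ ^ (k - 1) * ‖b‖ ^ (p - k - 1) * ‖((p.choose k / p : ℕ) : Ω)‖ ≤ c ^ (p - 2) * 1 :=
          mul_le_mul h1 (IsUltrametricDist.norm_natCast_le_one Ω _) (norm_nonneg _)
            (pow_nonneg hc _)
      _ = c ^ (p - 2) := mul_one _
  have e : (a + b) ^ p - a ^ p - b ^ p =
      (p : Ω) * (a * b *
        ∑ k ∈ Finset.Ioo 0 p, a ^ (k - 1) * b ^ (p - k - 1) * ((p.choose k / p : ℕ) : Ω)) := by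
    rw [(Commute.all a b).add_pow_prime_eq hp]
    ring
  rw [e, norm_mul, norm_mul, norm_mul]
  apply mul_le_mul_of_nonneg_left _ (norm_nonneg _)
  have h2 : c ^ p = c * c * c ^ (p - 2) := by
    rw [← pow_two, ← pow_add, Nat.add_sub_cancel' hp.two_le]
  rw [h2]
  exact mul_le_mul (mul_le_mul ha hb (norm_nonneg _) hc) hsum (norm_nonneg _) (mul_nonneg hc hc)

theorem norm_sum_pow_sub {p : ℕ} (hp : p.Prime) {ι : Type*} (s : Finset ι) (a : ι → Ω) {c : ℝ}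
    (hc : 0 ≤ c) (ha : ∀ i ∈ s, ‖a i‖ ≤ c) :
    ‖(∑ i ∈ s, a i) ^ p - ∑ i ∈ s, a i ^ p‖ ≤ ‖(p : Ω)‖ * c ^ p := by
  classical
  induction s using Finset.induction_on with
  | empty =>
    simp only [Finset.sum_empty, sub_zero]
    rw [zero_pow hp.ne_zero, norm_zero]
    positivity
  | insert i s hi ih =>
    rw [Finset.sum_insert hi, Finset.sum_insert hi]
    have h1 := ih (fun j hj => ha j (Finset.mem_insert_of_mem hj))
    have h2 : ‖∑ j ∈ s, a j‖ ≤ c := by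
      apply IsUltrametricDist.norm_sum_le_of_forall_le_of_nonneg hc
      intro j hj
      exact ha j (Finset.mem_insert_of_mem hj)
    have h3 := norm_add_pow_sub hp (ha i (Finset.mem_insert_self _ _)) h2
    have e : (a i + ∑ j ∈ s, a j) ^ p - (a i ^ p + ∑ j ∈ s, a j ^ p) =
        ((a i + ∑ j ∈ s, a j) ^ p - a i ^ p - (∑ j ∈ s, a j) ^ p) +
          ((∑ j ∈ s, a j) ^ p - ∑ j ∈ s, a j ^ p) := by ring
    rw [e]
    exact norm_add_le' h3 h1

end norm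

section group

variable {Ω : Type*} [Field Ω]

/-- the group law `x + y + W x y` -/
def ad (W x y : Ω) : Ω := x + y + W * x * y

/-- subtraction for the group law `x + y + W x y` -/
def sb (W x y : Ω) : Ω := (x - y) / (1 + W * y)

theorem one_add_ad (W x y : Ω) : 1 + W * ad W x y = (1 + W * x) * (1 + W * y) := by
  unfold ad; ring

theorem ad_comm (W x y : Ω) : ad W x y = ad W y x := by
  unfold ad; ring

theorem sb_sub_of_ne {W x y z : Ω} (h1 : 1 + W * y ≠ 0) :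
    sb W x y - z = (x - ad W y z) / (1 + W * y) := by
  unfold sb ad
  rw [div_sub' h1, div_left_inj' h1]
  ring

theorem sb_sb_of_ne {W x y z : Ω} (h1 : 1 + W * y ≠ 0) :
    sb W (sb W x y) z = sb W x (ad W y z) := by
  unfold sb
  rw [one_add_ad, ← div_div]
  congr 1
  exact sb_sub_of_ne h1

theorem ad_sb_of_ne {W x y : Ω} (h1 : 1 + W * y ≠ 0) : ad W (sb W x y) y = x := by
  unfold sb ad
  have e : (x - y) / (1 + W * y) + y + W * ((x - y) / (1 + W * y)) * y =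
      (x - y) / (1 + W * y) * (1 + W * y) + y := by ring
  rw [e, div_mul_cancel₀ _ h1]
  ring

theorem sb_ad_of_ne {W x y : Ω} (h1 : 1 + W * y ≠ 0) : sb W (ad W x y) y = x := by
  unfold sb ad
  rw [div_eq_iff h1]
  ring

theorem ad_mem {F : Subfield Ω} {W x y : Ω} (hW : W ∈ F) (hx : x ∈ F) (hy : y ∈ F) :
    ad W x y ∈ F :=
  F.add_mem (F.add_mem hx hy) (F.mul_mem (F.mul_mem hW hx) hy)

theorem sb_mem {F : Subfield Ω} {W x y : Ω} (hW : W ∈ F) (hx : x ∈ F) (hy : y ∈ F) :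
    sb W x y ∈ F :=
  F.div_mem (F.sub_mem hx hy) (F.add_mem F.one_mem (F.mul_mem hW hy))

end group

section groupnorm

variable {Ω : Type*} [NormedField Ω] [IsUltrametricDist Ω]

theorem norm_sb {W x y : Ω} (h : ‖W * y‖ < 1) : ‖sb W x y‖ = ‖x - y‖ := by
  unfold sb
  rw [norm_div, norm_one_add h, div_one]

theorem sb_sb {W x y z : Ω} (hy : ‖W * y‖ < 1) :
    sb W (sb W x y) z = sb W x (ad W y z) := sb_sb_of_ne (one_add_ne hy)

theorem sb_sub {W x y z : Ω} (hy : ‖W * y‖ < 1) :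
    sb W x y - z = (x - ad W y z) / (1 + W * y) := sb_sub_of_ne (one_add_ne hy)

theorem ad_sb {W x y : Ω} (hy : ‖W * y‖ < 1) : ad W (sb W x y) y = x :=
  ad_sb_of_ne (one_add_ne hy)

theorem sb_ad {W x y : Ω} (hy : ‖W * y‖ < 1) : sb W (ad W x y) y = x :=
  sb_ad_of_ne (one_add_ne hy)

theorem norm_ad_lt {W x y : Ω} (hx : ‖W * x‖ < 1) (hy : ‖W * y‖ < 1) : ‖W * ad W x y‖ < 1 := by
  have e : W * ad W x y = W * x + W * y + (W * x) * (W * y) := by unfold ad; ring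
  rw [e]
  apply norm_add_lt' (norm_add_lt' hx hy)
  rw [norm_mul]
  exact mul_lt_one_of_nonneg_of_lt_one_left (norm_nonneg _) hx hy.le

end groupnorm

/-- The Artin-Schreier-Kummer isogeny. -/
structure PData {Ω : Type*} [NormedField Ω] (p : ℕ) (w : Ω) (P : Ω → Ω) : Prop where
  norm_w : ‖w‖ < 1
  norm_p : ‖(p : Ω)‖ ≤ ‖w‖ ^ (p - 1)
  add : ∀ x y, P (ad w x y) = ad (w ^ p) (P x) (P y)
  zero : P 0 = 0
  one_add : ∀ x, 1 + w ^ p * P x = (1 + w * x) ^ p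
  approx : ∀ x, x ≠ 0 → ‖w * x‖ < 1 → ‖P x - x ^ p + x‖ < ‖x‖

/-- The tower `F n = F 0 (π n)`, `π (n+1) ^ p = π n`. -/
structure Tower {Ω : Type*} [NormedField Ω] (p : ℕ) (π : ℕ → Ω) (F : ℕ → Subfield Ω) : Prop where
  mono : ∀ n, F n ≤ F (n + 1)
  pi_mem : ∀ n, π n ∈ F n
  pi_pow : ∀ n, π (n + 1) ^ p = π n
  pi_ne : π 0 ≠ 0
  pi_lt : ‖π 0‖ < 1
  val : ∀ n, ∀ x ∈ F n, x ≠ 0 → ∃ k : ℤ, ‖x‖ = ‖π n‖ ^ k
  decomp : ∀ n, ∀ x ∈ F (n + 1), ∃ c : Fin p → Ω, (∀ i, c i ∈ F n) ∧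
    x = ∑ i, c i * π (n + 1) ^ (i : ℕ) ∧ ∀ i, ‖c i * π (n + 1) ^ (i : ℕ)‖ ≤ ‖x‖
  res : ∀ n, ∀ x ∈ F n, ‖x‖ ≤ 1 → ∃ y ∈ F 0, ‖x - y‖ < 1

namespace PData

variable {Ω : Type*} [NormedField Ω] [IsUltrametricDist Ω] {p : ℕ} {w : Ω} {P : Ω → Ω}

theorem norm_one_add_sub_one (D : PData p w P) (hp : p.Prime) {g : Ω} (hg : ‖w * g‖ < 1) :
    ‖w ^ p * P g‖ < 1 := by
  have h := D.one_add g
  have h1 : w ^ p * P g = (1 + w * g) ^ p - 1 ^ p := by
    rw [← h, one_pow]; ring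
  rw [h1]
  have := norm_lt_pow (x := 1 + w * g) (y := (1 : Ω)) (n := p) one_pos
    (by rw [norm_one_add hg]) (by rw [norm_one]) (by simpa using hg) hp.ne_zero
  simpa using this

theorem approx_le (D : PData p w P) (hp : p.Prime) {g : Ω} (hg : ‖w * g‖ < 1) :
    ‖P g - g ^ p‖ ≤ ‖g‖ := by
  by_cases h0 : g = 0
  · subst h0
    rw [D.zero, zero_pow hp.ne_zero]
    simp
  · have h1 := D.approx g h0 hg
    have e : P g - g ^ p = (P g - g ^ p + g) - g := by ring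
    rw [e]
    exact norm_sub_le' h1.le le_rfl

end PData

end Groth.Agent.Etalg.EppRaw
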