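import Groth.Agent.Etalg.EppUp
import Groth.Agent.Etalg.EppNorm
import Groth.Agent.Etalg.EppRaw

/-!
# The algebraic closure of `E` in `F`, for a pair `(E, F)`
-/

set_option autoImplicit false
set_option linter.unusedSectionVars false
universe u

namespace Groth.Agent.Etalg.EppHat

open Polynomial EppFrame EppVal EppUp EppNorm IsLocalRing

variable {Ω : Type u} [NormedField Ω]

/-- Krasner's lemma for subfields -/
theorem krasner_mem [IsUltrametricDist Ω] [IsAlgClosed Ω] {F : Subfield Ω} (hF : IsComplete (F : Set Ω))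
    (h0 : ∃ π ∈ F, 0 < ‖π‖ ∧ ‖π‖ < 1) {f : Polynomial Ω} (hf : f.Monic) (hfi : IntC F f) {x y : Ω}
    (hx : f.eval x = 0) (hd : ‖f.derivative.eval x‖ = 1) (hy : y ∈ F) (hxy : ‖x - y‖ < 1) :
    x ∈ F := by
  have hw : ‖x‖ ≤ 1 := norm_root_le hf (fun i ↦ (hfi i).2) hx
  let _ : NontriviallyNormedField F := {
    (inferInstance : NormedField F) with
    non_trivial := by
      obtain ⟨π, hπ, hπ0, hπ1⟩ := h0
      refine ⟨⟨π, hπ⟩⁻¹, ?_⟩
      rw [norm_inv]
      exact (one_lt_inv₀ hπ0).mpr hπ1 }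
  have : CompleteSpace F := hF.completeSpace_coe
  have : IsUltrametricDist F := ⟨fun x y z ↦ dist_triangle_max (x : Ω) y z⟩
  let _ : NormedAlgebra F Ω := { (inferInstance : Algebra F Ω) with
    norm_smul_le := fun r x ↦ by
      rw [Algebra.smul_def, norm_mul]; rfl }
  have hlift : f ∈ Polynomial.lifts (algebraMap F Ω) := by
    rw [Polynomial.lifts_iff_coeff_lifts]
    intro n
    exact ⟨⟨f.coeff n, (hfi n).1⟩, rfl⟩
  obtain ⟨G, hG1, hG2, hG3⟩ := Polynomial.lifts_and_natDegree_eq_and_monic hlift hf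
  have hGw : aeval x G = 0 := by rw [aeval_def, ← eval_map, hG1, hx]
  have hdvd : minpoly F x ∣ G := minpoly.dvd F x hGw
  have hint : IsIntegral F x := ⟨G, hG3, by rwa [← aeval_def]⟩
  have hfd0 : aeval x (derivative G) ≠ 0 := by
    have : aeval x (derivative G) = f.derivative.eval x := by
      rw [← hG1, derivative_map, eval_map, aeval_def]
    rw [this, ← norm_ne_zero_iff, hd]
    exact one_ne_zero
  have hsep : IsSeparable F x := by
    rw [IsSeparable, separable_iff_derivative_ne_zero (minpoly.irreducible hint)]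
    intro h2
    obtain ⟨q, hq⟩ := hdvd
    apply hfd0
    rw [hq, derivative_mul, h2, zero_mul, zero_add, map_mul, minpoly.aeval, zero_mul]
  have hyi : IsIntegral F y := isIntegral_algebraMap (R := F) (A := Ω) (x := ⟨y, hy⟩)
  have hmem : x ∈ IntermediateField.adjoin F {y} := by
    refine EppKrasnerA.krasner (Kh := F) hsep (IsAlgClosed.splits _) hyi fun x' hx' hne ↦ ?_
    have hfx' : f.eval x' = 0 := by
      obtain ⟨q, hq⟩ := hdvd
      have : f.eval x' = aeval x' G := by rw [← hG1, eval_map, aeval_def]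
      rw [this, hq, map_mul, hx', zero_mul]
    have hx'1 : ‖x'‖ ≤ 1 := norm_root_le hf (fun i ↦ (hfi i).2) hfx'
    exact lt_of_lt_of_le hxy (one_le_norm_sub (fun i ↦ (hfi i).2) hw hx'1 hx hfx' hd hne)
  have h1 := (EppSub.mem_adjoin_iff F {y} x).mp hmem
  have h2 : F ⊔ Subfield.closure {y} = F := by
    apply sup_eq_left.2
    rw [Subfield.closure_le]
    intro z hz
    rw [Set.mem_singleton_iff.1 hz]
    exact hy
  rwa [h2] at h1

/-- the algebraic closure of `E` in `F` -/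
noncomputable def hat (E F : Subfield Ω) : Subfield Ω := F ⊓ (algebraicClosure E Ω).toSubfield

theorem mem_hat {E F : Subfield Ω} {x : Ω} : x ∈ hat E F ↔ x ∈ F ∧ IsAlgebraic E x := by
  rw [hat, Subfield.mem_inf, IntermediateField.mem_toSubfield, mem_algebraicClosure_iff]

theorem hat_le {E F : Subfield Ω} : hat E F ≤ F := inf_le_left

theorem le_hat {E F : Subfield Ω} (h : E ≤ F) : E ≤ hat E F := fun x hx =>
  mem_hat.2 ⟨h hx, (isAlgebraic_algebraMap (⟨x, hx⟩ : E) : IsAlgebraic E (algebraMap E Ω ⟨x, hx⟩))⟩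

variable [IsUltrametricDist Ω]

theorem hat_perfect {p : ℕ} (hp : p.Prime) {E F : Subfield Ω} (h : Pair p E F) :
    ∀ a ∈ hat E F, ‖a‖ ≤ 1 → ∃ b ∈ hat E F, ‖a - b ^ p‖ < 1 := by
  classical
  intro a ha ha1
  rw [mem_hat] at ha
  have hfin : FinExt E (E ⊔ Subfield.closure {a}) :=
    ⟨{a}, by simpa using ha.2, by simp⟩
  have haF : Subfield.closure {a} ≤ F := by
    rw [Subfield.closure_le]
    intro z hz
    rw [Set.mem_singleton_iff.1 hz]
    exact ha.1
  have hle : E ⊔ Subfield.closure {a} ≤ F := sup_le h.le haF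
  have h2 := (pair_up hp h hfin).perfect a
    ((le_sup_right : Subfield.closure {a} ≤ E ⊔ Subfield.closure {a})
      (Subfield.subset_closure (Set.mem_singleton a))) ha1
  obtain ⟨b, hb, hb'⟩ := h2
  refine ⟨b, mem_hat.2 ⟨hle hb, hfin.algebraic b hb⟩, ?_⟩
  rwa [← norm_neg, neg_sub]

theorem hat_epp [IsAlgClosed Ω] {p : ℕ} (hp : p.Prime) {E F : Subfield Ω} (h : Pair p E F) :
    ∀ x ∈ F, ‖x‖ ≤ 1 → (∀ n : ℕ, ∃ b ∈ F, ‖x - b ^ p ^ n‖ < 1) → ∃ a ∈ hat E F, ‖x - a‖ < 1 := by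
  intro x hx hx1 hxn
  have h1 := h.epp x hx hx1 (by
    intro n
    obtain ⟨b, hb, hb'⟩ := hxn n
    exact ⟨b, hb, by rwa [← norm_neg, neg_sub]⟩)
  rw [← alg_iff h.le (⟨⟨x, hx⟩, hx1⟩ : VA F)] at h1
  let _ : Algebra (VA E) (VA F) := (inc h.le).toAlgebra
  have l1 : IsLocalHom (algebraMap (VA E) (VA F)) := isLocalHom_inc h.le
  have hpf : PerfectField (ResidueField (VA E)) := perfectField_residue hp h.norm_p_lt h.perfect
  set xb : ResidueField (VA F) := residue (VA F) (⟨⟨x, hx⟩, hx1⟩ : VA F) with hxb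
  have hint : IsIntegral (ResidueField (VA E)) xb := h1.isIntegral
  have hsep : (minpoly (ResidueField (VA E)) xb).Separable :=
    PerfectField.separable_of_irreducible (minpoly.irreducible hint)
  obtain ⟨g, hg, -, hgm⟩ := lifts_and_degree_eq_and_monic (f := residue (VA E))
    (p := minpoly (ResidueField (VA E)) xb) (by
      rw [lifts_iff_coeff_lifts]
      intro i
      exact residue_surjective _) (minpoly.monic hint)
  let j : VA E →+* Ω := E.subtype.comp (VA E).subtype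
  let jF : VA F →+* Ω := F.subtype.comp (VA F).subtype
  have hred : ∀ q : (VA E)[X], residue (VA F) (aeval (⟨⟨x, hx⟩, hx1⟩ : VA F) q) =
      aeval xb (q.map (residue (VA E))) := by
    intro q
    rw [aeval_def, aeval_def, hom_eval₂, eval₂_map]
    rfl
  have heval : ∀ q : (VA E)[X], (q.map j).eval x = jF (aeval (⟨⟨x, hx⟩, hx1⟩ : VA F) q) := by
    intro q
    rw [aeval_def, hom_eval₂, eval_map]
    rfl
  have hfi : IntC E (g.map j) := by
    intro i
    rw [coeff_map]
    exact ⟨(g.coeff i : E).2, (g.coeff i).2⟩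
  have hfx : ‖(g.map j).eval x‖ < 1 := by
    rw [heval]
    have h2 : residue (VA F) (aeval (⟨⟨x, hx⟩, hx1⟩ : VA F) g) = 0 := by
      rw [hred, hg, minpoly.aeval]
    rw [residue_eq_zero] at h2
    exact h2
  have hfd : ‖(derivative (g.map j)).eval x‖ = 1 := by
    rw [derivative_map, heval]
    have h2 : residue (VA F) (aeval (⟨⟨x, hx⟩, hx1⟩ : VA F) (derivative g)) ≠ 0 := by
      rw [hred, ← derivative_map, hg]
      exact hsep.aeval_derivative_ne_zero (minpoly.aeval _ _)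
    rw [Ne, residue_eq_zero, not_lt] at h2
    exact le_antisymm (aeval (⟨⟨x, hx⟩, hx1⟩ : VA F) (derivative g)).2 h2
  obtain ⟨θ, hθ, hxθ⟩ := exists_root_near (hgm.map j) hfx
  have hθ1 : ‖θ‖ ≤ 1 := norm_root_le (hgm.map j) (fun i ↦ (hfi i).2) hθ
  have hdi : ∀ i, ‖(derivative (g.map j)).coeff i‖ ≤ 1 := by
    intro i
    rw [derivative_map, coeff_map]
    exact ((derivative g).coeff i).2
  have hθd : ‖(derivative (g.map j)).eval θ‖ = 1 := by
    rw [← hfd]
    apply EppRaw.norm_eq_of_sub_lt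
    rw [hfd]
    refine lt_of_le_of_lt (norm_eval_sub_le zero_le_one hdi hx1 hθ1) ?_
    rwa [one_mul]
  obtain ⟨π, hπE, hπ0, hπ1, -⟩ := h.disc
  have hθF : θ ∈ F := krasner_mem h.completeF ⟨π, h.le hπE, hπ0, hπ1⟩ (hgm.map j)
    (fun i => ⟨h.le (hfi i).1, (hfi i).2⟩) hθ hθd hx (by rwa [← norm_neg, neg_sub])
  refine ⟨θ, mem_hat.2 ⟨hθF, ?_⟩, hxθ⟩
  have hlift : (g.map j) ∈ Polynomial.lifts (algebraMap E Ω) := by
    rw [Polynomial.lifts_iff_coeff_lifts]
    intro n
    exact ⟨⟨(g.map j).coeff n, (hfi n).1⟩, rfl⟩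
  obtain ⟨G, hG1, hG2, hG3⟩ := Polynomial.lifts_and_natDegree_eq_and_monic hlift (hgm.map j)
  exact ⟨G, hG3.ne_zero, by rw [aeval_def, ← eval_map, hG1, hθ]⟩

end Groth.Agent.Etalg.EppHat
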