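import Mathlib.Analysis.Normed.Field.Krasner
import Mathlib.Analysis.Normed.Field.Approximation
import Mathlib.FieldTheory.AlgebraicClosure
import Mathlib.FieldTheory.IsAlgClosed.Basic
import Mathlib.Analysis.Normed.Field.Basic

/-!
# Krasner's lemma and approximation of separable polynomials over a dense subfield
-/

set_option autoImplicit false

namespace Groth.Agent.Etalg.EppKrasner

open Polynomial IntermediateField

variable {K Kh Ω : Type*} [Field K] [NontriviallyNormedField Kh] [CompleteSpace Kh]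
  [IsUltrametricDist Kh] [NormedField Ω] [NormedAlgebra Kh Ω] [IsAlgClosed Ω]

/-- ultrametric inequality for differences -/
theorem norm_sub_le_max' {E : Type*} [SeminormedAddCommGroup E] [IsUltrametricDist E] (x y : E) :
    ‖x - y‖ ≤ max ‖x‖ ‖y‖ := by
  rw [sub_eq_add_neg]
  simpa using IsUltrametricDist.norm_add_le_max x (-y)

/-- Krasner's lemma inside an algebraically closed normed field (not necessarily algebraic over
the complete base field). -/
theorem krasner_mem {x y : Ω} (hx : IsSeparable Kh x) (hy : IsIntegral Kh y)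
    (h : ∀ x' : Ω, IsConjRoot Kh x x' → x ≠ x' → ‖x - y‖ < ‖x - x'‖) : x ∈ Kh⟮y⟯ := by
  let A := algebraicClosure Kh Ω
  have hA : Normal Kh A := inferInstance
  have hK : IsKrasner Kh A := IsKrasner.of_completeSpace_of_normal Kh A
  have hxi : IsIntegral Kh x := hx.isIntegral
  let x₀ : A := ⟨x, (mem_algebraicClosure_iff').mpr hxi⟩
  let y₀ : A := ⟨y, (mem_algebraicClosure_iff').mpr hy⟩
  have hmin : ∀ z : A, minpoly Kh z = minpoly Kh (z : Ω) := fun z =>
    (minpoly.algebraMap_eq (A := Kh) (B := A) (B' := Ω)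
      (FaithfulSMul.algebraMap_injective A Ω) z).symm
  have key : x₀ ∈ Kh⟮y₀⟯ := by
    refine IsKrasner.krasner (K := Kh) (L := A) (x := x₀) (y := y₀) ?_ ?_ ?_ ?_
    · rw [hmin]; exact hx
    · exact hA.splits x₀
    · exact (isIntegral_algebraMap_iff (FaithfulSMul.algebraMap_injective A Ω)).mp hy
    · intro x' hx' hne
      have h1 : IsConjRoot Kh x (x' : Ω) := by
        rw [IsConjRoot, ← hmin x', ← hmin x₀]
        exact hx'
      exact h x' h1 (fun h2 => hne (Subtype.ext h2))
  have h3 : (IntermediateField.map A.val Kh⟮y₀⟯) = Kh⟮y⟯ := by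
    rw [adjoin_map]
    simp only [Set.image_singleton]
    rfl
  rw [← h3]
  exact ⟨x₀, key, rfl⟩

omit [CompleteSpace Kh] [IsUltrametricDist Kh] [IsAlgClosed Ω] in
/-- The pairwise distances of the roots of a polynomial are bounded below. -/
theorem exists_root_separation (f : Kh[X]) : ∃ δ : ℝ, 0 < δ ∧
    ∀ a ∈ f.rootSet Ω, ∀ b ∈ f.rootSet Ω, a ≠ b → δ ≤ ‖a - b‖ := by
  classical
  let S : Finset (Ω × Ω) := ((f.rootSet_finite Ω).toFinset ×ˢ (f.rootSet_finite Ω).toFinset).filter
    (fun q => q.1 ≠ q.2)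
  by_cases hS : S.Nonempty
  · obtain ⟨q, hq, hmin⟩ := S.exists_min_image (fun q => ‖q.1 - q.2‖) hS
    refine ⟨‖q.1 - q.2‖, ?_, fun a ha b hb hab => ?_⟩
    · rw [norm_pos_iff, sub_ne_zero]
      exact (Finset.mem_filter.mp hq).2
    · exact hmin (a, b) (Finset.mem_filter.mpr
        ⟨Finset.mem_product.mpr ⟨(Set.Finite.mem_toFinset _).mpr ha,
          (Set.Finite.mem_toFinset _).mpr hb⟩, hab⟩)
  · refine ⟨1, one_pos, fun a ha b hb hab => ?_⟩
    exact absurd ⟨(a, b), Finset.mem_filter.mpr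
        ⟨Finset.mem_product.mpr ⟨(Set.Finite.mem_toFinset _).mpr ha,
          (Set.Finite.mem_toFinset _).mpr hb⟩, hab⟩⟩ hS

variable [Algebra K Kh] [Algebra K Ω] [IsScalarTower K Kh Ω]

/-- **Approximation of separable polynomials.** A monic separable polynomial over the complete
field `Kh` can be replaced by one over the dense subfield `K` without changing the field
generated over `Kh` by the roots. -/
theorem exists_approx_separable (hd : DenseRange (algebraMap K Kh)) (f : Kh[X]) (hf : f.Monic)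
    (hs : f.Separable) :
    ∃ g : K[X], g.Monic ∧ g.Separable ∧ g.natDegree = f.natDegree ∧
      adjoin Kh (f.rootSet Ω) = adjoin Kh (g.rootSet Ω) := by
  classical
  have : IsUltrametricDist Ω := IsUltrametricDist.of_normedAlgebra Kh
  by_cases hn : f.natDegree = 0
  · have hf1 : f = 1 := hf.natDegree_eq_zero.mp hn
    refine ⟨1, monic_one, separable_one, by rw [hf1]; simp, ?_⟩
    rw [hf1]
    simp
  obtain ⟨δ, hδ, hsep⟩ := exists_root_separation (Ω := Ω) f
  -- a bound for the norms of the roots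
  obtain ⟨M, hM1, hM⟩ : ∃ M : ℝ, 1 ≤ M ∧ ∀ a ∈ f.rootSet Ω, ‖a‖ ≤ M := by
    have hfin := f.rootSet_finite Ω
    have hb : BddAbove ((fun a : Ω => ‖a‖) '' (f.rootSet Ω)) := (hfin.image _).bddAbove
    obtain ⟨M, hM⟩ := hb
    refine ⟨max M 1, le_max_right _ _, fun a ha => le_trans (hM ⟨a, ha, rfl⟩) (le_max_left _ _)⟩
  set n := f.natDegree with hn'
  have hMpos : 0 < M := lt_of_lt_of_le one_pos hM1
  set ε : ℝ := (δ / (2 * M)) ^ n / (n + 1) with hεdef
  have hε : 0 < ε := by positivity
  obtain ⟨g, gmon, gdeg, gcoeff⟩ :=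
    exists_monic_and_natDegree_eq_and_norm_map_algebraMap_coeff_sub_lt hd hf hε
  have hgdeg : (g.map (algebraMap K Kh)).natDegree = f.natDegree := by
    rw [gmon.natDegree_map, ← gdeg]
  -- nearby roots
  have hroot : ∀ a ∈ f.rootSet Ω, ∃ b ∈ g.rootSet Ω, ‖a - b‖ < δ := by
    intro a ha
    have hfa : f.aeval a = 0 := (mem_rootSet.mp ha).2
    obtain ⟨b, hb, hab⟩ := exists_aroots_norm_sub_lt_of_norm_coeff_sub_lt (L := Ω)
      hε hfa hf (gmon.map (algebraMap K Kh)) hgdeg gcoeff (IsAlgClosed.splits _)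
    refine ⟨b, ?_, ?_⟩
    · rw [mem_rootSet]
      refine ⟨gmon.ne_zero, ?_⟩
      have := (mem_aroots.mp hb).2
      rwa [aeval_map_algebraMap] at this
    · refine lt_of_lt_of_le hab ?_
      have h1 : ((f.natDegree : ℝ) + 1) * ε = (δ / (2 * M)) ^ n := by
        rw [hεdef, ← hn']
        field_simp
      rw [h1, ← hn', ← Real.rpow_natCast, ← Real.rpow_mul (by positivity),
        mul_inv_cancel₀ (by exact_mod_cast hn), Real.rpow_one]
      have h2 : max ‖a‖ 1 ≤ M := max_le (hM a ha) hM1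
      calc δ / (2 * M) * max ‖a‖ 1 ≤ δ / (2 * M) * M := by gcongr
        _ = δ / 2 := by field_simp
        _ ≤ δ := by linarith
  choose! b hb hab using hroot
  have hinj : Set.InjOn b (f.rootSet Ω) := by
    intro a ha a' ha' h
    by_contra hne
    have h1 := hsep a ha a' ha' hne
    have h2 : ‖a - a'‖ < δ := by
      have h3 : a - a' = (a - b a) - (a' - b a') := by rw [h]; ring
      rw [h3]
      exact lt_of_le_of_lt (norm_sub_le_max' _ _) (max_lt (hab a ha) (hab a' ha'))
    exact absurd h1 (not_le.mpr h2)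
  have hcardf : Fintype.card (f.rootSet Ω) = n :=
    card_rootSet_eq_natDegree hs (IsAlgClosed.splits _)
  have hcardf' : (f.rootSet Ω).ncard = n := by
    rw [← Nat.card_coe_set_eq, Nat.card_eq_fintype_card, hcardf]
  have hcardg : (g.rootSet Ω).ncard ≤ n := by
    have h1 : (g.rootSet Ω).ncard ≤ g.natDegree := by
      rw [rootSet, Set.ncard_coe_finset]
      refine (Multiset.toFinset_card_le _).trans ?_
      refine (card_roots' _).trans ?_
      rw [natDegree_map]
    rwa [← gdeg] at h1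
  have himg : b '' (f.rootSet Ω) = g.rootSet Ω := by
    apply Set.eq_of_subset_of_ncard_le
    · rintro _ ⟨a, ha, rfl⟩; exact hb a ha
    · rw [hinj.ncard_image, hcardf']; exact hcardg
    · exact g.rootSet_finite Ω
  have hgsep : g.Separable := by
    have h1 : (g.rootSet Ω).ncard = g.natDegree := by
      rw [← himg, hinj.ncard_image, hcardf', hn', gdeg]
    have h2 : (g.aroots Ω).toFinset.card = (g.aroots Ω).card := by
      rw [rootSet, Set.ncard_coe_finset] at h1
      rw [h1, aroots, ← natDegree_map (algebraMap K Ω)]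
      exact (IsAlgClosed.splits (g.map (algebraMap K Ω))).natDegree_eq_card_roots
    have h3 : (g.map (algebraMap K Ω)).roots.Nodup := Multiset.toFinset_card_eq_card_iff_nodup.mp h2
    have h4 : (g.map (algebraMap K Ω)).Separable :=
      (nodup_roots_iff_of_splits (gmon.map _).ne_zero (IsAlgClosed.splits _)).mp h3
    exact (separable_map _).mp h4
  have hdist : ∀ a ∈ f.rootSet Ω, ∀ a' ∈ f.rootSet Ω, a ≠ a' → δ ≤ ‖b a - b a'‖ := by
    intro a ha a' ha' hne
    by_contra hlt
    push Not at hlt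
    have h3 : a - a' = (a - b a) + ((b a - b a') - (a' - b a')) := by ring
    have h2 : ‖a - a'‖ < δ := by
      rw [h3]
      refine lt_of_le_of_lt (IsUltrametricDist.norm_add_le_max _ _) (max_lt (hab a ha) ?_)
      exact lt_of_le_of_lt (norm_sub_le_max' _ _) (max_lt hlt (hab a' ha'))
    exact absurd (hsep a ha a' ha' hne) (not_le.mpr h2)
  have hmemf : ∀ a ∈ f.rootSet Ω, ∀ a' : Ω, IsConjRoot Kh a a' → a' ∈ f.rootSet Ω := by
    intro a ha a' h
    rw [mem_rootSet] at ha ⊢
    refine ⟨ha.1, ?_⟩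
    have h1 : minpoly Kh a ∣ f := minpoly.dvd _ _ ha.2
    have h2 : aeval a' (minpoly Kh a) = 0 := by
      rw [IsConjRoot] at h
      rw [h]; exact minpoly.aeval _ _
    obtain ⟨q, hq⟩ := h1
    rw [hq, map_mul, h2, zero_mul]
  have hmemg : ∀ a ∈ g.rootSet Ω, ∀ a' : Ω, IsConjRoot Kh a a' → a' ∈ g.rootSet Ω := by
    intro a ha a' h
    rw [mem_rootSet] at ha ⊢
    refine ⟨ha.1, ?_⟩
    have h1 : minpoly Kh a ∣ g.map (algebraMap K Kh) :=
      minpoly.dvd _ _ (by rw [aeval_map_algebraMap]; exact ha.2)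
    have h2 : aeval a' (minpoly Kh a) = 0 := by
      rw [IsConjRoot] at h
      rw [h]; exact minpoly.aeval _ _
    obtain ⟨q, hq⟩ := h1
    have h3 : aeval a' (g.map (algebraMap K Kh)) = 0 := by rw [hq, map_mul, h2, zero_mul]
    rwa [aeval_map_algebraMap] at h3
  have hsepf : ∀ a ∈ f.rootSet Ω, IsSeparable Kh a := by
    intro a ha
    exact hs.of_dvd (minpoly.dvd _ _ (mem_rootSet.mp ha).2)
  have hsepg : ∀ a ∈ g.rootSet Ω, IsSeparable Kh a := by
    intro a ha
    have h1 : minpoly Kh a ∣ g.map (algebraMap K Kh) :=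
      minpoly.dvd _ _ (by rw [aeval_map_algebraMap]; exact (mem_rootSet.mp ha).2)
    exact ((separable_map _).mpr hgsep).of_dvd h1
  refine ⟨g, gmon, hgsep, gdeg.symm, le_antisymm ?_ ?_⟩
  · rw [adjoin_le_iff]
    intro a ha
    have h1 : a ∈ Kh⟮b a⟯ := by
      refine krasner_mem (hsepf a ha) (hsepg (b a) (hb a ha)).isIntegral ?_
      intro a' ha' hne
      exact lt_of_lt_of_le (hab a ha) (hsep a ha a' (hmemf a ha a' ha') hne)
    have h2 : Kh⟮b a⟯ ≤ adjoin Kh (g.rootSet Ω) := by
      rw [adjoin_simple_le_iff]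
      exact subset_adjoin _ _ (hb a ha)
    exact h2 h1
  · rw [adjoin_le_iff]
    intro c hc
    rw [← himg] at hc
    obtain ⟨a, ha, rfl⟩ := hc
    have h1 : b a ∈ Kh⟮a⟯ := by
      refine krasner_mem (hsepg (b a) (hb a ha)) (hsepf a ha).isIntegral ?_
      intro c' hc' hne
      have hc'' := hmemg (b a) (hb a ha) c' hc'
      rw [← himg] at hc''
      obtain ⟨a', ha', rfl⟩ := hc''
      have h3 : a ≠ a' := fun h => hne (by rw [h])
      rw [norm_sub_rev]
      exact lt_of_lt_of_le (hab a ha) (hdist a ha a' ha' h3)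
    have h2 : Kh⟮a⟯ ≤ adjoin Kh (f.rootSet Ω) := by
      rw [adjoin_simple_le_iff]
      exact subset_adjoin _ _ ha
    exact h2 h1

end Groth.Agent.Etalg.EppKrasner
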