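import Groth.Agent.Etalg.EppKrasner
import Mathlib.Topology.Algebra.Field
import Mathlib.Analysis.Normed.Algebra.Basic

/-!
# Krasner approximation for subfields of an algebraically closed normed field
-/

set_option autoImplicit false

namespace Groth.Agent.Etalg.EppKrasner2

open Polynomial Groth.Agent.Etalg.EppKrasner

variable {Ω : Type*} [NormedField Ω] [IsUltrametricDist Ω] [IsAlgClosed Ω]

/-- Subfield version of `exists_approx_separable`: `E ≤ F ≤ closure E`, `F` complete. -/
theorem exists_approx_subfield (E F : Subfield Ω) (hEF : E ≤ F)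
    (hcl : (F : Set Ω) ⊆ closure (E : Set Ω)) (hc : CompleteSpace F) (hnt : ∃ x ∈ F, 1 < ‖x‖)
    (f : F[X]) (hf : f.Monic) (hs : f.Separable) :
    ∃ g : E[X], g.Monic ∧ g.Separable ∧ g.natDegree = f.natDegree ∧
      Subfield.closure ((F : Set Ω) ∪ f.rootSet Ω) =
        Subfield.closure ((F : Set Ω) ∪ g.rootSet Ω) := by
  let _ : Algebra E F := (Subfield.inclusion hEF).toAlgebra
  have : IsScalarTower E F Ω := IsScalarTower.of_algebraMap_eq fun x => rfl
  let _ : NontriviallyNormedField F :=
    { (inferInstance : NormedField F) with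
      non_trivial := by
        obtain ⟨x, hx, hx1⟩ := hnt
        exact ⟨⟨x, hx⟩, hx1⟩ }
  have : IsUltrametricDist F := ⟨fun x y z => IsUltrametricDist.dist_triangle_max (x : Ω) y z⟩
  let _ : NormedAlgebra F Ω :=
    { (inferInstance : Algebra F Ω) with
      norm_smul_le := fun a x => by
        rw [Algebra.smul_def, norm_mul]
        exact le_rfl }
  have hd : DenseRange (algebraMap E F) := by
    rw [Metric.denseRange_iff]
    intro x r hr
    obtain ⟨y, hy, hxy⟩ := Metric.mem_closure_iff.mp (hcl x.2) r hr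
    exact ⟨⟨y, hy⟩, hxy⟩
  obtain ⟨g, h1, h2, h3, h4⟩ := exists_approx_separable (Ω := Ω) hd f hf hs
  refine ⟨g, h1, h2, h3, ?_⟩
  have h5 := congrArg IntermediateField.toSubfield h4
  rw [IntermediateField.adjoin_toSubfield, IntermediateField.adjoin_toSubfield] at h5
  have h6 : Set.range (algebraMap F Ω) = (F : Set Ω) := by
    ext x
    constructor
    · rintro ⟨y, rfl⟩; exact y.2
    · intro hx; exact ⟨⟨x, hx⟩, rfl⟩
  rwa [h6] at h5

/-- Everything generated by elements of the closure of a subfield stays in its closure. -/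
theorem closure_sup_subset (E F G : Subfield Ω) (hEG : E ≤ G)
    (hcl : (F : Set Ω) ⊆ closure (E : Set Ω)) :
    ((F ⊔ G : Subfield Ω) : Set Ω) ⊆ closure (G : Set Ω) := by
  have h1 : F ⊔ G ≤ G.topologicalClosure := by
    refine sup_le ?_ (Subfield.le_topologicalClosure G)
    intro x hx
    exact closure_mono hEG (hcl hx)
  exact h1

/-- If `x` lies in the closure of `G` then its norm is attained on `G`. -/
theorem exists_norm_eq_of_mem_closure (G : Subfield Ω) {x : Ω} (hx : x ∈ closure (G : Set Ω)) :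
    ∃ y ∈ G, ‖y‖ = ‖x‖ := by
  by_cases h0 : x = 0
  · exact ⟨0, G.zero_mem, by rw [h0]⟩
  · obtain ⟨y, hy, hxy⟩ := Metric.mem_closure_iff.mp hx ‖x‖ (norm_pos_iff.mpr h0)
    refine ⟨y, hy, ?_⟩
    rw [dist_eq_norm] at hxy
    have h1 : ‖y - x‖ < ‖x‖ := by rwa [norm_sub_rev]
    have h2 := IsUltrametricDist.norm_add_eq_max_of_norm_ne_norm (ne_of_lt h1)
    rw [sub_add_cancel] at h2
    rw [h2, max_eq_right h1.le]

end Groth.Agent.Etalg.EppKrasner2
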