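import Groth.Agent.Etalg.EppNorm
import Groth.Agent.Etalg.EppRaw

/-!
# The Artin-Schreier and the Kummer isogeny
-/

set_option autoImplicit false
set_option linter.unusedSectionVars false
universe u

namespace Groth.Agent.Etalg.EppPData

open Polynomial EppFrame EppNorm EppRaw

variable {Ω : Type u} [NormedField Ω]

/-- `PData` given by a polynomial with coefficients in `E`, étale. -/
structure PPoly (p : ℕ) (E : Subfield Ω) (w : Ω) (P : Ω → Ω) (Q : Ω[X]) : Prop where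
  data : PData p w P
  w_mem : w ∈ E
  monic : Q.Monic
  deg : Q.natDegree = p
  int : IntC E Q
  eval_eq : ∀ x, Q.eval x = P x
  deriv : ∀ x, ‖x‖ ≤ 1 → ‖Q.derivative.eval x‖ = 1

theorem PPoly.mono {p : ℕ} {E E' : Subfield Ω} {w : Ω} {P : Ω → Ω} {Q : Ω[X]} (D : PPoly p E w P Q)
    (h : E ≤ E') : PPoly p E' w P Q :=
  ⟨D.data, h D.w_mem, D.monic, D.deg, fun i => ⟨h (D.int i).1, (D.int i).2⟩, D.eval_eq, D.deriv⟩

theorem PPoly.map_mem {p : ℕ} {E : Subfield Ω} {w : Ω} {P : Ω → Ω} {Q : Ω[X]} (D : PPoly p E w P Q)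
    {F : Subfield Ω} (h : E ≤ F) {x : Ω} (hx : x ∈ F) : P x ∈ F := by
  rw [← D.eval_eq, eval_eq_sum_range]
  exact F.sum_mem fun i _ => F.mul_mem (h (D.int i).1) (F.pow_mem hx _)

/-- Artin-Schreier -/
theorem artinSchreier {p : ℕ} (hp : p.Prime) (h0 : (p : Ω) = 0) (E : Subfield Ω) :
    PPoly p E 0 (fun x => x ^ p - x) (X ^ p - X) := by
  have hch : CharP Ω p := EppSub2.charP_of_cast_eq_zero hp h0
  have hfact : Fact p.Prime := ⟨hp⟩
  refine ⟨⟨?_, ?_, ?_, ?_, ?_, ?_⟩, E.zero_mem, ?_, ?_, ?_, ?_, ?_⟩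
  · rw [norm_zero]; exact one_pos
  · rw [h0, norm_zero]; positivity
  · intro x y
    simp only [ad, zero_mul, add_zero, zero_pow hp.ne_zero]
    rw [add_pow_char]
    ring
  · simp [hp.ne_zero]
  · intro x
    simp [hp.ne_zero]
  · intro x hx _
    have e : x ^ p - x - x ^ p + x = 0 := by ring
    rw [e, norm_zero]
    exact norm_pos_iff.2 hx
  · exact (monic_X_pow p).sub_of_left (by
      rw [degree_X, degree_X_pow]
      exact_mod_cast hp.one_lt)
  · have hlt : (X : Ω[X]).degree < ((X : Ω[X]) ^ p).degree := by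
      rw [degree_X, degree_X_pow]
      exact_mod_cast hp.one_lt
    rw [natDegree, degree_sub_eq_left_of_degree_lt hlt, degree_X_pow]
    rfl
  · intro i
    rw [coeff_sub, coeff_X_pow, coeff_X]
    have hp1 := hp.one_lt
    by_cases h1 : i = p
    · have h2 : ¬ (1 = i) := by omega
      rw [if_pos h1, if_neg h2, sub_zero]
      exact ⟨E.one_mem, by rw [norm_one]⟩
    · rw [if_neg h1, zero_sub]
      split_ifs
      · exact ⟨E.neg_mem E.one_mem, by rw [norm_neg, norm_one]⟩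
      · exact ⟨by rw [neg_zero]; exact E.zero_mem, by rw [neg_zero, norm_zero]; exact zero_le_one⟩
  · intro x
    simp
  · intro x _
    rw [derivative_sub, derivative_X_pow, derivative_X, h0, C_0, zero_mul, zero_sub, eval_neg,
      eval_one, norm_neg, norm_one]

variable [IsUltrametricDist Ω]

section Kummer

/-- `((1+y)^p - 1 - y^p) / (p y)` -/
noncomputable def S (p : ℕ) (y : Ω) : Ω := ∑ k ∈ Finset.Ioo 0 p, y ^ (k - 1) * ((p.choose k / p : ℕ) : Ω)

theorem one_add_pow {p : ℕ} (hp : p.Prime) (y : Ω) : (1 + y) ^ p = 1 + y ^ p + p * y * S p y := by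
  rw [add_comm 1 y, add_pow_prime_eq hp, S]
  simp only [one_pow, mul_one]
  ring

theorem norm_S_sub {p : ℕ} (hp : p.Prime) {y : Ω} (hy : ‖y‖ ≤ 1) : ‖S p y - 1‖ ≤ ‖y‖ := by
  have h1 : (1 : ℕ) ∈ Finset.Ioo 0 p := Finset.mem_Ioo.2 ⟨one_pos, hp.one_lt⟩
  rw [S, ← Finset.add_sum_erase _ _ h1]
  have e : y ^ (1 - 1) * ((p.choose 1 / p : ℕ) : Ω) = 1 := by
    rw [Nat.choose_one_right, Nat.div_self hp.pos]
    simp
  rw [e, add_sub_cancel_left]
  apply IsUltrametricDist.norm_sum_le_of_forall_le_of_nonneg (norm_nonneg _)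
  intro k hk
  rw [Finset.mem_erase, Finset.mem_Ioo] at hk
  obtain ⟨m, hm⟩ : ∃ m, k - 1 = m + 1 := ⟨k - 2, by omega⟩
  rw [hm, norm_mul, pow_succ', norm_mul, norm_pow]
  have h2 : ‖y‖ ^ m ≤ 1 := pow_le_one₀ (norm_nonneg _) hy
  have h3 := IsUltrametricDist.norm_natCast_le_one Ω (p.choose k / p)
  calc ‖y‖ * ‖y‖ ^ m * ‖((p.choose k / p : ℕ) : Ω)‖ ≤ ‖y‖ * 1 * 1 := by gcongr
    _ = ‖y‖ := by ring

theorem norm_S {p : ℕ} (hp : p.Prime) {y : Ω} (hy : ‖y‖ < 1) : ‖S p y‖ = 1 := by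
  have h1 := (norm_S_sub hp hy.le).trans_lt hy
  rw [← norm_one (α := Ω)]
  apply norm_eq_of_sub_lt'
  rwa [norm_one]

variable {p : ℕ} (hp : p.Prime) (hpn : ‖(p : Ω)‖ < 1) {ζ : Ω} (hζ : IsPrimitiveRoot ζ p)

include hp hζ in
theorem w_ne : ζ - 1 ≠ 0 := by
  rw [sub_ne_zero]
  exact hζ.ne_one hp.one_lt

include hp hζ in
theorem norm_w_le : ‖ζ - 1‖ ≤ 1 := by
  have h1 : ‖ζ‖ = 1 := by
    have := congrArg norm hζ.pow_eq_one
    rw [norm_pow, norm_one] at this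
    exact (pow_eq_one_iff_of_nonneg (norm_nonneg _) hp.ne_zero).mp this
  exact norm_sub_le' h1.le (by rw [norm_one])

include hp hpn hζ in
theorem norm_w_lt : ‖ζ - 1‖ < 1 := by
  have h0 := norm_w_le hp hζ
  have h1 := one_add_pow hp (ζ - 1)
  rw [add_sub_cancel, hζ.pow_eq_one] at h1
  have h2 : (ζ - 1) ^ p = -(p * (ζ - 1) * S p (ζ - 1)) := by linear_combination -h1
  have h3 : ‖S p (ζ - 1)‖ ≤ 1 := by
    have e : S p (ζ - 1) = (S p (ζ - 1) - 1) + 1 := by ring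
    rw [e]
    exact norm_add_le' ((norm_S_sub hp h0).trans h0) (by rw [norm_one])
  have h4 : ‖(ζ - 1) ^ p‖ < 1 := by
    rw [h2, norm_neg, norm_mul, norm_mul]
    calc ‖(p : Ω)‖ * ‖ζ - 1‖ * ‖S p (ζ - 1)‖ ≤ ‖(p : Ω)‖ * 1 * 1 := by gcongr
      _ < 1 := by rwa [mul_one, mul_one]
  rw [norm_pow] at h4
  by_contra h5
  push Not at h5
  exact absurd h4 (not_lt.mpr (one_le_pow₀ h5))

include hp hζ in
theorem w_pow : (ζ - 1) ^ (p - 1) = -(p * S p (ζ - 1)) := by
  have h1 := one_add_pow hp (ζ - 1)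
  rw [add_sub_cancel, hζ.pow_eq_one] at h1
  have h2 : (ζ - 1) ^ p = (ζ - 1) ^ (p - 1) * (ζ - 1) := by
    rw [← pow_succ, Nat.sub_add_cancel hp.one_le]
  apply mul_right_cancel₀ (w_ne hp hζ)
  linear_combination -h1 - h2

/-- the Kummer isogeny -/
noncomputable def kP (p : ℕ) (w : Ω) (x : Ω) : Ω := ((1 + w * x) ^ p - 1) / w ^ p

include hp hpn hζ in
theorem S_ne : S p (ζ - 1) ≠ 0 := by
  rw [← norm_ne_zero_iff, norm_S hp (norm_w_lt hp hpn hζ)]
  exact one_ne_zero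

include hp hpn hζ in
theorem kP_eq (x : Ω) : kP p (ζ - 1) x = x ^ p - x * S p ((ζ - 1) * x) / S p (ζ - 1) := by
  have h0 := w_ne hp hζ
  have h1 := S_ne hp hpn hζ
  have h2 := w_pow hp hζ
  have h3 : (ζ - 1) ^ p = (ζ - 1) ^ (p - 1) * (ζ - 1) := by
    rw [← pow_succ, Nat.sub_add_cancel hp.one_le]
  rw [kP, div_eq_iff (pow_ne_zero _ h0), one_add_pow hp, mul_pow, sub_mul (x ^ p)]
  have h4 : x * S p ((ζ - 1) * x) / S p (ζ - 1) * (ζ - 1) ^ p =
      -(p * ((ζ - 1) * x) * S p ((ζ - 1) * x)) := by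
    rw [h3, h2]
    field_simp
  rw [h4]
  ring

include hp hpn hζ in
theorem kummer_data : PData p (ζ - 1) (kP p (ζ - 1)) := by
  have h0 := w_ne hp hζ
  have hw := norm_w_lt hp hpn hζ
  have hS := S_ne hp hpn hζ
  refine ⟨hw, ?_, ?_, ?_, ?_, ?_⟩
  · have := congrArg norm (w_pow hp hζ)
    rw [norm_pow, norm_neg, norm_mul, norm_S hp hw, mul_one] at this
    exact this.ge
  · intro x y
    have h1 : (ζ - 1) ^ p ≠ 0 := pow_ne_zero _ h0
    have h2 := one_add_ad (ζ - 1) x y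
    rw [kP, h2, mul_pow]
    unfold ad kP
    field_simp
    ring
  · simp [kP]
  · intro x
    rw [kP, mul_div_cancel₀ _ (pow_ne_zero _ h0)]
    ring
  · intro x hx hwx
    rw [kP_eq hp hpn hζ]
    have e : x ^ p - x * S p ((ζ - 1) * x) / S p (ζ - 1) - x ^ p + x =
        x * ((S p (ζ - 1) - 1) - (S p ((ζ - 1) * x) - 1)) / S p (ζ - 1) := by
      field_simp
      ring
    rw [e, norm_div, norm_S hp hw, div_one, norm_mul]
    apply mul_lt_of_lt_one_right (norm_pos_iff.2 hx)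
    exact norm_sub_lt' ((norm_S_sub hp hw.le).trans_lt hw) ((norm_S_sub hp hwx.le).trans_lt hwx)

/-- the Kummer polynomial -/
noncomputable def kR (p : ℕ) (w : Ω) : Ω[X] :=
  ∑ k ∈ Finset.Ioo 0 p, C (w ^ (k - 1) * ((p.choose k / p : ℕ) : Ω) / S p w) * X ^ k

theorem kR_eval (w x : Ω) : (kR p w).eval x = x * S p (w * x) / S p w := by
  have hS : S p (w * x) = ∑ k ∈ Finset.Ioo 0 p, (w * x) ^ (k - 1) * ((p.choose k / p : ℕ) : Ω) := rfl
  rw [kR, eval_finsetSum, hS, Finset.mul_sum, Finset.sum_div]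
  apply Finset.sum_congr rfl
  intro k hk
  rw [Finset.mem_Ioo] at hk
  obtain ⟨m, rfl⟩ : ∃ m, k = m + 1 := ⟨k - 1, by omega⟩
  simp only [eval_mul, eval_C, eval_pow, eval_X, Nat.add_sub_cancel]
  rw [mul_pow, pow_succ]
  ring

theorem kR_degree_lt (w : Ω) : (kR p w).degree < (p : WithBot ℕ) := by
  rw [kR, degree_lt_iff_coeff_zero]
  intro m hm
  rw [finsetSum_coeff]
  apply Finset.sum_eq_zero
  intro k hk
  rw [Finset.mem_Ioo] at hk
  rw [coeff_C_mul_X_pow, if_neg (by omega)]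

theorem S_mem {E : Subfield Ω} {y : Ω} (hy : y ∈ E) : S p y ∈ E :=
  E.sum_mem fun _ _ => E.mul_mem (E.pow_mem hy _) (natCast_mem E _)

theorem kR_int {E : Subfield Ω} {w : Ω} (hw : w ∈ E) (hw1 : ‖w‖ ≤ 1) (hS : ‖S p w‖ = 1) :
    IntC E (kR p w) := by
  intro i
  rw [kR, finsetSum_coeff]
  have h : ∀ k, (C (w ^ (k - 1) * ((p.choose k / p : ℕ) : Ω) / S p w) * X ^ k).coeff i ∈ E ∧
      ‖(C (w ^ (k - 1) * ((p.choose k / p : ℕ) : Ω) / S p w) * X ^ k).coeff i‖ ≤ 1 := by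
    intro k
    rw [coeff_C_mul_X_pow]
    split_ifs
    · refine ⟨E.div_mem (E.mul_mem (E.pow_mem hw _) (natCast_mem E _)) (S_mem hw), ?_⟩
      rw [norm_div, hS, div_one, norm_mul, norm_pow]
      exact mul_le_one₀ (pow_le_one₀ (norm_nonneg _) hw1) (norm_nonneg _)
        (IsUltrametricDist.norm_natCast_le_one Ω _)
    · exact ⟨E.zero_mem, by rw [norm_zero]; exact zero_le_one⟩
  exact ⟨E.sum_mem fun k _ => (h k).1,
    IsUltrametricDist.norm_sum_le_of_forall_le_of_nonneg zero_le_one fun k _ => (h k).2⟩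

theorem IntC.sub {E : Subfield Ω} {f g : Ω[X]} (hf : IntC E f) (hg : IntC E g) : IntC E (f - g) := by
  intro i
  rw [coeff_sub]
  exact ⟨E.sub_mem (hf i).1 (hg i).1, norm_sub_le' (hf i).2 (hg i).2⟩

theorem IntC.X_pow (E : Subfield Ω) (n : ℕ) : IntC E (X ^ n) := by
  intro i
  rw [coeff_X_pow]
  split_ifs
  · exact ⟨E.one_mem, by rw [norm_one]⟩
  · exact ⟨E.zero_mem, by rw [norm_zero]; exact zero_le_one⟩

include hp hpn hζ in
/-- Kummer -/
theorem kummer [IsAlgClosed Ω] {E : Subfield Ω} (hζE : ζ ∈ E) :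
    PPoly p E (ζ - 1) (kP p (ζ - 1)) (X ^ p - kR p (ζ - 1)) := by
  have h0 := w_ne hp hζ
  have hw := norm_w_lt hp hpn hζ
  have hwE : ζ - 1 ∈ E := E.sub_mem hζE E.one_mem
  have hlt : (kR p (ζ - 1)).degree < ((X : Ω[X]) ^ p).degree := by
    rw [degree_X_pow]
    exact kR_degree_lt _
  have heval : ∀ x, (X ^ p - kR p (ζ - 1)).eval x = kP p (ζ - 1) x := by
    intro x
    rw [kP_eq hp hpn hζ, eval_sub, eval_pow, eval_X, kR_eval]
  refine ⟨kummer_data hp hpn hζ, hwE, (monic_X_pow p).sub_of_left hlt, ?_,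
    IntC.sub (IntC.X_pow E p) (kR_int hwE hw.le (norm_S hp hw)), heval, ?_⟩
  · rw [natDegree, degree_sub_eq_left_of_degree_lt hlt, degree_X_pow]
    rfl
  · intro x hx
    have h1 : C ((ζ - 1) ^ p) * (X ^ p - kR p (ζ - 1)) = (1 + C (ζ - 1) * X) ^ p - 1 := by
      apply Polynomial.funext
      intro x
      rw [eval_mul, eval_C, heval, kP, mul_div_cancel₀ _ (pow_ne_zero _ h0)]
      simp
    generalize X ^ p - kR p (ζ - 1) = q at h1
    have h2 := congrArg (fun q => (derivative q).eval x) h1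
    simp only [derivative_mul, derivative_C, zero_mul, zero_add, eval_mul, eval_C, derivative_sub,
      derivative_one, sub_zero, derivative_pow, derivative_add, derivative_X, mul_one, eval_pow,
      eval_add, eval_one, eval_X, map_natCast, eval_natCast] at h2
    have h3 := congrArg norm h2
    have hwx : ‖(ζ - 1) * x‖ < 1 := by
      rw [norm_mul]
      exact mul_lt_one_of_nonneg_of_lt_one_left (norm_nonneg _) hw hx
    have h4 := congrArg norm (w_pow hp hζ)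
    rw [norm_pow, norm_neg, norm_mul, norm_S hp hw, mul_one] at h4
    rw [norm_mul, norm_mul, norm_mul, norm_pow, norm_pow, norm_one_add hwx, one_pow, mul_one, ← h4,
      ← pow_succ, Nat.sub_add_cancel hp.one_le] at h3
    have h5 : ‖ζ - 1‖ ^ p ≠ 0 := pow_ne_zero _ (norm_ne_zero_iff.2 h0)
    exact mul_left_cancel₀ h5 (by rw [h3, mul_one])

end Kummer

end Groth.Agent.Etalg.EppPData
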