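import Groth.Agent.Etalg.EppRaw

/-!
Epp's theorem, raw dichotomy: the step from `F n` to `F (n+1)`.
-/

set_option autoImplicit false
set_option linter.unusedSectionVars false
set_option linter.unusedVariables false

namespace Groth.Agent.Etalg.EppRaw

variable {Ω : Type*} [NormedField Ω] [IsUltrametricDist Ω]
variable {p : ℕ} {w : Ω} {P : Ω → Ω} {π : ℕ → Ω} {F : ℕ → Subfield Ω}

namespace Tower

theorem le_of_le (T : Tower p π F) {m n : ℕ} (h : m ≤ n) : F m ≤ F n :=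
  monotone_nat_of_le_succ T.mono h

theorem pi_ne' (T : Tower p π F) (hp : p.Prime) (n : ℕ) : π n ≠ 0 := by
  induction n with
  | zero => exact T.pi_ne
  | succ n ih =>
    intro h
    apply ih
    rw [← T.pi_pow n, h, zero_pow hp.ne_zero]

theorem norm_pi_pos (T : Tower p π F) (hp : p.Prime) (n : ℕ) : 0 < ‖π n‖ :=
  norm_pos_iff.mpr (T.pi_ne' hp n)

theorem norm_pi_lt (T : Tower p π F) (hp : p.Prime) (n : ℕ) : ‖π n‖ < 1 := by
  induction n with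
  | zero => exact T.pi_lt
  | succ n ih =>
    rw [← T.pi_pow n, norm_pow] at ih
    by_contra h
    push Not at h
    exact absurd ih (not_lt.mpr (one_le_pow₀ h))

theorem norm_pi_mono (T : Tower p π F) (hp : p.Prime) (n : ℕ) : ‖π n‖ ≤ ‖π (n + 1)‖ := by
  rw [← T.pi_pow n, norm_pow]
  exact pow_le_of_le_one (norm_nonneg _) (T.norm_pi_lt hp _).le hp.ne_zero

theorem norm_pi_mono' (T : Tower p π F) (hp : p.Prime) {m n : ℕ} (h : m ≤ n) :
    ‖π m‖ ≤ ‖π n‖ :=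
  monotone_nat_of_le_succ (T.norm_pi_mono hp) h

theorem pi_pow_pow (T : Tower p π F) (m j : ℕ) : π (m + j) ^ p ^ j = π m := by
  induction j with
  | zero => simp
  | succ j ih =>
    rw [pow_succ', pow_mul, ← add_assoc, T.pi_pow, ih]

theorem le_one_of_lt (T : Tower p π F) (hp : p.Prime) {n : ℕ} {x : Ω} (hx : x ∈ F n)
    (h : ‖x * π n‖ < 1) : ‖x‖ ≤ 1 := by
  by_cases h0 : x = 0
  · rw [h0, norm_zero]; exact zero_le_one
  · obtain ⟨k, hk⟩ := T.val n x hx h0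
    rw [norm_mul, hk, ← zpow_add_one₀ (T.norm_pi_pos hp n).ne'] at h
    have h1 : 0 < k + 1 := by
      by_contra h'
      push Not at h'
      have := one_le_zpow_of_nonpos₀ (T.norm_pi_pos hp n) (T.norm_pi_lt hp n).le h'
      exact absurd h (not_lt.mpr this)
    obtain ⟨m, rfl⟩ := Int.eq_ofNat_of_zero_le (show 0 ≤ k by omega)
    rw [hk, zpow_natCast]
    exact pow_le_one₀ (norm_nonneg _) (T.norm_pi_lt hp n).le

theorem le_one_of_lt' (T : Tower p π F) (hp : p.Prime) {n N : ℕ} {x : Ω} (hx : x ∈ F n)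
    (h : ‖x * π n ^ (N + 1)‖ < 1) : ‖x * π n ^ N‖ ≤ 1 := by
  apply T.le_one_of_lt hp ((F n).mul_mem hx ((F n).pow_mem (T.pi_mem n) _))
  rwa [mul_assoc, ← pow_succ]

theorem dvd_of_norm (T : Tower p π F) (hp : p.Prime) {n M : ℕ} {x : Ω} (hx : x ∈ F n)
    (h : ‖x * π (n + 1) ^ M‖ = 1) : p ∣ M := by
  have h0 : x ≠ 0 := by
    rintro rfl
    rw [zero_mul, norm_zero] at h
    exact zero_ne_one h
  obtain ⟨k, hk⟩ := T.val n x hx h0
  rw [← T.pi_pow n, norm_pow] at hk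
  rw [norm_mul, norm_pow, hk] at h
  have hq0 := T.norm_pi_pos hp (n + 1)
  have hq1 := T.norm_pi_lt hp (n + 1)
  have h1 : ‖π (n + 1)‖ ^ ((p : ℤ) * k + M) = ‖π (n + 1)‖ ^ (0 : ℤ) := by
    rw [zpow_zero, zpow_add₀ hq0.ne', zpow_mul, zpow_natCast, zpow_natCast]
    exact h
  have h2 := zpow_right_injective₀ hq0 hq1.ne h1
  have h3 : (p : ℤ) ∣ (M : ℤ) := ⟨-k, by linarith⟩
  exact_mod_cast h3

theorem exists_approx (T : Tower p π F) (hp : p.Prime) {n : ℕ} {r : Ω} (hr : r ∈ F (n + 1)) :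
    ∃ s ∈ F n, ‖r ^ p - s‖ ≤ ‖(p : Ω)‖ * ‖r‖ ^ p := by
  obtain ⟨c, hc, hr1, hr2⟩ := T.decomp n r hr
  refine ⟨∑ i, (c i * π (n + 1) ^ (i : ℕ)) ^ p, ?_, ?_⟩
  · apply Subfield.sum_mem
    intro i _
    rw [mul_pow, ← pow_mul, mul_comm (i : ℕ) p, pow_mul, T.pi_pow]
    exact (F n).mul_mem ((F n).pow_mem (hc i) _) ((F n).pow_mem (T.pi_mem n) _)
  · have := norm_sum_pow_sub hp Finset.univ (fun i => c i * π (n + 1) ^ (i : ℕ)) (norm_nonneg r)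
      (fun i _ => hr2 i)
    rwa [← hr1] at this

end Tower

/-- not fierce -/
def NF (p : ℕ) (w : Ω) (P : Ω → Ω) (ϖ : Ω) (F : Subfield Ω) (ξ : Ω) : Prop :=
  ∀ g ∈ F, ‖w * g‖ < 1 → ∀ M : ℕ, 0 < M → p ∣ M → ‖(ξ - P g) * ϖ ^ M‖ = 1 →
    ∃ b ∈ F, ‖(ξ - P g) * ϖ ^ M - b ^ p‖ < 1

theorem PData.key (D : PData p w P) (hp : p.Prime) {t c : ℝ} (ht : 0 < t) (hc : 0 ≤ c)
    (hct : c * t ≤ 1) (hw : ‖w‖ < t) : ‖(p : Ω)‖ * c ^ p * t < 1 := by
  have hp1 : p - 1 ≠ 0 := by have := hp.two_le; omega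
  have h1 : ‖(p : Ω)‖ < t ^ (p - 1) :=
    D.norm_p.trans_lt (pow_lt_pow_left₀ hw (norm_nonneg _) hp1)
  have h2 : c ^ p * t ^ p ≤ 1 := by
    rw [← mul_pow]
    exact pow_le_one₀ (mul_nonneg hc ht.le) hct
  have e : t ^ p = t ^ (p - 1) * t := by
    rw [← pow_succ, Nat.sub_add_cancel hp.one_le]
  rcases hc.eq_or_lt with h0 | h0
  · rw [← h0, zero_pow hp.ne_zero, mul_zero, zero_mul]
    exact one_pos
  · calc ‖(p : Ω)‖ * c ^ p * t < t ^ (p - 1) * c ^ p * t := by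
          apply mul_lt_mul_of_pos_right _ ht
          exact mul_lt_mul_of_pos_right h1 (pow_pos h0 _)
      _ = c ^ p * t ^ p := by rw [e]; ring
      _ ≤ 1 := h2

theorem w_lt (T : Tower p π F) (hp : p.Prime) {n N : ℕ} (hw : ‖w‖ ^ p < ‖π n‖ ^ N) :
    ‖w‖ < ‖π (n + 1)‖ ^ N := by
  rw [← T.pi_pow n, norm_pow, ← pow_mul, mul_comm p N, pow_mul] at hw
  exact lt_of_pow_lt_pow_left₀ p (pow_nonneg (norm_nonneg _) _) hw

theorem wg_lt {t : ℝ} {g : Ω} (hg : ‖g‖ * t ≤ 1) (hw : ‖w‖ < t) : ‖w * g‖ < 1 := by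
  by_cases h0 : g = 0
  · rw [h0, mul_zero, norm_zero]; exact one_pos
  · rw [norm_mul, mul_comm]
    exact (mul_lt_mul_of_pos_left hw (norm_pos_iff.mpr h0)).trans_le hg

/-- The step. -/
theorem step (D : PData p w P) (T : Tower p π F) (hp : p.Prime)
    {n N : ℕ} {ξ : Ω} (hξF : ξ ∈ F n) (hξ : ‖ξ * π n ^ N‖ ≤ 1)
    (hw : ‖w‖ ^ p < ‖π n‖ ^ N) (hNF : NF p w P (π (n + 1)) (F (n + 1)) ξ) :
    ∃ r ∈ F (n + 1), ‖r * π (n + 1) ^ N‖ ≤ 1 ∧ ‖(ξ - r ^ p) * π (n + 1) ^ N‖ ≤ 1 := by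
  set ϖ := π (n + 1) with hϖ
  have hϖ0 : 0 < ‖ϖ‖ := T.norm_pi_pos hp _
  have hϖ1 : ‖ϖ‖ < 1 := T.norm_pi_lt hp _
  have hϖne : ϖ ≠ 0 := T.pi_ne' hp _
  have hw' : ‖w‖ < ‖ϖ‖ ^ N := w_lt T hp hw
  have ht : 0 < ‖ϖ‖ ^ N := pow_pos hϖ0 _
  have hmono : ∀ {x : Ω} {a b : ℕ}, a ≤ b → ‖x * ϖ ^ a‖ ≤ 1 → ‖x * ϖ ^ b‖ ≤ 1 := by
    intro x a b hab h
    obtain ⟨c, rfl⟩ := Nat.exists_eq_add_of_le hab
    rw [pow_add, ← mul_assoc, norm_mul _ (ϖ ^ c), norm_pow ϖ c]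
    exact mul_le_one₀ h (pow_nonneg (norm_nonneg _) _) (pow_le_one₀ (norm_nonneg _) hϖ1.le)
  have hmono' : ∀ {x : Ω} {a b : ℕ}, a < b → ‖x * ϖ ^ a‖ ≤ 1 → ‖x * ϖ ^ b‖ < 1 := by
    intro x a b hab h
    obtain ⟨c, rfl⟩ := Nat.exists_eq_add_of_lt hab
    rw [add_assoc, pow_add, ← mul_assoc, norm_mul _ (ϖ ^ (c + 1)), norm_pow ϖ (c + 1)]
    exact mul_lt_one_of_nonneg_of_lt_one_right h (pow_nonneg (norm_nonneg _) _)
      (pow_lt_one₀ (norm_nonneg _) hϖ1 (by omega))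
  have hξ' : ‖ξ * ϖ ^ (p * N)‖ ≤ 1 := by
    rw [pow_mul, T.pi_pow]; exact hξ
  suffices H : ∀ d : ℕ, ∀ r ∈ F (n + 1), ‖r * ϖ ^ N‖ ≤ 1 → ‖(ξ - r ^ p) * ϖ ^ (N + d)‖ ≤ 1 →
      ∃ r ∈ F (n + 1), ‖r * ϖ ^ N‖ ≤ 1 ∧ ‖(ξ - r ^ p) * ϖ ^ N‖ ≤ 1 by
    refine H (p * N) 0 (F (n + 1)).zero_mem (by simp) ?_
    rw [zero_pow hp.ne_zero, sub_zero]
    exact hmono (by omega) hξ'
  intro d
  induction d with
  | zero => exact fun r hr h1 h2 => ⟨r, hr, h1, h2⟩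
  | succ d ih =>
    intro r hr h1 h2
    by_cases h3 : ‖(ξ - r ^ p) * ϖ ^ (N + d)‖ ≤ 1
    · exact ih r hr h1 h3
    have hxF : ξ - r ^ p ∈ F (n + 1) :=
      (F (n + 1)).sub_mem (T.mono n hξF) ((F (n + 1)).pow_mem hr _)
    have h4 : ‖(ξ - r ^ p) * ϖ ^ (N + d + 1)‖ = 1 := by
      apply le_antisymm h2
      by_contra h'
      push Not at h'
      exact h3 (T.le_one_of_lt' hp hxF h')
    set M := N + d + 1 with hM
    have h1' : ‖r‖ * ‖ϖ‖ ^ N ≤ 1 := by rwa [norm_mul, norm_pow] at h1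
    -- `p ∣ M`
    have hpM : p ∣ M := by
      obtain ⟨s, hs, hrs⟩ := T.exists_approx hp hr
      have h5 : ‖(r ^ p - s) * ϖ ^ N‖ < 1 := by
        rw [norm_mul, norm_pow]
        exact (mul_le_mul_of_nonneg_right hrs ht.le).trans_lt
          (D.key hp ht (norm_nonneg _) h1' hw')
      have h6 : ‖(r ^ p - s) * ϖ ^ M‖ < 1 := hmono' (by omega) h5.le
      apply T.dvd_of_norm hp ((F n).sub_mem hξF hs)
      have e : (ξ - r ^ p) * ϖ ^ M - (ξ - s) * ϖ ^ M = -((r ^ p - s) * ϖ ^ M) := by ring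
      rw [← h4]
      apply norm_eq_of_sub_lt
      rw [e, norm_neg, h4]
      exact h6
    -- apply non-fierceness
    have hwr : ‖w * r‖ < 1 := wg_lt h1' hw'
    have h7 : ‖(P r - r ^ p) * ϖ ^ M‖ < 1 := by
      apply hmono' (a := N) (by omega)
      rw [norm_mul, norm_pow]
      exact (mul_le_mul_of_nonneg_right (D.approx_le hp hwr) ht.le).trans h1'
    have h8 : ‖(ξ - P r) * ϖ ^ M‖ = 1 := by
      rw [← h4]
      apply norm_eq_of_sub_lt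
      have e : (ξ - r ^ p) * ϖ ^ M - (ξ - P r) * ϖ ^ M = (P r - r ^ p) * ϖ ^ M := by ring
      rw [e, h4]
      exact h7
    obtain ⟨b, hb, hb'⟩ := hNF r hr hwr M (by omega) hpM h8
    have hb1 : ‖b‖ = 1 := by
      have h9 : ‖b ^ p‖ = ‖(ξ - P r) * ϖ ^ M‖ := by
        apply norm_eq_of_sub_lt
        rw [h8]; exact hb'
      rw [h8, norm_pow] at h9
      exact (pow_eq_one_iff_of_nonneg (norm_nonneg _) hp.ne_zero).mp h9
    obtain ⟨M₁, hM₁⟩ := hpM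
    have hMle : M ≤ p * N := by
      by_contra h'
      push Not at h'
      have h9 : ‖(ξ - r ^ p) * ϖ ^ (p * N)‖ ≤ 1 := by
        rw [sub_mul]
        apply norm_sub_le' hξ'
        rw [mul_comm p N, pow_mul, ← mul_pow, norm_pow]
        exact pow_le_one₀ (norm_nonneg _) h1
      have := hmono' h' h9
      rw [h4] at this
      exact lt_irrefl _ this
    have hM₁N : M₁ ≤ N := by
      rw [hM₁] at hMle
      exact Nat.le_of_mul_le_mul_left hMle hp.pos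
    set r' := r + b / ϖ ^ M₁ with hr'
    have hbt : ‖b / ϖ ^ M₁‖ * ‖ϖ‖ ^ N ≤ 1 := by
      obtain ⟨c, hc⟩ := Nat.exists_eq_add_of_le hM₁N
      rw [norm_div, norm_pow, hb1, hc, pow_add, one_div, ← mul_assoc,
        inv_mul_cancel₀ (pow_pos hϖ0 _).ne', one_mul]
      exact pow_le_one₀ (norm_nonneg _) hϖ1.le
    have hr'F : r' ∈ F (n + 1) :=
      (F (n + 1)).add_mem hr ((F (n + 1)).div_mem hb ((F (n + 1)).pow_mem (T.pi_mem _) _))
    refine ih r' hr'F ?_ ?_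
    · rw [hr', add_mul]
      apply norm_add_le' h1
      rwa [norm_mul, norm_pow]
    · apply T.le_one_of_lt' hp
      · exact (F (n + 1)).sub_mem (T.mono n hξF) ((F (n + 1)).pow_mem hr'F _)
      · rw [← hM]
        have e : (ξ - r' ^ p) * ϖ ^ M =
            ((ξ - P r) * ϖ ^ M - b ^ p) + (P r - r ^ p) * ϖ ^ M
              - (r' ^ p - r ^ p - (b / ϖ ^ M₁) ^ p) * ϖ ^ M := by
          have e1 : (b / ϖ ^ M₁) ^ p * ϖ ^ M = b ^ p := by
            rw [div_pow, ← pow_mul, mul_comm M₁ p, ← hM₁, div_mul_cancel₀ _ (pow_ne_zero _ hϖne)]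
          rw [sub_mul _ ((b / ϖ ^ M₁) ^ p), e1]
          ring
        rw [e]
        apply norm_sub_lt' (norm_add_lt' hb' h7)
        set c := max ‖r‖ ‖b / ϖ ^ M₁‖ with hc
        have hc0 : 0 ≤ c := (norm_nonneg r).trans (le_max_left _ _)
        have hct : c * ‖ϖ‖ ^ N ≤ 1 := by
          rw [hc, max_mul_of_nonneg _ _ ht.le]
          exact max_le h1' hbt
        have h9 := norm_add_pow_sub hp (le_max_left ‖r‖ ‖b / ϖ ^ M₁‖) (le_max_right ‖r‖ ‖b / ϖ ^ M₁‖)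
        rw [← hr', ← hc] at h9
        apply hmono' (a := N) (by omega)
        rw [norm_mul, norm_pow]
        exact ((mul_le_mul_of_nonneg_right h9 ht.le).trans_lt (D.key hp ht hc0 hct hw')).le

end Groth.Agent.Etalg.EppRaw
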