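import Groth.Agent.Etalg.EppRaw2

/-!
Epp's theorem, raw dichotomy: main theorem.
-/

set_option autoImplicit false
set_option linter.unusedSectionVars false
set_option linter.unusedVariables false

namespace Groth.Agent.Etalg.EppRaw

variable {Ω : Type*} [NormedField Ω] [IsUltrametricDist Ω]
variable {p : ℕ} {w : Ω} {P : Ω → Ω} {π : ℕ → Ω} {F : ℕ → Subfield Ω}

/-- `NF` only depends on the class. -/
theorem NF.sb (D : PData p w P) (hp : p.Prime) {ϖ : Ω} {S : Subfield Ω} (hwS : w ∈ S) {ξ g : Ω}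
    (h : NF p w P ϖ S ξ) (hg : g ∈ S) (hwg : ‖w * g‖ < 1) :
    NF p w P ϖ S (sb (w ^ p) ξ (P g)) := by
  intro g' hg' hwg' M hM0 hpM hM
  have hPg := D.norm_one_add_sub_one hp hwg
  have e1 : EppRaw.sb (w ^ p) ξ (P g) - P g' = (ξ - P (ad w g g')) / (1 + w ^ p * P g) := by
    rw [sb_sub hPg, D.add]
  have hn : ‖(ξ - P (ad w g g')) * ϖ ^ M‖ = 1 := by
    rw [e1, div_mul_eq_mul_div, norm_div, norm_one_add hPg, div_one] at hM
    exact hM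
  obtain ⟨b, hb, hb'⟩ := h (ad w g g') (ad_mem hwS hg hg') (norm_ad_lt hwg hwg') M hM0 hpM hn
  refine ⟨b, hb, ?_⟩
  set A := (ξ - P (ad w g g')) * ϖ ^ M with hA
  have e2 : (EppRaw.sb (w ^ p) ξ (P g) - P g') * ϖ ^ M = A / (1 + w ^ p * P g) := by
    rw [e1, hA, div_mul_eq_mul_div]
  rw [e2]
  have h1 := one_add_ne hPg
  have e3 : A / (1 + w ^ p * P g) - b ^ p =
      (A - b ^ p) - A * (w ^ p * P g) / (1 + w ^ p * P g) := by
    rw [div_sub' h1, sub_div' h1]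
    congr 1
    ring
  rw [e3]
  apply norm_sub_lt' hb'
  rw [norm_div, norm_one_add hPg, div_one, norm_mul, hn, one_mul]
  exact hPg

/-- The step with the leading coefficient, when `p ∤ N`. -/
theorem step' (D : PData p w P) (T : Tower p π F) (hp : p.Prime)
    {n N : ℕ} {ξ : Ω} (hξF : ξ ∈ F n) (hξ : ‖ξ * π n ^ N‖ ≤ 1)
    (hw : ‖w‖ ^ p < ‖π n‖ ^ N) (hNF : NF p w P (π (n + 1)) (F (n + 1)) ξ) (hpN : ¬ p ∣ N) :
    ∃ r ∈ F (n + 1), ‖w * r‖ < 1 ∧ ‖(ξ - P r) * π (n + 1) ^ N‖ ≤ 1 ∧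
      ‖(sb (w ^ p) ξ (P r) * π (n + 1) ^ N) ^ p - ξ * π n ^ N‖ < 1 := by
  obtain ⟨r, hr, h1, h2⟩ := step D T hp hξF hξ hw hNF
  set ϖ := π (n + 1) with hϖ
  have hϖ0 : 0 < ‖ϖ‖ := T.norm_pi_pos hp _
  have hϖ1 : ‖ϖ‖ < 1 := T.norm_pi_lt hp _
  have hw' : ‖w‖ < ‖ϖ‖ ^ N := w_lt T hp hw
  have ht : 0 < ‖ϖ‖ ^ N := pow_pos hϖ0 _
  have h1' : ‖r‖ * ‖ϖ‖ ^ N ≤ 1 := by rwa [norm_mul, norm_pow] at h1
  have hwr : ‖w * r‖ < 1 := wg_lt h1' hw'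
  have hPr := D.norm_one_add_sub_one hp hwr
  have h3 : ‖(P r - r ^ p) * ϖ ^ N‖ ≤ 1 := by
    rw [norm_mul, norm_pow]
    exact (mul_le_mul_of_nonneg_right (D.approx_le hp hwr) ht.le).trans h1'
  -- the approximation of `r ^ p`
  obtain ⟨s, hs, hrs⟩ := T.exists_approx hp hr
  have h4 : ‖(r ^ p - s) * ϖ ^ N‖ < 1 := by
    rw [norm_mul, norm_pow]
    exact (mul_le_mul_of_nonneg_right hrs ht.le).trans_lt (D.key hp ht (norm_nonneg _) h1' hw')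
  have h5 : ‖(ξ - s) * ϖ ^ N‖ < 1 := by
    have h6 : ‖(ξ - s) * ϖ ^ N‖ ≤ 1 := by
      have e : (ξ - s) * ϖ ^ N = (ξ - r ^ p) * ϖ ^ N + (r ^ p - s) * ϖ ^ N := by ring
      rw [e]
      exact norm_add_le' h2 h4.le
    apply lt_of_le_of_ne h6
    intro h7
    exact hpN (T.dvd_of_norm hp ((F n).sub_mem hξF hs) h7)
  have h6 : ‖(ξ - r ^ p) * ϖ ^ N‖ < 1 := by
    have e : (ξ - r ^ p) * ϖ ^ N = (ξ - s) * ϖ ^ N - (r ^ p - s) * ϖ ^ N := by ring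
    rw [e]
    exact norm_sub_lt' h5 h4
  have h7 : ‖(P r - r ^ p + r) * ϖ ^ N‖ < 1 := by
    by_cases h0 : r = 0
    · subst h0
      rw [D.zero, zero_pow hp.ne_zero]
      simp
    · rw [norm_mul, norm_pow]
      exact (mul_lt_mul_of_pos_right (D.approx r h0 hwr) ht).trans_le h1'
  have h8 : ‖(ξ - P r) * ϖ ^ N‖ ≤ 1 := by
    have e : (ξ - P r) * ϖ ^ N = (ξ - r ^ p) * ϖ ^ N - (P r - r ^ p) * ϖ ^ N := by ring
    rw [e]
    exact norm_sub_le' h6.le h3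
  have h9 : ‖(ξ - P r) * ϖ ^ N - r * ϖ ^ N‖ < 1 := by
    have e : (ξ - P r) * ϖ ^ N - r * ϖ ^ N = (ξ - r ^ p) * ϖ ^ N - (P r - r ^ p + r) * ϖ ^ N := by
      ring
    rw [e]
    exact norm_sub_lt' h6 h7
  refine ⟨r, hr, hwr, h8, ?_⟩
  have h10 : ‖sb (w ^ p) ξ (P r) * ϖ ^ N - r * ϖ ^ N‖ < 1 := by
    have hne := one_add_ne hPr
    have e : sb (w ^ p) ξ (P r) * ϖ ^ N - r * ϖ ^ N =
        ((ξ - P r) * ϖ ^ N - r * ϖ ^ N) -
          ((ξ - P r) * ϖ ^ N) * (w ^ p * P r) / (1 + w ^ p * P r) := by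
      unfold EppRaw.sb
      rw [div_mul_eq_mul_div, div_sub' hne, sub_div' hne]
      congr 1
      ring
    rw [e]
    apply norm_sub_lt' h9
    rw [norm_div, norm_one_add hPr, div_one, norm_mul]
    exact mul_lt_one_of_nonneg_of_lt_one_right h8 (norm_nonneg _) hPr
  have h11 : ‖sb (w ^ p) ξ (P r) * ϖ ^ N‖ ≤ 1 := by
    have e : sb (w ^ p) ξ (P r) * ϖ ^ N = (sb (w ^ p) ξ (P r) * ϖ ^ N - r * ϖ ^ N) + r * ϖ ^ N := by
      ring
    rw [e]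
    exact norm_add_le' h10.le h1
  have h12 := norm_lt_pow one_pos h11 h1 h10 hp.ne_zero
  rw [one_pow] at h12
  have h13 : (r * ϖ ^ N) ^ p - ξ * π n ^ N = -((ξ - r ^ p) * (ϖ ^ N * ϖ ^ (N * (p - 1)))) := by
    have e1 : π n ^ N = ϖ ^ N * ϖ ^ (N * (p - 1)) := by
      rw [← T.pi_pow n, ← pow_mul, ← pow_add]
      congr 1
      obtain ⟨q, hq⟩ := Nat.exists_eq_succ_of_ne_zero hp.ne_zero
      rw [hq]
      simp only [Nat.succ_eq_add_one, Nat.add_sub_cancel]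
      ring
    have e2 : (r * ϖ ^ N) ^ p = r ^ p * π n ^ N := by
      rw [mul_pow, ← pow_mul, mul_comm N p, pow_mul, T.pi_pow]
    rw [e2, e1]
    ring
  have h14 : ‖(r * ϖ ^ N) ^ p - ξ * π n ^ N‖ < 1 := by
    rw [h13, norm_neg, ← mul_assoc, norm_mul, norm_pow]
    exact mul_lt_one_of_nonneg_of_lt_one_left (norm_nonneg _) h6
      (pow_le_one₀ (norm_nonneg _) hϖ1.le)
  have e : (sb (w ^ p) ξ (P r) * ϖ ^ N) ^ p - ξ * π n ^ N =
      ((sb (w ^ p) ξ (P r) * ϖ ^ N) ^ p - (r * ϖ ^ N) ^ p) + ((r * ϖ ^ N) ^ p - ξ * π n ^ N) := by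
    ring
  rw [e]
  exact norm_add_lt' h12 h14

/-- iterating the step: the pole order does not increase -/
theorem red_mono (D : PData p w P) (T : Tower p π F) (hp : p.Prime)
    (hwF : w ∈ F 0) (hPF : ∀ n, ∀ x ∈ F n, P x ∈ F n)
    {m N : ℕ} {ξ : Ω} (hξF : ξ ∈ F m) (hw : ‖w‖ ^ p < ‖π m‖ ^ N)
    (hNF : ∀ n, m ≤ n → NF p w P (π n) (F n) ξ) (hξ : ‖ξ * π m ^ N‖ ≤ 1) (j : ℕ) :
    ∃ g ∈ F (m + j), ‖w * g‖ < 1 ∧ ‖(ξ - P g) * π (m + j) ^ N‖ ≤ 1 := by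
  induction j with
  | zero =>
    refine ⟨0, (F _).zero_mem, by simp, ?_⟩
    rw [D.zero, sub_zero]
    exact hξ
  | succ j ih =>
    obtain ⟨g, hg, hwg, h1⟩ := ih
    have hPg := D.norm_one_add_sub_one hp hwg
    have hwn : ∀ n, w ∈ F n := fun n => T.le_of_le (Nat.zero_le n) hwF
    have hξ'F : sb (w ^ p) ξ (P g) ∈ F (m + j) :=
      sb_mem ((F _).pow_mem (hwn _) _) (T.le_of_le (Nat.le_add_right m j) hξF) (hPF _ _ hg)
    have hw2 : ‖w‖ ^ p < ‖π (m + j)‖ ^ N :=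
      hw.trans_le (pow_le_pow_left₀ (norm_nonneg _) (T.norm_pi_mono' hp (Nat.le_add_right m j)) _)
    have hNF' : NF p w P (π (m + j + 1)) (F (m + j + 1)) (sb (w ^ p) ξ (P g)) :=
      (hNF (m + j + 1) (by omega)).sb D hp (hwn _) (T.mono _ hg) hwg
    have h2 : ‖sb (w ^ p) ξ (P g) * π (m + j) ^ N‖ ≤ 1 := by
      rw [norm_mul, norm_sb hPg, ← norm_mul]
      exact h1
    obtain ⟨r, hr, hr1, hr2⟩ := step D T hp hξ'F h2 hw2 hNF'
    have hr1' : ‖r‖ * ‖π (m + j + 1)‖ ^ N ≤ 1 := by rwa [norm_mul, norm_pow] at hr1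
    have hw' : ‖w‖ < ‖π (m + j + 1)‖ ^ N := w_lt T hp hw2
    have hwr : ‖w * r‖ < 1 := wg_lt hr1' hw'
    refine ⟨ad w g r, ad_mem (hwn _) (T.mono _ hg) hr, norm_ad_lt hwg hwr, ?_⟩
    have e : (ξ - P (ad w g r)) = (sb (w ^ p) ξ (P g) - P r) * (1 + w ^ p * P g) := by
      rw [sb_sub hPg, D.add, div_mul_cancel₀ _ (one_add_ne hPg)]
    rw [e, mul_right_comm, norm_mul, norm_one_add hPg, mul_one]
    have e2 : (sb (w ^ p) ξ (P g) - P r) * π (m + (j + 1)) ^ N =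
        (sb (w ^ p) ξ (P g) - r ^ p) * π (m + j + 1) ^ N - (P r - r ^ p) * π (m + j + 1) ^ N := by
      rw [add_assoc]; ring
    rw [e2]
    apply norm_sub_le' hr2
    rw [norm_mul, norm_pow]
    exact (mul_le_mul_of_nonneg_right (D.approx_le hp hwr) (pow_nonneg (norm_nonneg _) _)).trans hr1'

end Groth.Agent.Etalg.EppRaw
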