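import Groth.Agent.Etalg.EppRaw3

/-!
Epp's theorem, raw dichotomy: main theorem.
-/

set_option autoImplicit false
set_option linter.unusedSectionVars false
set_option linter.unusedVariables false

namespace Groth.Agent.Etalg.EppRaw

variable {Ω : Type*} [NormedField Ω] [IsUltrametricDist Ω]
variable {p : ℕ} {w : Ω} {P : Ω → Ω} {π : ℕ → Ω} {F E : ℕ → Subfield Ω}

/-- over a perfect residue field nothing is fierce -/
theorem NF_of_perfect (TE : Tower p π E) (hp : p.Prime)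
    (hperf : ∀ a ∈ E 0, ‖a‖ ≤ 1 → ∃ b ∈ E 0, ‖a - b ^ p‖ < 1)
    (hPE : ∀ n, ∀ x ∈ E n, P x ∈ E n) {n : ℕ} {η : Ω} (hη : η ∈ E n) :
    NF p w P (π n) (E n) η := by
  intro g hg hwg M hM0 hpM hM
  obtain ⟨y, hy, hy'⟩ := TE.res n ((η - P g) * π n ^ M)
    ((E n).mul_mem ((E n).sub_mem hη (hPE n g hg)) ((E n).pow_mem (TE.pi_mem n) _)) hM.le
  have hy1 : ‖y‖ ≤ 1 := by
    rw [norm_eq_of_sub_lt (by rw [hM]; exact hy'), hM]
  obtain ⟨b, hb, hb'⟩ := hperf y hy hy1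
  refine ⟨b, TE.le_of_le (Nat.zero_le n) hb, ?_⟩
  have e : (η - P g) * π n ^ M - b ^ p = ((η - P g) * π n ^ M - y) + (y - b ^ p) := by ring
  rw [e]
  exact norm_add_lt' hy' hb'

/-- Subtracting an element of `E` preserves non-fierceness. -/
theorem NF_sb (D : PData p w P) (T : Tower p π F) (TE : Tower p π E) (hp : p.Prime)
    (hEF : ∀ n, E n ≤ F n) (hwE : w ∈ E 0)
    (hPF : ∀ n, ∀ x ∈ F n, P x ∈ F n) (hPE : ∀ n, ∀ x ∈ E n, P x ∈ E n)
    (hperf : ∀ a ∈ E 0, ‖a‖ ≤ 1 → ∃ b ∈ E 0, ‖a - b ^ p‖ < 1)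
    {m N : ℕ} {ξ η : Ω} (hη : η ∈ E m) (hw : ‖w‖ ^ p < ‖π m‖ ^ N) (hηN : ‖η * π m ^ N‖ ≤ 1)
    (hNF : ∀ n, m ≤ n → NF p w P (π n) (F n) ξ) (n : ℕ) (hmn : m ≤ n) :
    NF p w P (π n) (F n) (sb (w ^ p) ξ η) := by
  intro g hg hwg M hM0 hpM hM
  have hwη : ‖w ^ p * η‖ < 1 := by
    by_cases h0 : η = 0
    · rw [h0, mul_zero, norm_zero]; exact one_pos
    · rw [norm_mul, norm_pow, mul_comm]
      rw [norm_mul, norm_pow] at hηN
      exact (mul_lt_mul_of_pos_left hw (norm_pos_iff.mpr h0)).trans_le hηN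
  have hPg := D.norm_one_add_sub_one hp hwg
  -- choose `j` large
  obtain ⟨j, hj⟩ : ∃ j : ℕ, N < M * p ^ j := by
    exact ⟨N, (Nat.lt_pow_self hp.one_lt).trans_le (Nat.le_mul_of_pos_left _ hM0)⟩
  -- the class of `η` at level `n + j`
  obtain ⟨i, hi⟩ := Nat.exists_eq_add_of_le (hmn.trans (Nat.le_add_right n j))
  obtain ⟨h, hh, hwh, hh'⟩ := red_mono D TE hp hwE hPE hη hw
    (fun k hk => NF_of_perfect TE hp hperf hPE (TE.le_of_le hk hη)) hηN i
  rw [← hi] at hh hh'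
  have hPh := D.norm_one_add_sub_one hp hwh
  set ζ := sb (w ^ p) (sb (w ^ p) ξ η) (P g) with hζ
  set η' := sb (w ^ p) η (P h) with hη'
  have hη'n : ‖η' * π (n + j) ^ N‖ ≤ 1 := by
    rw [hη', norm_mul, norm_sb hPh, ← norm_mul]; exact hh'
  have hwη' : ‖w ^ p * η'‖ < 1 := by
    by_cases h0 : η' = 0
    · rw [h0, mul_zero, norm_zero]; exact one_pos
    · rw [norm_mul, norm_pow, mul_comm]
      rw [norm_mul, norm_pow] at hη'n
      have hw2 : ‖w‖ ^ p < ‖π (n + j)‖ ^ N :=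
        hw.trans_le (pow_le_pow_left₀ (norm_nonneg _)
          (T.norm_pi_mono' hp (hmn.trans (Nat.le_add_right n j))) _)
      exact (mul_lt_mul_of_pos_left hw2 (norm_pos_iff.mpr h0)).trans_le hη'n
  -- `ξ = (ζ + η') + P(k)`
  set k := ad w h g with hk
  have hkF : k ∈ F (n + j) :=
    ad_mem (T.le_of_le (Nat.zero_le _) (hEF 0 hwE)) (hEF _ hh) (T.le_of_le (Nat.le_add_right n j) hg)
  have hwk : ‖w * k‖ < 1 := norm_ad_lt hwh hwg
  have hPk := D.norm_one_add_sub_one hp hwk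
  have hξk : sb (w ^ p) ξ (P k) = ad (w ^ p) ζ η' := by
    have e1 : ξ = ad (w ^ p) (ad (w ^ p) ζ (P g)) (ad (w ^ p) η' (P h)) := by
      rw [hζ, ad_sb hPg, hη', ad_sb hPh, ad_sb hwη]
    have e2 : ad (w ^ p) (ad (w ^ p) ζ (P g)) (ad (w ^ p) η' (P h)) =
        ad (w ^ p) (ad (w ^ p) ζ η') (ad (w ^ p) (P h) (P g)) := by
      unfold ad; ring
    rw [e2, ← D.add, ← hk] at e1
    rw [e1, sb_ad hPk]
  have hπn0 := T.norm_pi_pos hp (n + j)
  have hπn1 := T.norm_pi_lt hp (n + j)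
  have hπpow : π n ^ M = π (n + j) ^ (M * p ^ j) := by
    rw [mul_comm M, pow_mul, T.pi_pow_pow]
  -- norms
  have hζn : ‖ζ * π (n + j) ^ (M * p ^ j)‖ = 1 := by
    rw [← hπpow, hζ, norm_mul, norm_sb hPg, ← norm_mul]
    exact hM
  have hη'lt : ‖η' * π (n + j) ^ (M * p ^ j)‖ < 1 := by
    obtain ⟨c, hc⟩ := Nat.exists_eq_add_of_lt hj
    rw [hc, add_assoc, pow_add, ← mul_assoc, norm_mul _ (π (n + j) ^ (c + 1)),
      norm_pow (π (n + j)) (c + 1)]
    exact mul_lt_one_of_nonneg_of_lt_one_right hη'n (pow_nonneg (norm_nonneg _) _)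
      (pow_lt_one₀ (norm_nonneg _) hπn1 (by omega))
  have hdiff : ‖(ad (w ^ p) ζ η' - ζ) * π (n + j) ^ (M * p ^ j)‖ < 1 := by
    have e : (ad (w ^ p) ζ η' - ζ) * π (n + j) ^ (M * p ^ j) =
        η' * π (n + j) ^ (M * p ^ j) + (ζ * π (n + j) ^ (M * p ^ j)) * (w ^ p * η') := by
      unfold ad; ring
    rw [e]
    apply norm_add_lt' hη'lt
    rw [norm_mul, hζn, one_mul]
    exact hwη'
  have hsum : ‖ad (w ^ p) ζ η' * π (n + j) ^ (M * p ^ j)‖ = 1 := by
    rw [← hζn]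
    apply norm_eq_of_sub_lt
    rw [hζn, ← sub_mul, ← norm_neg, ← neg_mul, neg_sub]
    exact hdiff
  have hkn : ‖(ξ - P k) * π (n + j) ^ (M * p ^ j)‖ = 1 := by
    rw [norm_mul, ← norm_sb hPk, hξk, ← norm_mul]
    exact hsum
  obtain ⟨b, hb, hb'⟩ := hNF (n + j) (hmn.trans (Nat.le_add_right n j)) k hkF hwk (M * p ^ j)
    (Nat.mul_pos hM0 (pow_pos hp.pos _)) (dvd_mul_of_dvd_left hpM _) hkn
  have hb1 : ‖b‖ = 1 := by
    have h9 : ‖b ^ p‖ = ‖(ξ - P k) * π (n + j) ^ (M * p ^ j)‖ := by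
      apply norm_eq_of_sub_lt
      rw [hkn]; exact hb'
    rw [hkn, norm_pow] at h9
    exact (pow_eq_one_iff_of_nonneg (norm_nonneg _) hp.ne_zero).mp h9
  obtain ⟨b₀, hb₀, hb₀'⟩ := T.res (n + j) b hb hb1.le
  have hb₀1 : ‖b₀‖ = 1 := by
    rw [norm_eq_of_sub_lt (by rw [hb1]; exact hb₀'), hb1]
  refine ⟨b₀, T.le_of_le (Nat.zero_le n) hb₀, ?_⟩
  -- compare
  have c1 : ‖(ξ - P k) * π (n + j) ^ (M * p ^ j) - ad (w ^ p) ζ η' * π (n + j) ^ (M * p ^ j)‖ < 1 := by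
    have e : (ξ - P k) * π (n + j) ^ (M * p ^ j) - ad (w ^ p) ζ η' * π (n + j) ^ (M * p ^ j) =
        (ad (w ^ p) ζ η' * π (n + j) ^ (M * p ^ j)) * (w ^ p * P k) := by
      have e1 : ξ - P k = ad (w ^ p) ζ η' * (1 + w ^ p * P k) := by
        rw [← hξk]
        unfold EppRaw.sb
        rw [div_mul_cancel₀ _ (one_add_ne hPk)]
      rw [e1]; ring
    rw [e, norm_mul, hsum, one_mul]
    exact hPk
  have c2 : ‖(sb (w ^ p) ξ η - P g) * π n ^ M - ζ * π n ^ M‖ < 1 := by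
    have e : (sb (w ^ p) ξ η - P g) * π n ^ M - ζ * π n ^ M = (ζ * π n ^ M) * (w ^ p * P g) := by
      have e1 : sb (w ^ p) ξ η - P g = ζ * (1 + w ^ p * P g) := by
        rw [hζ]
        conv_rhs => unfold EppRaw.sb
        rw [div_mul_cancel₀ _ (one_add_ne hPg)]
        rfl
      rw [e1]; ring
    rw [e, norm_mul, hπpow, hζn, one_mul]
    exact hPg
  have c3 : ‖b ^ p - b₀ ^ p‖ < 1 := by
    have := norm_lt_pow one_pos hb1.le hb₀1.le hb₀' hp.ne_zero
    rwa [one_pow] at this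
  rw [hπpow] at c2 ⊢
  have e : (sb (w ^ p) ξ η - P g) * π (n + j) ^ (M * p ^ j) - b₀ ^ p =
      ((sb (w ^ p) ξ η - P g) * π (n + j) ^ (M * p ^ j) - ζ * π (n + j) ^ (M * p ^ j)) -
      (ad (w ^ p) ζ η' - ζ) * π (n + j) ^ (M * p ^ j) -
      ((ξ - P k) * π (n + j) ^ (M * p ^ j) - ad (w ^ p) ζ η' * π (n + j) ^ (M * p ^ j)) +
      ((ξ - P k) * π (n + j) ^ (M * p ^ j) - b ^ p) + (b ^ p - b₀ ^ p) := by ring
  rw [e]
  exact norm_add_lt' (norm_add_lt' (norm_sub_lt' (norm_sub_lt' c2 hdiff) c1) hb') c3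

/-- The raw dichotomy: a class which is never fierce becomes integral after subtracting an
element of `E n`. -/
theorem main (D : PData p w P) (T : Tower p π F) (TE : Tower p π E) (hp : p.Prime)
    (hEF : ∀ n, E n ≤ F n) (hwE : w ∈ E 0)
    (hPF : ∀ n, ∀ x ∈ F n, P x ∈ F n) (hPE : ∀ n, ∀ x ∈ E n, P x ∈ E n)
    (hperf : ∀ a ∈ E 0, ‖a‖ ≤ 1 → ∃ b ∈ E 0, ‖a - b ^ p‖ < 1)
    (hepp : ∀ x ∈ F 0, ‖x‖ ≤ 1 → (∀ n : ℕ, ∃ b ∈ F 0, ‖x - b ^ p ^ n‖ < 1) →
      ∃ a ∈ E 0, ‖x - a‖ < 1)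
    (N : ℕ) : ∀ (m : ℕ) (ξ : Ω), ξ ∈ F m → ‖w‖ ^ p < ‖π m‖ ^ N → ‖ξ * π m ^ N‖ ≤ 1 →
      (∀ n, m ≤ n → NF p w P (π n) (F n) ξ) →
      ∃ n, m ≤ n ∧ ∃ η ∈ E n, ‖w ^ p * η‖ < 1 ∧ ∃ g ∈ F n, ‖w * g‖ < 1 ∧
        ‖sb (w ^ p) ξ η - P g‖ ≤ 1 := by
  have hwFn : ∀ n, w ∈ F n := fun n => T.le_of_le (Nat.zero_le n) (hEF 0 hwE)
  have hwEn : ∀ n, w ∈ E n := fun n => TE.le_of_le (Nat.zero_le n) hwE
  have hwp1 : ‖w‖ ^ p < 1 := pow_lt_one₀ (norm_nonneg _) D.norm_w hp.ne_zero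
  induction N with
  | zero =>
    intro m ξ hξ hw hξN hNF
    refine ⟨m, le_rfl, 0, (E m).zero_mem, by simp, 0, (F m).zero_mem, by simp, ?_⟩
    rw [pow_zero, mul_one] at hξN
    unfold EppRaw.sb
    simpa [D.zero] using hξN
  | succ N ih =>
    intro m ξ hξ hw hξN hNF
    have hw' : ∀ n, m ≤ n → ‖w‖ ^ p < ‖π n‖ ^ N := by
      intro n hn
      refine hw.trans_le ((pow_le_pow_left₀ (norm_nonneg _) (T.norm_pi_mono' hp hn) _).trans ?_)
      exact pow_le_pow_of_le_one (norm_nonneg _) (T.norm_pi_lt hp n).le (Nat.le_succ N)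
    by_cases hA : ∃ n, m ≤ n ∧ ∃ g ∈ F n, ‖w * g‖ < 1 ∧ ‖(ξ - P g) * π n ^ N‖ ≤ 1
    · obtain ⟨n, hmn, g, hg, hwg, hgN⟩ := hA
      have hPg := D.norm_one_add_sub_one hp hwg
      have hξ' : sb (w ^ p) ξ (P g) ∈ F n :=
        sb_mem ((F n).pow_mem (hwFn n) _) (T.le_of_le hmn hξ) (hPF n g hg)
      obtain ⟨n', hnn', η, hη, hwη, g', hg', hwg', hfin⟩ := ih n (sb (w ^ p) ξ (P g)) hξ' (hw' n hmn)
        (by rw [norm_mul, norm_sb hPg, ← norm_mul]; exact hgN)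
        (fun k hk => (hNF k (hmn.trans hk)).sb D hp (hwFn k) (T.le_of_le hk hg) hwg)
      refine ⟨n', hmn.trans hnn', η, hη, hwη, ad w g g', ad_mem (hwFn _) (T.le_of_le hnn' hg) hg',
        norm_ad_lt hwg hwg', ?_⟩
      -- `(ξ ⊟ Pg) ⊟ η - Pg' = ((ξ ⊟ η) - P(g ⊕ g')) / (1 + w^p P g)`
      have e1 : sb (w ^ p) (sb (w ^ p) ξ (P g)) η = sb (w ^ p) (sb (w ^ p) ξ η) (P g) := by
        rw [sb_sb hPg, sb_sb hwη, ad_comm]
      rw [e1, sb_sub hPg, ← D.add, norm_div, norm_one_add hPg, div_one] at hfin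
      exact hfin
    · push Not at hA
      -- `ξ` has pole order exactly `N + 1`
      have hgt : ∀ n, m ≤ n → ∀ g ∈ F n, ‖w * g‖ < 1 → ‖(ξ - P g) * π n ^ (N + 1)‖ ≤ 1 →
          ‖(ξ - P g) * π n ^ (N + 1)‖ = 1 := by
        intro n hn g hg hwg h1
        apply le_antisymm h1
        by_contra h'
        push Not at h'
        have := T.le_one_of_lt' hp ((F n).sub_mem (T.le_of_le hn hξ) (hPF n g hg)) h'
        exact absurd (hA n hn g hg hwg) (not_lt.mpr this)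
      have hξ1 : ‖ξ * π m ^ (N + 1)‖ = 1 := by
        have := hgt m le_rfl 0 (F m).zero_mem (by simp) (by rw [D.zero, sub_zero]; exact hξN)
        rwa [D.zero, sub_zero] at this
      have hw1 : ∀ n, m ≤ n → ‖w‖ ^ p < ‖π n‖ ^ (N + 1) := fun n hn =>
        hw.trans_le (pow_le_pow_left₀ (norm_nonneg _) (T.norm_pi_mono' hp hn) _)
      -- `p ∤ N + 1`
      have hpN : ¬ p ∣ N + 1 := by
        intro hdvd
        obtain ⟨b, hb, hb'⟩ := hNF m le_rfl 0 (F m).zero_mem (by simp) (N + 1) (Nat.succ_pos _) hdvd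
          (by rw [D.zero, sub_zero]; exact hξ1)
        rw [D.zero, sub_zero] at hb'
        obtain ⟨M₁, hM₁⟩ := hdvd
        have hb1 : ‖b‖ = 1 := by
          have h9 : ‖b ^ p‖ = ‖ξ * π m ^ (N + 1)‖ := by
            apply norm_eq_of_sub_lt
            rw [hξ1]; exact hb'
          rw [hξ1, norm_pow] at h9
          exact (pow_eq_one_iff_of_nonneg (norm_nonneg _) hp.ne_zero).mp h9
        have hπ0 := T.norm_pi_pos hp m
        have hπ1 := T.norm_pi_lt hp m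
        have hπne := T.pi_ne' hp m
        have hM₁N : M₁ < N + 1 := by
          rw [hM₁]
          have h0 : 0 < M₁ := by
            rcases Nat.eq_zero_or_pos M₁ with h | h
            · rw [h, mul_zero] at hM₁; omega
            · exact h
          exact (Nat.lt_mul_iff_one_lt_left h0).mpr hp.one_lt
        set g := b / π m ^ M₁ with hgdef
        have hgF : g ∈ F m := (F m).div_mem hb ((F m).pow_mem (T.pi_mem m) _)
        have hgn : ‖g‖ * ‖π m‖ ^ M₁ = 1 := by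
          rw [hgdef, norm_div, norm_pow, hb1, one_div, inv_mul_cancel₀ (pow_pos hπ0 _).ne']
        have hwg : ‖w * g‖ < 1 := by
          apply wg_lt hgn.le
          have h3 : ‖w‖ ^ p < (‖π m‖ ^ M₁) ^ p := by
            rw [← pow_mul, mul_comm M₁ p, ← hM₁]; exact hw
          exact lt_of_pow_lt_pow_left₀ p (pow_nonneg (norm_nonneg _) _) h3
        have h4 : ‖(ξ - P g) * π m ^ (N + 1)‖ < 1 := by
          have e1 : g ^ p * π m ^ (N + 1) = b ^ p := by
            rw [hgdef, div_pow, ← pow_mul, mul_comm M₁ p, ← hM₁,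
              div_mul_cancel₀ _ (pow_ne_zero _ hπne)]
          have e : (ξ - P g) * π m ^ (N + 1) =
              (ξ * π m ^ (N + 1) - b ^ p) - (P g - g ^ p) * π m ^ (N + 1) := by
            rw [← e1]; ring
          rw [e]
          apply norm_sub_lt' hb'
          rw [norm_mul, norm_pow]
          calc ‖P g - g ^ p‖ * ‖π m‖ ^ (N + 1) ≤ ‖g‖ * ‖π m‖ ^ (N + 1) :=
                mul_le_mul_of_nonneg_right (D.approx_le hp hwg) (pow_nonneg (norm_nonneg _) _)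
            _ < ‖g‖ * ‖π m‖ ^ M₁ := by
                apply mul_lt_mul_of_pos_left (pow_lt_pow_right_of_lt_one₀ hπ0 hπ1 hM₁N)
                by_contra h5
                push Not at h5
                have : ‖g‖ = 0 := le_antisymm h5 (norm_nonneg _)
                rw [this, zero_mul] at hgn
                exact zero_ne_one hgn
            _ = 1 := hgn
        exact absurd (hgt m le_rfl g hgF hwg h4.le) h4.ne
      -- compatible approximate roots of the leading coefficient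
      have hseq : ∀ j : ℕ, ∃ x ∈ F (m + j), (∃ g ∈ F (m + j), ‖w * g‖ < 1 ∧
          x = sb (w ^ p) ξ (P g)) ∧ ‖x * π (m + j) ^ (N + 1)‖ = 1 ∧
          ‖(x * π (m + j) ^ (N + 1)) ^ p ^ j - ξ * π m ^ (N + 1)‖ < 1 := by
        intro j
        induction j with
        | zero =>
          refine ⟨ξ, hξ, ⟨0, (F _).zero_mem, by simp, ?_⟩, hξ1, by simp⟩
          unfold EppRaw.sb
          simp [D.zero]
        | succ j ihj =>
          obtain ⟨x, hx, ⟨g, hg, hwg, rfl⟩, hx1, hx2⟩ := ihj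
          have hPg := D.norm_one_add_sub_one hp hwg
          have hmj : m ≤ m + j + 1 := by omega
          obtain ⟨r, hr, hwr, h1, h2⟩ := step' D T hp hx hx1.le (hw1 _ (Nat.le_add_right m j))
            ((hNF (m + j + 1) hmj).sb D hp (hwFn _) (T.mono _ hg) hwg) hpN
          have hPr := D.norm_one_add_sub_one hp hwr
          have hadF : ad w g r ∈ F (m + j + 1) := ad_mem (hwFn _) (T.mono _ hg) hr
          have hwad := norm_ad_lt hwg hwr
          have hPad := D.norm_one_add_sub_one hp hwad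
          have hsbsb : sb (w ^ p) (sb (w ^ p) ξ (P g)) (P r) = sb (w ^ p) ξ (P (ad w g r)) := by
            rw [sb_sb hPg, D.add]
          have hn1 : ‖sb (w ^ p) (sb (w ^ p) ξ (P g)) (P r) * π (m + j + 1) ^ (N + 1)‖ = 1 := by
            rw [hsbsb, norm_mul, norm_sb hPad, ← norm_mul]
            apply hgt _ hmj _ hadF hwad
            rw [norm_mul, ← norm_sb hPad, ← hsbsb, norm_sb hPr, ← norm_mul]
            exact h1
          refine ⟨sb (w ^ p) (sb (w ^ p) ξ (P g)) (P r),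
            sb_mem ((F _).pow_mem (hwFn _) _) (T.mono _ hx) (hPF _ _ hr),
            ⟨ad w g r, hadF, hwad, hsbsb⟩, hn1, ?_⟩
          have h3 := norm_lt_pow (n := p ^ j) one_pos
            (by rw [norm_pow, add_assoc] at *; exact (pow_le_one₀ (norm_nonneg _) hn1.le)) hx1.le h2
            (pow_ne_zero _ hp.ne_zero)
          rw [one_pow, ← pow_mul, ← pow_succ'] at h3
          have e : (sb (w ^ p) (sb (w ^ p) ξ (P g)) (P r) * π (m + (j + 1)) ^ (N + 1)) ^ p ^ (j + 1) -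
              ξ * π m ^ (N + 1) =
              ((sb (w ^ p) (sb (w ^ p) ξ (P g)) (P r) * π (m + j + 1) ^ (N + 1)) ^ p ^ (j + 1) -
                (sb (w ^ p) ξ (P g) * π (m + j) ^ (N + 1)) ^ p ^ j) +
              ((sb (w ^ p) ξ (P g) * π (m + j) ^ (N + 1)) ^ p ^ j - ξ * π m ^ (N + 1)) := by
            rw [← add_assoc]; ring
          rw [e]
          exact norm_add_lt' h3 hx2
      -- the leading coefficient comes from `E`
      set a := ξ * π m ^ (N + 1) with ha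
      have haF : a ∈ F m := (F m).mul_mem hξ ((F m).pow_mem (T.pi_mem m) _)
      obtain ⟨a₀, ha₀, ha₀'⟩ := T.res m a haF hξ1.le
      have ha₀1 : ‖a₀‖ = 1 := by rw [norm_eq_of_sub_lt (by rw [hξ1]; exact ha₀'), hξ1]
      obtain ⟨c, hc, hc'⟩ := hepp a₀ ha₀ ha₀1.le (by
        intro j
        obtain ⟨x, hx, -, hx1, hx2⟩ := hseq j
        obtain ⟨b, hb, hb'⟩ := T.res (m + j) (x * π (m + j) ^ (N + 1))
          ((F _).mul_mem hx ((F _).pow_mem (T.pi_mem _) _)) hx1.le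
        have hb1 : ‖b‖ = 1 := by rw [norm_eq_of_sub_lt (by rw [hx1]; exact hb'), hx1]
        refine ⟨b, hb, ?_⟩
        have h3 := norm_lt_pow one_pos hx1.le hb1.le hb' (n := p ^ j) (pow_ne_zero _ hp.ne_zero)
        rw [one_pow] at h3
        have e : a₀ - b ^ p ^ j = ((x * π (m + j) ^ (N + 1)) ^ p ^ j - b ^ p ^ j) - (a - a₀) -
            ((x * π (m + j) ^ (N + 1)) ^ p ^ j - a) := by ring
        rw [e]
        exact norm_sub_lt' (norm_sub_lt' h3 ha₀') hx2)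
      have hc1 : ‖c‖ = 1 := by rw [norm_eq_of_sub_lt (by rw [ha₀1]; exact hc'), ha₀1]
      have hac : ‖a - c‖ < 1 := by
        have e : a - c = (a - a₀) + (a₀ - c) := by ring
        rw [e]; exact norm_add_lt' ha₀' hc'
      have hπne := T.pi_ne' hp m
      set η := c / π m ^ (N + 1) with hη
      have hηE : η ∈ E m := (E m).div_mem (TE.le_of_le (Nat.zero_le m) hc)
        ((E m).pow_mem (TE.pi_mem m) _)
      have hηc : η * π m ^ (N + 1) = c := by
        rw [hη, div_mul_cancel₀ _ (pow_ne_zero _ hπne)]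
      have hηn : ‖η * π m ^ (N + 1)‖ = 1 := by rw [hηc, hc1]
      have hwη : ‖w ^ p * η‖ < 1 := by
        by_cases h0 : η = 0
        · rw [h0, mul_zero, norm_zero]; exact one_pos
        · rw [norm_mul, norm_pow, mul_comm]
          rw [norm_mul, norm_pow] at hηn
          exact (mul_lt_mul_of_pos_left hw (norm_pos_iff.mpr h0)).trans_eq hηn
      have hξ''F : sb (w ^ p) ξ η ∈ F m :=
        sb_mem ((F m).pow_mem (hwFn m) _) hξ (hEF m hηE)
      have hlt : ‖(ξ - η) * π m ^ (N + 1)‖ < 1 := by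
        rw [sub_mul, hηc]; exact hac
      have hle : ‖sb (w ^ p) ξ η * π m ^ N‖ ≤ 1 := by
        rw [norm_mul, norm_sb hwη, ← norm_mul]
        exact T.le_one_of_lt' hp ((F m).sub_mem hξ (hEF m hηE)) hlt
      obtain ⟨n, hmn, η', hη', hwη', g, hg, hwg, hfin⟩ := ih m (sb (w ^ p) ξ η) hξ''F (hw' m le_rfl)
        hle (fun n hn => NF_sb D T TE hp hEF hwE hPF hPE hperf hηE hw hηn.le hNF n hn)
      refine ⟨n, hmn, ad (w ^ p) η η', ad_mem ((E n).pow_mem (hwEn n) _) (TE.le_of_le hmn hηE) hη',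
        norm_ad_lt hwη hwη', g, hg, hwg, ?_⟩
      rw [← sb_sb hwη]
      exact hfin

end Groth.Agent.Etalg.EppRaw
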