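import Groth.Agent.Etalg.EppSub
import Groth.Agent.Etalg.EppRaw2

/-!
# Adjoining `π^(1/p^n)` to a discretely valued subfield
-/

set_option autoImplicit false
set_option linter.unusedSectionVars false
universe u

namespace Groth.Agent.Etalg.EppRoot

open Polynomial EppFrame EppRaw

variable {Ω : Type u} [NormedField Ω]

/-- elements of `F(ρ)` with `ρ ^ p ∈ F` -/
theorem exists_sum {F : Subfield Ω} {p : ℕ} (hp : 0 < p) {ρ : Ω} (hρ : ρ ^ p ∈ F) {x : Ω}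
    (hx : x ∈ F ⊔ Subfield.closure {ρ}) :
    ∃ c : Fin p → Ω, (∀ i, c i ∈ F) ∧ x = ∑ i, c i * ρ ^ (i : ℕ) := by
  classical
  set q : F[X] := X ^ p - C (⟨ρ ^ p, hρ⟩ : F) with hq
  have hqm : q.Monic := monic_X_pow_sub_C _ hp.ne'
  have hqd : q.natDegree = p := natDegree_X_pow_sub_C
  have hroot : aeval ρ q = 0 := by
    rw [hq, map_sub, map_pow, aeval_X, aeval_C]
    exact sub_self _
  have halg : IsAlgebraic F ρ := ⟨q, hqm.ne_zero, hroot⟩
  rw [← EppSub.mem_adjoin_iff, ← IntermediateField.mem_toSubalgebra,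
    IntermediateField.adjoin_simple_toSubalgebra_of_isAlgebraic halg,
    Algebra.adjoin_singleton_eq_range_aeval] at hx
  obtain ⟨f, rfl⟩ := hx
  have h1 : aeval ρ (f %ₘ q) = aeval ρ f := aeval_modByMonic_eq_self_of_root hroot
  have h2 : (f %ₘ q).natDegree < p := by
    have := natDegree_modByMonic_lt f hqm (by
      intro h
      have h3 := congrArg natDegree h
      rw [hqd, natDegree_one] at h3
      omega)
    rwa [hqd] at this
  refine ⟨fun i => (((f %ₘ q).coeff i : F) : Ω), fun i => ((f %ₘ q).coeff i).2, ?_⟩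
  show aeval ρ f = _
  rw [← h1, aeval_eq_sum_range' h2, Finset.sum_range]
  rfl

variable [IsUltrametricDist Ω]

omit [IsUltrametricDist Ω] in
theorem zpow_norm_inj {ρ : Ω} (h0 : 0 < ‖ρ‖) (h1 : ‖ρ‖ < 1) {a b : ℤ} (h : ‖ρ‖ ^ a = ‖ρ‖ ^ b) : a = b :=
  zpow_right_injective₀ h0 h1.ne h

theorem norm_sum_lt {ι : Type*} (s : Finset ι) (a : ι → Ω) {c : ℝ} (hc : 0 < c)
    (h : ∀ i ∈ s, ‖a i‖ < c) : ‖∑ i ∈ s, a i‖ < c := by
  classical
  induction s using Finset.induction_on with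
  | empty => simpa using hc
  | insert k s hk ih =>
    rw [Finset.sum_insert hk]
    exact norm_add_lt' (h k (Finset.mem_insert_self _ _))
      (ih (fun i hi => h i (Finset.mem_insert_of_mem hi)))

omit [IsUltrametricDist Ω] in
/-- norms of terms are distinct -/
theorem term_inj {F : Subfield Ω} {p : ℕ} {ρ : Ω} (h0 : 0 < ‖ρ‖) (h1 : ‖ρ‖ < 1)
    (hd : Disc F (ρ ^ p)) {i j : Fin p} {a b : Ω} (ha : a ∈ F) (hb : b ∈ F) (ha0 : a ≠ 0) (hb0 : b ≠ 0)
    (h : ‖a * ρ ^ (i : ℕ)‖ = ‖b * ρ ^ (j : ℕ)‖) : i = j := by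
  obtain ⟨m, hm⟩ := hd.2.2 a ha ha0
  obtain ⟨n, hn⟩ := hd.2.2 b hb hb0
  rw [norm_pow] at hm hn
  rw [norm_mul, norm_mul, norm_pow, norm_pow, hm, hn, ← zpow_natCast ‖ρ‖ p, ← zpow_mul, ← zpow_mul,
    ← zpow_natCast ‖ρ‖ i, ← zpow_natCast ‖ρ‖ j, ← zpow_add₀ h0.ne', ← zpow_add₀ h0.ne'] at h
  have h2 := zpow_norm_inj h0 h1 h
  have hi := i.2
  have hj := j.2
  have h3 : ((i : ℕ) : ℤ) % (p : ℤ) = ((j : ℕ) : ℤ) % (p : ℤ) := by
    have := congrArg (· % (p : ℤ)) h2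
    simpa using this
  rw [Int.emod_eq_of_lt (by omega) (by omega), Int.emod_eq_of_lt (by omega) (by omega)] at h3
  exact Fin.ext (by exact_mod_cast h3)

/-- the norm of a sum of terms with distinct norms -/
theorem exists_norm_sum_eq {ι : Type*} [DecidableEq ι] (s : Finset ι) (a : ι → Ω)
    (h : ∀ i ∈ s, ∀ j ∈ s, a i ≠ 0 → a j ≠ 0 → ‖a i‖ = ‖a j‖ → i = j) :
    (∀ i ∈ s, ‖a i‖ ≤ ‖∑ j ∈ s, a j‖) ∧ (∑ j ∈ s, a j ≠ 0 → ∃ i ∈ s, ‖∑ j ∈ s, a j‖ = ‖a i‖) := by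
  induction s using Finset.induction_on with
  | empty => simp
  | insert k s hk ih =>
    obtain ⟨ih1, ih2⟩ := ih (fun i hi j hj => h i (Finset.mem_insert_of_mem hi) j
      (Finset.mem_insert_of_mem hj))
    rw [Finset.sum_insert hk]
    by_cases h0 : a k = 0
    · rw [h0, zero_add]
      refine ⟨?_, ?_⟩
      · intro i hi
        rcases Finset.mem_insert.1 hi with rfl | hi
        · rw [h0, norm_zero]; exact norm_nonneg _
        · exact ih1 i hi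
      · intro hne
        obtain ⟨i, hi, hi'⟩ := ih2 hne
        exact ⟨i, Finset.mem_insert_of_mem hi, hi'⟩
    by_cases h1 : ∑ j ∈ s, a j = 0
    · rw [h1, add_zero]
      refine ⟨?_, fun _ => ⟨k, Finset.mem_insert_self _ _, rfl⟩⟩
      intro i hi
      rcases Finset.mem_insert.1 hi with rfl | hi
      · exact le_rfl
      · have := ih1 i hi
        rw [h1, norm_zero] at this
        exact this.trans (norm_nonneg _)
    obtain ⟨i, hi, hi'⟩ := ih2 h1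
    have hne : ‖a k‖ ≠ ‖∑ j ∈ s, a j‖ := by
      intro heq
      have hai : a i ≠ 0 := by
        intro hai
        rw [hai, norm_zero, norm_eq_zero] at hi'
        exact h1 hi'
      have := h k (Finset.mem_insert_self _ _) i (Finset.mem_insert_of_mem hi) h0 hai (heq.trans hi')
      rw [this] at hk
      exact hk hi
    have hmax : ‖a k + ∑ j ∈ s, a j‖ = max ‖a k‖ ‖∑ j ∈ s, a j‖ :=
      IsUltrametricDist.norm_add_eq_max_of_norm_ne_norm hne
    rw [hmax]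
    refine ⟨?_, fun _ => ?_⟩
    · intro l hl
      rcases Finset.mem_insert.1 hl with rfl | hl
      · exact le_max_left _ _
      · exact (ih1 l hl).trans (le_max_right _ _)
    · rcases max_choice ‖a k‖ ‖∑ j ∈ s, a j‖ with hc | hc
      · exact ⟨k, Finset.mem_insert_self _ _, hc⟩
      · exact ⟨i, Finset.mem_insert_of_mem hi, hc.trans hi'⟩

/-- the expansion in `F(ρ)`, where `ρ^p` is a uniformizer of `F` -/
theorem exists_expansion {F : Subfield Ω} {p : ℕ} (hp : 0 < p) {ρ : Ω} (hρ : ρ ^ p ∈ F)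
    (h0 : 0 < ‖ρ‖) (h1 : ‖ρ‖ < 1) (hd : Disc F (ρ ^ p)) {x : Ω} (hx : x ∈ F ⊔ Subfield.closure {ρ}) :
    ∃ c : Fin p → Ω, (∀ i, c i ∈ F) ∧ x = ∑ i, c i * ρ ^ (i : ℕ) ∧
      (∀ i, ‖c i * ρ ^ (i : ℕ)‖ ≤ ‖x‖) ∧ (x ≠ 0 → ∃ i, ‖x‖ = ‖c i * ρ ^ (i : ℕ)‖) := by
  classical
  obtain ⟨c, hc, hxc⟩ := exists_sum hp hρ hx
  have hρ0 : ρ ≠ 0 := norm_pos_iff.1 h0
  obtain ⟨e1, e2⟩ := exists_norm_sum_eq Finset.univ (fun i : Fin p => c i * ρ ^ (i : ℕ)) (by
    intro i _ j _ hi hj hij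
    exact term_inj h0 h1 hd (hc i) (hc j) (left_ne_zero_of_mul hi) (left_ne_zero_of_mul hj) hij)
  refine ⟨c, hc, hxc, ?_, ?_⟩
  · intro i
    rw [hxc]
    exact e1 i (Finset.mem_univ _)
  · intro hx0
    rw [hxc] at hx0
    obtain ⟨i, -, hi⟩ := e2 hx0
    exact ⟨i, by rw [hxc]; exact hi⟩

/-- `F(ρ)` is discretely valued with uniformizer `ρ` -/
theorem disc_root {F : Subfield Ω} {p : ℕ} (hp : 0 < p) {ρ : Ω} (hρ : ρ ^ p ∈ F)
    (h0 : 0 < ‖ρ‖) (h1 : ‖ρ‖ < 1) (hd : Disc F (ρ ^ p)) : Disc (F ⊔ Subfield.closure {ρ}) ρ := by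
  refine ⟨h0, h1, fun x hx hx0 => ?_⟩
  obtain ⟨c, hc, hxc, -, h⟩ := exists_expansion hp hρ h0 h1 hd hx
  obtain ⟨i, hi⟩ := h hx0
  have hci : c i ≠ 0 := by
    intro h
    rw [h, zero_mul, norm_zero, norm_eq_zero] at hi
    exact hx0 hi
  obtain ⟨m, hm⟩ := hd.2.2 (c i) (hc i) hci
  refine ⟨(p : ℤ) * m + (i : ℕ), ?_⟩
  rw [hi, norm_mul, hm, norm_pow, norm_pow, zpow_add₀ h0.ne', zpow_mul, zpow_natCast, zpow_natCast]

/-- residues in `F(ρ)` come from `F` -/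
theorem res_root {F : Subfield Ω} {p : ℕ} (hp : 0 < p) {ρ : Ω} (hρ : ρ ^ p ∈ F)
    (h0 : 0 < ‖ρ‖) (h1 : ‖ρ‖ < 1) (hd : Disc F (ρ ^ p)) {x : Ω} (hx : x ∈ F ⊔ Subfield.closure {ρ})
    (hx1 : ‖x‖ ≤ 1) : ∃ y ∈ F, ‖x - y‖ < 1 := by
  classical
  obtain ⟨c, hc, hxc, hle, -⟩ := exists_expansion hp hρ h0 h1 hd hx
  refine ⟨c ⟨0, hp⟩, hc _, ?_⟩
  have h2 : x - c ⟨0, hp⟩ = ∑ i ∈ Finset.univ.erase (⟨0, hp⟩ : Fin p), c i * ρ ^ (i : ℕ) := by
    rw [hxc, ← Finset.add_sum_erase _ _ (Finset.mem_univ (⟨0, hp⟩ : Fin p))]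
    simp
  rw [h2]
  have h3 : ∀ i ∈ Finset.univ.erase (⟨0, hp⟩ : Fin p), ‖c i * ρ ^ (i : ℕ)‖ < 1 := by
    intro i hi
    apply lt_of_le_of_ne ((hle i).trans hx1)
    intro h4
    have hci : c i ≠ 0 := by
      intro h
      rw [h, zero_mul, norm_zero] at h4
      exact zero_ne_one h4
    have h5 : i = ⟨0, hp⟩ := term_inj h0 h1 hd (hc i) F.one_mem hci one_ne_zero (by
      rw [h4]; simp)
    exact Finset.ne_of_mem_erase hi h5
  exact norm_sum_lt _ _ one_pos h3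

section Tow

variable {p : ℕ} {F : Subfield Ω} {π : ℕ → Ω}

omit [IsUltrametricDist Ω] in
theorem pi_bounds (hp : p.Prime) (h0 : 0 < ‖π 0‖) (h1 : ‖π 0‖ < 1) (hπ : ∀ n, π (n + 1) ^ p = π n)
    (n : ℕ) : 0 < ‖π n‖ ∧ ‖π n‖ < 1 := by
  induction n with
  | zero => exact ⟨h0, h1⟩
  | succ n ih =>
    rw [← hπ n, norm_pow] at ih
    refine ⟨?_, ?_⟩
    · by_contra h
      push Not at h
      have h3 : ‖π (n + 1)‖ = 0 := le_antisymm h (norm_nonneg _)
      rw [h3, zero_pow hp.ne_zero] at ih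
      exact lt_irrefl _ ih.1
    · by_contra h
      push Not at h
      exact absurd ih.2 (not_lt.mpr (one_le_pow₀ h))

omit [IsUltrametricDist Ω] in
theorem zero_eq (hπF : π 0 ∈ F) : F ⊔ Subfield.closure {π 0} = F := by
  apply sup_eq_left.2
  rw [Subfield.closure_le]
  intro x hx
  rw [Set.mem_singleton_iff.1 hx]
  exact hπF

omit [IsUltrametricDist Ω] in
theorem pi_mem (n : ℕ) : π n ∈ F ⊔ Subfield.closure {π n} :=
  (le_sup_right : Subfield.closure {π n} ≤ F ⊔ Subfield.closure {π n})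
    (Subfield.subset_closure (Set.mem_singleton _))

omit [IsUltrametricDist Ω] in
theorem le_succ (hπ : ∀ n, π (n + 1) ^ p = π n) (n : ℕ) :
    F ⊔ Subfield.closure {π n} ≤ F ⊔ Subfield.closure {π (n + 1)} := by
  refine sup_le le_sup_left ?_
  rw [Subfield.closure_le]
  intro x hx
  rw [Set.mem_singleton_iff.1 hx, ← hπ n]
  exact Subfield.pow_mem _ (pi_mem (n + 1)) _

omit [IsUltrametricDist Ω] in
theorem succ_eq (hπ : ∀ n, π (n + 1) ^ p = π n) (n : ℕ) :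
    F ⊔ Subfield.closure {π (n + 1)} = (F ⊔ Subfield.closure {π n}) ⊔ Subfield.closure {π (n + 1)} := by
  apply le_antisymm
  · exact sup_le_sup_right le_sup_left _
  · exact sup_le (le_succ hπ n) le_sup_right

theorem disc_tower (hp : p.Prime) (hπF : π 0 ∈ F) (hd : Disc F (π 0)) (hπ : ∀ n, π (n + 1) ^ p = π n)
    (n : ℕ) : Disc (F ⊔ Subfield.closure {π n}) (π n) := by
  induction n with
  | zero => rwa [zero_eq hπF]
  | succ n ih =>
    have hb := pi_bounds hp hd.1 hd.2.1 hπ (n + 1)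
    rw [succ_eq hπ]
    refine disc_root hp.pos ?_ hb.1 hb.2 ?_
    · rw [hπ]; exact pi_mem n
    · rwa [hπ]

/-- the tower `F(π^(1/p^n))` -/
theorem tower (hp : p.Prime) (hπF : π 0 ∈ F) (hd : Disc F (π 0)) (hπ : ∀ n, π (n + 1) ^ p = π n) :
    Tower p π (fun n => F ⊔ Subfield.closure {π n}) where
  mono n := le_succ hπ n
  pi_mem n := pi_mem n
  pi_pow := hπ
  pi_ne := norm_pos_iff.1 hd.1
  pi_lt := hd.2.1
  val n x hx hx0 := (disc_tower hp hπF hd hπ n).2.2 x hx hx0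
  decomp n x hx := by
    have hb := pi_bounds hp hd.1 hd.2.1 hπ (n + 1)
    have hD := disc_tower hp hπF hd hπ n
    rw [succ_eq hπ] at hx
    obtain ⟨c, h1, h2, h3, -⟩ := exists_expansion hp.pos (by rw [hπ]; exact pi_mem n) hb.1 hb.2
      (by rwa [hπ]) hx
    exact ⟨c, h1, h2, h3⟩
  res n := by
    have key : ∀ n, ∀ x ∈ F ⊔ Subfield.closure {π n}, ‖x‖ ≤ 1 → ∃ y ∈ F, ‖x - y‖ < 1 := by
      intro n
      induction n with
      | zero =>
        intro x hx _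
        rw [zero_eq hπF] at hx
        exact ⟨x, hx, by simp⟩
      | succ n ih =>
        intro x hx hx1
        have hb := pi_bounds hp hd.1 hd.2.1 hπ (n + 1)
        have hD := disc_tower hp hπF hd hπ n
        rw [succ_eq hπ] at hx
        obtain ⟨y, hy, hxy⟩ := res_root hp.pos (by rw [hπ]; exact pi_mem n) hb.1 hb.2
          (by rwa [hπ]) hx hx1
        have hy1 : ‖y‖ ≤ 1 := by
          have e : y = x - (x - y) := by ring
          rw [e]
          exact norm_sub_le' hx1 hxy.le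
        obtain ⟨y', hy', hyy'⟩ := ih y hy hy1
        refine ⟨y', hy', ?_⟩
        have e : x - y' = (x - y) + (y - y') := by ring
        rw [e]
        exact norm_add_lt' hxy hyy'
    intro x hx hx1
    obtain ⟨y, hy, hxy⟩ := key n x hx hx1
    exact ⟨y, (le_sup_left : F ≤ F ⊔ Subfield.closure {π 0}) hy, hxy⟩

end Tow

/-- a compatible sequence of `p`-power roots -/
theorem exists_seq [IsAlgClosed Ω] {p : ℕ} (hp : p.Prime) (π₀ : Ω) :
    ∃ π : ℕ → Ω, π 0 = π₀ ∧ ∀ n, π (n + 1) ^ p = π n := by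
  have h : ∀ x : Ω, ∃ y : Ω, y ^ p = x := fun x => IsAlgClosed.exists_pow_nat_eq x hp.pos
  choose f hf using h
  exact ⟨fun n => Nat.rec π₀ (fun _ x => f x) n, rfl, fun n => hf _⟩

end Groth.Agent.Etalg.EppRoot
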