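import Groth.Agent.Etalg.EppFrame
import Mathlib.Topology.Algebra.Ring.Basic
import Mathlib.Topology.MetricSpace.Ultra.Basic
import Mathlib.Analysis.SpecificLimits.Basic
import Mathlib.Analysis.Normed.Group.Ultra
import Mathlib.Tactic.LinearCombination
import Mathlib.Tactic.FieldSimp

/-!
# Complete subfields generated by a coefficient ring and a uniformizer
-/

set_option autoImplicit false
set_option linter.unusedSectionVars false
universe u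

namespace Groth.Agent.Etalg.EppSeries

open Polynomial EppFrame

variable {Ω : Type u} [NormedField Ω] [IsUltrametricDist Ω]

/-- `x` is a limit of elements of `B`. -/
def Lim (B : Set Ω) (x : Ω) : Prop := ∀ ε > 0, ∃ b ∈ B, ‖x - b‖ < ε

theorem lim_of_mem {B : Set Ω} {x : Ω} (hx : x ∈ B) : Lim B x := fun ε hε => ⟨x, hx, by simpa using hε⟩

theorem lim_lim {B : Set Ω} {x : Ω} (h : ∀ ε > 0, ∃ y, Lim B y ∧ ‖x - y‖ < ε) : Lim B x := by
  intro ε hε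
  obtain ⟨y, hy, hxy⟩ := h ε hε
  obtain ⟨b, hb, hyb⟩ := hy ε hε
  refine ⟨b, hb, ?_⟩
  have : x - b = (x - y) + (y - b) := by ring
  rw [this]
  exact (IsUltrametricDist.norm_add_le_max _ _).trans_lt (max_lt hxy hyb)

theorem isClosed_of_lim {C : Set Ω} (h : ∀ x, Lim C x → x ∈ C) : IsClosed C := by
  rw [← isSeqClosed_iff_isClosed]
  intro s x hs hx
  apply h
  intro ε hε
  obtain ⟨N, hN⟩ := Metric.tendsto_atTop.1 hx ε hε
  refine ⟨s N, hs N, ?_⟩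
  rw [← dist_eq_norm, dist_comm]
  exact hN N le_rfl

theorem isComplete_of_isClosed_subset {C D : Set Ω} (hD : IsComplete D) (hC : IsClosed C)
    (h : C ⊆ D) : IsComplete C := by
  intro f hf hfC
  obtain ⟨x, -, hx⟩ := hD f hf (hfC.trans (Filter.principal_mono.2 h))
  have := hf.1
  refine ⟨x, ?_, hx⟩
  exact hC.mem_of_tendsto (b := f) (f := id) hx (hfC (Filter.mem_principal_self C))

theorem mem_of_lim {C : Set Ω} (hC : IsClosed C) {x : Ω} (h : Lim C x) : x ∈ C := by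
  rw [← hC.closure_eq, Metric.mem_closure_iff]
  intro ε hε
  obtain ⟨b, hb, hxb⟩ := h ε hε
  exact ⟨b, hb, by rwa [dist_eq_norm]⟩

theorem add_lt {x y : Ω} {r : ℝ} (hx : ‖x‖ < r) (hy : ‖y‖ < r) : ‖x + y‖ < r :=
  (IsUltrametricDist.norm_add_le_max x y).trans_lt (max_lt hx hy)

theorem add_le {x y : Ω} {r : ℝ} (hx : ‖x‖ ≤ r) (hy : ‖y‖ ≤ r) : ‖x + y‖ ≤ r :=
  (IsUltrametricDist.norm_add_le_max x y).trans (max_le hx hy)

theorem sub_lt {x y : Ω} {r : ℝ} (hx : ‖x‖ < r) (hy : ‖y‖ < r) : ‖x - y‖ < r := by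
  rw [sub_eq_add_neg]; exact add_lt hx (by rwa [norm_neg])

theorem sub_le {x y : Ω} {r : ℝ} (hx : ‖x‖ ≤ r) (hy : ‖y‖ ≤ r) : ‖x - y‖ ≤ r := by
  rw [sub_eq_add_neg]; exact add_le hx (by rwa [norm_neg])

/-- if `‖x - y‖ < ‖x‖` then `‖y‖ = ‖x‖` -/
theorem norm_eq_of_sub_lt {x y : Ω} (h : ‖x - y‖ < ‖x‖) : ‖y‖ = ‖x‖ := by
  have h1 : ‖y‖ ≤ ‖x‖ := by
    have : y = x - (x - y) := by ring
    rw [this]; exact sub_le le_rfl h.le
  by_contra hne
  have h2 : ‖y‖ < ‖x‖ := lt_of_le_of_ne h1 hne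
  have : x = (x - y) + y := by ring
  have h3 : ‖x‖ < ‖x‖ := by
    conv_lhs => rw [this]
    exact add_lt h h2
  exact lt_irrefl _ h3

section

variable (A : Subring Ω) (τ : Ω)

/-- the polynomial ring `A[τ]` -/
def B : Subring Ω := Subring.closure ((A : Set Ω) ∪ {τ})

variable {A τ}

theorem le_B : A ≤ B A τ := fun _ ha => Subring.subset_closure (Or.inl ha)

theorem tau_mem_B : τ ∈ B A τ := Subring.subset_closure (Or.inr rfl)

theorem B_decomp {b : Ω} (hb : b ∈ B A τ) : ∃ a ∈ A, ∃ c ∈ B A τ, b = a + τ * c := by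
  induction hb using Subring.closure_induction with
  | mem x hx =>
    rcases hx with hx | hx
    · exact ⟨x, hx, 0, Subring.zero_mem _, by ring⟩
    · rw [Set.mem_singleton_iff] at hx
      exact ⟨0, Subring.zero_mem _, 1, Subring.one_mem _, by rw [hx]; ring⟩
  | zero => exact ⟨0, Subring.zero_mem _, 0, Subring.zero_mem _, by ring⟩
  | one => exact ⟨1, Subring.one_mem _, 0, Subring.zero_mem _, by ring⟩
  | add x y _ _ hx hy =>
    obtain ⟨a, ha, c, hc, rfl⟩ := hx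
    obtain ⟨a', ha', c', hc', rfl⟩ := hy
    exact ⟨a + a', A.add_mem ha ha', c + c', Subring.add_mem _ hc hc', by ring⟩
  | neg x _ hx =>
    obtain ⟨a, ha, c, hc, rfl⟩ := hx
    exact ⟨-a, A.neg_mem ha, -c, Subring.neg_mem _ hc, by ring⟩
  | mul x y _ _ hx hy =>
    obtain ⟨a, ha, c, hc, rfl⟩ := hx
    obtain ⟨a', ha', c', hc', rfl⟩ := hy
    refine ⟨a * a', A.mul_mem ha ha', a * c' + a' * c + τ * (c * c'), ?_, by ring⟩
    exact Subring.add_mem _ (Subring.add_mem _ (Subring.mul_mem _ (le_B ha) hc')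
      (Subring.mul_mem _ (le_B ha') hc))
      (Subring.mul_mem _ tau_mem_B (Subring.mul_mem _ hc hc'))

theorem B_norm_le (hA1 : ∀ a ∈ A, ‖a‖ ≤ 1) (ht1 : ‖τ‖ < 1) {b : Ω} (hb : b ∈ B A τ) : ‖b‖ ≤ 1 := by
  induction hb using Subring.closure_induction with
  | mem x hx =>
    rcases hx with hx | hx
    · exact hA1 x hx
    · rw [Set.mem_singleton_iff] at hx
      rw [hx]; exact ht1.le
  | zero => simp
  | one => simp
  | add x y _ _ hx hy => exact add_le hx hy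
  | neg x _ hx => rwa [norm_neg]
  | mul x y _ _ hx hy =>
    rw [norm_mul]
    exact mul_le_one₀ hx (norm_nonneg _) hy

/-- closure of `A[τ]` as a predicate -/
abbrev Bc (A : Subring Ω) (τ : Ω) (x : Ω) : Prop := Lim (B A τ : Set Ω) x

theorem Bc_norm_le (hA1 : ∀ a ∈ A, ‖a‖ ≤ 1) (ht1 : ‖τ‖ < 1) {x : Ω} (hx : Bc A τ x) : ‖x‖ ≤ 1 := by
  obtain ⟨b, hb, h⟩ := hx 1 one_pos
  have : x = (x - b) + b := by ring
  rw [this]
  exact add_le h.le (B_norm_le hA1 ht1 hb)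

theorem Bc_add {x y : Ω} (hx : Bc A τ x) (hy : Bc A τ y) : Bc A τ (x + y) := by
  intro ε hε
  obtain ⟨b, hb, h⟩ := hx ε hε
  obtain ⟨c, hc, h'⟩ := hy ε hε
  refine ⟨b + c, Subring.add_mem _ hb hc, ?_⟩
  have : x + y - (b + c) = (x - b) + (y - c) := by ring
  rw [this]
  exact add_lt h h'

theorem Bc_neg {x : Ω} (hx : Bc A τ x) : Bc A τ (-x) := by
  intro ε hε
  obtain ⟨b, hb, h⟩ := hx ε hε
  refine ⟨-b, Subring.neg_mem _ hb, ?_⟩
  have : -x - -b = -(x - b) := by ring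
  rw [this, norm_neg]
  exact h

theorem Bc_mul (hA1 : ∀ a ∈ A, ‖a‖ ≤ 1) (ht1 : ‖τ‖ < 1) {x y : Ω} (hx : Bc A τ x) (hy : Bc A τ y) :
    Bc A τ (x * y) := by
  intro ε hε
  obtain ⟨b, hb, h⟩ := hx ε hε
  obtain ⟨c, hc, h'⟩ := hy ε hε
  refine ⟨b * c, Subring.mul_mem _ hb hc, ?_⟩
  have : x * y - b * c = (x - b) * y + b * (y - c) := by ring
  rw [this]
  apply add_lt
  · rw [norm_mul]
    calc ‖x - b‖ * ‖y‖ ≤ ‖x - b‖ * 1 :=
          mul_le_mul_of_nonneg_left (Bc_norm_le hA1 ht1 hy) (norm_nonneg _)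
      _ < ε := by rwa [mul_one]
  · rw [norm_mul]
    calc ‖b‖ * ‖y - c‖ ≤ 1 * ‖y - c‖ :=
          mul_le_mul_of_nonneg_right (B_norm_le hA1 ht1 hb) (norm_nonneg _)
      _ < ε := by rwa [one_mul]

theorem Bc_one : Bc A τ 1 := lim_of_mem (Subring.one_mem _)

theorem Bc_tau : Bc A τ τ := lim_of_mem tau_mem_B

theorem Bc_zero : Bc A τ 0 := lim_of_mem (Subring.zero_mem _)

theorem Bc_pow (hA1 : ∀ a ∈ A, ‖a‖ ≤ 1) (ht1 : ‖τ‖ < 1) {x : Ω} (hx : Bc A τ x) (n : ℕ) :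
    Bc A τ (x ^ n) := by
  induction n with
  | zero => rw [pow_zero]; exact Bc_one
  | succ n ih => rw [pow_succ]; exact Bc_mul hA1 ht1 ih hx

variable (hA1 : ∀ a ∈ A, ‖a‖ ≤ 1) (hA2 : ∀ a ∈ A, ‖a‖ < 1 → ∃ a' ∈ A, a = τ * a')
  (hA3 : ∀ a ∈ A, ‖a‖ = 1 → ∃ a' ∈ A, ‖a * a' - 1‖ < 1) (ht0 : 0 < ‖τ‖) (ht1 : ‖τ‖ < 1)

include hA1 hA2 ht0 ht1 in
theorem Bc_div {x : Ω} (hx : Bc A τ x) (hx1 : ‖x‖ < 1) : ∃ y, Bc A τ y ∧ x = τ * y := by
  have hτ : τ ≠ 0 := norm_pos_iff.1 ht0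
  refine ⟨x / τ, ?_, by field_simp⟩
  intro ε hε
  obtain ⟨b, hb, h⟩ := hx (min 1 (ε * ‖τ‖)) (lt_min one_pos (by positivity))
  have hb1 : ‖b‖ < 1 := by
    have : b = x - (x - b) := by ring
    rw [this]
    exact sub_lt hx1 (h.trans_le (min_le_left _ _))
  obtain ⟨a, ha, c, hc, hbc⟩ := B_decomp hb
  have ha1 : ‖a‖ < 1 := by
    have : a = b - τ * c := by rw [hbc]; ring
    rw [this]
    apply sub_lt hb1
    rw [norm_mul]
    calc ‖τ‖ * ‖c‖ ≤ ‖τ‖ * 1 := mul_le_mul_of_nonneg_left (B_norm_le hA1 ht1 hc) (norm_nonneg _)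
      _ < 1 := by rwa [mul_one]
  obtain ⟨a', ha', haa'⟩ := hA2 a ha ha1
  refine ⟨a' + c, Subring.add_mem _ (le_B ha') hc, ?_⟩
  have h1 : x / τ - (a' + c) = (x - b) / τ := by
    rw [hbc, haa']; field_simp
  rw [h1, norm_div, div_lt_iff₀ ht0]
  exact h.trans_le (min_le_right _ _)

include hA1 hA2 ht0 ht1 in
theorem Bc_factor_aux (m : ℕ) : ∀ {x : Ω}, Bc A τ x → ‖τ‖ ^ m < ‖x‖ →
    ∃ (k : ℕ) (v : Ω), Bc A τ v ∧ ‖v‖ = 1 ∧ x = τ ^ k * v := by
  induction m with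
  | zero =>
    intro x hx hlt
    rw [pow_zero] at hlt
    exact absurd (Bc_norm_le hA1 ht1 hx) (not_le.2 hlt)
  | succ m ih =>
    intro x hx hlt
    rcases (Bc_norm_le hA1 ht1 hx).lt_or_eq with h | h
    · obtain ⟨y, hy, rfl⟩ := Bc_div hA1 hA2 ht0 ht1 hx h
      rw [norm_mul, pow_succ'] at hlt
      obtain ⟨k, v, hv, hv1, hyv⟩ := ih hy (lt_of_mul_lt_mul_left hlt (norm_nonneg _))
      exact ⟨k + 1, v, hv, hv1, by rw [hyv, pow_succ']; ring⟩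
    · exact ⟨0, x, hx, h, by rw [pow_zero, one_mul]⟩

include hA1 hA2 ht0 ht1 in
theorem Bc_factor {x : Ω} (hx : Bc A τ x) (h0 : x ≠ 0) :
    ∃ (k : ℕ) (v : Ω), Bc A τ v ∧ ‖v‖ = 1 ∧ x = τ ^ k * v := by
  obtain ⟨m, hm⟩ := exists_pow_lt_of_lt_one (norm_pos_iff.2 h0) ht1
  exact Bc_factor_aux hA1 hA2 ht0 ht1 m hx hm

include hA1 ht1 in
theorem Bc_residue {x : Ω} (hx : Bc A τ x) : ∃ a ∈ A, ‖x - a‖ < 1 := by
  obtain ⟨b, hb, h⟩ := hx 1 one_pos
  obtain ⟨a, ha, c, hc, rfl⟩ := B_decomp hb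
  refine ⟨a, ha, ?_⟩
  have : x - a = (x - (a + τ * c)) + τ * c := by ring
  rw [this]
  apply add_lt h
  rw [norm_mul]
  calc ‖τ‖ * ‖c‖ ≤ ‖τ‖ * 1 := mul_le_mul_of_nonneg_left (B_norm_le hA1 ht1 hc) (norm_nonneg _)
    _ < 1 := by rwa [mul_one]

include hA1 ht1 in
theorem Bc_inv_one_sub {y : Ω} (hy : Bc A τ y) (hy1 : ‖y‖ < 1) : Bc A τ (1 - y)⁻¹ := by
  have h1 : (1 : Ω) - y ≠ 0 := by
    intro h
    rw [sub_eq_zero] at h
    rw [← h, norm_one] at hy1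
    exact lt_irrefl _ hy1
  have hn : ‖(1 : Ω) - y‖ = 1 := by
    have := norm_eq_of_sub_lt (x := (1 : Ω)) (y := 1 - y) (by rw [sub_sub_cancel, norm_one]; exact hy1)
    rw [this, norm_one]
  apply lim_lim
  intro ε hε
  obtain ⟨n, hn'⟩ := exists_pow_lt_of_lt_one hε hy1
  refine ⟨∑ i ∈ Finset.range n, y ^ i, ?_, ?_⟩
  · have : ∀ n : ℕ, Bc A τ (∑ i ∈ Finset.range n, y ^ i) := by
      intro n
      induction n with
      | zero => rw [Finset.sum_range_zero]; exact Bc_zero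
      | succ n ih => rw [Finset.sum_range_succ]; exact Bc_add ih (Bc_pow hA1 ht1 hy n)
    exact this n
  · have h2 : (1 - y)⁻¹ - ∑ i ∈ Finset.range n, y ^ i = y ^ n * (1 - y)⁻¹ := by
      have := geom_sum_mul_neg y n
      field_simp
      linear_combination -this
    rw [h2, norm_mul, norm_inv, hn, inv_one, mul_one, norm_pow]
    exact hn'

include hA1 hA3 ht1 in
theorem Bc_inv {v : Ω} (hv : Bc A τ v) (hv1 : ‖v‖ = 1) : Bc A τ v⁻¹ := by
  have hv0 : v ≠ 0 := by rintro rfl; simp at hv1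
  obtain ⟨a, ha, hva⟩ := Bc_residue hA1 ht1 hv
  have ha1 : ‖a‖ = 1 := by
    rw [← hv1]; exact norm_eq_of_sub_lt (by rwa [hv1])
  obtain ⟨a', ha', h⟩ := hA3 a ha ha1
  have h1 : ‖1 - v * a'‖ < 1 := by
    have : 1 - v * a' = -((v - a) * a' + (a * a' - 1)) := by ring
    rw [this, norm_neg]
    apply add_lt _ h
    rw [norm_mul]
    calc ‖v - a‖ * ‖a'‖ ≤ ‖v - a‖ * 1 := mul_le_mul_of_nonneg_left (hA1 a' ha') (norm_nonneg _)
      _ < 1 := by rwa [mul_one]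
  have h2 : Bc A τ (1 - v * a') := by
    rw [sub_eq_add_neg]
    exact Bc_add Bc_one (Bc_neg (Bc_mul hA1 ht1 hv (lim_of_mem (le_B ha'))))
  have h3 := Bc_inv_one_sub hA1 ht1 h2 h1
  rw [sub_sub_cancel] at h3
  have ha'0 : a' ≠ 0 := by
    rintro rfl
    rw [mul_zero, sub_zero, norm_one] at h1
    exact lt_irrefl _ h1
  have h4 : v⁻¹ = a' * (v * a')⁻¹ := by field_simp
  rw [h4]
  exact Bc_mul hA1 ht1 (lim_of_mem (le_B ha')) h3

/-- The complete subfield generated by `A` and `τ`. -/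
theorem exists_field {L : Subfield Ω} (hL : IsComplete (L : Set Ω)) (hAL : (A : Set Ω) ⊆ L)
    (htL : τ ∈ L) (hA1 : ∀ a ∈ A, ‖a‖ ≤ 1) (hA2 : ∀ a ∈ A, ‖a‖ < 1 → ∃ a' ∈ A, a = τ * a')
    (hA3 : ∀ a ∈ A, ‖a‖ = 1 → ∃ a' ∈ A, ‖a * a' - 1‖ < 1) (ht0 : 0 < ‖τ‖) (ht1 : ‖τ‖ < 1) :
    ∃ E : Subfield Ω, (A : Set Ω) ⊆ E ∧ τ ∈ E ∧ E ≤ L ∧ IsComplete (E : Set Ω) ∧
      (∀ x ∈ E, x ≠ 0 → ∃ n : ℤ, ‖x‖ = ‖τ‖ ^ n) ∧
      (∀ x ∈ E, ‖x‖ ≤ 1 → ∃ a ∈ A, ‖x - a‖ < 1) ∧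
      (∀ x ∈ E, ‖x‖ ≤ 1 → Bc A τ x) ∧ (∀ x ∈ E, ∃ n : ℕ, Bc A τ (τ ^ n * x)) ∧
      (∀ M : Subfield Ω, IsClosed (M : Set Ω) → (A : Set Ω) ⊆ M → τ ∈ M → E ≤ M) := by
  have hτ : τ ≠ 0 := norm_pos_iff.1 ht0
  let E : Subfield Ω :=
    { carrier := {x | ∃ n : ℕ, Bc A τ (τ ^ n * x)}
      mul_mem' := by
        rintro x y ⟨n, hn⟩ ⟨m, hm⟩
        refine ⟨n + m, ?_⟩
        have : τ ^ (n + m) * (x * y) = (τ ^ n * x) * (τ ^ m * y) := by rw [pow_add]; ring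
        rw [this]
        exact Bc_mul hA1 ht1 hn hm
      one_mem' := ⟨0, by rw [pow_zero, one_mul]; exact Bc_one⟩
      add_mem' := by
        rintro x y ⟨n, hn⟩ ⟨m, hm⟩
        refine ⟨n + m, ?_⟩
        have : τ ^ (n + m) * (x + y) = τ ^ m * (τ ^ n * x) + τ ^ n * (τ ^ m * y) := by
          rw [pow_add]; ring
        rw [this]
        exact Bc_add (Bc_mul hA1 ht1 (Bc_pow hA1 ht1 Bc_tau m) hn)
          (Bc_mul hA1 ht1 (Bc_pow hA1 ht1 Bc_tau n) hm)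
      zero_mem' := ⟨0, by rw [pow_zero, one_mul]; exact Bc_zero⟩
      neg_mem' := by
        rintro x ⟨n, hn⟩
        refine ⟨n, ?_⟩
        rw [mul_neg]; exact Bc_neg hn
      inv_mem' := by
        rintro x ⟨n, hn⟩
        by_cases h0 : x = 0
        · exact ⟨0, by rw [h0, inv_zero, mul_zero]; exact Bc_zero⟩
        · obtain ⟨k, v, hv, hv1, hxv⟩ := Bc_factor hA1 hA2 ht0 ht1 hn
            (mul_ne_zero (pow_ne_zero n hτ) h0)
          refine ⟨k, ?_⟩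
          have hv0 : v ≠ 0 := by rintro rfl; simp at hv1
          have : τ ^ k * x⁻¹ = τ ^ n * v⁻¹ := by
            field_simp
            linear_combination -hxv
          rw [this]
          exact Bc_mul hA1 ht1 (Bc_pow hA1 ht1 Bc_tau n) (Bc_inv hA1 hA3 ht1 hv hv1) }
  have hE : ∀ x, x ∈ E ↔ ∃ n : ℕ, Bc A τ (τ ^ n * x) := fun x => Iff.rfl
  have hdisc : ∀ x ∈ E, x ≠ 0 → ∃ (n : ℤ) (v : Ω), Bc A τ v ∧ ‖v‖ = 1 ∧ x = τ ^ n * v := by
    intro x hx h0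
    obtain ⟨n, hn⟩ := (hE x).1 hx
    obtain ⟨k, v, hv, hv1, hxv⟩ := Bc_factor hA1 hA2 ht0 ht1 hn (mul_ne_zero (pow_ne_zero n hτ) h0)
    refine ⟨(k : ℤ) - n, v, hv, hv1, ?_⟩
    rw [zpow_sub₀ hτ, zpow_natCast, zpow_natCast]
    field_simp
    linear_combination hxv
  have hball : ∀ x ∈ E, ‖x‖ ≤ 1 → Bc A τ x := by
    intro x hx hx1
    by_cases h0 : x = 0
    · rw [h0]; exact Bc_zero
    · obtain ⟨n, v, hv, hv1, rfl⟩ := hdisc x hx h0
      rw [norm_mul, hv1, mul_one, norm_zpow] at hx1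
      have hn : 0 ≤ n := by
        by_contra hneg
        push Not at hneg
        have : 1 < ‖τ‖ ^ n := one_lt_zpow_of_neg₀ ht0 ht1 hneg
        exact absurd hx1 (not_le.2 this)
      lift n to ℕ using hn
      rw [zpow_natCast]
      exact Bc_mul hA1 ht1 (Bc_pow hA1 ht1 Bc_tau n) hv
  have hmin : ∀ M : Subfield Ω, IsClosed (M : Set Ω) → (A : Set Ω) ⊆ M → τ ∈ M → E ≤ M := by
    intro M hM hAM htM x hx
    obtain ⟨n, hn⟩ := (hE x).1 hx
    have hB : (B A τ : Set Ω) ⊆ M := by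
      have : B A τ ≤ M.toSubring := by
        rw [B, Subring.closure_le]
        rintro y (hy | hy)
        · exact hAM hy
        · rw [Set.mem_singleton_iff] at hy; rw [hy]; exact htM
      exact this
    have h1 : τ ^ n * x ∈ M := by
      apply mem_of_lim hM
      intro ε hε
      obtain ⟨b, hb, h⟩ := hn ε hε
      exact ⟨b, hB hb, h⟩
    have h2 : x = (τ ^ n)⁻¹ * (τ ^ n * x) := by field_simp
    rw [h2]
    exact M.mul_mem (M.inv_mem (M.pow_mem htM n)) h1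
  have hEL : E ≤ L := hmin L hL.isClosed hAL htL
  have hclosed : IsClosed (E : Set Ω) := by
    apply isClosed_of_lim
    intro x hx
    obtain ⟨e, he, hxe⟩ := hx 1 one_pos
    have h1 : Bc A τ (x - e) := by
      apply lim_lim
      intro ε hε
      obtain ⟨e', he', hxe'⟩ := hx (min 1 ε) (lt_min one_pos hε)
      refine ⟨e' - e, hball _ (E.sub_mem he' he) ?_, ?_⟩
      · have : e' - e = (x - e) - (x - e') := by ring
        rw [this]
        exact sub_le hxe.le ((hxe'.trans_le (min_le_left _ _)).le)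
      · have : x - e - (e' - e) = x - e' := by ring
        rw [this]
        exact hxe'.trans_le (min_le_right _ _)
    have h2 : x - e ∈ E := (hE _).2 ⟨0, by rw [pow_zero, one_mul]; exact h1⟩
    have : x = (x - e) + e := by ring
    rw [this]
    exact E.add_mem h2 he
  refine ⟨E, fun a ha => (hE a).2 ⟨0, by rw [pow_zero, one_mul]; exact lim_of_mem (le_B ha)⟩,
    (hE τ).2 ⟨0, by rw [pow_zero, one_mul]; exact Bc_tau⟩, hEL, ?_, ?_, ?_, hball,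
    fun x hx => (hE x).1 hx, hmin⟩
  · exact isComplete_of_isClosed_subset hL hclosed hEL
  · intro x hx h0
    obtain ⟨n, v, hv, hv1, rfl⟩ := hdisc x hx h0
    exact ⟨n, by rw [norm_mul, hv1, mul_one, norm_zpow]⟩
  · intro x hx hx1
    exact Bc_residue hA1 ht1 (hball x hx hx1)

end

end Groth.Agent.Etalg.EppSeries
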