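import Groth.Agent.Etalg.EppFrame
import Groth.Prelude.Def_EtRam

set_option autoImplicit false
universe u

namespace Groth.Agent.Etalg.EppSkel

open Polynomial EppFrame

variable {Ω : Type u} [NormedField Ω] [IsUltrametricDist Ω] [IsAlgClosed Ω]

/-! ### EppUp (helper597) -/

/-- a finite extension of a complete nontrivially valued subfield is complete -/
theorem complete_of_finExt {F F₁ : Subfield Ω} (hF : IsComplete (F : Set Ω))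
    (h0 : ∃ π ∈ F, 0 < ‖π‖ ∧ ‖π‖ < 1) (h : FinExt F F₁) : IsComplete (F₁ : Set Ω) := sorry

/-- going up: the class is stable under base change to finite extensions of `E` -/
theorem pair_up {p : ℕ} (hp : p.Prime) {E F E₁ : Subfield Ω} (h : Pair p E F) (h₁ : FinExt E E₁) :
    Pair p E₁ (F ⊔ E₁) := sorry

/-- the class is stable under finite extensions of `F` not changing the value group -/
theorem pair_fin {p : ℕ} (hp : p.Prime) {E F F₁ : Subfield Ω} (h : Pair p E F) (h₁ : FinExt F F₁)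
    (h₂ : NormLe E F₁) : Pair p E F₁ := sorry

/-! ### EppDeg (helper596 core lemma, helper590) -/

/-- degree p step. -/
theorem degree_p {p : ℕ} (hp : p.Prime) {E F : Subfield Ω} (h : Pair p E F) (z : Ω)
    (hz : (z ^ p ∈ F ∧ ((p : Ω) = 0 ∨ ∃ ζ ∈ E, IsPrimitiveRoot ζ p)) ∨ ((p : Ω) = 0 ∧ z ^ p - z ∈ F)) :
    ∃ E₁ : Subfield Ω, FinExt E E₁ ∧ NormLe E₁ (E₁ ⊔ F ⊔ Subfield.closure {z}) := sorry

/-! ### EppTower (helper590) -/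

theorem tower {p : ℕ} (hp : p.Prime) {E F M : Subfield Ω} (h : Pair p E F) (hM : FinExt F M) :
    ∃ E₁ : Subfield Ω, FinExt E E₁ ∧ NormLe E₁ (E₁ ⊔ M) := sorry

/-! ### EppCohen (helper586) -/

/-- `K ≤ L` both complete, `t ∈ K` with `0 < |t| < 1`: there are `E ≤ K` and `E ≤ F ≤ L` with `Pair p E F`, `L/F` finite. -/
theorem exists_pair {p : ℕ} (hp : p.Prime) {K L : Subfield Ω} (hKL : K ≤ L)
    (hK : IsComplete (K : Set Ω)) (hL : IsComplete (L : Set Ω)) (hpn : ‖(p : Ω)‖ < 1)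
    (hd : ∃ ϖ ∈ L, Disc L ϖ) (t : Ω) (htK : t ∈ K) (ht0 : t ≠ 0) (ht1 : ‖t‖ < 1)
    (hres : ∀ x ∈ L, ‖x‖ ≤ 1 → (∀ n : ℕ, ∃ y ∈ L, ‖y ^ p ^ n - x‖ < 1) →
      ∃ f : Ω[X], f.Monic ∧ (∀ i, f.coeff i ∈ K ∧ ‖f.coeff i‖ ≤ 1) ∧ ‖f.eval x‖ < 1 ∧
        ‖(derivative f).eval x‖ = 1) :
    ∃ E F : Subfield Ω, E ≤ K ∧ F ≤ L ∧ Pair p E F ∧ FinExt F L ∧
      ((p : Ω) = 0 → t ∈ E ∧ ∀ x ∈ E, ∃ y : Fin p → Ω, (∀ i, y i ∈ E) ∧ x = ∑ i, y i ^ p * t ^ (i : ℕ)) := sorry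

/-! ### EppKrasner (helper585) -/

/-- `K` dense in the complete `Kh`; `E ≤ Kh` complete; in char p `t ∈ K ∩ E` with `E = E^p[t]`. -/
theorem krasner_descent {p : ℕ} (hp : p.Prime) {K Kh E : Subfield Ω} (hKh : K ≤ Kh)
    (hc : IsComplete (Kh : Set Ω)) (hdense : ∀ x ∈ Kh, ∀ ε > 0, ∃ y ∈ K, ‖x - y‖ < ε)
    (hEK : E ≤ Kh) (hE : IsComplete (E : Set Ω)) (h0 : ∃ π ∈ E, 0 < ‖π‖ ∧ ‖π‖ < 1)
    (hpn : ‖(p : Ω)‖ < 1) (t : Ω) (htK : t ∈ K)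
    (ht : (p : Ω) = 0 → t ∈ E ∧ ∀ x ∈ E, ∃ y : Fin p → Ω, (∀ i, y i ∈ E) ∧ x = ∑ i, y i ^ p * t ^ (i : ℕ))
    {E₁ : Subfield Ω} (h₁ : FinExt E E₁) :
    ∃ K₁ E₂ : Subfield Ω, FinExt K K₁ ∧ NormalIn K K₁ ∧ FinExt E E₂ ∧ E₁ ≤ E₂ ∧
      Kh ⊔ K₁ = Kh ⊔ E₂ ∧ NormLe K₁ (Kh ⊔ K₁) := sorry

/-! ### EppInner (helper586): assembly of the above -/

theorem inner {p : ℕ} (hp : p.Prime) {K Lh : Subfield Ω} (hKL : K ≤ Lh)
    (hc : IsComplete (Lh : Set Ω)) (hpn : ‖(p : Ω)‖ < 1)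
    (hd : ∃ ϖ ∈ Lh, Disc Lh ϖ) (t : Ω) (htK : t ∈ K) (ht0 : t ≠ 0) (ht1 : ‖t‖ < 1)
    (hres : ∀ x ∈ Lh, ‖x‖ ≤ 1 → (∀ n : ℕ, ∃ y ∈ Lh, ‖y ^ p ^ n - x‖ < 1) →
      ∃ f : Ω[X], f.Monic ∧ (∀ i, f.coeff i ∈ K ∧ ‖f.coeff i‖ ≤ 1) ∧ ‖f.eval x‖ < 1 ∧
        ‖(derivative f).eval x‖ = 1) :
    ∃ K₁ : Subfield Ω, FinExt K K₁ ∧ NormalIn K K₁ ∧ NormLe K₁ (Lh ⊔ K₁) := sorry

/-! ### EppOmega (helper589 / helper591): translation to the milestone -/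

/-- completion of a DVR and algebraic closure, as a normed field -/
theorem exists_omega (B L : Type u) [CommRing B] [IsDomain B] [IsDiscreteValuationRing B]
    [Field L] [Algebra B L] [IsFractionRing B L] :
    ∃ (Ω : Type u) (_ : NormedField Ω) (_ : IsUltrametricDist Ω) (_ : IsAlgClosed Ω) (j : L →+* Ω)
      (Lh : Subfield Ω), j.fieldRange ≤ Lh ∧ IsComplete (Lh : Set Ω) ∧
      (∀ x ∈ Lh, ∀ ε > 0, ∃ y : L, ‖x - j y‖ < ε) ∧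
      (∀ x : L, ‖j x‖ ≤ 1 ↔ x ∈ (algebraMap B L).range) := sorry

/-- a finite normal `K₁ ⊆ Ω` with `|L K₁| = |K₁|` is a weak solution (all composita and all valuation rings) -/
theorem isWeakSolution_of_normal {B K L : Type u} [CommRing B] [IsDomain B] [IsDiscreteValuationRing B]
    [Field K] [Field L] [Algebra K L] [Algebra B L] [IsFractionRing B L] (j : L →+* Ω)
    (hj : ∀ x : L, ‖j x‖ ≤ 1 ↔ x ∈ (algebraMap B L).range)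
    (K₁ : Subfield Ω) (h₁ : FinExt (j.comp (algebraMap K L)).fieldRange K₁)
    (h₂ : NormalIn (j.comp (algebraMap K L)).fieldRange K₁)
    (h₃ : NormLe K₁ (j.fieldRange ⊔ K₁)) :
    ∃ (K₂ : Type u) (_ : Field K₂) (_ : Algebra K K₂) (_ : FiniteDimensional K K₂),
      EtRam.IsWeakSolution B K L K₂ := sorry

end Groth.Agent.Etalg.EppSkel
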