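import Groth.Agent.Etalg.EppHat
import Groth.Agent.Etalg.EppPData
import Groth.Agent.Etalg.EppRoot
import Groth.Agent.Etalg.EppRaw4
import Mathlib.RingTheory.Polynomial.ScaleRoots

/-!
# Epp's theorem: the degree `p` step (Artin-Schreier and Kummer)
-/

set_option autoImplicit false
set_option linter.unusedSectionVars false
universe u

namespace Groth.Agent.Etalg.EppStep

open Polynomial EppFrame EppNorm EppRaw EppPData EppRoot EppHat EppUp

variable {Ω : Type u} [NormedField Ω] [IsUltrametricDist Ω]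
variable {p : ℕ} {E : Subfield Ω} {w : Ω} {P : Ω → Ω} {Q : Polynomial Ω}

theorem closure_singleton_le {F : Subfield Ω} {z : Ω} (h : z ∈ F) : Subfield.closure {z} ≤ F := by
  rw [Subfield.closure_le]
  intro x hx
  rw [Set.mem_singleton_iff.1 hx]
  exact h

theorem sup_le_of {F : Subfield Ω} {z x : Ω} (h : z ∈ F ⊔ Subfield.closure {x}) :
    F ⊔ Subfield.closure {z} ≤ F ⊔ Subfield.closure {x} :=
  sup_le le_sup_left (closure_singleton_le h)

theorem mem_adj {F : Subfield Ω} {x : Ω} : x ∈ F ⊔ Subfield.closure {x} :=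
  (le_sup_right : Subfield.closure {x} ≤ F ⊔ Subfield.closure {x})
    (Subfield.subset_closure (Set.mem_singleton _))

/-- translation -/
theorem P_sb (D : PPoly p E w P Q) {z ξ g : Ω} (hz : P z = ξ) (hg : 1 + w * g ≠ 0)
    (hg' : 1 + w ^ p * P g ≠ 0) : P (sb w z g) = sb (w ^ p) ξ (P g) := by
  have h1 : ad w (sb w z g) g = z := ad_sb_of_ne hg
  have h2 := D.data.add (sb w z g) g
  rw [h1, hz] at h2
  rw [h2, sb_ad_of_ne hg']

theorem norm_wz [IsAlgClosed Ω] (D : PPoly p E w P Q) (hp : p.Prime) (hpn : ‖(p : Ω)‖ < 1) {z : Ω}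
    (h : ‖w ^ p * P z‖ < 1) : ‖w * z‖ < 1 := by
  have h1 := D.data.one_add z
  have h2 : ‖(1 + w * z) ^ p‖ = 1 := by rw [← h1, norm_one_add h]
  have h3 : ‖1 + w * z‖ = 1 := by
    rw [norm_pow] at h2
    exact (pow_eq_one_iff_of_nonneg (norm_nonneg _) hp.ne_zero).mp h2
  have h4 := norm_sub_lt_of_pow hp hpn h3.le (b := 1) (by rw [norm_one]) (by
    rw [one_pow, ← h1, add_sub_cancel_left]
    exact h)
  simpa using h4

theorem fierce_case [IsAlgClosed Ω] (D : PPoly p E w P Q) (hp : p.Prime) (hpn : ‖(p : Ω)‖ < 1)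
    {F : Subfield Ω} (hEF : E ≤ F) {ϖ : Ω} (hϖ : ϖ ∈ F) (hϖ0 : 0 < ‖ϖ‖) (hϖ1 : ‖ϖ‖ < 1)
    {ξ : Ω} (hξ : ξ ∈ F) (hwξ : ‖w ^ p * ξ‖ < 1) (hnf : ¬ NF p w P ϖ F ξ) {z : Ω} (hz : P z = ξ) :
    NormLe F (F ⊔ Subfield.closure {z}) := by
  unfold NF at hnf
  push Not at hnf
  obtain ⟨g, hg, hwg, M, hM0, hpM, hM, hb⟩ := hnf
  have hPg := D.data.norm_one_add_sub_one hp hwg
  have hne := one_add_ne hPg
  obtain ⟨M₁, rfl⟩ := hpM
  have hM₁ : 0 < M₁ := Nat.pos_of_mul_pos_left hM0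
  set s := ϖ ^ M₁ with hs
  have hs0 : s ≠ 0 := pow_ne_zero _ (norm_pos_iff.1 hϖ0)
  have hs1 : ‖s‖ < 1 := by
    rw [hs, norm_pow]
    exact pow_lt_one₀ (norm_nonneg _) hϖ1 hM₁.ne'
  have hsF : s ∈ F := F.pow_mem hϖ _
  have hsp : ϖ ^ (p * M₁) = s ^ p := by rw [hs, ← pow_mul, mul_comm]
  rw [hsp] at hM hb
  set z' := sb w z g with hz'
  set ζ := sb (w ^ p) ξ (P g) with hζ
  have hPz' : P z' = ζ := P_sb D hz (one_add_ne hwg) hne
  have hwF : w ∈ F := hEF D.w_mem
  have hPgF : P g ∈ F := D.map_mem hEF hg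
  have hζF : ζ ∈ F := sb_mem (F.pow_mem hwF _) hξ hPgF
  have hζn : ‖ζ * s ^ p‖ = 1 := by
    rw [hζ, norm_mul, norm_sb hPg, ← norm_mul]
    exact hM
  have hwζ : ‖w ^ p * ζ‖ < 1 := by
    rw [hζ, norm_mul, norm_sb hPg, ← norm_mul, mul_sub]
    exact norm_sub_lt' hwξ hPg
  have hwz' : ‖w * z'‖ < 1 := norm_wz D hp hpn (by rwa [hPz'])
  -- the polynomial of `z' * s`
  have hqd : (Q - C ζ).natDegree = p := by
    rw [natDegree_sub_C, D.deg]
  have hQm : (Q - C ζ).Monic := by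
    apply D.monic.sub_of_left
    refine degree_C_le.trans_lt ?_
    rw [degree_eq_natDegree D.monic.ne_zero, D.deg]
    exact_mod_cast hp.pos
  set f := scaleRoots (Q - C ζ) s with hf
  have hfm : f.Monic := (monic_scaleRoots_iff s).2 hQm
  have hfd : f.natDegree = p := by rw [hf, natDegree_scaleRoots, hqd]
  have hfi : IntC F f := by
    intro i
    rw [hf, coeff_scaleRoots, hqd, coeff_sub, coeff_C]
    have h1 := D.int i
    refine ⟨F.mul_mem (F.sub_mem (hEF h1.1) (by split_ifs; exacts [hζF, F.zero_mem]))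
      (F.pow_mem hsF _), ?_⟩
    rw [sub_mul]
    apply norm_sub_le'
    · rw [norm_mul, norm_pow]
      exact mul_le_one₀ h1.2 (pow_nonneg (norm_nonneg _) _) (pow_le_one₀ (norm_nonneg _) hs1.le)
    · split_ifs with h
      · rw [h, Nat.sub_zero]; exact hζn.le
      · rw [zero_mul, norm_zero]; exact zero_le_one
  have hfz : f.eval (s * z') = 0 := by
    have h1 : eval₂ (RingHom.id Ω) z' (Q - C ζ) = 0 := by
      rw [eval₂_id, eval_sub, eval_C, D.eval_eq, hPz', sub_self]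
    have h2 := scaleRoots_eval₂_eq_zero (RingHom.id Ω) (s := s) h1
    rwa [eval₂_id] at h2
  have hz''1 : ‖s * z'‖ ≤ 1 := norm_root_le hfm (fun i => (hfi i).2) hfz
  have key : NormLe F (F ⊔ Subfield.closure {s * z'}) := by
    refine fierce hp hpn hz''1 (u := ζ * s ^ p) (F.mul_mem hζF (F.pow_mem hsF _)) ?_ ?_ hfm
      (fun i => (hfi i).1) hfd.le hfz
    · have e : (s * z') ^ p - ζ * s ^ p = -((P z' - z' ^ p) * s ^ p) := by
        rw [hPz', mul_pow]; ring
      rw [e, norm_neg, norm_mul, norm_pow]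
      have hp1 : p = (p - 1) + 1 := (Nat.sub_add_cancel hp.one_le).symm
      have hp2 : p - 1 ≠ 0 := by have := hp.two_le; omega
      calc ‖P z' - z' ^ p‖ * ‖s‖ ^ p ≤ ‖z'‖ * ‖s‖ ^ p :=
            mul_le_mul_of_nonneg_right (D.data.approx_le hp hwz') (pow_nonneg (norm_nonneg _) _)
        _ = ‖s * z'‖ * ‖s‖ ^ (p - 1) := by
            conv_lhs => rw [hp1]
            rw [norm_mul, pow_succ]; ring
        _ < 1 := mul_lt_one_of_nonneg_of_lt_one_right hz''1 (pow_nonneg (norm_nonneg _) _)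
            (pow_lt_one₀ (norm_nonneg _) hs1 hp2)
    · intro b hbF
      have h1 := hb b hbF
      by_contra h2
      push Not at h2
      have e1 : ξ - P g = ζ * (1 + w ^ p * P g) := by
        rw [hζ]; unfold EppRaw.sb
        rw [div_mul_cancel₀ _ hne]
      have e : (ξ - P g) * s ^ p - b ^ p = (ζ * s ^ p - b ^ p) + (ζ * s ^ p) * (w ^ p * P g) := by
        rw [e1]; ring
      rw [e] at h1
      apply absurd h1 (not_le.mpr _)
      apply norm_add_lt' h2
      rw [norm_mul, hζn, one_mul]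
      exact hPg
  refine key.mono le_rfl (sup_le_of ?_)
  have h1 : z = ad w z' g := (ad_sb hwg).symm
  rw [h1]
  have hle : F ≤ F ⊔ Subfield.closure {s * z'} := le_sup_left
  refine ad_mem (hle hwF) ?_ (hle hg)
  have h2 : (s * z') / s ∈ F ⊔ Subfield.closure {s * z'} := Subfield.div_mem _ mem_adj (hle hsF)
  rwa [mul_div_cancel_left₀ _ hs0] at h2

theorem etale_case [IsAlgClosed Ω] (D : PPoly p E w P Q) (hp : p.Prime) {F : Subfield Ω}
    (hF : IsComplete (F : Set Ω)) (h0 : ∃ π ∈ F, 0 < ‖π‖ ∧ ‖π‖ < 1) (hEF : E ≤ F)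
    {ξ g y η : Ω} (hξ : ξ ∈ F) (hg : g ∈ F) (hwg : ‖w * g‖ < 1) (hy : y ∈ F) (hPy : P y = η)
    (hη : ‖w ^ p * η‖ < 1) (h : ‖sb (w ^ p) ξ η - P g‖ ≤ 1) {z : Ω} (hz : P z = ξ) :
    NormLe F (F ⊔ Subfield.closure {z}) := by
  have hwF : w ∈ F := hEF D.w_mem
  have hPg := D.data.norm_one_add_sub_one hp hwg
  have hy1 : 1 + w ^ p * P y ≠ 0 := by rw [hPy]; exact one_add_ne hη
  have hy0 : 1 + w * y ≠ 0 := by
    intro h1
    rw [D.data.one_add, h1, zero_pow hp.ne_zero] at hy1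
    exact hy1 rfl
  set z₁ := sb w z y with hz₁
  have h1 : P z₁ = sb (w ^ p) ξ η := by rw [← hPy]; exact P_sb D hz hy0 hy1
  set z₂ := sb w z₁ g with hz₂
  set β := sb (w ^ p) (sb (w ^ p) ξ η) (P g) with hβ
  have h2 : P z₂ = β := P_sb D h1 (one_add_ne hwg) (one_add_ne hPg)
  have hβ1 : ‖β‖ ≤ 1 := by rw [hβ, norm_sb hPg]; exact h
  have hηF : η ∈ F := by rw [← hPy]; exact D.map_mem hEF hy
  have hPgF : P g ∈ F := D.map_mem hEF hg
  have hβF : β ∈ F := sb_mem (F.pow_mem hwF _) (sb_mem (F.pow_mem hwF _) hξ hηF) hPgF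
  have hQm : (Q - C β).Monic := by
    apply D.monic.sub_of_left
    refine degree_C_le.trans_lt ?_
    rw [degree_eq_natDegree D.monic.ne_zero, D.deg]
    exact_mod_cast hp.pos
  have hQi : IntC F (Q - C β) := by
    intro i
    rw [coeff_sub, coeff_C]
    have h1 := D.int i
    refine ⟨F.sub_mem (hEF h1.1) (by split_ifs; exacts [hβF, F.zero_mem]), ?_⟩
    apply norm_sub_le' h1.2
    split_ifs
    · exact hβ1
    · rw [norm_zero]; exact zero_le_one
  have hQz : (Q - C β).eval z₂ = 0 := by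
    rw [eval_sub, eval_C, D.eval_eq, h2, sub_self]
  have hz₂1 : ‖z₂‖ ≤ 1 := norm_root_le hQm (fun i => (hQi i).2) hQz
  have hd : ‖(derivative (Q - C β)).eval z₂‖ = 1 := by
    rw [derivative_sub, derivative_C, sub_zero]
    exact D.deriv z₂ hz₂1
  have key := etale hF h0 hQm hQi hQz hd
  refine key.mono le_rfl (sup_le_of ?_)
  have e1 : z = ad w z₁ y := (ad_sb_of_ne hy0).symm
  have e2 : z₁ = ad w z₂ g := (ad_sb hwg).symm
  have hle : F ≤ F ⊔ Subfield.closure {z₂} := le_sup_left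
  rw [e1, e2]
  exact ad_mem (hle hwF) (ad_mem (hle hwF) mem_adj (hle hg)) (hle hy)

/-- The core. -/
theorem core [IsAlgClosed Ω] (hp : p.Prime) {F : Subfield Ω} (h : Pair p E F) (D : PPoly p E w P Q)
    (z : Ω) (hz : P z ∈ F) (hwz : ‖w ^ p * P z‖ < 1) :
    ∃ E₁ : Subfield Ω, FinExt E E₁ ∧ NormLe E₁ (E₁ ⊔ F ⊔ Subfield.closure {z}) := by
  classical
  obtain ⟨π₀, hπ₀, hdisc⟩ := h.disc
  obtain ⟨π, rfl, hπ⟩ := exists_seq hp π₀
  have hb := pi_bounds hp hdisc.1 hdisc.2.1 hπ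
  set ξ := P z with hξ
  have hTF := tower hp (h.le hπ₀) hdisc hπ
  set H := hat E F with hH
  have hEH : E ≤ H := le_hat h.le
  have hHF : H ≤ F := hat_le
  have hTH := tower hp (hEH hπ₀) (⟨hdisc.1, hdisc.2.1, fun x hx => hdisc.2.2 x (hHF hx)⟩ : Disc H (π 0)) hπ
  have hdE : Disc E (π 0) := ⟨hdisc.1, hdisc.2.1, fun x hx => hdisc.2.2 x (h.le hx)⟩
  have hFn : ∀ n, F ≤ F ⊔ Subfield.closure {π n} := fun n => le_sup_left
  have halgπ : ∀ n, IsAlgebraic E (π n) := by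
    intro n
    have h1 : π n ^ p ^ n = π 0 := by
      have := hTF.pi_pow_pow 0 n
      rwa [zero_add] at this
    have h2 : IsAlgebraic E (π n ^ p ^ n) := by
      rw [h1]
      exact (isAlgebraic_algebraMap (⟨π 0, hπ₀⟩ : E) : IsAlgebraic E (algebraMap E Ω ⟨π 0, hπ₀⟩))
    exact h2.of_pow (pow_pos hp.pos n)
  by_cases hA : ∃ n, ¬ NF p w P (π n) (F ⊔ Subfield.closure {π n}) ξ
  · -- fierce at some level
    obtain ⟨n, hn⟩ := hA
    have h1 := fierce_case D hp h.norm_p_lt (h.le.trans (hFn n)) (pi_mem n) (hb n).1 (hb n).2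
      (hFn n hz) hwz hn rfl
    refine ⟨E ⊔ Subfield.closure {π n}, ⟨{π n}, by simpa using halgπ n, by simp⟩, ?_⟩
    have h2 : NormLe (E ⊔ Subfield.closure {π n}) (F ⊔ Subfield.closure {π n}) := by
      intro x hx
      by_cases hx0 : x = 0
      · exact ⟨0, Subfield.zero_mem _, by simp [hx0]⟩
      · obtain ⟨k, hk⟩ := hTF.val n x hx hx0
        exact ⟨π n ^ k, Subfield.zpow_mem _ mem_adj k, by rw [norm_zpow, hk]⟩
    refine (h2.trans h1).mono le_rfl ?_
    refine sup_le (sup_le ?_ ?_) ?_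
    · exact (sup_le_sup_right h.le _).trans le_sup_left
    · exact (hFn n).trans le_sup_left
    · exact le_sup_right
  · push Not at hA
    -- never fierce
    have hNm : ∃ N : ℕ, ‖w‖ ^ p < ‖π 0‖ ^ N ∧ ‖ξ * π 0 ^ N‖ ≤ 1 := by
      by_cases hξ1 : ‖ξ‖ ≤ 1
      · refine ⟨0, ?_, by simpa using hξ1⟩
        rw [pow_zero]
        exact pow_lt_one₀ (norm_nonneg _) D.data.norm_w hp.ne_zero
      · push Not at hξ1
        have hξ0 : ξ ≠ 0 := by
          rw [← norm_pos_iff]; exact one_pos.trans hξ1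
        obtain ⟨k, hk⟩ := hdisc.2.2 ξ hz hξ0
        have hk0 : k < 0 := by
          by_contra hk0
          push Not at hk0
          obtain ⟨m, rfl⟩ := Int.eq_ofNat_of_zero_le hk0
          rw [hk, zpow_natCast] at hξ1
          exact absurd hξ1 (not_lt.mpr (pow_le_one₀ (norm_nonneg _) hdisc.2.1.le))
        obtain ⟨m, hm⟩ := Int.eq_ofNat_of_zero_le (show 0 ≤ -k by omega)
        have hk' : ‖ξ‖ * ‖π 0‖ ^ m = 1 := by
          rw [hk, ← zpow_natCast, ← zpow_add₀ hdisc.1.ne']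
          have : k + (m : ℤ) = 0 := by omega
          rw [this, zpow_zero]
        refine ⟨m, ?_, by rw [norm_mul, norm_pow, hk']⟩
        rw [norm_mul, norm_pow, mul_comm] at hwz
        have h3 : ‖ξ‖ * ‖w‖ ^ p < ‖ξ‖ * ‖π 0‖ ^ m := by rw [hk']; exact hwz
        exact lt_of_mul_lt_mul_left h3 (norm_nonneg _)
    obtain ⟨N, hN1, hN2⟩ := hNm
    have hz0 : F ⊔ Subfield.closure {π 0} = F := zero_eq (h.le hπ₀)
    have hz0' : H ⊔ Subfield.closure {π 0} = H := zero_eq (hEH hπ₀)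
    obtain ⟨n, -, η, hη, hwη, g, hg, hwg, hfin⟩ := EppRaw.main D.data hTF hTH hp
      (fun n => sup_le_sup_right hHF _) (by
        show w ∈ H ⊔ Subfield.closure {π 0}
        rw [hz0']; exact hEH D.w_mem)
      (fun n x hx => D.map_mem (h.le.trans (hFn n)) hx)
      (fun n x hx => D.map_mem (hEH.trans le_sup_left) hx)
      (by
        show ∀ a ∈ H ⊔ Subfield.closure {π 0}, ‖a‖ ≤ 1 → ∃ b ∈ H ⊔ Subfield.closure {π 0}, ‖a - b ^ p‖ < 1
        rw [hz0']; exact hat_perfect hp h)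
      (by
        show ∀ x ∈ F ⊔ Subfield.closure {π 0}, ‖x‖ ≤ 1 →
          (∀ n : ℕ, ∃ b ∈ F ⊔ Subfield.closure {π 0}, ‖x - b ^ p ^ n‖ < 1) →
          ∃ a ∈ H ⊔ Subfield.closure {π 0}, ‖x - a‖ < 1
        rw [hz0', hz0]; exact hat_epp hp h)
      N 0 ξ (by show ξ ∈ F ⊔ Subfield.closure {π 0}; rw [hz0]; exact hz) hN1 hN2 (fun n _ => hA n)
    -- a root of `P y = η`
    have hQη : ∃ y, P y = η := by
      have h1 : (Q - C η).degree ≠ 0 := by
        rw [degree_sub_C (by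
          rw [degree_eq_natDegree D.monic.ne_zero, D.deg]; exact_mod_cast hp.pos)]
        rw [degree_eq_natDegree D.monic.ne_zero, D.deg]
        exact_mod_cast hp.ne_zero
      obtain ⟨y, hy⟩ := IsAlgClosed.exists_root _ h1
      refine ⟨y, ?_⟩
      rw [IsRoot, eval_sub, eval_C, D.eval_eq, sub_eq_zero] at hy
      exact hy
    obtain ⟨y, hy⟩ := hQη
    have hηalg : IsAlgebraic E η := by
      have h1 : ∀ x ∈ H ⊔ Subfield.closure {π n}, IsAlgebraic E x := by
        have h2 : H ⊔ Subfield.closure {π n} ≤ (algebraicClosure E Ω).toSubfield := by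
          refine sup_le (inf_le_right) (closure_singleton_le ?_)
          rw [IntermediateField.mem_toSubfield, mem_algebraicClosure_iff]
          exact halgπ n
        intro x hx
        have h3 := h2 hx
        rwa [IntermediateField.mem_toSubfield, mem_algebraicClosure_iff] at h3
      exact h1 η hη
    have hyalg : IsAlgebraic E y := by
      set E' := E ⊔ Subfield.closure {η} with hE'
      have h1 : ∀ x ∈ E', IsAlgebraic E x := by
        intro x hx
        exact mem_closure_algebraic (S := {η}) (by simpa using hηalg) x hx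
      apply isAlgebraic_trans (le_sup_left : E ≤ E') h1
      have hlift : (Q - C η) ∈ Polynomial.lifts (algebraMap E' Ω) := by
        rw [Polynomial.lifts_iff_coeff_lifts]
        intro n
        refine ⟨⟨(Q - C η).coeff n, ?_⟩, rfl⟩
        rw [coeff_sub, coeff_C]
        refine E'.sub_mem ((le_sup_left : E ≤ E') (D.int n).1) ?_
        split_ifs
        exacts [mem_adj, E'.zero_mem]
      obtain ⟨G, hG⟩ := (Polynomial.mem_lifts _).1 hlift
      refine ⟨G, ?_, ?_⟩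
      · rintro rfl
        rw [Polynomial.map_zero] at hG
        have : (Q - C η).degree = ⊥ := by rw [← hG]; exact degree_zero
        rw [degree_sub_C (by
          rw [degree_eq_natDegree D.monic.ne_zero, D.deg]; exact_mod_cast hp.pos),
          degree_eq_bot] at this
        exact D.monic.ne_zero this
      · rw [aeval_def, ← eval_map, hG, eval_sub, eval_C, D.eval_eq, hy, sub_self]
    set E₁ := E ⊔ Subfield.closure ({π n, η, y} : Finset Ω) with hE₁
    have hfin₁ : FinExt E E₁ := by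
      refine ⟨{π n, η, y}, ?_, rfl⟩
      intro s hs
      simp only [Finset.mem_insert, Finset.mem_singleton] at hs
      rcases hs with rfl | rfl | rfl
      exacts [halgπ n, hηalg, hyalg]
    have hsub : ∀ s : Ω, s ∈ ({π n, η, y} : Finset Ω) → s ∈ E₁ := fun s hs =>
      (le_sup_right : Subfield.closure (({π n, η, y} : Finset Ω) : Set Ω) ≤ E₁)
        (Subfield.subset_closure (Finset.mem_coe.2 hs))
    have hpair := pair_up hp h hfin₁
    have hle : F ⊔ Subfield.closure {π n} ≤ F ⊔ E₁ :=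
      sup_le le_sup_left ((closure_singleton_le (hsub _ (by simp))).trans le_sup_right)
    have h1 : NormLe (F ⊔ E₁) ((F ⊔ E₁) ⊔ Subfield.closure {z}) := by
      obtain ⟨ϖ, hϖ, hϖ0, hϖ1, -⟩ := hpair.disc
      refine etale_case D hp hpair.completeF ⟨ϖ, hpair.le hϖ, hϖ0, hϖ1⟩
        (h.le.trans le_sup_left) (ξ := ξ) (g := g) (y := y) (η := η) ?_ (hle hg) hwg ?_ hy hwη hfin rfl
      · exact (le_sup_left : F ≤ F ⊔ E₁) hz
      · exact (le_sup_right : E₁ ≤ F ⊔ E₁) (hsub _ (by simp))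
    refine ⟨E₁, hfin₁, (hpair.normLe.trans h1).mono le_rfl ?_⟩
    rw [sup_comm E₁ F]

/-- The Artin-Schreier case. -/
theorem artinSchreier [IsAlgClosed Ω] (hp : p.Prime) {F : Subfield Ω} (h : Pair p E F)
    (h0 : (p : Ω) = 0) (z : Ω) (hz : z ^ p - z ∈ F) :
    ∃ E₁ : Subfield Ω, FinExt E E₁ ∧ NormLe E₁ (E₁ ⊔ F ⊔ Subfield.closure {z}) := by
  refine core hp h (EppPData.artinSchreier hp h0 E) z hz ?_
  rw [zero_pow hp.ne_zero, zero_mul, norm_zero]
  exact one_pos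

/-- The Kummer case, for a unit close to `1`. -/
theorem kummer [IsAlgClosed Ω] (hp : p.Prime) {F : Subfield Ω} (h : Pair p E F) {ζ : Ω}
    (hζE : ζ ∈ E) (hζ : IsPrimitiveRoot ζ p) (z : Ω) (hz : z ^ p ∈ F) (hz1 : ‖z ^ p - 1‖ < 1) :
    ∃ E₁ : Subfield Ω, FinExt E E₁ ∧ NormLe E₁ (E₁ ⊔ F ⊔ Subfield.closure {z}) := by
  have hw0 := w_ne hp hζ
  have hwE : ζ - 1 ∈ E := E.sub_mem hζE E.one_mem
  have hD := EppPData.kummer hp h.norm_p_lt hζ hζE
  have h1 : kP p (ζ - 1) ((z - 1) / (ζ - 1)) = (z ^ p - 1) / (ζ - 1) ^ p := by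
    rw [kP, mul_div_cancel₀ _ hw0, add_sub_cancel]
  obtain ⟨E₁, hE₁, hn⟩ := core hp h hD ((z - 1) / (ζ - 1)) (by
    rw [h1]
    exact F.div_mem (F.sub_mem hz F.one_mem) (F.pow_mem (h.le hwE) _)) (by
    rw [h1, mul_div_cancel₀ _ (pow_ne_zero _ hw0)]
    exact hz1)
  refine ⟨E₁, hE₁, hn.mono le_rfl (sup_le le_sup_left (closure_singleton_le ?_))⟩
  have e : z = 1 + (ζ - 1) * ((z - 1) / (ζ - 1)) := by
    rw [mul_div_cancel₀ _ hw0]; ring
  have hle : F ≤ E₁ ⊔ F ⊔ Subfield.closure {(z - 1) / (ζ - 1)} := le_sup_right.trans le_sup_left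
  have h2 : 1 + (ζ - 1) * ((z - 1) / (ζ - 1)) ∈ E₁ ⊔ F ⊔ Subfield.closure {(z - 1) / (ζ - 1)} :=
    Subfield.add_mem _ (Subfield.one_mem _) (Subfield.mul_mem _ (hle (h.le hwE)) mem_adj)
  rwa [← e] at h2

end Groth.Agent.Etalg.EppStep
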