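import Groth.Agent.Etalg.EppFrame
import Groth.Agent.Etalg.EppAlg
import Mathlib.FieldTheory.Normal.Closure
import Mathlib.FieldTheory.SeparableClosure

/-!
Subfields of an algebraically closed field: comparison of `FinExt` with intermediate fields, and
base change of Galois extensions.
-/

set_option autoImplicit false
universe u

namespace Groth.Agent.Etalg.EppSub

open Polynomial EppFrame IntermediateField Module

variable {Ω : Type u} [NormedField Ω]

theorem adjoin_toSubfield (F : Subfield Ω) (S : Set Ω) :
    (IntermediateField.adjoin F S).toSubfield = F ⊔ Subfield.closure S := by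
  have h1 : Set.range (algebraMap F Ω) = (F : Set Ω) := by
    ext x; constructor
    · rintro ⟨y, rfl⟩; exact y.2
    · intro hx; exact ⟨⟨x, hx⟩, rfl⟩
  have : (IntermediateField.adjoin F S).toSubfield =
      Subfield.closure (Set.range (algebraMap F Ω) ∪ S) := rfl
  rw [this, h1, Subfield.closure_union, Subfield.closure_eq]

theorem mem_adjoin_iff (F : Subfield Ω) (S : Set Ω) (x : Ω) :
    x ∈ IntermediateField.adjoin F S ↔ x ∈ F ⊔ Subfield.closure S := by
  rw [← adjoin_toSubfield]; rfl

/-- A finite dimensional intermediate field is a finite extension. -/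
theorem finExt_toSubfield {F : Subfield Ω} (N : IntermediateField F Ω) [FiniteDimensional F N] :
    FinExt F N.toSubfield := by
  classical
  obtain ⟨s, hs⟩ := Module.Finite.fg_top (R := F) (M := N)
  have hS : IntermediateField.adjoin F (↑(s.image (algebraMap N Ω)) : Set Ω) = N := by
    apply le_antisymm
    · rw [IntermediateField.adjoin_le_iff]
      intro x hx
      rw [Finset.coe_image] at hx
      obtain ⟨y, -, rfl⟩ := hx
      exact y.2
    · intro x hx
      have h1 : (⟨x, hx⟩ : N) ∈ Submodule.span F (s : Set N) := by rw [hs]; trivial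
      have h2 : ∀ y : N, y ∈ Submodule.span F (s : Set N) →
          (y : Ω) ∈ IntermediateField.adjoin F (↑(s.image (algebraMap N Ω)) : Set Ω) := by
        intro y hy
        induction hy using Submodule.span_induction with
        | mem y hy =>
          apply IntermediateField.subset_adjoin
          rw [Finset.coe_image]
          exact ⟨y, hy, rfl⟩
        | zero => exact zero_mem _
        | add a b _ _ ha hb => exact add_mem ha hb
        | smul c a _ ha => exact (IntermediateField.adjoin F _).smul_mem ha
      exact h2 _ h1
  refine ⟨s.image (algebraMap N Ω), fun s hs ↦ ?_, ?_⟩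
  · have hsN : s ∈ N := by
      rw [← hS]; exact IntermediateField.subset_adjoin F _ hs
    have : IsIntegral F (⟨s, hsN⟩ : N) := IsIntegral.of_finite F _
    exact (isIntegral_algebraMap_iff (algebraMap N Ω).injective (x := (⟨s, hsN⟩ : N))).mpr this
      |>.isAlgebraic
  · rw [← adjoin_toSubfield, hS]

/-- A finite extension is a finite dimensional intermediate field. -/
theorem exists_intermediateField {F M : Subfield Ω} (h : FinExt F M) :
    ∃ N : IntermediateField F Ω, FiniteDimensional F N ∧ N.toSubfield = M := by
  obtain ⟨S, hS, rfl⟩ := h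
  refine ⟨IntermediateField.adjoin F (S : Set Ω), ?_, adjoin_toSubfield F S⟩
  exact IntermediateField.finiteDimensional_adjoin fun s hs ↦ (hS s hs).isIntegral

section BaseChange

variable [IsAlgClosed Ω]

/-- Base change of a finite Galois extension. -/
theorem bc_galois {F F' : Subfield Ω} (h : F ≤ F') (N : IntermediateField F Ω)
    [FiniteDimensional F N] [IsGalois F N] :
    ∃ N' : IntermediateField F' Ω, FiniteDimensional F' N' ∧ IsGalois F' N' ∧
      finrank F' N' ∣ finrank F N ∧ N'.toSubfield = F' ⊔ N.toSubfield := by
  let _ : Algebra F F' := (Subfield.inclusion h).toAlgebra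
  have hFF'Ω : IsScalarTower F F' Ω := IsScalarTower.of_algebraMap_eq fun _ ↦ rfl
  obtain ⟨T, hT₁, hT₂⟩ := IsGalois.is_separable_splitting_field F N
  let T' := T.map (algebraMap F F')
  have hT'sep : T'.Separable := hT₁.map
  have hroot : T'.rootSet Ω = T.rootSet Ω := by
    simp [Set.ext_iff, Polynomial.mem_rootSet', T', Polynomial.map_map,
      ← IsScalarTower.algebraMap_eq]
  have hNgen : IntermediateField.adjoin F (T.rootSet Ω) = N := by
    have hT₃ := isSplittingField_iff_intermediateField.mp hT₂
    have hT₄ := hT₃.2
    rw [← lift_inj, lift_adjoin, ← coe_val, hT₃.1.image_rootSet, lift_top] at hT₄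
    exact hT₄
  let N' : IntermediateField F' Ω := IntermediateField.adjoin F' (T'.rootSet Ω)
  have hsplit : (T'.map (algebraMap F' Ω)).Splits := IsAlgClosed.splits _
  have hsf : T'.IsSplittingField F' N' := IntermediateField.adjoin_rootSet_isSplittingField hsplit
  have hfd : FiniteDimensional F' N' := Polynomial.IsSplittingField.finiteDimensional N' T'
  have hgal : IsGalois F' N' := IsGalois.of_separable_splitting_field (p := T') hT'sep
  have hsub : N'.toSubfield = F' ⊔ N.toSubfield := by
    rw [adjoin_toSubfield, hroot, ← hNgen, adjoin_toSubfield, ← sup_assoc, sup_eq_left.mpr h]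
  have hle : N.toSubfield ≤ N'.toSubfield := by rw [hsub]; exact le_sup_right
  let _ : Algebra N N' := (Subfield.inclusion hle).toAlgebra
  let _ : Algebra F N' := ((algebraMap F' N').comp (algebraMap F F')).toAlgebra
  have t1 : IsScalarTower F F' N' := IsScalarTower.of_algebraMap_eq' rfl
  have t2 : IsScalarTower F N N' := IsScalarTower.of_algebraMap_eq fun _ ↦ rfl
  refine ⟨N', hfd, hgal, ?_, hsub⟩
  have hinj : Function.Injective (restrictRestrictAlgEquivMapHom F N F' N') := by
    refine (injective_iff_map_eq_one _).mpr fun φ hφ ↦ ?_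
    have h1 : ∀ x : N, φ (algebraMap N N' x) = algebraMap N N' x := by
      intro x
      have h3 : algebraMap N N' (restrictRestrictAlgEquivMapHom F N F' N' φ x) =
          φ (algebraMap N N' x) :=
        AlgEquiv.restrictNormal_commutes (MulSemiringAction.toAlgAut Gal(N'/F') F N' φ) N x
      rw [← h3, hφ]; rfl
    -- `φ` fixes the generators
    have h4 : ∀ y : N', φ y = y := by
      let S : Subfield N' := RingHom.eqLocusField (φ : N' →+* N') (RingHom.id N')
      have hS : F' ⊔ N.toSubfield ≤ S.map (algebraMap N' Ω) := by
        rw [sup_le_iff]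
        constructor
        · intro x hx
          exact ⟨algebraMap F' N' ⟨x, hx⟩, φ.commutes _, rfl⟩
        · intro x hx
          exact ⟨algebraMap N N' ⟨x, hx⟩, h1 ⟨x, hx⟩, rfl⟩
      intro y
      have hy : (y : Ω) ∈ F' ⊔ N.toSubfield := by rw [← hsub]; exact y.2
      obtain ⟨z, hz, hzy⟩ := hS hy
      have : z = y := Subtype.ext hzy
      rw [← this]
      exact hz
    ext y
    exact congrArg Subtype.val (h4 y)
  rw [← IsGalois.card_aut_eq_finrank, ← IsGalois.card_aut_eq_finrank]
  exact Subgroup.card_dvd_of_injective _ hinj

end BaseChange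

end Groth.Agent.Etalg.EppSub
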