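import Groth.Agent.Etalg.EppSub

/-!
Galois extensions inside `Ω` as a relation between subfields, with degrees.
-/

set_option autoImplicit false
universe u

namespace Groth.Agent.Etalg.EppSub2

open Polynomial EppFrame IntermediateField Module EppSub

variable {Ω : Type u} [NormedField Ω]

/-- `N/F` is a finite Galois extension of degree `n` inside `Ω`. -/
def IsGal (F N : Subfield Ω) (n : ℕ) : Prop :=
  ∃ N₁ : IntermediateField F Ω, N₁.toSubfield = N ∧ FiniteDimensional F N₁ ∧ IsGalois F N₁ ∧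
    finrank F N₁ = n

/-- `N/F` is a finite extension of degree `n` inside `Ω`. -/
def IsFin (F N : Subfield Ω) (n : ℕ) : Prop :=
  ∃ N₁ : IntermediateField F Ω, N₁.toSubfield = N ∧ FiniteDimensional F N₁ ∧
    finrank F N₁ = n

theorem IsGal.isFin {F N : Subfield Ω} {n : ℕ} (h : IsGal F N n) : IsFin F N n := by
  obtain ⟨N₁, h1, h2, h3, h4⟩ := h
  exact ⟨N₁, h1, h2, h4⟩

theorem IsFin.finExt {F N : Subfield Ω} {n : ℕ} (h : IsFin F N n) : FinExt F N := by
  obtain ⟨N₁, rfl, h2, h4⟩ := h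
  exact finExt_toSubfield N₁

theorem IsGal.finExt {F N : Subfield Ω} {n : ℕ} (h : IsGal F N n) : FinExt F N := h.isFin.finExt

theorem exists_isFin {F N : Subfield Ω} (h : FinExt F N) : ∃ n, IsFin F N n := by
  obtain ⟨N₁, h1, rfl⟩ := exists_intermediateField h
  exact ⟨_, N₁, rfl, h1, rfl⟩

theorem IsFin.pos {F N : Subfield Ω} {n : ℕ} (h : IsFin F N n) : 0 < n := by
  obtain ⟨N₁, rfl, h2, rfl⟩ := h
  exact finrank_pos

theorem IsGal.bc [IsAlgClosed Ω] {F F' N : Subfield Ω} {n : ℕ} (h : IsGal F N n) (hF : F ≤ F') :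
    ∃ m, m ∣ n ∧ IsGal F' (F' ⊔ N) m := by
  obtain ⟨N₁, rfl, h2, h3, rfl⟩ := h
  obtain ⟨N', h5, h6, h7, h8⟩ := bc_galois hF N₁
  exact ⟨_, h7, N', h8, h5, h6, rfl⟩

/-- Data of a subextension of a Galois extension. -/
theorem exists_sub {F : Subfield Ω} (N : IntermediateField F Ω) [FiniteDimensional F N]
    [IsGalois F N] (G : IntermediateField F N) :
    IsFin F (lift G).toSubfield (finrank F G) ∧ (lift G).toSubfield ≤ N.toSubfield ∧
    IsGal (lift G).toSubfield N.toSubfield (finrank G N) ∧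
    (IsGalois F G → IsGal F (lift G).toSubfield (finrank F G)) := by
  let e1 : G ≃ₐ[F] (lift G) := liftAlgEquiv G
  have hfd : FiniteDimensional F (lift G) := e1.toLinearEquiv.finiteDimensional
  have hr : finrank F (lift G) = finrank F G := e1.toLinearEquiv.finrank_eq.symm
  have hle : (lift G).toSubfield ≤ N.toSubfield := IntermediateField.lift_le G
  refine ⟨⟨lift G, rfl, hfd, hr⟩, hle, ?_, fun hG ↦ ⟨lift G, rfl, hfd, IsGalois.of_algEquiv e1, hr⟩⟩
  let N₁ : IntermediateField (lift G).toSubfield Ω := Subfield.extendScalars hle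
  let f : G ≃+* (lift G).toSubfield := (e1 : G ≃+* lift G)
  let g : N ≃+* N₁ := RingEquiv.refl _
  have hcomp : RingHom.comp (algebraMap (lift G).toSubfield N₁) ↑f = RingHom.comp ↑g (algebraMap G N) := by
    refine RingHom.ext fun x ↦ Subtype.ext ?_
    have h1 : ((f x : (lift G).toSubfield) : Ω) = ((x : N) : Ω) := rfl
    have h2 : ((g (algebraMap G N x) : N₁) : Ω) = ((x : N) : Ω) := rfl
    have h3 : ((algebraMap (lift G).toSubfield N₁ (f x) : N₁) : Ω) =
      ((f x : (lift G).toSubfield) : Ω) := rfl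
    rw [RingHom.comp_apply, RingHom.comp_apply]
    exact h3.trans (h1.trans h2.symm)
  have hgal : IsGalois (lift G).toSubfield N₁ := IsGalois.of_equiv_equiv hcomp
  have hfr : finrank G N = finrank (lift G).toSubfield N₁ :=
    Algebra.finrank_eq_of_equiv_equiv f g hcomp
  refine ⟨N₁, rfl, ?_, hgal, hfr.symm⟩
  refine FiniteDimensional.of_finrank_pos ?_
  rw [← hfr]
  exact finrank_pos

/-- A Galois extension of degree `p^(n+1)` has a Galois subextension of degree `p`. -/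
theorem IsGal.exists_degree_p {F N : Subfield Ω} {p n : ℕ} (hp : p.Prime)
    (h : IsGal F N (p ^ (n + 1))) : ∃ F₁, IsGal F F₁ p ∧ F₁ ≤ N ∧ IsGal F₁ N (p ^ n) := by
  have : Fact p.Prime := ⟨hp⟩
  obtain ⟨N₁, rfl, h2, h3, h4⟩ := h
  obtain ⟨G, hG1, hG2, hG3⟩ := EppAlg.exists_degree_p p n h4
  obtain ⟨-, h5, h6, h7⟩ := exists_sub N₁ G
  refine ⟨_, ?_, h5, ?_⟩
  · rw [← hG1]; exact h7 hG2
  · rw [← hG3]; exact h6

/-- Sylow subextension. -/
theorem IsGal.exists_sylow {F N : Subfield Ω} {p n : ℕ} (hp : p.Prime)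
    (h : IsGal F N n) : ∃ F' d k, IsFin F F' d ∧ Nat.Coprime p d ∧ F' ≤ N ∧ IsGal F' N (p ^ k) := by
  have : Fact p.Prime := ⟨hp⟩
  obtain ⟨N₁, rfl, h2, h3, h4⟩ := h
  obtain ⟨G, hG1, k, hG2⟩ := EppAlg.exists_sylow_field (K := F) (L := N₁) p
  obtain ⟨h5, h6, h7, -⟩ := exists_sub N₁ G
  refine ⟨_, _, k, h5, hG1, h6, ?_⟩
  rw [← hG2]; exact h7

theorem charP_of_cast_eq_zero {p : ℕ} (hp : p.Prime) (h0 : (p : Ω) = 0) : CharP Ω p := by
  obtain ⟨q, hq⟩ := CharP.exists Ω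
  have h1 : q ∣ p := (CharP.cast_eq_zero_iff Ω q p).mp h0
  rcases (Nat.dvd_prime hp).mp h1 with rfl | rfl
  · exact (CharP.char_ne_one Ω 1 rfl).elim
  · exact hq

theorem sup_closure_eq_of_adjoin {F : Subfield Ω} (N : IntermediateField F Ω) (z : N)
    (h : F⟮z⟯ = ⊤) : N.toSubfield = F ⊔ Subfield.closure {(z : Ω)} := by
  have h1 : lift F⟮z⟯ = N := by rw [h, lift_top]
  rw [lift_adjoin_simple] at h1
  rw [← EppSub.adjoin_toSubfield, h1]

/-- Artin-Schreier generator. -/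
theorem IsGal.exists_artinSchreier {F N : Subfield Ω} {p : ℕ} (hp : p.Prime) (h0 : (p : Ω) = 0)
    (h : IsGal F N p) : ∃ z : Ω, z ^ p - z ∈ F ∧ N = F ⊔ Subfield.closure {z} := by
  have : Fact p.Prime := ⟨hp⟩
  have hchar : CharP Ω p := charP_of_cast_eq_zero hp h0
  have hcharF : CharP F p := (algebraMap F Ω).charP (algebraMap F Ω).injective p
  obtain ⟨N₁, rfl, h2, h3, h4⟩ := h
  obtain ⟨z, ⟨a, ha⟩, hz⟩ := EppAlg.exists_artinSchreier (K := F) (L := N₁) p h4
  refine ⟨z, ?_, sup_closure_eq_of_adjoin N₁ z ?_⟩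
  · have h5 : ((z ^ p - z : N₁) : Ω) = (a : Ω) := by rw [← ha]; rfl
    have h6 : (z : Ω) ^ p - (z : Ω) = (a : Ω) := by rw [← h5]; simp
    rw [h6]; exact a.2
  · have hprime : (finrank F N₁).Prime := by rw [h4]; exact hp
    rcases IntermediateField.isSimpleOrder_of_finrank_prime F N₁ hprime |>.eq_bot_or_eq_top F⟮z⟯ with h5 | h5
    · exfalso
      apply hz
      rw [IntermediateField.adjoin_simple_eq_bot_iff] at h5
      exact IntermediateField.mem_bot.mp h5
    · exact h5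

/-- Kummer generator. -/
theorem IsGal.exists_kummer {F N : Subfield Ω} {p : ℕ} (hp : p.Prime) {ζ : Ω} (hζF : ζ ∈ F)
    (hζ : IsPrimitiveRoot ζ p)
    (h : IsGal F N p) : ∃ z : Ω, z ^ p ∈ F ∧ N = F ⊔ Subfield.closure {z} := by
  have : Fact p.Prime := ⟨hp⟩
  have hζ' : IsPrimitiveRoot (⟨ζ, hζF⟩ : F) p :=
    IsPrimitiveRoot.of_map_of_injective (f := algebraMap F Ω) hζ (algebraMap F Ω).injective
  obtain ⟨N₁, rfl, h2, h3, h4⟩ := h
  obtain ⟨z, ⟨a, ha⟩, hz⟩ := EppAlg.exists_kummer (K := F) (L := N₁) p hζ' h4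
  refine ⟨z, ?_, sup_closure_eq_of_adjoin N₁ z hz⟩
  have h5 : ((z ^ p : N₁) : Ω) = (a : Ω) := by rw [← ha]; rfl
  have h6 : (z : Ω) ^ p = (a : Ω) := by rw [← h5]; simp
  rw [h6]; exact a.2

end Groth.Agent.Etalg.EppSub2
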