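import Groth.Agent.Etalg.EppDeg0
import Groth.Agent.Etalg.EppStep

/-!
# Epp's theorem: the dévissage
-/

set_option autoImplicit false
universe u

namespace Groth.Agent.Etalg.EppTower

open EppFrame

variable {Ω : Type u} [NormedField Ω] [IsUltrametricDist Ω] [IsAlgClosed Ω]

/-- degree p step. -/
theorem degree_p {p : ℕ} (hp : p.Prime) {E F : Subfield Ω} (h : Pair p E F) (z : Ω)
    (hz : (z ^ p ∈ F ∧ ((p : Ω) = 0 ∨ ∃ ζ ∈ E, IsPrimitiveRoot ζ p)) ∨ ((p : Ω) = 0 ∧ z ^ p - z ∈ F)) :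
    ∃ E₁ : Subfield Ω, FinExt E E₁ ∧ NormLe E₁ (E₁ ⊔ F ⊔ Subfield.closure {z}) :=
  EppDeg0.degree_p hp (fun h h0 z hz ↦ EppStep.artinSchreier hp h h0 z hz)
    (fun h _ hζE hζ z hz hz1 ↦ EppStep.kummer hp h hζE hζ z hz hz1) h z hz

/-- **The dévissage**: every finite extension `M` of `F` becomes weakly unramified over a finite
extension of `E`. -/
theorem tower {p : ℕ} (hp : p.Prime) {E F M : Subfield Ω} (h : Pair p E F) (hM : FinExt F M) :
    ∃ E₁ : Subfield Ω, FinExt E E₁ ∧ NormLe E₁ (E₁ ⊔ M) :=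
  EppDeg0.tower hp (fun h h0 z hz ↦ EppStep.artinSchreier hp h h0 z hz)
    (fun h _ hζE hζ z hz hz1 ↦ EppStep.kummer hp h hζE hζ z hz hz1) h hM

end Groth.Agent.Etalg.EppTower
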