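import Groth.Agent.Etalg.EppSub2
import Groth.Agent.Etalg.EppNorm
import Mathlib.RingTheory.RootsOfUnity.AlgebraicallyClosed
import Mathlib.RingTheory.RootsOfUnity.EnoughRootsOfUnity
import Mathlib.FieldTheory.PurelyInseparable.PerfectClosure

/-!
# Epp's theorem: from degree `p` to arbitrary finite extensions

Relative to the four inputs `complete_of_finExt`, `pair_up`, `pair_fin`, `degree_p` (structure `Hyp`).
-/

set_option autoImplicit false
set_option linter.unusedSectionVars false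
universe u

namespace Groth.Agent.Etalg.EppTower0

open Polynomial EppFrame EppSub2 EppNorm

variable {Ω : Type u} [NormedField Ω] [IsUltrametricDist Ω] [IsAlgClosed Ω]

variable (Ω) in
/-- The inputs of the dévissage. -/
structure Hyp (p : ℕ) : Prop where
  complete : ∀ {F F₁ : Subfield Ω}, IsComplete (F : Set Ω) → (∃ π ∈ F, 0 < ‖π‖ ∧ ‖π‖ < 1) →
    FinExt F F₁ → IsComplete (F₁ : Set Ω)
  up : ∀ {E F E₁ : Subfield Ω}, Pair p E F → FinExt E E₁ → Pair p E₁ (F ⊔ E₁)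
  fin : ∀ {E F F₁ : Subfield Ω}, Pair p E F → FinExt F F₁ → NormLe E F₁ → Pair p E F₁
  deg : ∀ {E F : Subfield Ω}, Pair p E F → ∀ z : Ω,
    ((z ^ p ∈ F ∧ ((p : Ω) = 0 ∨ ∃ ζ ∈ E, IsPrimitiveRoot ζ p)) ∨ ((p : Ω) = 0 ∧ z ^ p - z ∈ F)) →
    ∃ E₁ : Subfield Ω, FinExt E E₁ ∧ NormLe E₁ (E₁ ⊔ F ⊔ Subfield.closure {z})

theorem Hyp.pass {p : ℕ} (H : Hyp Ω p) {E F M E₁ : Subfield Ω} (h : Pair p E F) (hM : FinExt F M)
    (h₁ : FinExt E E₁) (h₂ : NormLe E₁ (E₁ ⊔ M)) : Pair p E₁ (E₁ ⊔ M) := by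
  have h3 : Pair p E₁ (F ⊔ E₁) := H.up h h₁
  have h4 : FinExt (F ⊔ E₁) (E₁ ⊔ M) := by
    have := hM.sup E₁
    rwa [sup_comm E₁ F] at this
  exact H.fin h3 h4 h₂

theorem norm_minpoly_coeff {F : Subfield Ω} (hF : IsComplete (F : Set Ω))
    (h0 : ∃ π ∈ F, 0 < ‖π‖ ∧ ‖π‖ < 1) {x : Ω} (hx : IsAlgebraic F x) :
    ‖x‖ ^ (minpoly F x).natDegree = ‖((minpoly F x).coeff 0 : Ω)‖ := by
  let _ : NontriviallyNormedField F := {
    (inferInstance : NormedField F) with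
    non_trivial := by
      obtain ⟨π, hπ, hπ0, hπ1⟩ := h0
      refine ⟨⟨π, hπ⟩⁻¹, ?_⟩
      rw [norm_inv]
      exact (one_lt_inv₀ hπ0).mpr hπ1 }
  have : CompleteSpace F := hF.completeSpace_coe
  have : IsUltrametricDist F := ⟨fun x y z ↦ dist_triangle_max (x : Ω) y z⟩
  let _ : NormedAlgebra F Ω := { (inferInstance : Algebra F Ω) with
    norm_smul_le := fun r x ↦ by
      rw [Algebra.smul_def, norm_mul]; rfl }
  let A : IntermediateField F Ω := algebraicClosure F Ω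
  have hxA : x ∈ A := (mem_algebraicClosure_iff (F := F) (E := Ω)).2 hx
  have h1 : ‖(⟨x, hxA⟩ : A)‖ = spectralNorm F A ⟨x, hxA⟩ := NormedAlgebra.norm_eq_spectralNorm F _
  have hmin : minpoly F (⟨x, hxA⟩ : A) = minpoly F x :=
    (minpoly.algHom_eq A.val A.val.injective (⟨x, hxA⟩ : A)).symm
  have h2 := spectralNorm.spectralNorm_eq_norm_coeff_zero_rpow F A ⟨x, hxA⟩
  rw [← h1, hmin] at h2
  have h3 : ‖(⟨x, hxA⟩ : A)‖ = ‖x‖ := rfl
  have h4 : ‖(minpoly F x).coeff 0‖ = ‖((minpoly F x).coeff 0 : Ω)‖ := rfl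
  rw [h3, h4] at h2
  rw [h2, ← Real.rpow_natCast, ← Real.rpow_mul (norm_nonneg _)]
  have h5 : 0 < (minpoly F x).natDegree := minpoly.natDegree_pos hx.isIntegral
  rw [one_div, inv_mul_cancel₀ (by exact_mod_cast h5.ne'), Real.rpow_one]

/-- norms of elements of a finite extension -/
theorem exists_norm_pow_eq {F F' : Subfield Ω} {d : ℕ} (hF : IsComplete (F : Set Ω))
    (h0 : ∃ π ∈ F, 0 < ‖π‖ ∧ ‖π‖ < 1) (h : IsFin F F' d) {x : Ω} (hx : x ∈ F') :
    ∃ y ∈ F, ‖x‖ ^ d = ‖y‖ := by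
  obtain ⟨N, rfl, hfd, rfl⟩ := h
  have hxN : x ∈ N := hx
  have hint : IsIntegral F (⟨x, hxN⟩ : N) := IsIntegral.of_finite F _
  have hmin : minpoly F (⟨x, hxN⟩ : N) = minpoly F x :=
    (minpoly.algHom_eq N.val N.val.injective (⟨x, hxN⟩ : N)).symm
  have hdvd : (minpoly F x).natDegree ∣ Module.finrank F N := by
    rw [← hmin]; exact minpoly.degree_dvd hint
  obtain ⟨k, hk⟩ := hdvd
  refine ⟨((minpoly F x).coeff 0 : Ω) ^ k, F.pow_mem ((minpoly F x).coeff 0).2 k, ?_⟩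
  have halg : IsAlgebraic F x := by
    have : IsIntegral F x := by
      have := hint.map N.val
      exact this
    exact this.isAlgebraic
  rw [norm_pow, ← norm_minpoly_coeff hF h0 halg, ← pow_mul, ← hk]

/-- The tame step. -/
theorem tame {p : ℕ} (H : Hyp Ω p) {E F F' : Subfield Ω} {d : ℕ} (h : Pair p E F)
    (hF' : IsFin F F' d) (hd : Nat.Coprime p d) :
    ∃ E₁ : Subfield Ω, FinExt E E₁ ∧ NormLe E₁ (E₁ ⊔ F') := by
  obtain ⟨π, hπE, hπ0, hπ1, hπ⟩ := h.disc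
  have h0 : ∃ π ∈ F, 0 < ‖π‖ ∧ ‖π‖ < 1 := ⟨π, h.le hπE, hπ0, hπ1⟩
  have hc' : IsComplete (F' : Set Ω) := H.complete h.completeF h0 hF'.finExt
  have hFF' : F ≤ F' := hF'.finExt.le
  have hdpos := hF'.pos
  -- value group of `F'`
  have hval : ∀ x ∈ F', x ≠ 0 → ∃ k : ℤ, ‖x‖ ^ d = ‖π‖ ^ k := by
    intro x hx hx0
    obtain ⟨y, hy, hxy⟩ := exists_norm_pow_eq h.completeF h0 hF' hx
    have hy0 : y ≠ 0 := by
      rw [← norm_ne_zero_iff, ← hxy]
      exact pow_ne_zero _ (norm_ne_zero_iff.mpr hx0)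
    obtain ⟨k, hk⟩ := hπ y hy hy0
    exact ⟨k, hxy.trans hk⟩
  let G : AddSubgroup ℤ := {
    carrier := {k | ∃ x ∈ F', x ≠ 0 ∧ ‖x‖ ^ d = ‖π‖ ^ k}
    zero_mem' := ⟨1, F'.one_mem, one_ne_zero, by simp⟩
    add_mem' := by
      rintro a b ⟨x, hx, hx0, hxa⟩ ⟨y, hy, hy0, hyb⟩
      exact ⟨x * y, F'.mul_mem hx hy, mul_ne_zero hx0 hy0, by
        rw [norm_mul, mul_pow, hxa, hyb, zpow_add₀ hπ0.ne']⟩
    neg_mem' := by
      rintro a ⟨x, hx, hx0, hxa⟩
      exact ⟨x⁻¹, F'.inv_mem hx, inv_ne_zero hx0, by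
        rw [norm_inv, inv_pow, hxa, zpow_neg]⟩ }
  obtain ⟨a, ha⟩ := Int.subgroup_cyclic G
  have haG : a ∈ G := by rw [ha]; exact AddSubgroup.subset_closure rfl
  have hdG : (d : ℤ) ∈ G := ⟨π, hFF' (h.le hπE), fun h ↦ by rw [h, norm_zero] at hπ0; exact lt_irrefl _ hπ0,
    by rw [zpow_natCast]⟩
  have hmemG : ∀ k ∈ G, a ∣ k := by
    intro k hk
    rw [ha, AddSubgroup.mem_closure_singleton] at hk
    obtain ⟨n, hn⟩ := hk
    exact ⟨n, by rw [← hn, smul_eq_mul, mul_comm]⟩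
  -- the positive generator
  let a' : ℕ := a.natAbs
  have ha'G : (a' : ℤ) ∈ G := by
    rcases Int.natAbs_eq a with h | h
    · rw [h] at haG; exact haG
    · have : (a' : ℤ) = -a := by rw [h]; simp [a']
      rw [this]; exact G.neg_mem haG
  have hmemG' : ∀ k ∈ G, (a' : ℤ) ∣ k := fun k hk ↦ by
    simp only [a']; rw [Int.natAbs_dvd]; exact hmemG k hk
  obtain ⟨e, he⟩ : a' ∣ d := by exact_mod_cast hmemG' d hdG
  have he0 : 0 < e := Nat.pos_of_ne_zero fun h ↦ by rw [h, mul_zero] at he; exact hdpos.ne' he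
  have ha0 : 0 < a' := Nat.pos_of_ne_zero fun h ↦ by rw [h, zero_mul] at he; exact hdpos.ne' he
  obtain ⟨ϖ, hϖ, hϖ0, hϖa⟩ := ha'G
  have hϖe : ‖ϖ‖ ^ e = ‖π‖ := by
    have h1 : (‖ϖ‖ ^ e) ^ d = ‖π‖ ^ d := by
      rw [← pow_mul, mul_comm, pow_mul, hϖa, zpow_natCast, ← pow_mul, ← he]
    exact (pow_left_inj₀ (by positivity) (by positivity) hdpos.ne').mp h1
  have hϖall : ∀ x ∈ F', x ≠ 0 → ∃ n : ℤ, ‖x‖ = ‖ϖ‖ ^ n := by
    intro x hx hx0
    obtain ⟨k, hk⟩ := hval x hx hx0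
    obtain ⟨n, rfl⟩ := hmemG' k ⟨x, hx, hx0, hk⟩
    refine ⟨n, ?_⟩
    have h1 : ‖x‖ ^ d = (‖ϖ‖ ^ n) ^ d := by
      rw [hk, zpow_mul, ← hϖa, ← zpow_natCast, ← zpow_natCast, ← zpow_mul, ← zpow_mul, mul_comm]
    exact (pow_left_inj₀ (by positivity) (by positivity) hdpos.ne').mp h1
  -- adjoin an `e`-th root of `π`
  obtain ⟨y, hy⟩ := IsAlgClosed.exists_pow_nat_eq π he0
  have hyn : ‖y‖ = ‖ϖ‖ := by
    refine (pow_left_inj₀ (by positivity) (by positivity) he0.ne').mp ?_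
    rw [← norm_pow, hy, hϖe]
  have hπne : π ≠ 0 := norm_pos_iff.mp hπ0
  have hE₁ : FinExt E (E ⊔ Subfield.closure {y}) := by
    refine ⟨{y}, ?_, by simp⟩
    intro s hs
    rw [Finset.mem_singleton] at hs
    subst hs
    refine ⟨X ^ e - C ⟨π, hπE⟩, X_pow_sub_C_ne_zero he0 _, ?_⟩
    simp only [map_sub, map_pow, aeval_X, aeval_C, hy]
    exact sub_self _
  refine ⟨_, hE₁, ?_⟩
  let w : Ω := y / ϖ
  let u : Ω := π / ϖ ^ e
  have hwu : w ^ e = u := by simp only [w, u]; rw [div_pow, hy]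
  have huF : u ∈ F' := F'.div_mem (hFF' (h.le hπE)) (F'.pow_mem hϖ e)
  have hu1 : ‖u‖ = 1 := by
    simp only [u]; rw [norm_div, norm_pow, hϖe, div_self hπ0.ne']
  have hw1 : ‖w‖ = 1 := by
    simp only [w]; rw [norm_div, hyn, div_self (norm_ne_zero_iff.mpr hϖ0)]
  have het : NormLe F' (F' ⊔ Subfield.closure {w}) := by
    refine etale hc' ⟨π, hFF' (h.le hπE), hπ0, hπ1⟩ (f := X ^ e - C u) (monic_X_pow_sub_C u he0.ne') ?_ ?_ ?_
    · intro i
      simp only [coeff_sub, coeff_X_pow, coeff_C]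
      constructor
      · refine F'.sub_mem ?_ ?_ <;> split_ifs
        exacts [F'.one_mem, F'.zero_mem, huF, F'.zero_mem]
      · refine (norm_sub_le_max _ _).trans (max_le ?_ ?_) <;> split_ifs <;> simp [hu1]
    · simp [hwu]
    · have hpe : Nat.Coprime p e := Nat.Coprime.coprime_dvd_right ⟨a', by rw [he, mul_comm]⟩ hd
      simp only [derivative_sub, derivative_X_pow, derivative_C, sub_zero, eval_mul, eval_pow, eval_X,
        norm_mul, norm_pow, hw1, one_pow, mul_one, eval_C]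
      rw [norm_natCast_eq_one h.norm_p_lt hpe]
  have hle : E ⊔ Subfield.closure {y} ⊔ F' ≤ F' ⊔ Subfield.closure {w} := by
    rw [sup_le_iff, sup_le_iff]
    refine ⟨⟨(h.le.trans hFF').trans le_sup_left, ?_⟩, le_sup_left⟩
    rw [Subfield.closure_le, Set.singleton_subset_iff]
    have hy' : y = w * ϖ := by simp only [w]; field_simp
    rw [hy']
    refine Subfield.mul_mem _ ?_ ?_
    · exact (le_sup_right : Subfield.closure {w} ≤ F' ⊔ Subfield.closure {w}) (Subfield.subset_closure rfl)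
    · exact (le_sup_left : F' ≤ F' ⊔ Subfield.closure {w}) hϖ
  refine NormLe.trans ?_ (het.mono le_rfl hle)
  intro x hx
  by_cases hx0 : x = 0
  · exact ⟨0, Subfield.zero_mem _, by simp [hx0]⟩
  obtain ⟨n, hn⟩ := hϖall x hx hx0
  refine ⟨y ^ n, Subfield.zpow_mem _ ((le_sup_right : Subfield.closure {y} ≤ E ⊔ Subfield.closure {y}) (Subfield.subset_closure rfl)) n, ?_⟩
  rw [norm_zpow, hyn, hn]

theorem isGal_one {F N : Subfield Ω} (h : IsGal F N 1) : N = F := by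
  obtain ⟨N₁, rfl, h2, h3, h4⟩ := h
  have h5 : N₁ = ⊥ := IntermediateField.finrank_eq_one_iff.mp h4
  rw [h5]
  ext x
  constructor
  · intro hx
    have : x ∈ (⊥ : IntermediateField F Ω) := hx
    rw [IntermediateField.mem_bot] at this
    obtain ⟨y, rfl⟩ := this
    exact y.2
  · intro hx
    have : x ∈ (⊥ : IntermediateField F Ω) := IntermediateField.mem_bot.mpr ⟨⟨x, hx⟩, rfl⟩
    exact this

theorem finExt_closure {F : Subfield Ω} {z : Ω} (hz : IsAlgebraic F z) :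
    FinExt F (F ⊔ Subfield.closure {z}) :=
  ⟨{z}, by simpa using hz, by simp⟩

theorem isAlgebraic_of_mem {F : Subfield Ω} {z : Ω} (hz : z ∈ F) : IsAlgebraic F z :=
  (isAlgebraic_algebraMap (⟨z, hz⟩ : F) : IsAlgebraic F (algebraMap F Ω ⟨z, hz⟩))

theorem isAlgebraic_of_pow_mem {F : Subfield Ω} {z : Ω} {n : ℕ} (hn : 0 < n) (hz : z ^ n ∈ F) :
    IsAlgebraic F z := by
  have := isAlgebraic_of_mem hz
  exact this.of_pow hn

/-- `p`-extensions. -/
theorem pTower {p : ℕ} (hp : p.Prime) (H : Hyp Ω p) (n : ℕ) : ∀ {E F N : Subfield Ω}, Pair p E F →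
    ((p : Ω) = 0 ∨ ∃ ζ ∈ E, IsPrimitiveRoot ζ p) → IsGal F N (p ^ n) →
    ∃ E₁ : Subfield Ω, FinExt E E₁ ∧ NormLe E₁ (E₁ ⊔ N) := by
  induction n using Nat.strong_induction_on with
  | _ n ih =>
  intro E F N h hζ hN
  rcases n with _ | m
  · rw [pow_zero] at hN
    have hNF := isGal_one hN
    subst hNF
    refine ⟨E, FinExt.refl E, ?_⟩
    rw [sup_eq_right.mpr h.le]
    exact h.normLe
  obtain ⟨F₁, hF₁, hF₁N, hN₁⟩ := hN.exists_degree_p hp
  obtain ⟨z, hz, hF₁z⟩ : ∃ z : Ω, ((z ^ p ∈ F ∧ ((p : Ω) = 0 ∨ ∃ ζ ∈ E, IsPrimitiveRoot ζ p)) ∨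
      ((p : Ω) = 0 ∧ z ^ p - z ∈ F)) ∧ F₁ = F ⊔ Subfield.closure {z} := by
    rcases hζ with h0 | ⟨ζ, hζE, hζ⟩
    · obtain ⟨z, hz1, hz2⟩ := hF₁.exists_artinSchreier hp h0
      exact ⟨z, Or.inr ⟨h0, hz1⟩, hz2⟩
    · obtain ⟨z, hz1, hz2⟩ := hF₁.exists_kummer hp (h.le hζE) hζ
      exact ⟨z, Or.inl ⟨hz1, Or.inr ⟨ζ, hζE, hζ⟩⟩, hz2⟩
  obtain ⟨E₁, hE₁, hE₁z⟩ := H.deg h z hz
  rw [sup_assoc, ← hF₁z] at hE₁z
  have hpair : Pair p E₁ (E₁ ⊔ F₁) := H.pass h hF₁.finExt hE₁ hE₁z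
  obtain ⟨m', hm', hN'⟩ := hN₁.bc (le_sup_right : F₁ ≤ E₁ ⊔ F₁)
  obtain ⟨k, hk, rfl⟩ := (Nat.dvd_prime_pow hp).mp hm'
  have hζ' : (p : Ω) = 0 ∨ ∃ ζ ∈ E₁, IsPrimitiveRoot ζ p := by
    rcases hζ with h0 | ⟨ζ, hζE, hζ⟩
    · exact Or.inl h0
    · exact Or.inr ⟨ζ, hE₁.le hζE, hζ⟩
  obtain ⟨E₂, hE₂, hE₂N⟩ := ih k (by omega) hpair hζ' hN'
  refine ⟨E₂, hE₁.trans hE₂, hE₂N.mono le_rfl ?_⟩
  exact sup_le_sup_left le_sup_right _

/-- Galois extensions. -/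
theorem galois {p : ℕ} (hp : p.Prime) (H : Hyp Ω p) {E F N : Subfield Ω} {n : ℕ} (h : Pair p E F)
    (hN : IsGal F N n) : ∃ E₁ : Subfield Ω, FinExt E E₁ ∧ NormLe E₁ (E₁ ⊔ N) := by
  -- adjoin a primitive root of unity
  obtain ⟨E₀, hE₀, hζ⟩ : ∃ E₀, FinExt E E₀ ∧ ((p : Ω) = 0 ∨ ∃ ζ ∈ E₀, IsPrimitiveRoot ζ p) := by
    by_cases h0 : (p : Ω) = 0
    · exact ⟨E, FinExt.refl E, Or.inl h0⟩
    · have : NeZero (p : Ω) := ⟨h0⟩
      obtain ⟨ζ, hζ⟩ := HasEnoughRootsOfUnity.exists_primitiveRoot Ω p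
      refine ⟨E ⊔ Subfield.closure {ζ}, finExt_closure ?_, Or.inr ⟨ζ, ?_, hζ⟩⟩
      · refine isAlgebraic_of_pow_mem hp.pos ?_
        rw [hζ.pow_eq_one]; exact E.one_mem
      · exact (le_sup_right : Subfield.closure {ζ} ≤ _) (Subfield.subset_closure rfl)
  have h₀ : Pair p E₀ (F ⊔ E₀) := H.up h hE₀
  obtain ⟨n', -, hN'⟩ := hN.bc (le_sup_left : F ≤ F ⊔ E₀)
  -- Sylow
  obtain ⟨F', d, k, hF', hd, hF'N, hNF'⟩ := hN'.exists_sylow hp
  obtain ⟨E₁, hE₁, hE₁F'⟩ := tame H h₀ hF' hd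
  have h₁ : Pair p E₁ (E₁ ⊔ F') := H.pass h₀ hF'.finExt hE₁ hE₁F'
  obtain ⟨m', hm', hN''⟩ := hNF'.bc (le_sup_right : F' ≤ E₁ ⊔ F')
  obtain ⟨k', hk, rfl⟩ := (Nat.dvd_prime_pow hp).mp hm'
  have hζ' : (p : Ω) = 0 ∨ ∃ ζ ∈ E₁, IsPrimitiveRoot ζ p := by
    rcases hζ with h0 | ⟨ζ, hζE, hζ⟩
    · exact Or.inl h0
    · exact Or.inr ⟨ζ, hE₁.le hζE, hζ⟩
  obtain ⟨E₂, hE₂, hE₂N⟩ := pTower hp H k' h₁ hζ' hN''
  refine ⟨E₂, (hE₀.trans hE₁).trans hE₂, hE₂N.mono le_rfl ?_⟩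
  exact sup_le_sup_left (le_sup_right.trans le_sup_right) _

/-- one radical element in characteristic `p` -/
theorem radical {p : ℕ} (hp : p.Prime) (H : Hyp Ω p) (h0 : (p : Ω) = 0) (k : ℕ) :
    ∀ {E F : Subfield Ω} (_ : Pair p E F) {s : Ω} (_ : s ^ p ^ k ∈ F),
    ∃ E₁ : Subfield Ω, FinExt E E₁ ∧ NormLe E₁ (E₁ ⊔ (F ⊔ Subfield.closure {s})) := by
  induction k with
  | zero =>
    intro E F h s hs
    rw [pow_zero, pow_one] at hs
    refine ⟨E, FinExt.refl E, h.normLe.mono le_rfl ?_⟩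
    rw [sup_le_iff, sup_le_iff, Subfield.closure_le, Set.singleton_subset_iff]
    exact ⟨h.le, le_rfl, hs⟩
  | succ k ih =>
    intro E F h s hs
    rw [pow_succ', pow_mul] at hs
    obtain ⟨E₁, hE₁, hE₁s⟩ := ih h hs
    have halg : IsAlgebraic F (s ^ p) := isAlgebraic_of_pow_mem (pow_pos hp.pos k) hs
    have h₁ : Pair p E₁ (E₁ ⊔ (F ⊔ Subfield.closure {s ^ p})) :=
      H.pass h (finExt_closure halg) hE₁ hE₁s
    have hsp : s ^ p ∈ E₁ ⊔ (F ⊔ Subfield.closure {s ^ p}) := by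
      refine (le_sup_right : F ⊔ Subfield.closure {s ^ p} ≤ _) ?_
      exact (le_sup_right : Subfield.closure {s ^ p} ≤ _) (Subfield.subset_closure rfl)
    obtain ⟨E₂, hE₂, hE₂s⟩ := H.deg h₁ s (Or.inl ⟨hsp, Or.inl h0⟩)
    refine ⟨E₂, hE₁.trans hE₂, hE₂s.mono le_rfl ?_⟩
    rw [sup_le_iff, sup_le_iff]
    exact ⟨le_sup_left.trans le_sup_left, (le_sup_left.trans le_sup_right).trans (le_sup_right.trans le_sup_left), le_sup_right⟩

/-- finitely many radical elements in characteristic `p` -/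
theorem radicals {p : ℕ} (hp : p.Prime) (H : Hyp Ω p) (h0 : (p : Ω) = 0) (S : Finset Ω) :
    ∀ {E F : Subfield Ω} (_ : Pair p E F) (_ : ∀ s ∈ S, ∃ k : ℕ, s ^ p ^ k ∈ F),
    ∃ E₁ : Subfield Ω, FinExt E E₁ ∧ NormLe E₁ (E₁ ⊔ (F ⊔ Subfield.closure (S : Set Ω))) := by
  classical
  induction S using Finset.induction_on with
  | empty =>
    intro E F h _
    refine ⟨E, FinExt.refl E, h.normLe.mono le_rfl ?_⟩
    simp [h.le]
  | insert a S haS ih =>
    intro E F h hS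
    obtain ⟨k, hk⟩ := hS a (Finset.mem_insert_self a S)
    obtain ⟨E₁, hE₁, hE₁a⟩ := radical hp H h0 k h hk
    have halg : IsAlgebraic F a := isAlgebraic_of_pow_mem (pow_pos hp.pos k) hk
    have h₁ := H.pass h (finExt_closure halg) hE₁ hE₁a
    have hF1 : F ≤ E₁ ⊔ (F ⊔ Subfield.closure {a}) := le_sup_left.trans le_sup_right
    obtain ⟨E₂, hE₂, hE₂S⟩ := ih h₁ fun s hs ↦ by
      obtain ⟨k, hk⟩ := hS s (Finset.mem_insert_of_mem hs)
      exact ⟨k, hF1 hk⟩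
    refine ⟨E₂, hE₁.trans hE₂, hE₂S.mono le_rfl (sup_le_sup_left ?_ _)⟩
    rw [Finset.coe_insert, Set.insert_eq, Subfield.closure_union]
    refine sup_le (hF1.trans le_sup_left) (sup_le ?_ le_sup_right)
    exact (le_sup_right.trans le_sup_right).trans le_sup_left

/-- some `q`-power of an algebraic element is separable -/
theorem exists_pow_isSeparable {F : Subfield Ω} (q : ℕ) [ExpChar F q] {x : Ω} (hx : IsAlgebraic F x) :
    ∃ n, IsSeparable F (x ^ q ^ n) := by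
  let A : IntermediateField F Ω := algebraicClosure F Ω
  have hxA : x ∈ A := (mem_algebraicClosure_iff (F := F) (E := Ω)).2 hx
  have : Algebra.IsAlgebraic F A := algebraicClosure.isAlgebraic F Ω
  have : ExpChar (separableClosure F A) q := inferInstance
  obtain ⟨n, y, hy⟩ := IsPurelyInseparable.pow_mem (separableClosure F A) q (⟨x, hxA⟩ : A)
  refine ⟨n, ?_⟩
  have h1 : IsSeparable F ((⟨x, hxA⟩ : A) ^ q ^ n) := by
    rw [← hy]
    exact mem_separableClosure_iff.mp y.2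
  have h2 : x ^ q ^ n = A.val ((⟨x, hxA⟩ : A) ^ q ^ n) := rfl
  rw [IsSeparable, h2, minpoly.algHom_eq A.val A.val.injective]
  exact h1

/-- Galois hull of finitely many separable elements -/
theorem exists_galois_hull {F : Subfield Ω} (T : Finset Ω) (hT : ∀ t ∈ T, IsSeparable F t) :
    ∃ N n, IsGal F N n ∧ (T : Set Ω) ⊆ N := by
  classical
  let f : F[X] := ∏ t ∈ T, minpoly F t
  have hf0 : f ≠ 0 := Finset.prod_ne_zero_iff.mpr fun t ht ↦ minpoly.ne_zero (hT t ht).isIntegral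
  let N : IntermediateField F Ω := IntermediateField.adjoin F (f.rootSet Ω)
  have hsf : f.IsSplittingField F N := IntermediateField.adjoin_rootSet_isSplittingField (IsAlgClosed.splits _)
  have hfd : FiniteDimensional F N := Polynomial.IsSplittingField.finiteDimensional N f
  have hnorm : Normal F N := Normal.of_isSplittingField f
  have hmem : ∀ x, x ∈ f.rootSet Ω → ∃ t ∈ T, aeval x (minpoly F t) = 0 := by
    intro x hx
    rw [mem_rootSet] at hx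
    have h2 := hx.2
    simp only [f] at h2
    rw [map_prod, Finset.prod_eq_zero_iff] at h2
    exact h2
  have hsep : Algebra.IsSeparable F N := by
    rw [IntermediateField.isSeparable_adjoin_iff_isSeparable]
    intro x hx
    obtain ⟨t, ht, hxt⟩ := hmem x hx
    have h3 : minpoly F x = minpoly F t := (minpoly.eq_of_irreducible_of_monic
      (minpoly.irreducible (hT t ht).isIntegral) hxt (minpoly.monic (hT t ht).isIntegral)).symm
    rw [IsSeparable, h3]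
    exact hT t ht
  refine ⟨N.toSubfield, _, ⟨N, rfl, hfd, ⟨⟩, rfl⟩, ?_⟩
  intro t ht
  have : t ∈ N := by
    refine IntermediateField.subset_adjoin F _ ?_
    rw [mem_rootSet]
    refine ⟨hf0, ?_⟩
    simp only [f]
    rw [map_prod]
    exact Finset.prod_eq_zero ht (minpoly.aeval F t)
  exact this

/-- **The dévissage**. -/
theorem tower {p : ℕ} (hp : p.Prime) (H : Hyp Ω p) {E F M : Subfield Ω} (h : Pair p E F)
    (hM : FinExt F M) : ∃ E₁ : Subfield Ω, FinExt E E₁ ∧ NormLe E₁ (E₁ ⊔ M) := by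
  classical
  obtain ⟨S, hS, rfl⟩ := hM
  by_cases h0 : (p : Ω) = 0
  · have : Fact p.Prime := ⟨hp⟩
    have hchar : CharP Ω p := charP_of_cast_eq_zero hp h0
    have hcharF : CharP F p := (algebraMap F Ω).charP (algebraMap F Ω).injective p
    have : ExpChar F p := inferInstance
    choose! k hk using fun (s : Ω) (hs : s ∈ S) ↦ exists_pow_isSeparable p (hS s hs)
    obtain ⟨N, n, hN, hTN⟩ := exists_galois_hull (F := F) (S.image fun s ↦ s ^ p ^ k s) (by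
      intro t ht
      obtain ⟨s, hs, rfl⟩ := Finset.mem_image.mp ht
      exact hk s hs)
    obtain ⟨E₁, hE₁, hE₁N⟩ := galois hp H h hN
    have h₁ : Pair p E₁ (E₁ ⊔ N) := H.pass h hN.finExt hE₁ hE₁N
    obtain ⟨E₂, hE₂, hE₂S⟩ := radicals hp H h0 S h₁ fun s hs ↦
      ⟨k s, (le_sup_right : N ≤ _) (hTN (by
        rw [Finset.coe_image]; exact ⟨s, hs, rfl⟩))⟩
    refine ⟨E₂, hE₁.trans hE₂, hE₂S.mono le_rfl (sup_le_sup_left ?_ _)⟩
    exact sup_le_sup_right (hN.finExt.le.trans le_sup_right) _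
  · have hchar0 : CharZero Ω := by
      obtain ⟨q, hq⟩ := CharP.exists Ω
      rcases CharP.char_is_prime_or_zero Ω q with hq' | rfl
      · exfalso
        have hqp : q ≠ p := by
          rintro rfl
          exact h0 (CharP.cast_eq_zero Ω q)
        have h1 : ‖((p : ℕ) : Ω)‖ = 1 := norm_natCast_eq_one (p := q)
          (by rw [CharP.cast_eq_zero Ω q, norm_zero]; exact one_pos)
          ((Nat.coprime_primes hq' hp).mpr hqp)
        exact absurd h.norm_p_lt (by rw [h1]; exact lt_irrefl _)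
      · exact CharP.charP_to_charZero Ω
    have hchar0F : CharZero F := inferInstance
    obtain ⟨N, n, hN, hTN⟩ := exists_galois_hull (F := F) S (by
      intro t ht
      exact (minpoly.irreducible (hS t ht).isIntegral).separable)
    obtain ⟨E₁, hE₁, hE₁N⟩ := galois hp H h hN
    refine ⟨E₁, hE₁, hE₁N.mono le_rfl (sup_le_sup_left (sup_le hN.finExt.le ?_) _)⟩
    rw [Subfield.closure_le]
    exact hTN

end Groth.Agent.Etalg.EppTower0
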