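import Groth.Agent.Etalg.RamBasic

/-!
# Valuation subrings of finite extensions over discrete valuation rings are discrete valuation rings

No separability is assumed: the proof is by counting values.
-/

set_option autoImplicit false
universe u

open IsLocalRing EtRam Groth.Agent.Etalg.RamBasic

namespace Groth.Agent.Etalg.RamDVR2

/-- Elements of `L` whose values are pairwise distinct modulo the values of `K` are linearly independent over `K`. -/
theorem linearIndependent_of_valuation {K L Γ₀ ι : Type*} [Field K] [Field L] [Algebra K L]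
    [LinearOrderedCommGroupWithZero Γ₀] (v : Valuation L Γ₀) (x : ι → L) (hx0 : ∀ i, x i ≠ 0)
    (h : ∀ i j, i ≠ j → ∀ c : K, v (x i) ≠ v (algebraMap K L c * x j)) :
    LinearIndependent K x := by
  classical
  rw [linearIndependent_iff']
  intro s g hs
  by_contra hne
  push Not at hne
  obtain ⟨i₁, hi₁, hgi₁⟩ := hne
  obtain ⟨i₀, hi₀, hmax⟩ := Finset.exists_max_image (s.filter fun i => g i ≠ 0)
    (fun i => v (g i • x i)) ⟨i₁, Finset.mem_filter.mpr ⟨hi₁, hgi₁⟩⟩
  rw [Finset.mem_filter] at hi₀
  obtain ⟨hi₀s, hg₀⟩ := hi₀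
  have hne0 : v (g i₀ • x i₀) ≠ 0 := by
    rw [Valuation.ne_zero_iff]
    exact smul_ne_zero hg₀ (hx0 i₀)
  have hlt : v (∑ i ∈ s.erase i₀, g i • x i) < v (g i₀ • x i₀) := by
    refine Valuation.map_sum_lt v hne0 ?_
    intro i hi
    rw [Finset.mem_erase] at hi
    by_cases hgi : g i = 0
    · rw [hgi, zero_smul, map_zero]
      exact zero_lt_iff.mpr hne0
    · refine lt_of_le_of_ne (hmax i (Finset.mem_filter.mpr ⟨hi.2, hgi⟩)) ?_
      intro heq
      refine h i i₀ hi.1 ((g i)⁻¹ * g i₀) ?_
      rw [Algebra.smul_def, Algebra.smul_def, map_mul, map_mul] at heq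
      rw [map_mul, map_mul, map_mul, map_inv₀, map_inv₀, mul_assoc, ← heq, inv_mul_cancel_left₀]
      rw [Valuation.ne_zero_iff]
      simpa using hgi
  have hsum : g i₀ • x i₀ = - ∑ i ∈ s.erase i₀, g i • x i := by
    rw [← Finset.add_sum_erase s _ hi₀s] at hs
    exact eq_neg_of_add_eq_zero_left hs
  rw [hsum, Valuation.map_neg] at hlt
  exact lt_irrefl _ hlt

section

variable {K L : Type u} [Field K] [Field L] [Algebra K L]

theorem exists_zpow (V : ValuationSubring K) [IsDiscreteValuationRing V] {π : V} (hπ : Irreducible π)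
    {c : K} (hc : c ≠ 0) : ∃ (m : ℤ) (u : K), V.valuation u = 1 ∧ c = u * (π : K) ^ m := by
  have hπ0 : (π : K) ≠ 0 := fun h => hπ.ne_zero (Subtype.ext h)
  rcases V.mem_or_inv_mem c with h | h
  · obtain ⟨n, u, hu⟩ := IsDiscreteValuationRing.eq_unit_mul_pow_irreducible
      (x := (⟨c, h⟩ : V)) (fun h0 => hc (congrArg Subtype.val h0)) hπ
    refine ⟨n, (u : V), V.valuation_unit u, ?_⟩
    have := congrArg Subtype.val hu
    simpa using this
  · obtain ⟨n, u, hu⟩ := IsDiscreteValuationRing.eq_unit_mul_pow_irreducible
      (x := (⟨c⁻¹, h⟩ : V)) (fun h0 => inv_ne_zero hc (congrArg Subtype.val h0)) hπ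
    refine ⟨-n, ((u : V) : K)⁻¹, by rw [map_inv₀, V.valuation_unit u, inv_one], ?_⟩
    have := congrArg Subtype.val hu
    have h2 : c⁻¹ = ((u : V) : K) * (π : K) ^ n := by simpa using this
    rw [zpow_neg, zpow_natCast, ← mul_inv, ← h2, inv_inv]

/-- The values of `K` in a valuation subring `W` of `L` whose trace on `K` is a discrete valuation ring
with uniformizer `π`. -/
theorem exists_valuation_eq_zpow (W : ValuationSubring L) {V : ValuationSubring K}
    (hV : W.comap (algebraMap K L) = V) [IsDiscreteValuationRing V] {π : V} (hπ : Irreducible π)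
    {c : K} (hc : c ≠ 0) :
    ∃ m : ℤ, W.valuation (algebraMap K L c) = W.valuation (algebraMap K L (π : K)) ^ m := by
  obtain ⟨m, u, hu, rfl⟩ := exists_zpow V hπ hc
  refine ⟨m, ?_⟩
  subst hV
  have h1 : W.valuation (algebraMap K L u) = 1 := by
    have := (valuation_comap_eq_iff W (algebraMap K L) u 1).mp (by rw [hu, map_one])
    simpa using this
  rw [map_mul, map_mul, h1, one_mul, map_zpow₀, map_zpow₀]

/-- Over a discrete valuation ring, every nonzero element of an algebraic extension has a positive
power whose value is the value of a power of the uniformizer. -/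
theorem exists_pow_valuation_eq_zpow [Algebra.IsAlgebraic K L] (W : ValuationSubring L) {V : ValuationSubring K}
    (hV : W.comap (algebraMap K L) = V) [IsDiscreteValuationRing V] {π : V} (hπ : Irreducible π)
    {x : L} (hx : x ≠ 0) :
    ∃ (n : ℕ) (m : ℤ), 0 < n ∧
      W.valuation x ^ n = W.valuation (algebraMap K L (π : K)) ^ m := by
  have halg : IsAlgebraic K x := Algebra.IsAlgebraic.isAlgebraic x
  have hli : ¬ LinearIndependent K (fun n : ℕ => x ^ n) := by
    intro hli
    obtain ⟨p, hp0, hp⟩ := halg
    rw [linearIndependent_iff'] at hli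
    rw [Polynomial.aeval_eq_sum_range] at hp
    have h1 := hli _ _ hp p.natDegree (Finset.self_mem_range_succ _)
    exact hp0 (Polynomial.leadingCoeff_eq_zero.mp h1)
  by_contra hcon
  push Not at hcon
  apply hli
  have hvx : W.valuation x ≠ 0 := (Valuation.ne_zero_iff _).mpr hx
  refine linearIndependent_of_valuation W.valuation _ (fun n => pow_ne_zero n hx) ?_
  intro i j hij c heq
  have hc : c ≠ 0 := by
    rintro rfl
    rw [map_zero, zero_mul, map_zero, map_pow] at heq
    exact pow_ne_zero i hvx heq
  obtain ⟨m, hm⟩ := exists_valuation_eq_zpow W hV hπ hc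
  rw [map_mul, hm, map_pow, map_pow] at heq
  rcases lt_or_gt_of_ne hij with hlt | hlt
  · refine hcon (j - i) (-m) (by lia) ?_
    have h1 : W.valuation x ^ j = W.valuation x ^ (j - i) * W.valuation x ^ i := by
      rw [← pow_add]; congr 1; lia
    rw [h1, ← mul_assoc] at heq
    have h2 : (1 : W.ValueGroup) * W.valuation x ^ i = _ := (one_mul _).trans heq
    have h3 := mul_right_cancel₀ (pow_ne_zero i hvx) h2
    rw [zpow_neg]
    exact eq_inv_of_mul_eq_one_right h3.symm
  · refine hcon (i - j) m (by lia) ?_
    have h1 : W.valuation x ^ i = W.valuation x ^ (i - j) * W.valuation x ^ j := by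
      rw [← pow_add]; congr 1; lia
    rw [h1] at heq
    exact mul_right_cancel₀ (pow_ne_zero j hvx) heq

/-- A valuation subring of a finite extension whose trace is a discrete valuation ring is a discrete
valuation ring. -/
theorem isDVR_of_comap [FiniteDimensional K L] (W : ValuationSubring L) {V : ValuationSubring K}
    (hV : W.comap (algebraMap K L) = V) [IsDiscreteValuationRing V] :
    IsDiscreteValuationRing W := by
  classical
  obtain ⟨π, hπ⟩ := IsDiscreteValuationRing.exists_irreducible V
  set q := W.valuation (algebraMap K L (π : K)) with hq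
  have hπm : V.valuation (π : K) < 1 := by
    rw [← ValuationSubring.valuation_lt_one_iff, mem_maximalIdeal, mem_nonunits_iff]
    exact hπ.not_isUnit
  have hπ0 : (π : K) ≠ 0 := fun h => hπ.ne_zero (Subtype.ext h)
  have hq1 : q < 1 := by
    subst hV
    exact (valuation_comap_lt_one_iff W (algebraMap K L) (π : K)).mp hπm
  have hq0 : q ≠ 0 := by
    rw [hq, Valuation.ne_zero_iff]
    simpa using hπ0
  have hqpos : 0 < q := zero_lt_iff.mpr hq0
  -- the key counting statement
  have key : ∀ (n : ℕ) (x : Fin n → L), (∀ i, q < W.valuation (x i)) → (∀ i, W.valuation (x i) ≤ 1) →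
      (∀ i j, i < j → W.valuation (x i) < W.valuation (x j)) → n ≤ Module.finrank K L := by
    intro n x h1 h2 h3
    have hx0 : ∀ i, x i ≠ 0 := by
      intro i hi
      have := h1 i
      rw [hi, map_zero] at this
      exact absurd this (not_lt.mpr zero_le)
    have hli : LinearIndependent K x := by
      refine linearIndependent_of_valuation W.valuation x hx0 ?_
      intro i j hij c heq
      have hc : c ≠ 0 := by
        rintro rfl
        rw [map_zero, zero_mul, map_zero] at heq
        exact (Valuation.ne_zero_iff _).mpr (hx0 i) heq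
      obtain ⟨m, hm⟩ := exists_valuation_eq_zpow W hV hπ hc
      rw [map_mul, hm, ← hq] at heq
      have hvj : 0 < W.valuation (x j) := zero_lt_iff.mpr ((Valuation.ne_zero_iff _).mpr (hx0 j))
      rcases lt_trichotomy m 0 with hm0 | hm0 | hm0
      · -- q ^ m ≥ q⁻¹, so the value of `x i` is > 1
        have h4 : q⁻¹ ≤ q ^ m := by
          rw [← zpow_neg_one]
          exact zpow_right_anti₀ hqpos hq1.le (by lia)
        have h5 : q⁻¹ * W.valuation (x j) ≤ W.valuation (x i) := by
          rw [heq]; exact mul_le_mul_left h4 _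
        have h6 : 1 < q⁻¹ * W.valuation (x j) := by
          rw [lt_inv_mul_iff₀ hqpos, mul_one]
          exact h1 j
        exact absurd (h6.trans_le h5) (not_lt.mpr (h2 i))
      · rw [hm0, zpow_zero, one_mul] at heq
        rcases lt_or_gt_of_ne hij with hlt | hlt
        · exact absurd heq (ne_of_lt (h3 i j hlt))
        · exact absurd heq (ne_of_gt (h3 j i hlt))
      · have h4 : q ^ m ≤ q := by
          conv_rhs => rw [← zpow_one q]
          exact zpow_right_anti₀ hqpos hq1.le (by lia)
        have h5 : W.valuation (x i) ≤ q * W.valuation (x j) := by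
          rw [heq]; exact mul_le_mul_left h4 _
        have h6 : q * W.valuation (x j) ≤ q := by
          calc q * W.valuation (x j) ≤ q * 1 := mul_le_mul_right (h2 j) q
            _ = q := mul_one q
        exact absurd (h5.trans h6) (not_le.mpr (h1 i))
    simpa using hli.fintype_card_le_finrank
  -- there is an element of maximal value < 1
  have hmax : ∃ ϖ : L, W.valuation ϖ < 1 ∧ ∀ y : L, W.valuation y < 1 → W.valuation y ≤ W.valuation ϖ := by
    by_contra hcon
    push Not at hcon
    choose! f hf1 hf2 using hcon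
    let s : ℕ → L := fun n => f^[n] (algebraMap K L (π : K))
    have hs : ∀ n, W.valuation (s n) < 1 := by
      intro n
      induction n with
      | zero => exact hq1
      | succ n ih =>
        show W.valuation (f^[n + 1] (algebraMap K L (π : K))) < 1
        rw [Function.iterate_succ_apply']
        exact hf1 _ ih
    have hs' : ∀ n, W.valuation (s n) < W.valuation (s (n + 1)) := by
      intro n
      show _ < W.valuation (f^[n + 1] (algebraMap K L (π : K)))
      rw [Function.iterate_succ_apply']
      exact hf2 _ (hs n)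
    have hmono : StrictMono (fun n => W.valuation (s n)) := strictMono_nat_of_lt_succ hs'
    have := key (Module.finrank K L + 1) (fun i => s (i + 1)) (fun i => hmono (Nat.succ_pos i))
      (fun i => (hs _).le) (fun i j hij => hmono (by simpa using hij))
    lia
  obtain ⟨ϖ, hϖ1, hϖ2⟩ := hmax
  have hϖq : q ≤ W.valuation ϖ := hϖ2 _ hq1
  have hϖpos : 0 < W.valuation ϖ := hqpos.trans_le hϖq
  have hϖ0 : ϖ ≠ 0 := (Valuation.ne_zero_iff W.valuation).mp hϖpos.ne'
  have hϖW : ϖ ∈ W := (W.valuation_le_one_iff ϖ).mp hϖ1.le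
  have hirr : Irreducible (⟨ϖ, hϖW⟩ : W) := by
    constructor
    · intro hu
      exact absurd ((W.valuation_eq_one_iff _).mp hu) (ne_of_lt hϖ1)
    · intro a b hab
      by_contra hcon
      push Not at hcon
      have ha : W.valuation (a : L) < 1 := by
        rw [← ValuationSubring.valuation_lt_one_iff, mem_maximalIdeal, mem_nonunits_iff]; exact hcon.1
      have hb : W.valuation (b : L) < 1 := by
        rw [← ValuationSubring.valuation_lt_one_iff, mem_maximalIdeal, mem_nonunits_iff]; exact hcon.2
      have hab' : ϖ = (a : L) * (b : L) := congrArg Subtype.val hab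
      have h1 : W.valuation ϖ = W.valuation (a : L) * W.valuation (b : L) := by rw [hab', map_mul]
      have hb0 : 0 < W.valuation (b : L) := by
        rw [zero_lt_iff]
        intro h0
        rw [h0, mul_zero] at h1
        exact hϖpos.ne' h1
      have h2 : W.valuation (a : L) * W.valuation (b : L) < 1 * W.valuation (b : L) :=
        mul_lt_mul_of_pos_right ha hb0
      rw [one_mul, ← h1] at h2
      exact absurd (hϖ2 _ hb) (not_le.mpr h2)
  refine IsDiscreteValuationRing.ofHasUnitMulPowIrreducibleFactorization ⟨⟨ϖ, hϖW⟩, hirr, ?_⟩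
  intro x hx
  have hx' : (x : L) ≠ 0 := fun h => hx (Subtype.ext h)
  have hxv : 0 < W.valuation (x : L) := zero_lt_iff.mpr ((Valuation.ne_zero_iff _).mpr hx')
  -- archimedean property
  have harch : ∃ N : ℕ, W.valuation ϖ ^ N < W.valuation (x : L) := by
    obtain ⟨n, m, hn, hm⟩ := exists_pow_valuation_eq_zpow W hV hπ hx'
    obtain ⟨n', m', hn', hm'⟩ := exists_pow_valuation_eq_zpow W hV hπ hϖ0
    rw [← hq] at hm hm'
    have hm'0 : 0 < m' := by
      by_contra hle
      push Not at hle
      have : 1 ≤ q ^ m' := by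
        rw [← zpow_zero q]
        exact zpow_right_anti₀ hqpos hq1.le hle
      rw [← hm'] at this
      exact absurd (pow_lt_one₀ hϖpos.le hϖ1 hn'.ne') (not_lt.mpr this)
    have hm0 : 0 ≤ m := by
      by_contra hlt
      push Not at hlt
      have : 1 < q ^ m := by
        rw [← zpow_zero q]
        exact zpow_right_strictAnti₀ hqpos hq1 hlt
      rw [← hm] at this
      exact absurd (pow_le_one₀ hxv.le (W.valuation_le_one x)) (not_le.mpr this)
    obtain ⟨k, rfl⟩ := Int.eq_ofNat_of_zero_le hm0
    refine ⟨n' * (k + 1), ?_⟩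
    rw [pow_mul, hm', ← zpow_natCast, ← zpow_mul]
    have h1 : q ^ (m' * ((k + 1 : ℕ) : ℤ)) < q ^ (k : ℤ) := by
      apply zpow_right_strictAnti₀ hqpos hq1
      push_cast
      nlinarith
    refine h1.trans_le ?_
    show q ^ (k : ℤ) ≤ _
    have : q ^ (k : ℤ) = W.valuation (x : L) ^ n := hm.symm
    rw [this]
    exact pow_le_of_le_one hxv.le (W.valuation_le_one x) hn.ne'
  -- take the first such `N`
  let N := Nat.find harch
  have hN : W.valuation ϖ ^ N < W.valuation (x : L) := Nat.find_spec harch
  have hN0 : N ≠ 0 := by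
    intro h0
    rw [h0, pow_zero] at hN
    exact absurd hN (not_lt.mpr (W.valuation_le_one x))
  obtain ⟨M, hM⟩ : ∃ M, N = M + 1 := ⟨N - 1, by lia⟩
  have hM' : W.valuation (x : L) ≤ W.valuation ϖ ^ M := by
    have := Nat.find_min harch (m := M) (by show M < N; lia)
    exact not_lt.mp this
  refine ⟨M, ?_⟩
  -- `x / ϖ ^ M` is a unit
  have h1 : W.valuation ((x : L) / ϖ ^ M) = 1 := by
    have hle : W.valuation ((x : L) / ϖ ^ M) ≤ 1 := by
      rw [map_div₀, map_pow, div_le_one₀ (pow_pos hϖpos M)]
      exact hM'
    refine le_antisymm hle ?_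
    by_contra hlt
    push Not at hlt
    have h2 := hϖ2 _ hlt
    rw [map_div₀, map_pow, div_le_iff₀ (pow_pos hϖpos M), ← pow_succ', ← hM] at h2
    exact absurd hN (not_lt.mpr h2)
  have hyW : (x : L) / ϖ ^ M ∈ W := (W.valuation_le_one_iff _).mp h1.le
  have hyu : IsUnit (⟨(x : L) / ϖ ^ M, hyW⟩ : W) := (W.valuation_eq_one_iff _).mpr h1
  refine ⟨hyu.unit, ?_⟩
  apply Subtype.ext
  show ϖ ^ M * ((x : L) / ϖ ^ M) = x
  rw [mul_div_cancel₀]
  exact pow_ne_zero M hϖ0

/-- Version with a discrete valuation ring `A` with fraction field `K` and a valuation subring of a finite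
extension dominating it. -/
theorem isDVR_of_dominates {A : Type u} [CommRing A] [IsDomain A] [IsDiscreteValuationRing A] [Algebra A K]
    [IsFractionRing A K] [FiniteDimensional K L] {W : ValuationSubring L}
    (hW : Dominates A ((algebraMap K L).comp (algebraMap A K)) W) : IsDiscreteValuationRing W :=
  isDVR_of_comap (V := vsub A K) W ((dominates_comp_algebraMap_iff _).mp hW)

end

end Groth.Agent.Etalg.RamDVR2
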