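import Groth.Agent.Etalg.EppFrame
import Groth.Agent.Etalg.RamBasic
import Groth.Agent.Etalg.RamDVR
import Groth.Agent.Etalg.RamDVR2
import Groth.Agent.Etalg.DVRExt2
import Mathlib.Analysis.Normed.Module.FiniteDimension
import Mathlib.Analysis.Normed.Group.Ultra

/-!
# Dictionary between norms and valuation subrings, for subfields of an ultrametric normed field
-/

set_option autoImplicit false
universe u

namespace Groth.Agent.Etalg.EppVal

open Polynomial EppFrame IsLocalRing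

section VO

variable (Ω : Type u) [NormedField Ω] [IsUltrametricDist Ω]

/-- the valuation subring of elements of norm at most one -/
def VO : ValuationSubring Ω where
  carrier := {x | ‖x‖ ≤ 1}
  mul_mem' {x y} hx hy := by
    simp only [Set.mem_ofPred_eq] at *
    rw [norm_mul]
    exact mul_le_one₀ hx (norm_nonneg _) hy
  one_mem' := by simp
  add_mem' {x y} hx hy := by
    simp only [Set.mem_ofPred_eq] at *
    exact (IsUltrametricDist.norm_add_le_max x y).trans (max_le hx hy)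
  zero_mem' := by simp
  neg_mem' {x} hx := by
    simp only [Set.mem_ofPred_eq] at *
    rwa [norm_neg]
  mem_or_inv_mem' x := by
    simp only [Set.mem_ofPred_eq]
    by_cases h : ‖x‖ ≤ 1
    · exact Or.inl h
    · right
      show ‖x⁻¹‖ ≤ 1
      rw [norm_inv]
      exact inv_le_one_of_one_le₀ (not_le.mp h).le

variable {Ω}

theorem mem_VO {x : Ω} : x ∈ VO Ω ↔ ‖x‖ ≤ 1 := Iff.rfl

theorem valuation_le_iff {x y : Ω} : (VO Ω).valuation x ≤ (VO Ω).valuation y ↔ ‖x‖ ≤ ‖y‖ := by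
  rw [(VO Ω).valuation_le_iff]
  constructor
  · rintro ⟨a, rfl⟩
    rw [norm_mul]
    have : ‖(a : Ω)‖ ≤ 1 := a.2
    calc ‖(a : Ω)‖ * ‖y‖ ≤ 1 * ‖y‖ := by gcongr
      _ = ‖y‖ := one_mul _
  · intro h
    by_cases hy : y = 0
    · subst hy
      rw [norm_zero, norm_le_zero_iff] at h
      exact ⟨0, by simp [h]⟩
    · refine ⟨⟨x / y, ?_⟩, ?_⟩
      · show ‖x / y‖ ≤ 1
        rw [norm_div]
        exact div_le_one_of_le₀ h (norm_nonneg _)
      · exact div_mul_cancel₀ x hy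

theorem valuation_lt_iff {x y : Ω} : (VO Ω).valuation x < (VO Ω).valuation y ↔ ‖x‖ < ‖y‖ := by
  rw [← not_le, ← not_le, valuation_le_iff]

theorem valuation_lt_one_iff {x : Ω} : (VO Ω).valuation x < 1 ↔ ‖x‖ < 1 := by
  have := valuation_lt_iff (x := x) (y := (1 : Ω))
  rwa [map_one, norm_one] at this

theorem valuation_eq_iff {x y : Ω} : (VO Ω).valuation x = (VO Ω).valuation y ↔ ‖x‖ = ‖y‖ := by
  rw [le_antisymm_iff, le_antisymm_iff, valuation_le_iff, valuation_le_iff]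

end VO

section Sub

variable {Ω : Type u} [NormedField Ω] [IsUltrametricDist Ω]

/-- the valuation ring of a subfield -/
def VA (A : Subfield Ω) : ValuationSubring A := (VO Ω).comap A.subtype

theorem mem_VA {A : Subfield Ω} {x : A} : x ∈ VA A ↔ ‖(x : Ω)‖ ≤ 1 := Iff.rfl

theorem VA_lt_one_iff {A : Subfield Ω} {x : A} : (VA A).valuation x < 1 ↔ ‖(x : Ω)‖ < 1 := by
  rw [VA, RamBasic.valuation_comap_lt_one_iff, valuation_lt_one_iff]
  rfl

theorem VA_le_iff {A : Subfield Ω} {x y : A} : (VA A).valuation x ≤ (VA A).valuation y ↔ ‖(x : Ω)‖ ≤ ‖(y : Ω)‖ := by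
  rw [VA, RamBasic.valuation_comap_le_iff, valuation_le_iff]
  rfl

theorem VA_eq_iff {A : Subfield Ω} {x y : A} : (VA A).valuation x = (VA A).valuation y ↔ ‖(x : Ω)‖ = ‖(y : Ω)‖ := by
  rw [le_antisymm_iff, le_antisymm_iff, VA_le_iff, VA_le_iff]

theorem mem_maximalIdeal_VA {A : Subfield Ω} (x : VA A) : x ∈ maximalIdeal (VA A) ↔ ‖((x : A) : Ω)‖ < 1 := by
  rw [(VA A).valuation_lt_one_iff, VA_lt_one_iff]

theorem coe_zpow' {A : Subfield Ω} (a : A) (n : ℤ) : ((a ^ n : A) : Ω) = (a : Ω) ^ n := map_zpow₀ A.subtype a n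

/-- discreteness gives a DVR -/
theorem isDVR_of_disc {A : Subfield Ω} {π : Ω} (hπ : π ∈ A) (h : Disc A π) :
    IsDiscreteValuationRing (VA A) ∧ ∀ hm : (⟨π, hπ⟩ : A) ∈ VA A, Irreducible (⟨⟨π, hπ⟩, hm⟩ : VA A) := by
  obtain ⟨h0, h1, hd⟩ := h
  have hπ0 : (⟨π, hπ⟩ : A) ≠ 0 := by
    intro h
    have : π = 0 := congrArg Subtype.val h
    rw [this, norm_zero] at h0
    exact lt_irrefl _ h0
  apply RamDVR.isDVR_of_uniformizer (VA A) ⟨π, hπ⟩ hπ0 (VA_lt_one_iff.mpr h1)
  intro x hx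
  obtain ⟨n, hn⟩ := hd x x.2 (fun h => hx (Subtype.ext h))
  refine ⟨n, ?_⟩
  rw [← map_zpow₀, VA_eq_iff, hn]
  show _ = ‖((((⟨π, hπ⟩ : A) ^ n : A)) : Ω)‖
  rw [coe_zpow', norm_zpow]

/-- a uniformizer of the valuation ring gives discreteness -/
theorem disc_of_irreducible {A : Subfield Ω} [IsDiscreteValuationRing (VA A)] {ϖ : VA A} (hϖ : Irreducible ϖ) :
    Disc A ((ϖ : A) : Ω) := by
  refine ⟨?_, ?_, ?_⟩
  · rw [norm_pos_iff]
    intro h
    exact hϖ.ne_zero (Subtype.ext (Subtype.ext h))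
  · rw [← mem_maximalIdeal_VA, hϖ.maximalIdeal_eq]
    exact Ideal.mem_span_singleton_self _
  · intro x hx hx0
    obtain ⟨m, u, hu, hxu⟩ := RamDVR2.exists_zpow (VA A) hϖ (c := ⟨x, hx⟩)
      (fun h => hx0 (congrArg Subtype.val h))
    refine ⟨m, ?_⟩
    have h1 : x = (u : Ω) * (((ϖ : A)) : Ω) ^ m := by
      have := congrArg Subtype.val hxu
      rw [← coe_zpow']
      exact this
    have h2 : ‖(u : Ω)‖ = 1 := by
      have h3 : (VA A).valuation u = (VA A).valuation 1 := by rw [hu, map_one]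
      rw [VA_eq_iff] at h3
      simpa using h3
    rw [h1, norm_mul, h2, one_mul, norm_zpow]

end Sub

end Groth.Agent.Etalg.EppVal
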