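import Mathlib.RingTheory.ZariskisMainTheorem
import Mathlib.RingTheory.DiscreteValuationRing.Basic
import Mathlib.RingTheory.DiscreteValuationRing.TFAE
import Mathlib.RingTheory.EssentialFiniteness
import Mathlib.RingTheory.AlgebraicIndependent.TranscendenceBasis
import Mathlib.FieldTheory.IntermediateField.Adjoin.Algebra
import Mathlib.RingTheory.LocalRing.ResidueField.Ideal
import Mathlib.RingTheory.Finiteness.NilpotentKer

/-!
# Residual transcendence bases for essentially finite type extensions of DVRs

For an injective local homomorphism `A → B` of discrete valuation rings, essentially of finite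
type, there are elements `y₁, …, y_r` of `B` whose residues are algebraically independent over the
residue field of `A` and such that `Frac B` is algebraic over `Frac A (y₁, …, y_r)`.
The proof uses Zariski's main theorem for `A[y₁, …, y_r] → C`, `B` a localisation of `C`.
-/

set_option autoImplicit false

universe u

namespace Groth.Agent.Etalg.EssTrdeg

open IsLocalRing Algebra

/-- Zariski's main theorem gives algebraicity. -/
theorem isAlgebraic_of_weaklyQuasiFiniteAt {R C F L : Type u} [CommRing R] [CommRing C]
    [Algebra R C] [Algebra.FiniteType R C] (q : Ideal C) [q.IsPrime]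
    [Algebra.WeaklyQuasiFiniteAt R q] [Field F] [Field L] [Algebra F L]
    (φ : R →+* F) (ψ : C →+* L) (h : (algebraMap F L).comp φ = ψ.comp (algebraMap R C))
    (hq : ∀ c ∉ q, ψ c ≠ 0) (c : C) : IsAlgebraic F (ψ c) := by
  have key := Algebra.ZariskisMainProperty.of_finiteType_of_weaklyQuasiFiniteAt (R := R) q
  rw [Algebra.zariskisMainProperty_iff'] at key
  obtain ⟨r, hr, H⟩ := key
  have hint : ∀ x : C, IsIntegral R x → IsIntegral F (ψ x) := by
    intro x hx
    have h1 : ((algebraMap F L).comp φ).IsIntegralElem (ψ x) := by
      rw [h]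
      obtain ⟨p, hp, hp'⟩ := hx
      refine ⟨p, hp, ?_⟩
      rw [← Polynomial.hom_eval₂, hp', map_zero]
    obtain ⟨p, hp, hp'⟩ := h1
    refine ⟨p.map φ, hp.map φ, ?_⟩
    rwa [Polynomial.eval₂_map]
  have hr0 : ψ r ≠ 0 := hq r hr
  have hralg : IsAlgebraic F (ψ r) := by
    obtain ⟨m, hm⟩ := H r
    have := (hint _ hm).isAlgebraic
    rw [← pow_succ, map_pow] at this
    exact IsAlgebraic.of_pow (Nat.succ_pos m) this
  obtain ⟨m, hm⟩ := H c
  have h2 := (hint _ hm).isAlgebraic
  rw [map_mul, map_pow] at h2
  have h3 : ψ c = (ψ r ^ m)⁻¹ * (ψ r ^ m * ψ c) := by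
    field_simp
  rw [h3]
  exact ((hralg.pow m).inv).mul h2

/-- residues of generators contain a transcendence basis -/
theorem exists_lift {A B : Type u} [CommRing A] [IsLocalRing A] [CommRing B] [IsLocalRing B]
    [Algebra A B] [IsLocalHom (algebraMap A B)] [Algebra.EssFiniteType A B] :
    ∃ (r : ℕ) (y : Fin r → B), (∀ i, y i ∈ EssFiniteType.subalgebra A B) ∧
      AlgebraicIndependent (ResidueField A) (fun i => residue B (y i)) ∧
      Algebra.IsAlgebraic (Algebra.adjoin (ResidueField A)
        (Set.range fun i => residue B (y i))) (ResidueField B) := by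
  classical
  set s : Finset B := EssFiniteType.finset A B with hs
  set t : Set (ResidueField B) := residue B '' (s : Set B) with ht
  -- the residue of an element of the subalgebra lies in `adjoin κA t`
  have hsub : ∀ c ∈ EssFiniteType.subalgebra A B, residue B c ∈ Algebra.adjoin (ResidueField A) t := by
    intro c hc
    induction hc using Algebra.adjoin_induction with
    | mem x hx => exact Algebra.subset_adjoin ⟨x, hx, rfl⟩
    | algebraMap a =>
      have : residue B (algebraMap A B a) = algebraMap (ResidueField A) (ResidueField B) (residue A a) := rfl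
      rw [this]
      exact Subalgebra.algebraMap_mem _ _
    | add x y _ _ hx hy => rw [map_add]; exact add_mem hx hy
    | mul x y _ _ hx hy => rw [map_mul]; exact mul_mem hx hy
  have halg : Algebra.IsAlgebraic (Algebra.adjoin (ResidueField A) t) (ResidueField B) := by
    refine ⟨fun z => ?_⟩
    obtain ⟨b, rfl⟩ := residue_surjective z
    obtain ⟨⟨c, d⟩, hcd⟩ := IsLocalization.surj (EssFiniteType.submonoid A B) b
    have hd : IsUnit (algebraMap (EssFiniteType.subalgebra A B) B d) := d.2
    have hd' : residue B (algebraMap (EssFiniteType.subalgebra A B) B d) ≠ 0 := by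
      intro h0
      rw [residue_eq_zero_iff] at h0
      exact (mem_maximalIdeal _).1 h0 hd
    have h1 : residue B b * residue B (algebraMap (EssFiniteType.subalgebra A B) B d) =
        residue B (algebraMap (EssFiniteType.subalgebra A B) B c) := by
      rw [← map_mul]; exact congrArg _ hcd
    have h2 : residue B b = residue B (algebraMap (EssFiniteType.subalgebra A B) B c) *
        (residue B (algebraMap (EssFiniteType.subalgebra A B) B d))⁻¹ := by
      rw [← h1]; field_simp
    rw [h2]
    refine IsAlgebraic.mul ?_ (IsAlgebraic.inv ?_)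
    · exact isAlgebraic_algebraMap (⟨_, hsub _ c.2⟩ : Algebra.adjoin (ResidueField A) t)
    · exact isAlgebraic_algebraMap (⟨_, hsub _ d.1.2⟩ : Algebra.adjoin (ResidueField A) t)
  obtain ⟨u, hut, hu⟩ := exists_isTranscendenceBasis_subset (R := ResidueField A) t
  have hufin : u.Finite := (s.finite_toSet.image _).subset hut
  have : Finite u := hufin
  obtain ⟨r, ⟨e⟩⟩ := Finite.exists_equiv_fin u
  have hlift : ∀ i : Fin r, ∃ b ∈ (s : Set B), residue B b = (e.symm i : ResidueField B) :=
    fun i => hut (e.symm i).2
  choose y hys hy using hlift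
  refine ⟨r, y, fun i => Algebra.subset_adjoin (hys i), ?_, ?_⟩
  · have : (fun i => residue B (y i)) = (fun x : u => (x : ResidueField B)) ∘ e.symm := by
      funext i; exact hy i
    rw [this]
    exact hu.1.comp e.symm e.symm.injective
  · have : (Set.range fun i => residue B (y i)) = Set.range (fun x : u => (x : ResidueField B)) := by
      ext z
      constructor
      · rintro ⟨i, rfl⟩
        exact ⟨e.symm i, (hy i).symm⟩
      · rintro ⟨x, rfl⟩
        exact ⟨e x, by simp [hy]⟩
    rw [this]
    exact hu.isAlgebraic

/-- the algebra `C = A[s]` over the polynomial ring is weakly quasi-finite at the centre of `B` -/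
theorem weaklyQuasiFiniteAt {A B : Type u} [CommRing A] [IsDomain A] [IsDiscreteValuationRing A]
    [CommRing B] [IsDomain B] [IsDiscreteValuationRing B] [Algebra A B] [IsLocalHom (algebraMap A B)]
    (hinj : Function.Injective (algebraMap A B)) [Algebra.EssFiniteType A B]
    {r : ℕ} (y : Fin r → B) (hy : ∀ i, y i ∈ EssFiniteType.subalgebra A B)
    (halg : Algebra.IsAlgebraic (Algebra.adjoin (ResidueField A)
        (Set.range fun i => residue B (y i))) (ResidueField B)) :
    letI : Algebra (MvPolynomial (Fin r) A) (EssFiniteType.subalgebra A B) :=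
      (MvPolynomial.aeval (fun i => (⟨y i, hy i⟩ : EssFiniteType.subalgebra A B))).toAlgebra
    Algebra.WeaklyQuasiFiniteAt (MvPolynomial (Fin r) A)
      ((maximalIdeal B).comap (algebraMap (EssFiniteType.subalgebra A B) B)) := by
  let algRC : Algebra (MvPolynomial (Fin r) A) (EssFiniteType.subalgebra A B) :=
      (MvPolynomial.aeval (fun i => (⟨y i, hy i⟩ : EssFiniteType.subalgebra A B))).toAlgebra
  let algRB : Algebra (MvPolynomial (Fin r) A) B := (MvPolynomial.aeval y).toAlgebra
  have tRCB : IsScalarTower (MvPolynomial (Fin r) A) (EssFiniteType.subalgebra A B) B := by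
    refine IsScalarTower.of_algebraMap_eq' ?_
    have : (MvPolynomial.aeval y : MvPolynomial (Fin r) A →ₐ[A] B) =
        (EssFiniteType.subalgebra A B).val.comp (MvPolynomial.aeval
          (fun i => (⟨y i, hy i⟩ : EssFiniteType.subalgebra A B))) := by
      apply MvPolynomial.algHom_ext
      intro i
      simp
    exact congrArg AlgHom.toRingHom this
  have tARB : IsScalarTower A (MvPolynomial (Fin r) A) B := by
    refine IsScalarTower.of_algebraMap_eq' ?_
    exact (MvPolynomial.aeval y : MvPolynomial (Fin r) A →ₐ[A] B).comp_algebraMap.symm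
  set q : Ideal (EssFiniteType.subalgebra A B) :=
    (maximalIdeal B).comap (algebraMap (EssFiniteType.subalgebra A B) B) with hq
  have hloc : IsLocalization q.primeCompl B := by
    have h1 : EssFiniteType.submonoid A B = q.primeCompl := by
      ext c
      change IsUnit _ ↔ ¬ (_ ∈ maximalIdeal B)
      rw [mem_maximalIdeal]
      exact (not_not).symm
    rw [← h1]
    infer_instance
  set P : Ideal (MvPolynomial (Fin r) A) := q.under (MvPolynomial (Fin r) A) with hP
  have hPmem : ∀ f, f ∈ P ↔ algebraMap (MvPolynomial (Fin r) A) B f ∈ maximalIdeal B := by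
    intro f
    rw [hP, Ideal.under, Ideal.mem_comap, hq, Ideal.mem_comap, ← IsScalarTower.algebraMap_apply]
  set J : Ideal B := P.map (algebraMap (MvPolynomial (Fin r) A) B) with hJ
  have hJle : J ≤ maximalIdeal B := by
    rw [hJ, Ideal.map_le_iff_le_comap]
    intro f hf
    exact (hPmem f).1 hf
  -- `J ≠ ⊥`
  have hJne : J ≠ ⊥ := by
    obtain ⟨π, hπ⟩ := IsDiscreteValuationRing.exists_irreducible A
    have h1 : (MvPolynomial.C π : MvPolynomial (Fin r) A) ∈ P := by
      rw [hPmem]
      have : algebraMap (MvPolynomial (Fin r) A) B (MvPolynomial.C π) = algebraMap A B π :=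
        (IsScalarTower.algebraMap_apply A (MvPolynomial (Fin r) A) B π).symm
      rw [this, mem_maximalIdeal]
      intro h2
      exact hπ.1 (isUnit_of_map_unit (algebraMap A B) _ h2)
    have h2 := Ideal.mem_map_of_mem (algebraMap (MvPolynomial (Fin r) A) B) h1
    have h3 : algebraMap (MvPolynomial (Fin r) A) B (MvPolynomial.C π) = algebraMap A B π :=
      (IsScalarTower.algebraMap_apply A (MvPolynomial (Fin r) A) B π).symm
    rw [h3] at h2
    intro h4
    rw [← hJ, h4, Ideal.mem_bot] at h2
    exact hπ.ne_zero (hinj (by rw [h2, map_zero]))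
  obtain ⟨ϖ, hϖ⟩ := IsDiscreteValuationRing.exists_irreducible B
  obtain ⟨n, hn⟩ := IsDiscreteValuationRing.ideal_eq_span_pow_irreducible hJne hϖ
  have hnil : ∀ b ∈ maximalIdeal B, b ^ n ∈ J := by
    intro b hb
    rw [hϖ.maximalIdeal_eq, Ideal.mem_span_singleton] at hb
    rw [hn, Ideal.mem_span_singleton]
    exact pow_dvd_pow_of_dvd hb n
  -- `κ(P)` acts on `B / J`
  let φ : P.ResidueField →+* B ⧸ J :=
    Ideal.ResidueField.lift P ((Ideal.Quotient.mk J).comp (algebraMap (MvPolynomial (Fin r) A) B))
      (by
        intro f hf
        rw [RingHom.mem_ker, RingHom.comp_apply, Ideal.Quotient.eq_zero_iff_mem]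
        exact Ideal.mem_map_of_mem _ hf)
      (by
        intro f hf
        rw [Submonoid.mem_comap, IsUnit.mem_submonoid_iff, RingHom.comp_apply]
        refine IsUnit.map _ ?_
        by_contra h0
        exact hf ((hPmem f).2 ((mem_maximalIdeal _).2 h0)))
  have hφ : ∀ f : MvPolynomial (Fin r) A, φ (algebraMap (MvPolynomial (Fin r) A) P.ResidueField f) =
      Ideal.Quotient.mk J (algebraMap (MvPolynomial (Fin r) A) B f) := by
    intro f
    exact Ideal.ResidueField.lift_algebraMap _ _ _ _ _
  let algKQ : Algebra P.ResidueField (B ⧸ J) := φ.toAlgebra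
  have tRKQ : IsScalarTower (MvPolynomial (Fin r) A) P.ResidueField (B ⧸ J) := by
    refine IsScalarTower.of_algebraMap_eq ?_
    intro f
    exact (hφ f).symm
  let θ : B ⧸ J →+* ResidueField B := Ideal.Quotient.lift J (residue B) (by
    intro b hb
    rw [residue_eq_zero_iff]
    exact hJle hb)
  let algKκ : Algebra P.ResidueField (ResidueField B) := (θ.comp φ).toAlgebra
  let θ' : B ⧸ J →ₐ[P.ResidueField] ResidueField B := { θ with commutes' := fun _ => rfl }
  have hθsurj : Function.Surjective θ' := by
    intro z
    obtain ⟨b, rfl⟩ := residue_surjective z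
    exact ⟨Ideal.Quotient.mk J b, rfl⟩
  have hKκ : ∀ f : MvPolynomial (Fin r) A, algebraMap P.ResidueField (ResidueField B)
      (algebraMap (MvPolynomial (Fin r) A) P.ResidueField f) =
      residue B (algebraMap (MvPolynomial (Fin r) A) B f) := by
    intro f
    change θ (φ _) = _
    rw [hφ]
    rfl
  have tAKκ : IsScalarTower A P.ResidueField (ResidueField B) := by
    refine IsScalarTower.of_algebraMap_eq ?_
    intro a
    rw [IsScalarTower.algebraMap_apply A (MvPolynomial (Fin r) A) P.ResidueField, hKκ,
      ← IsScalarTower.algebraMap_apply]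
    rfl
  have hess0 : Algebra.EssFiniteType A (ResidueField B) :=
    inferInstanceAs (Algebra.EssFiniteType A (B ⧸ maximalIdeal B))
  have hess : Algebra.EssFiniteType P.ResidueField (ResidueField B) :=
    Algebra.EssFiniteType.of_comp A P.ResidueField (ResidueField B)
  -- algebraicity
  set D := Algebra.adjoin (ResidueField A) (Set.range fun i => residue B (y i)) with hD
  have hDle : ∀ d ∈ D, d ∈ (algebraMap P.ResidueField (ResidueField B)).range := by
    intro d hd
    induction hd using Algebra.adjoin_induction with
    | mem x hx =>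
      obtain ⟨i, rfl⟩ := hx
      refine ⟨algebraMap (MvPolynomial (Fin r) A) P.ResidueField (MvPolynomial.X i), ?_⟩
      rw [hKκ]
      congr 1
      exact MvPolynomial.aeval_X y i
    | algebraMap a =>
      obtain ⟨a, rfl⟩ := residue_surjective a
      refine ⟨algebraMap (MvPolynomial (Fin r) A) P.ResidueField (MvPolynomial.C a), ?_⟩
      rw [hKκ]
      have : algebraMap (MvPolynomial (Fin r) A) B (MvPolynomial.C a) = algebraMap A B a :=
        (IsScalarTower.algebraMap_apply A (MvPolynomial (Fin r) A) B a).symm
      rw [this]
      rfl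
    | add x y _ _ hx hy => exact add_mem hx hy
    | mul x y _ _ hx hy => exact mul_mem hx hy
  have halg' : Algebra.IsAlgebraic P.ResidueField (ResidueField B) := by
    have hinj' : Function.Injective (algebraMap P.ResidueField (ResidueField B)) :=
      RingHom.injective _
    let e : P.ResidueField ≃+* (algebraMap P.ResidueField (ResidueField B)).range :=
      RingEquiv.ofBijective (algebraMap P.ResidueField (ResidueField B)).rangeRestrict
        ⟨fun a b h => hinj' (congrArg Subtype.val h), RingHom.rangeRestrict_surjective _⟩
    let i : D →+* (algebraMap P.ResidueField (ResidueField B)).range :=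
      (algebraMap D (ResidueField B)).codRestrict _ (fun d => hDle d.1 d.2)
    let g : D →+* P.ResidueField := (e.symm : _ →+* _).comp i
    have hg : (algebraMap P.ResidueField (ResidueField B)).comp g = algebraMap D (ResidueField B) := by
      ext d
      have h1 : e (g d) = i d := by simp [g]
      exact congrArg Subtype.val h1
    refine ⟨fun z => ?_⟩
    refine (halg.isAlgebraic z).ringHom_of_comp_eq g (RingHom.id _) ?_ ?_
    · intro a b hab
      have : (algebraMap P.ResidueField (ResidueField B)).comp g a =
        (algebraMap P.ResidueField (ResidueField B)).comp g b := by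
        rw [RingHom.comp_apply, hab]; rfl
      rw [hg] at this
      exact Subtype.ext this
    · change (algebraMap P.ResidueField (ResidueField B)).comp g = _
      rw [hg]
      rfl
  have hfin0 : Module.Finite P.ResidueField (ResidueField B) :=
    Algebra.finite_of_essFiniteType_of_isAlgebraic
  have hfin : Module.Finite P.ResidueField (B ⧸ J) := by
    refine Module.finite_of_surjective_of_ker_le_nilradical θ' hθsurj ?_ ?_
    · intro z hz
      obtain ⟨b, rfl⟩ := Ideal.Quotient.mk_surjective z
      rw [mem_nilradical]
      refine ⟨n, ?_⟩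
      rw [← map_pow, Ideal.Quotient.eq_zero_iff_mem]
      refine hnil b ?_
      rw [← residue_eq_zero_iff]
      exact hz
    · exact IsNoetherian.noetherian _
  have hqfK : Algebra.QuasiFinite P.ResidueField (B ⧸ J) := inferInstance
  have hqf : Algebra.QuasiFinite (MvPolynomial (Fin r) A) (B ⧸ J) :=
    Algebra.QuasiFinite.trans _ P.ResidueField _
  rw [Algebra.weaklyQuasiFiniteAt_iff]
  let e : Localization.AtPrime q ≃ₐ[MvPolynomial (Fin r) A] B :=
    (IsLocalization.algEquiv q.primeCompl (Localization.AtPrime q) B).restrictScalars _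
  refine (Algebra.QuasiFinite.iff_of_algEquiv (Ideal.quotientEquivAlg _ J e ?_)).2 hqf
  rw [hJ]
  refine (congrArg (fun f => Ideal.map f P) (e.toAlgHom.comp_algebraMap).symm).trans ?_
  rw [← Ideal.map_map]
  rfl

/-- For a local injective homomorphism `A → B` of discrete valuation rings essentially of finite
type there are elements of `B` with algebraically independent residues over which `Frac B` is
algebraic (dimension formula, via Zariski's main theorem). -/
theorem exists_residual_basis {A B K L : Type u} [CommRing A] [IsDomain A]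
    [IsDiscreteValuationRing A]
    [CommRing B] [IsDomain B] [IsDiscreteValuationRing B] [Algebra A B] [IsLocalHom (algebraMap A B)]
    (hinj : Function.Injective (algebraMap A B))
    [Field K] [Field L] [Algebra A K] [IsFractionRing A K] [Algebra B L] [IsFractionRing B L]
    [Algebra K L] [Algebra A L] [IsScalarTower A K L] [IsScalarTower A B L]
    [Algebra.EssFiniteType A B] :
    ∃ (r : ℕ) (y : Fin r → B), AlgebraicIndependent (ResidueField A) (fun i => residue B (y i)) ∧
      Algebra.IsAlgebraic
        (IntermediateField.adjoin K (Set.range fun i => algebraMap B L (y i))) L := by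
  obtain ⟨r, y, hy, hind, halg⟩ := exists_lift (A := A) (B := B)
  refine ⟨r, y, hind, ?_⟩
  set F := IntermediateField.adjoin K (Set.range fun i => algebraMap B L (y i)) with hF
  let algRC : Algebra (MvPolynomial (Fin r) A) (EssFiniteType.subalgebra A B) :=
      (MvPolynomial.aeval (fun i => (⟨y i, hy i⟩ : EssFiniteType.subalgebra A B))).toAlgebra
  have tARC : IsScalarTower A (MvPolynomial (Fin r) A) (EssFiniteType.subalgebra A B) := by
    refine IsScalarTower.of_algebraMap_eq' ?_
    exact (MvPolynomial.aeval (fun i => (⟨y i, hy i⟩ : EssFiniteType.subalgebra A B)) :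
      MvPolynomial (Fin r) A →ₐ[A] EssFiniteType.subalgebra A B).comp_algebraMap.symm
  have hfin : Algebra.FiniteType (MvPolynomial (Fin r) A) (EssFiniteType.subalgebra A B) :=
    Algebra.FiniteType.of_restrictScalars_finiteType A _ _
  have hwqf := weaklyQuasiFiniteAt (A := A) (B := B) hinj y hy halg
  let q : Ideal (EssFiniteType.subalgebra A B) :=
    (maximalIdeal B).comap (algebraMap (EssFiniteType.subalgebra A B) B)
  let φ : MvPolynomial (Fin r) A →+* F :=
    MvPolynomial.eval₂Hom ((algebraMap K F).comp (algebraMap A K))
      (fun i => (⟨algebraMap B L (y i), IntermediateField.subset_adjoin _ _ ⟨i, rfl⟩⟩ : F))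
  let ψ : EssFiniteType.subalgebra A B →+* L :=
    (algebraMap B L).comp (algebraMap (EssFiniteType.subalgebra A B) B)
  have hcomp : (algebraMap F L).comp φ =
      ψ.comp (algebraMap (MvPolynomial (Fin r) A) (EssFiniteType.subalgebra A B)) := by
    apply MvPolynomial.ringHom_ext
    · intro a
      rw [RingHom.comp_apply, RingHom.comp_apply]
      have h1 : φ (MvPolynomial.C a) = algebraMap K F (algebraMap A K a) := by
        simp [φ]
      have h2 : algebraMap (MvPolynomial (Fin r) A) (EssFiniteType.subalgebra A B)
          (MvPolynomial.C a) = algebraMap A _ a :=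
        (IsScalarTower.algebraMap_apply A (MvPolynomial (Fin r) A) _ a).symm
      rw [h1, h2, ← IsScalarTower.algebraMap_apply K F L, ← IsScalarTower.algebraMap_apply A K L]
      exact IsScalarTower.algebraMap_apply A B L a
    · intro i
      rw [RingHom.comp_apply, RingHom.comp_apply]
      have h1 : φ (MvPolynomial.X i) =
        (⟨algebraMap B L (y i), IntermediateField.subset_adjoin _ _ ⟨i, rfl⟩⟩ : F) := by
        simp [φ]
      have h2 : algebraMap (MvPolynomial (Fin r) A) (EssFiniteType.subalgebra A B)
          (MvPolynomial.X i) = ⟨y i, hy i⟩ := MvPolynomial.aeval_X _ i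
      rw [h1, h2]
      rfl
  have hLinj : Function.Injective (algebraMap B L) := IsFractionRing.injective B L
  have hq : ∀ c ∉ q, ψ c ≠ 0 := by
    intro c hc h0
    refine hc ?_
    have : algebraMap (EssFiniteType.subalgebra A B) B c = 0 := hLinj (by rw [map_zero]; exact h0)
    change algebraMap (EssFiniteType.subalgebra A B) B c ∈ maximalIdeal B
    rw [this]
    exact zero_mem _
  have hC : ∀ c, IsAlgebraic F (ψ c) :=
    isAlgebraic_of_weaklyQuasiFiniteAt (R := MvPolynomial (Fin r) A) q φ ψ hcomp hq
  have hB : ∀ b : B, IsAlgebraic F (algebraMap B L b) := by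
    intro b
    obtain ⟨⟨c, d⟩, hcd⟩ := IsLocalization.surj (EssFiniteType.submonoid A B) b
    have hd : IsUnit (algebraMap (EssFiniteType.subalgebra A B) B d) := d.2
    have hd0 : ψ d ≠ 0 := (hd.map (algebraMap B L)).ne_zero
    have h1 : algebraMap B L b * ψ d = ψ c := by
      have := congrArg (algebraMap B L) hcd
      rwa [map_mul] at this
    have h2 : algebraMap B L b = ψ c * (ψ d)⁻¹ := by
      rw [← h1]; field_simp
    rw [h2]
    exact (hC c).mul (hC d).inv
  refine ⟨fun z => ?_⟩
  obtain ⟨b, b', _, rfl⟩ := IsFractionRing.div_surjective (A := B) z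
  rw [div_eq_mul_inv]
  exact (hB b).mul (hB b').inv

end Groth.Agent.Etalg.EssTrdeg
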