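import Groth.Agent.S2015
import Mathlib.RingTheory.TensorProduct.Quotient
import Mathlib.LinearAlgebra.TensorProduct.Pi
import Mathlib.RingTheory.AdjoinRoot
import Mathlib.RingTheory.Ideal.Over
import Mathlib.RingTheory.LocalRing.Basic
import Mathlib.RingTheory.Unramified.LocalStructure
import Mathlib.RingTheory.Localization.AtPrime.Basic
import Mathlib.RingTheory.LocalRing.MaximalIdeal.Basic
import Mathlib.RingTheory.LocalRing.RingHom.Basic

/-!
# Etale-local extensions of valuation rings are weakly unramified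

Proof: if `C` is (standard-)etale-local over a ring `A` with totally ordered divisibility, `x ∈ C` is a
root of the monic polynomial `f`, `f'(x)` is a unit, then `C/p(x)C` is a direct summand of
`C ⊗ A[X]/(f, p)`, and `A[X]/(f, p)` is a finite direct sum of cyclic modules `A/(a i)` (Warfield), so
that `p(x)` is a unit times one of the `a i`.
-/

set_option autoImplicit false
universe u
open Polynomial TensorProduct

namespace Groth.Agent.Etalg.EtaleValuation

/-- The algebra `A[X]/(f, p)` is a finitely presented `A`-module when `f` is monic. -/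
theorem finitePresentation_quot {A : Type u} [CommRing A] (f : A[X]) (hf : f.Monic) (p : A[X]) :
    Module.FinitePresentation A (AdjoinRoot f ⧸ Ideal.span {AdjoinRoot.mk f p}) := by
  have : Module.Free A (AdjoinRoot f) := hf.free_adjoinRoot
  have : Module.Finite A (AdjoinRoot f) := hf.finite_adjoinRoot
  have : Module.FinitePresentation A (AdjoinRoot f) := Module.finitePresentation_of_projective _ _
  refine Module.finitePresentation_of_surjective
    ((Ideal.Quotient.mkₐ A (Ideal.span {AdjoinRoot.mk f p})).toLinearMap)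
    (Ideal.Quotient.mkₐ_surjective A _) ?_
  have : LinearMap.ker ((Ideal.Quotient.mkₐ A (Ideal.span {AdjoinRoot.mk f p})).toLinearMap) =
      LinearMap.range (LinearMap.mulLeft A (AdjoinRoot.mk f p)) := by
    ext y
    rw [LinearMap.mem_ker, LinearMap.mem_range, AlgHom.toLinearMap_apply, Ideal.Quotient.mkₐ_eq_mk,
      Ideal.Quotient.eq_zero_iff_mem, Ideal.mem_span_singleton']
    constructor
    · rintro ⟨a, rfl⟩
      exact ⟨a, by rw [LinearMap.mulLeft_apply, mul_comm]⟩
    · rintro ⟨a, rfl⟩
      exact ⟨a, by rw [LinearMap.mulLeft_apply, mul_comm]⟩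
  rw [this, LinearMap.range_eq_map]
  exact Submodule.FG.map _ (Module.Finite.fg_top)

theorem span_singleton_eq_of_retract {A C : Type u} [CommRing A] [CommRing C]
    [IsLocalRing C] [Algebra A C] {M : Type u} [CommRing M] [Algebra A M] {n : ℕ} (a : Fin n → A)
    (e : M ≃ₗ[A] ((i : Fin n) → A ⧸ Ideal.span {a i})) (b : C) (hb : ¬ IsUnit b)
    (π : C ⊗[A] M →ₐ[C] C ⧸ Ideal.span {b}) (z : C ⊗[A] M) (hz : b • z = 0) (hu : IsUnit (π z)) :
    ∃ i, Ideal.span {b} = Ideal.span {algebraMap A C (a i)} := by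
  classical
  -- decomposition of the tensor product
  let e1 : C ⊗[A] M ≃ₗ[C] C ⊗[A] ((i : Fin n) → A ⧸ Ideal.span {a i}) :=
    TensorProduct.AlgebraTensorModule.congr (LinearEquiv.refl C C) e
  let e2 := TensorProduct.piRight A C C (fun i : Fin n => A ⧸ Ideal.span {a i})
  let E : C ⊗[A] M ≃ₗ[C] ((i : Fin n) → C ⊗[A] (A ⧸ Ideal.span {a i})) := e1.trans e2
  have hcyc : ∀ i, ∃ c : C, E z i = c ⊗ₜ[A] (1 : A ⧸ Ideal.span {a i}) := by
    intro i
    obtain ⟨y, hy⟩ := (Algebra.TensorProduct.quotIdealMapEquivTensorQuot C (Ideal.span {a i})).surjective (E z i)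
    obtain ⟨c, rfl⟩ := Ideal.Quotient.mk_surjective y
    exact ⟨c, hy.symm⟩
  choose c hc using hcyc
  have hbc : ∀ i, b * c i ∈ Ideal.span {algebraMap A C (a i)} := by
    intro i
    have h0 : (b * c i) ⊗ₜ[A] (1 : A ⧸ Ideal.span {a i}) = 0 := by
      have : b • E z i = 0 := by
        rw [← Pi.smul_apply, ← map_smul, hz, map_zero, Pi.zero_apply]
      rw [hc i, TensorProduct.smul_tmul'] at this
      exact this
    have h1 : (Algebra.TensorProduct.quotIdealMapEquivTensorQuot C (Ideal.span {a i}))
        (Ideal.Quotient.mk _ (b * c i)) = 0 := h0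
    rw [map_eq_zero_iff _ (AlgEquiv.injective _), Ideal.Quotient.eq_zero_iff_mem, Ideal.map_span,
      Set.image_singleton] at h1
    exact h1
  let t : Fin n → C ⧸ Ideal.span {b} := fun i => π (E.symm (Pi.single i ((1 : C) ⊗ₜ[A] (1 : A ⧸ Ideal.span {a i}))))
  have hsum : π z = ∑ i, Ideal.Quotient.mk (Ideal.span {b}) (c i) * t i := by
    have h1 : z = ∑ i, c i • E.symm (Pi.single i ((1 : C) ⊗ₜ[A] (1 : A ⧸ Ideal.span {a i}))) := by
      apply E.injective
      rw [map_sum]
      simp only [map_smul, LinearEquiv.apply_symm_apply]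
      ext i
      rw [Finset.sum_apply, Finset.sum_eq_single i]
      · rw [Pi.smul_apply, Pi.single_eq_same, hc i, TensorProduct.smul_tmul', smul_eq_mul, mul_one]
      · intro j _ hj
        rw [Pi.smul_apply, Pi.single_eq_of_ne (Ne.symm hj), smul_zero]
      · intro h; exact absurd (Finset.mem_univ i) h
    conv_lhs => rw [h1]
    rw [map_sum]
    refine Finset.sum_congr rfl fun i _ => ?_
    rw [map_smul, Algebra.smul_def]
    rfl
  have hat : ∀ i, Ideal.Quotient.mk (Ideal.span {b}) (algebraMap A C (a i)) * t i = 0 := by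
    intro i
    have h0 : algebraMap A C (a i) • (Pi.single i ((1 : C) ⊗ₜ[A] (1 : A ⧸ Ideal.span {a i})) :
        (i : Fin n) → C ⊗[A] (A ⧸ Ideal.span {a i})) = 0 := by
      rw [← Pi.single_smul, algebraMap_smul, ← TensorProduct.tmul_smul]
      have : a i • (1 : A ⧸ Ideal.span {a i}) = 0 := by
        rw [Algebra.smul_def, mul_one]
        exact Ideal.Quotient.eq_zero_iff_mem.mpr (Ideal.mem_span_singleton_self _)
      rw [this, TensorProduct.tmul_zero, Pi.single_zero]
    have h1 : Ideal.Quotient.mk (Ideal.span {b}) (algebraMap A C (a i)) * t i =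
        algebraMap A C (a i) • t i := by
      rw [Algebra.smul_def]; rfl
    rw [h1]
    change algebraMap A C (a i) • π _ = 0
    rw [← map_smul, ← map_smul, h0, map_zero, map_zero]
  -- `C / b` is local
  have : Nontrivial (C ⧸ Ideal.span {b}) := Ideal.Quotient.nontrivial_iff.mpr (by
    rwa [Ne, Ideal.span_singleton_eq_top])
  have : IsLocalRing (C ⧸ Ideal.span {b}) :=
    IsLocalRing.of_surjective' (Ideal.Quotient.mk (Ideal.span {b})) Ideal.Quotient.mk_surjective
  have : IsLocalHom (Ideal.Quotient.mk (Ideal.span {b})) :=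
    IsLocalHom.of_surjective _ Ideal.Quotient.mk_surjective
  have hex : ∃ i, IsUnit (Ideal.Quotient.mk (Ideal.span {b}) (c i) * t i) := by
    by_contra hcon
    push Not at hcon
    have : π z ∈ IsLocalRing.maximalIdeal (C ⧸ Ideal.span {b}) := by
      rw [hsum]
      exact sum_mem fun i _ => hcon i
    exact this hu
  obtain ⟨i, hi⟩ := hex
  have hci : IsUnit (c i) := isUnit_of_map_unit _ _ (isUnit_of_mul_isUnit_left hi)
  have hti : IsUnit (t i) := isUnit_of_mul_isUnit_right hi
  refine ⟨i, le_antisymm ?_ ?_⟩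
  · rw [Ideal.span_singleton_le_iff_mem]
    exact (Ideal.mul_unit_mem_iff_mem _ hci).mp (hbc i)
  · rw [Ideal.span_singleton_le_iff_mem, ← Ideal.Quotient.eq_zero_iff_mem]
    exact (hti.mul_left_eq_zero).mp (hat i)

theorem exists_span_aeval_eq {A C : Type u} [CommRing A] [Nontrivial A] [CommRing C] [IsLocalRing C]
    [Algebra A C] (hA : ∀ a b : A, a ∣ b ∨ b ∣ a) (f : A[X]) (hf : f.Monic) (x : C)
    (hx : aeval x f = 0) (hx' : IsUnit (aeval x (derivative f))) (p : A[X]) :
    ∃ a : A, Ideal.span {aeval x p} = Ideal.span {algebraMap A C a} := by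
  classical
  by_cases hunit : IsUnit (aeval x p)
  · refine ⟨1, ?_⟩
    rw [map_one, Ideal.span_singleton_eq_top.mpr hunit, Ideal.span_singleton_one]
  let b : C := aeval x p
  let M := AdjoinRoot f ⧸ Ideal.span {AdjoinRoot.mk f p}
  have : Module.FinitePresentation A M := finitePresentation_quot f hf p
  obtain ⟨n, a, ⟨e⟩⟩ := Groth.Agent.S2015.result A hA M
  -- the class of `X`
  let ξ : M := Ideal.Quotient.mk _ (AdjoinRoot.root f)
  have hξ : ∀ q : A[X], aeval ξ q = Ideal.Quotient.mk _ (AdjoinRoot.mk f q) := by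
    intro q
    have : ξ = Ideal.Quotient.mkₐ A (Ideal.span {AdjoinRoot.mk f p}) (AdjoinRoot.root f) := rfl
    rw [this, aeval_algHom_apply, AdjoinRoot.aeval_eq]
    rfl
  -- the map `M → C / b`
  let φ0 : AdjoinRoot f →ₐ[A] C := AdjoinRoot.liftAlgHom f (Algebra.ofId A C) x hx
  have hφ0 : ∀ q : A[X], φ0 (AdjoinRoot.mk f q) = aeval x q := by
    intro q
    rw [AdjoinRoot.liftAlgHom_mk]
    rfl
  let φ : M →ₐ[A] C ⧸ Ideal.span {b} := Ideal.Quotient.liftₐ _
    ((Ideal.Quotient.mkₐ A (Ideal.span {b})).comp φ0) (by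
      intro y hy
      obtain ⟨c, rfl⟩ := Ideal.mem_span_singleton'.mp hy
      rw [map_mul, AlgHom.comp_apply _ _ (AdjoinRoot.mk f p), hφ0, Ideal.Quotient.mkₐ_eq_mk,
        Ideal.Quotient.eq_zero_iff_mem.mpr (Ideal.mem_span_singleton_self b), mul_zero])
  let π : C ⊗[A] M →ₐ[C] C ⧸ Ideal.span {b} :=
    Algebra.TensorProduct.lift (Algebra.ofId C _) φ (fun _ _ => Commute.all _ _)
  let ρ : C[X] →ₐ[C] C ⊗[A] M := aeval ((1 : C) ⊗ₜ[A] ξ)
  have hρ : ∀ q : A[X], ρ (q.map (algebraMap A C)) = (1 : C) ⊗ₜ[A] (aeval ξ q) := by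
    intro q
    change aeval _ (q.map (algebraMap A C)) = _
    rw [aeval_map_algebraMap]
    have : (1 : C) ⊗ₜ[A] ξ = (Algebra.TensorProduct.includeRight : M →ₐ[A] C ⊗[A] M) ξ := rfl
    rw [this, aeval_algHom_apply]
    rfl
  have hπρ : ∀ q : C[X], π (ρ q) = Ideal.Quotient.mk (Ideal.span {b}) (q.eval x) := by
    intro q
    have h1 : π ((1 : C) ⊗ₜ[A] ξ) = Ideal.Quotient.mk (Ideal.span {b}) x := by
      change Algebra.TensorProduct.lift _ _ _ _ = _
      rw [Algebra.TensorProduct.lift_tmul, map_one, one_mul]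
      change Ideal.Quotient.mk _ (φ0 (AdjoinRoot.root f)) = _
      have := hφ0 X
      rw [AdjoinRoot.mk_X, aeval_X] at this
      rw [this]
    change π (aeval _ q) = _
    rw [← aeval_algHom_apply, h1]
    have h2 : Ideal.Quotient.mk (Ideal.span {b}) x = Ideal.Quotient.mkₐ C (Ideal.span {b}) x := rfl
    rw [h2, aeval_algHom_apply]
    rfl
  -- factor `f = (X - x) q`
  obtain ⟨q, hq⟩ : (X - Polynomial.C x) ∣ f.map (algebraMap A C) := by
    rw [dvd_iff_isRoot, IsRoot.def, eval_map_algebraMap, hx]
  obtain ⟨h, hh⟩ : (X - Polynomial.C x) ∣ p.map (algebraMap A C) - Polynomial.C b := by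
    rw [dvd_iff_isRoot, IsRoot.def, eval_sub, eval_map_algebraMap, eval_C, sub_self]
  have hq' : q.eval x = aeval x (derivative f) := by
    have := congrArg (fun g => (derivative g).eval x) hq
    simp only [derivative_mul, derivative_sub, derivative_X, derivative_C, sub_zero, one_mul,
      eval_add, eval_mul, eval_sub, eval_X, eval_C, sub_self, zero_mul, add_zero,
      derivative_map, eval_map_algebraMap] at this
    exact this.symm
  obtain ⟨i, hi⟩ := span_singleton_eq_of_retract a e b hunit π (ρ q) (by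
    have h1 : b • ρ q = ρ (Polynomial.C b * q) := by
      rw [← map_smul, Polynomial.smul_eq_C_mul]
    have h2 : Polynomial.C b * q = p.map (algebraMap A C) * q - f.map (algebraMap A C) * h := by
      linear_combination (-q) * hh + h * hq
    rw [h1, h2, map_sub, map_mul, map_mul, hρ, hρ, hξ, hξ, AdjoinRoot.mk_self, map_zero,
      Ideal.Quotient.eq_zero_iff_mem.mpr (Ideal.mem_span_singleton_self _), TensorProduct.tmul_zero,
      zero_mul, zero_mul, sub_zero]) (by
    rw [hπρ, hq']
    exact hx'.map _)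
  exact ⟨a i, hi⟩

/-- Every element of the local ring of an etale algebra over a ring with totally ordered
divisibility generates the same ideal as an element of the base. -/
theorem exists_span_eq_of_etale {A B : Type u} [CommRing A] [Nontrivial A] [CommRing B]
    [Algebra A B] [Algebra.Etale A B] (hA : ∀ a b : A, a ∣ b ∨ b ∣ a) (m : Ideal B) [m.IsPrime]
    (b : Localization.AtPrime m) :
    ∃ a : A, Ideal.span {b} = Ideal.span {algebraMap A (Localization.AtPrime m) a} := by
  obtain ⟨g, hg, hst⟩ := Algebra.IsEtaleAt.exists_isStandardEtale (R := A) m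
  obtain ⟨P⟩ := hst.nonempty_standardEtalePresentation
  let φ : Localization.Away g →ₐ[B] Localization.AtPrime m :=
    IsLocalization.Away.liftAlgHom g (f := Algebra.ofId B (Localization.AtPrime m))
      (IsLocalization.map_units (Localization.AtPrime m) (⟨g, hg⟩ : m.primeCompl))
  let φA : Localization.Away g →ₐ[A] Localization.AtPrime m := φ.restrictScalars A
  have hmap := P.hasMap.map φA
  obtain ⟨⟨y, s⟩, hys⟩ := IsLocalization.surj m.primeCompl b
  obtain ⟨p, n, hp⟩ := P.exists_mul_aeval_x_g_pow_eq_aeval_x (algebraMap B (Localization.Away g) y)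
  have hp' : algebraMap B (Localization.AtPrime m) y * (aeval (φA P.x) P.g) ^ n = aeval (φA P.x) p := by
    have := congrArg φA hp
    rw [map_mul, map_pow, ← aeval_algHom_apply, ← aeval_algHom_apply] at this
    rw [← this]
    congr 1
    exact (φ.commutes y).symm
  obtain ⟨a, ha⟩ := exists_span_aeval_eq hA P.f P.monic_f (φA P.x) hmap.1 hmap.isUnit_derivative_f p
  refine ⟨a, ?_⟩
  rw [← ha, ← hp', ← hys]
  rw [Ideal.span_singleton_mul_right_unit (hmap.2.pow n),
    Ideal.span_singleton_mul_right_unit (IsLocalization.map_units (Localization.AtPrime m) s)]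

end Groth.Agent.Etalg.EtaleValuation
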