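import Groth.Agent.S0107
import Groth.Agent.Sga4B.ConstLC
import Groth.Agent.EtpbcA.FLCExact
import Groth.Agent.EtpbcA.RpushTors
import Groth.Agent.Etrest.ConstBasic
import Groth.Agent.Etbase.EtColim
import Groth.Agent.EtpbcA.CdDiesEt

/-!
# Torsors under finite locally constant sheaves are killed by finite étale covers

`exists_finite_lift`: `0 → G → K → Q → 0` exact sequence of abelian étale sheaves on `Y`, `G` finite
locally constant, `q` a global section of `Q` killed by `n > 0`.  Then there is a finite étale surjective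
`P → Y` and a section of `K` over `P` mapping to `q|P`.
-/

set_option autoImplicit false
universe u
open CategoryTheory CategoryTheory.Limits AlgebraicGeometry Opposite

namespace Groth.Agent.Etalg.FLCTorsor

open Groth.Agent.Sga4B.ConstLC Groth.Agent.EtpbcA

variable {Y : Scheme.{u}}

/-- the map `LC (ZMod n) → Q` given by a section killed by `n` -/
theorem exists_hom {n : ℕ} (Q : EtCoh.Ab Y) (q : EtCoh.sect Q (EtCoh.top Y)) (hq : n • q = 0) :
    ∃ φ : LC Y (ULift.{u + 1} (ZMod n)) ⟶ Q,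
      φ.hom.app (op (EtCoh.top Y)) (constSec (ULift.{u + 1} (ZMod n)) (EtCoh.top Y) ⟨1⟩) = q := by
  have hq' : (zmultiplesHom (EtCoh.sect Q (EtCoh.top Y)) q) (n : ℤ) = 0 := by
    simpa using hq
  let a : ZMod n →+ EtCoh.sect Q (EtCoh.top Y) := ZMod.lift n ⟨(zmultiplesHom _ q : ℤ →+ _), hq'⟩
  let b : AddCommGrpCat.of (ULift.{u + 1} (ZMod n)) ⟶ Q.obj.obj (op (EtCoh.top Y)) :=
    AddCommGrpCat.ofHom (a.comp AddEquiv.ulift.toAddMonoidHom)
  obtain ⟨φ, hφ⟩ := (LC_hom_bijective Y (ULift.{u + 1} (ZMod n))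
    (Groth.Agent.Etbase.EtColim.topIsTerminal Y) Q).2 b
  refine ⟨φ, ?_⟩
  have h := ConcreteCategory.congr_hom hφ (⟨1⟩ : ULift.{u + 1} (ZMod n))
  refine h.trans ?_
  change a 1 = q
  have h1 : a ((1 : ℤ) : ZMod n) = (zmultiplesHom (EtCoh.sect Q (EtCoh.top Y)) q) (1 : ℤ) :=
    ZMod.lift_coe n _ _
  have h2 : ((1 : ℤ) : ZMod n) = 1 := by simp
  rw [h2] at h1
  rw [h1]
  simp

theorem isFLC_LC (M : Type) [AddCommGroup M] [Finite M] :
    EtCoh.IsFiniteLocallyConstant (LC Y (ULift.{u + 1} M)) :=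
  Groth.Agent.Etrest.ConstBasic.isFiniteLocallyConstant_of_iso (constIso Y M)
    (Groth.Agent.Etrest.ConstBasic.isFiniteLocallyConstant_const Y M)

section pb

variable {A : Type*} [Category A] [Abelian A] {X₁ X₂ X₃ : A} {f : X₁ ⟶ X₂} {g : X₂ ⟶ X₃} {w : f ≫ g = 0}

/-- pullback of a short exact sequence -/
theorem pb_shortExact (hS : (ShortComplex.mk f g w).ShortExact) {Z : A} (φ : Z ⟶ X₃) :
    (ShortComplex.mk (pullback.lift (f := g) (g := φ) f (0 : X₁ ⟶ Z) (by rw [w, zero_comp]))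
      (pullback.snd g φ) (pullback.lift_snd _ _ _)).ShortExact := by
  have h1 : Mono f := hS.mono_f
  have h2 : Epi g := hS.epi_g
  have hm : Mono (pullback.lift (f := g) (g := φ) f (0 : X₁ ⟶ Z) (by rw [w, zero_comp])) := by
    have : Mono (pullback.lift (f := g) (g := φ) f (0 : X₁ ⟶ Z) (by rw [w, zero_comp]) ≫
        pullback.fst g φ) := by rw [pullback.lift_fst]; infer_instance
    exact mono_of_mono _ (pullback.fst g φ)
  have he : Epi (pullback.snd g φ) := inferInstance
  refine ⟨?_⟩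
  refine ShortComplex.exact_of_f_is_kernel _ ?_
  refine KernelFork.IsLimit.ofι' _ _ fun {W} (k : W ⟶ pullback g φ) (hk : k ≫ pullback.snd g φ = 0) => ?_
  have h0 : (k ≫ pullback.fst g φ) ≫ g = 0 := by
    rw [Category.assoc, pullback.condition, ← Category.assoc, hk, zero_comp]
  refine ⟨hS.exact.lift _ h0, ?_⟩
  have h3 : hS.exact.lift _ h0 ≫ f = k ≫ pullback.fst g φ := hS.exact.lift_f _ h0
  change hS.exact.lift _ h0 ≫ pullback.lift (f := g) (g := φ) f (0 : X₁ ⟶ Z) _ = k
  apply pullback.hom_ext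
  · rw [Category.assoc, pullback.lift_fst, h3]
  · rw [Category.assoc, pullback.lift_snd, hk, comp_zero]

end pb

/-- the structure map to the terminal object -/
noncomputable def toTop (P : Y.Etale) : P ⟶ EtCoh.top Y :=
  (Groth.Agent.Etbase.EtColim.topIsTerminal Y).from P

open Groth.Agent.CurvesA Groth.Agent.EtpbcA.CdDiesEt in
/-- sections of a fibre product of étale sheaves -/
theorem exists_pullback_sect {K L Q : EtCoh.Ab Y} (p : K ⟶ Q) (φ : L ⟶ Q) {T : Y.Etale}
    (t : EtCoh.sect K T) (c : EtCoh.sect L T) (h : p.hom.app (op T) t = φ.hom.app (op T) c) :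
    ∃ e : EtCoh.sect (pullback p φ) T, (pullback.fst p φ).hom.app (op T) e = t ∧
      (pullback.snd p φ).hom.app (op T) e = c := by
  let t' : (Zf Y).obj T ⟶ K := SiteZU.lift.{u + 1} t
  let c' : (Zf Y).obj T ⟶ L := SiteZU.lift.{u + 1} c
  have ht : SiteZU.ev.{u + 1} t' = t := SiteZU.ev_lift.{u + 1} t
  have hc : SiteZU.ev.{u + 1} c' = c := SiteZU.ev_lift.{u + 1} c
  have hw : t' ≫ p = c' ≫ φ := by
    apply SiteZU.ev_injective
    rw [SiteZU.ev_comp, SiteZU.ev_comp, ht, hc]
    exact h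
  refine ⟨SiteZU.ev.{u + 1} (pullback.lift t' c' hw), ?_, ?_⟩
  · rw [← SiteZU.ev_comp, pullback.lift_fst, ht]
  · rw [← SiteZU.ev_comp, pullback.lift_snd, hc]

theorem exists_finite_lift {n : ℕ} (hn : 0 < n) {G K Q : EtCoh.Ab Y} {f : G ⟶ K} {p : K ⟶ Q}
    {w : f ≫ p = 0} (hS : (ShortComplex.mk f p w).ShortExact)
    (h1 : EtCoh.IsFiniteLocallyConstant G) (q : EtCoh.sect Q (EtCoh.top Y)) (hq : n • q = 0) :
    ∃ (P : Y.Etale) (k : EtCoh.sect K P), IsFinite P.hom ∧ Surjective P.hom ∧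
      p.hom.app (op P) k = Q.obj.map (toTop P).op q := by
  have : NeZero n := ⟨hn.ne'⟩
  have hp : Epi p := hS.epi_g
  obtain ⟨φ, hφ⟩ := exists_hom Q q hq
  have hφT : ∀ T : Y.Etale, φ.hom.app (op T) (constSec (ULift.{u + 1} (ZMod n)) T ⟨1⟩) =
      Q.obj.map (toTop T).op q := by
    intro T
    rw [← hφ]
    exact ConcreteCategory.congr_hom (φ.hom.naturality (toTop T).op)
      (constSec (ULift.{u + 1} (ZMod n)) (EtCoh.top Y) ⟨1⟩)
  let E := pullback p φ
  have hE : EtCoh.IsFiniteLocallyConstant E :=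
    FLCExact.flc_extension (pb_shortExact hS φ) h1 (isFLC_LC (ZMod n))
  obtain ⟨U, hU, ⟨e⟩⟩ := Groth.Agent.S0107.result E hE
  let e0 : EtCoh.sect E U := e.inv.app (op U) ⟨𝟙 U⟩
  have hrep : ∀ (T : Y.Etale) (t : EtCoh.sect E T), ∃ g : T ⟶ U, E.obj.map g.op e0 = t := by
    intro T t
    let g' : ULift (T ⟶ U) := e.hom.app (op T) t
    refine ⟨g'.down, ?_⟩
    have h1 : e.inv.app (op T) ⟨g'.down⟩ = t := by
      change e.inv.app (op T) (e.hom.app (op T) t) = t
      exact ConcreteCategory.congr_hom (e.hom_inv_id_app (op T)) t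
    rw [← h1]
    have h2 := ConcreteCategory.congr_hom (e.inv.naturality g'.down.op) (⟨𝟙 U⟩ : ULift (U ⟶ U))
    refine h2.symm.trans ?_
    exact congrArg (fun x => e.inv.app (op T) (ULift.up x)) (Category.comp_id g'.down)
  let zT : ∀ T : Y.Etale, EtCoh.sect E T → LocallyConstant T.left (ULift.{u + 1} (ZMod n)) :=
    fun T t => (pullback.snd p φ).hom.app (op T) t
  have hzT : ∀ (T : Y.Etale) (g : T ⟶ U) (x : T.left),
      zT T (E.obj.map g.op e0) x = zT U e0 (g.left x) := by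
    intro T g x
    have h := ConcreteCategory.congr_hom ((pullback.snd p φ).hom.naturality g.op) e0
    exact congrArg (fun y : LocallyConstant T.left (ULift.{u + 1} (ZMod n)) => y x) h
  let N : U.left.Opens := ⟨zT U e0 ⁻¹' {⟨1⟩}, (zT U e0).isLocallyConstant.isOpen_fiber _⟩
  have hNc : IsClosed (N : Set U.left) := (zT U e0).isLocallyConstant.isClosed_fiber _
  let P : Y.Etale := openSub U N
  have : IsClosedImmersion N.ι := by
    refine IsClosedImmersion.of_isPreimmersion _ ?_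
    rw [Scheme.Opens.range_ι]
    exact hNc
  have hPfin : IsFinite P.hom := by
    have : IsFinite (N.ι ≫ U.hom) := inferInstance
    exact this
  refine ⟨P, (pullback.fst p φ).hom.app (op P) (E.obj.map (openSubι U N).op e0), hPfin, ?_, ?_⟩
  · refine ⟨fun y => ?_⟩
    obtain ⟨T, g, v, -, hv, t, ht⟩ := RpushTors.exists_affine_lift p (EtCoh.top Y) q y
    have hg : g = toTop T := (Groth.Agent.Etbase.EtColim.topIsTerminal Y).hom_ext _ _
    obtain ⟨e1, he1, he2⟩ := exists_pullback_sect p φ t (constSec (ULift.{u + 1} (ZMod n)) T ⟨1⟩)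
      (by rw [ht, hφT, hg])
    obtain ⟨h, hh⟩ := hrep T e1
    have h1 : zT U e0 (h.left v) = ⟨1⟩ := by
      rw [← hzT, hh]
      exact congrArg (fun y : LocallyConstant T.left (ULift.{u + 1} (ZMod n)) => y v) he2
    refine ⟨(⟨h.left v, h1⟩ : N), ?_⟩
    have h2 : U.hom (h.left v) = T.hom v := (Groth.Agent.EtpbcA.CdDiesEt.hom_left h v).symm
    have h3 : T.hom v = y := by
      rw [Groth.Agent.EtpbcA.CdDiesEt.hom_left g v, hv]
      rfl
    exact h2.trans h3
  · have hk : (pullback.fst p φ ≫ p).hom.app (op P) (E.obj.map (openSubι U N).op e0) =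
        (pullback.snd p φ ≫ φ).hom.app (op P) (E.obj.map (openSubι U N).op e0) := by
      rw [pullback.condition]
    have hc : (pullback.snd p φ).hom.app (op P) (E.obj.map (openSubι U N).op e0) =
        constSec (ULift.{u + 1} (ZMod n)) P ⟨1⟩ := by
      refine LocallyConstant.ext fun x => ?_
      refine (hzT P (openSubι U N) x).trans ?_
      exact x.2
    refine hk.trans ?_
    rw [← hφT P, ← hc]
    rfl

end Groth.Agent.Etalg.FLCTorsor
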