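import Mathlib.RingTheory.Flat.Basic
import Mathlib.RingTheory.Flat.Stability
import Mathlib.RingTheory.TensorProduct.Quotient
import Mathlib.LinearAlgebra.TensorProduct.Pi
import Mathlib.RingTheory.Ideal.Over
import Mathlib.RingTheory.Finiteness.Ideal

/-!
# Formal glueing: I-power torsion modules (Stacks 05E5 ff.)

`R → S` flat with `R/I → S/IS` bijective.
-/

set_option autoImplicit false
universe u v w
open TensorProduct

namespace Groth.Agent.Etalg.FormalGlue

variable {R : Type u} {S : Type v} [CommRing R] [CommRing S] [Algebra R S] {I : Ideal R}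

/-- `S = R + IS` iterated: `S = R + I ^ n S`. -/
theorem exists_sub_mem_pow
    (hs : ∀ s : S, ∃ r : R, s - algebraMap R S r ∈ I.map (algebraMap R S)) (n : ℕ) (s : S) :
    ∃ r : R, s - algebraMap R S r ∈ (I ^ n).map (algebraMap R S) := by
  induction n generalizing s with
  | zero => exact ⟨0, by simp [Ideal.map_top]⟩
  | succ n ih =>
    obtain ⟨r, hr⟩ := ih s
    -- elements of `I ^ n S` are in `image of R + I ^ (n+1) S`
    have key : ∀ x ∈ (I ^ n).map (algebraMap R S), ∃ r : R,
        x - algebraMap R S r ∈ (I ^ (n + 1)).map (algebraMap R S) := by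
      intro x hx
      refine Submodule.span_induction (p := fun x _ => ∃ r : R,
        x - algebraMap R S r ∈ (I ^ (n + 1)).map (algebraMap R S)) ?_ ?_ ?_ ?_ hx
      · rintro _ ⟨a, ha, rfl⟩
        exact ⟨a, by simp⟩
      · exact ⟨0, by simp⟩
      · rintro x y _ _ ⟨r1, h1⟩ ⟨r2, h2⟩
        refine ⟨r1 + r2, ?_⟩
        rw [map_add, add_sub_add_comm]
        exact add_mem h1 h2
      · rintro a x hx ⟨r1, h1⟩
        obtain ⟨r2, h2⟩ := hs a
        refine ⟨r2 * r1, ?_⟩
        have e : a • x - algebraMap R S (r2 * r1) =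
            (a - algebraMap R S r2) * x + algebraMap R S r2 * (x - algebraMap R S r1) := by
          rw [map_mul, smul_eq_mul]; ring
        rw [e]
        refine add_mem ?_ (Ideal.mul_mem_left _ _ h1)
        rw [pow_succ', Ideal.map_mul]
        exact Ideal.mul_mem_mul h2 hx
    obtain ⟨r', hr'⟩ := key _ hr
    refine ⟨r + r', ?_⟩
    rw [map_add, ← sub_sub]
    exact hr'

/-- Surjectivity of `R/I → S/IS` in terms of elements. -/
theorem exists_sub_mem_of_surjective
    (h : Function.Surjective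
      (Ideal.quotientMap (I.map (algebraMap R S)) (algebraMap R S) Ideal.le_comap_map)) (s : S) :
    ∃ r : R, s - algebraMap R S r ∈ I.map (algebraMap R S) := by
  obtain ⟨x, hx⟩ := h (Ideal.Quotient.mk _ s)
  obtain ⟨r, rfl⟩ := Ideal.Quotient.mk_surjective x
  rw [Ideal.quotientMap_mk, eq_comm, Ideal.Quotient.eq] at hx
  exact ⟨r, hx⟩

/-- Injectivity of `R/I → S/IS` in terms of elements. -/
theorem mem_of_injective
    (h : Function.Injective
      (Ideal.quotientMap (I.map (algebraMap R S)) (algebraMap R S) Ideal.le_comap_map)) (r : R)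
    (hr : algebraMap R S r ∈ I.map (algebraMap R S)) : r ∈ I := by
  rw [← Ideal.Quotient.eq_zero_iff_mem]
  apply h
  rw [Ideal.quotientMap_mk, map_zero, Ideal.Quotient.eq_zero_iff_mem]
  exact hr

/-- If `R/I → S/IS` is bijective and `I ≤ J` then `JS ∩ R = J`. -/
theorem mem_of_le
    (h : Function.Bijective
      (Ideal.quotientMap (I.map (algebraMap R S)) (algebraMap R S) Ideal.le_comap_map))
    {J : Ideal R} (hIJ : I ≤ J) (r : R) (hr : algebraMap R S r ∈ J.map (algebraMap R S)) :
    r ∈ J := by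
  have key : ∀ x ∈ J.map (algebraMap R S), ∃ j ∈ J, x - algebraMap R S j ∈ I.map (algebraMap R S) := by
    intro x hx
    refine Submodule.span_induction (p := fun x _ => ∃ j ∈ J,
        x - algebraMap R S j ∈ I.map (algebraMap R S)) ?_ ?_ ?_ ?_ hx
    · rintro _ ⟨a, ha, rfl⟩
      exact ⟨a, ha, by simp⟩
    · exact ⟨0, zero_mem _, by simp⟩
    · rintro x y _ _ ⟨r1, hr1, h1⟩ ⟨r2, hr2, h2⟩
      refine ⟨r1 + r2, add_mem hr1 hr2, ?_⟩
      rw [map_add, add_sub_add_comm]
      exact add_mem h1 h2
    · rintro a x hx ⟨r1, hr1, h1⟩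
      obtain ⟨r2, h2⟩ := exists_sub_mem_of_surjective h.2 a
      refine ⟨r2 * r1, Ideal.mul_mem_left _ _ hr1, ?_⟩
      have e : a • x - algebraMap R S (r2 * r1) =
          a * (x - algebraMap R S r1) + algebraMap R S r1 * (a - algebraMap R S r2) := by
        rw [map_mul, smul_eq_mul]; ring
      rw [e]
      exact add_mem (Ideal.mul_mem_left _ _ h1) (Ideal.mul_mem_left _ _ h2)
  obtain ⟨j, hj, hj'⟩ := key _ hr
  rw [← map_sub] at hj'
  have := hIJ (mem_of_injective h.1 _ hj')
  simpa using add_mem this hj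

/-- In a module all of whose elements are `I`-power torsion, a nonzero submodule contains a nonzero
element killed by `I`. -/
theorem exists_ne_zero_of_torsion {M : Type w} [AddCommGroup M] [Module R M] (n : ℕ) (m : M)
    (hm : m ≠ 0) (h : ∀ a ∈ I ^ n, a • m = 0) (N : Submodule R M) (hmN : m ∈ N) :
    ∃ m' ∈ N, m' ≠ 0 ∧ ∀ a ∈ I, a • m' = 0 := by
  induction n generalizing m with
  | zero => exact absurd (by simpa using h 1 (by simp)) hm
  | succ n ih =>
    by_cases hz : ∀ a ∈ I, a • m = 0
    · exact ⟨m, hmN, hm, hz⟩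
    · push Not at hz
      obtain ⟨a, ha, ham⟩ := hz
      refine ih (a • m) ham (fun b hb => ?_) (N.smul_mem _ hmN)
      rw [smul_smul]
      exact h _ (by rw [pow_succ]; exact Ideal.mul_mem_mul hb ha)

/-- An element `m` killed by an ideal `J` with `1 ⊗ m = 0` in `S ⊗ M`: `1 ∈ ann(m) S`. -/
theorem one_mem_of_tmul_eq_zero [Module.Flat R S] {M : Type w} [AddCommGroup M] [Module R M]
    (m : M) (h : (1 : S) ⊗ₜ[R] m = 0) :
    (1 : S) ∈ (Submodule.span R {m}).annihilator.map (algebraMap R S) := by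
  set J := (Submodule.span R {m}).annihilator with hJ
  let inc : R ⧸ J →ₗ[R] M := Submodule.liftQ _ ((LinearMap.lsmul R M).flip m) <| fun r hr => by
    simpa only [LinearMap.mem_ker, LinearMap.flip_apply, LinearMap.lsmul_apply,
      Submodule.mem_annihilator_span_singleton, hJ] using hr
  have injective_inc : Function.Injective inc := LinearMap.ker_eq_bot.1 <| eq_bot_iff.2 <| by
    intro r hr
    induction r using Quotient.inductionOn' with | h r =>
    simpa only [Submodule.Quotient.mk''_eq_mk, Submodule.mem_bot, Submodule.Quotient.mk_eq_zero,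
      Submodule.mem_annihilator_span_singleton, LinearMap.mem_ker, Submodule.liftQ_apply,
      LinearMap.flip_apply, LinearMap.lsmul_apply, hJ, inc] using hr
  have h1 : (1 : S) ⊗ₜ[R] (1 : R ⧸ J) = 0 := by
    apply Module.Flat.lTensor_preserves_injective_linearMap (M := S) inc injective_inc
    rw [map_zero, LinearMap.lTensor_tmul]
    have : inc (1 : R ⧸ J) = m := by
      change Submodule.liftQ J ((LinearMap.lsmul R M).flip m) _ (Submodule.Quotient.mk (1 : R)) = m
      rw [Submodule.liftQ_apply, LinearMap.flip_apply, LinearMap.lsmul_apply, one_smul]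
    rw [this, h]
  have h2 : (Algebra.TensorProduct.quotIdealMapEquivTensorQuot S J) (Ideal.Quotient.mk _ 1) = 0 := by
    rw [map_one, map_one]; exact h1
  rw [map_eq_zero_iff _ (AlgEquiv.injective _), Ideal.Quotient.eq_zero_iff_mem] at h2
  exact h2

/-- If `R → S` is flat and `R/I ≃ S/IS` then `M → S ⊗ M` is injective for `I`-power torsion `M`;
more precisely, `I`-power torsion elements `m` with `1 ⊗ m = 0` vanish. -/
theorem eq_zero_of_torsion [Module.Flat R S]
    (h : Function.Bijective
      (Ideal.quotientMap (I.map (algebraMap R S)) (algebraMap R S) Ideal.le_comap_map))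
    {M : Type w} [AddCommGroup M] [Module R M] (m : M) (n : ℕ) (hm : ∀ a ∈ I ^ n, a • m = 0)
    (h0 : (1 : S) ⊗ₜ[R] m = 0) : m = 0 := by
  by_contra hne
  obtain ⟨m', hm', hne', h'⟩ := exists_ne_zero_of_torsion n m hne hm
    (LinearMap.ker (TensorProduct.mk R S M 1)) h0
  have h1 := one_mem_of_tmul_eq_zero (S := S) m' hm'
  rw [← map_one (algebraMap R S)] at h1
  have h2 := mem_of_le h (J := (Submodule.span R {m'}).annihilator) (fun a ha => by
    rw [Submodule.mem_annihilator_span_singleton]; exact h' a ha) 1 h1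
  rw [Submodule.mem_annihilator_span_singleton, one_smul] at h2
  exact hne' h2

/-- If `R/I → S/IS` is surjective then `M → S ⊗ M` is surjective for `I`-power torsion `M`. -/
theorem mk_surjective_of_torsion
    (h : Function.Surjective
      (Ideal.quotientMap (I.map (algebraMap R S)) (algebraMap R S) Ideal.le_comap_map))
    {M : Type w} [AddCommGroup M] [Module R M] (hM : ∀ m : M, ∃ n : ℕ, ∀ a ∈ I ^ n, a • m = 0) :
    Function.Surjective (TensorProduct.mk R S M 1) := by
  intro x
  induction x with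
  | zero => exact ⟨0, by simp⟩
  | add x y hx hy =>
    obtain ⟨a, ha⟩ := hx
    obtain ⟨b, hb⟩ := hy
    exact ⟨a + b, by rw [map_add, ha, hb]⟩
  | tmul s m =>
    obtain ⟨n, hn⟩ := hM m
    obtain ⟨r, hr⟩ := exists_sub_mem_pow (exists_sub_mem_of_surjective h) n s
    refine ⟨r • m, ?_⟩
    have hz : (s - algebraMap R S r) ⊗ₜ[R] m = 0 := by
      refine Submodule.span_induction (p := fun x _ => x ⊗ₜ[R] m = 0) ?_ ?_ ?_ ?_ hr
      · rintro _ ⟨a, ha, rfl⟩
        rw [Algebra.algebraMap_eq_smul_one, smul_tmul, hn a ha, tmul_zero]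
      · exact zero_tmul _ _
      · intro x y _ _ hx hy
        rw [add_tmul, hx, hy, add_zero]
      · intro a x _ hx
        have : (a • x) ⊗ₜ[R] m = a • (x ⊗ₜ[R] m) := by rw [TensorProduct.smul_tmul']
        rw [this, hx, smul_zero]
    rw [sub_tmul, sub_eq_zero] at hz
    rw [hz, TensorProduct.mk_apply, tmul_smul, smul_tmul', Algebra.algebraMap_eq_smul_one]

/-- Stacks 05E9: if `R → S` is flat and `R/I ≃ S/IS` then `M ≃ S ⊗ M` for `I`-power torsion `M`. -/
theorem mk_bijective_of_torsion [Module.Flat R S]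
    (h : Function.Bijective
      (Ideal.quotientMap (I.map (algebraMap R S)) (algebraMap R S) Ideal.le_comap_map))
    {M : Type w} [AddCommGroup M] [Module R M] (hM : ∀ m : M, ∃ n : ℕ, ∀ a ∈ I ^ n, a • m = 0) :
    Function.Bijective (TensorProduct.mk R S M 1) := by
  refine ⟨?_, mk_surjective_of_torsion h.2 hM⟩
  rw [← LinearMap.ker_eq_bot, eq_bot_iff]
  intro m hm
  obtain ⟨n, hn⟩ := hM m
  exact eq_zero_of_torsion h m n hn hm

/-- Part of Stacks 05EA/05EG: if `N → H` has `I`-power torsion cokernel then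
`S ⊗ H = H + image of S ⊗ N`. -/
theorem exists_eq_add_of_coker_torsion
    (h : Function.Surjective
      (Ideal.quotientMap (I.map (algebraMap R S)) (algebraMap R S) Ideal.le_comap_map))
    {N H : Type*} [AddCommGroup N] [Module R N] [AddCommGroup H] [Module R H]
    (μ : N →ₗ[R] H) (hμ : ∀ x : H, ∃ n : ℕ, ∀ a ∈ I ^ n, a • x ∈ LinearMap.range μ)
    (z : S ⊗[R] H) : ∃ (x : H) (q : S ⊗[R] N), z = (1 : S) ⊗ₜ[R] x + μ.lTensor S q := by
  have hQ : ∀ m : H ⧸ LinearMap.range μ, ∃ n : ℕ, ∀ a ∈ I ^ n, a • m = 0 := by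
    intro m
    obtain ⟨x, rfl⟩ := Submodule.mkQ_surjective _ m
    obtain ⟨n, hn⟩ := hμ x
    refine ⟨n, fun a ha => ?_⟩
    rw [← map_smul, Submodule.mkQ_apply, Submodule.Quotient.mk_eq_zero]
    exact hn a ha
  obtain ⟨y, hy⟩ := mk_surjective_of_torsion h hQ ((LinearMap.range μ).mkQ.lTensor S z)
  obtain ⟨x, rfl⟩ := Submodule.mkQ_surjective _ y
  have hex : Function.Exact (μ.lTensor S) ((LinearMap.range μ).mkQ.lTensor S) :=
    lTensor_exact S (LinearMap.exact_map_mkQ_range μ) (Submodule.mkQ_surjective _)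
  have h0 : (LinearMap.range μ).mkQ.lTensor S (z - (1 : S) ⊗ₜ[R] x) = 0 := by
    rw [map_sub, ← hy, LinearMap.lTensor_tmul, TensorProduct.mk_apply, sub_self]
  obtain ⟨q, hq⟩ := (hex _).mp h0
  exact ⟨x, q, by rw [hq, add_sub_cancel]⟩

/-- If `N → H` has `I`-power torsion cokernel and `1 ⊗ x` is in the image of `S ⊗ N` then
`x` is in the image of `N`. -/
theorem mem_range_of_coker_torsion [Module.Flat R S]
    (h : Function.Bijective
      (Ideal.quotientMap (I.map (algebraMap R S)) (algebraMap R S) Ideal.le_comap_map))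
    {N H : Type*} [AddCommGroup N] [Module R N] [AddCommGroup H] [Module R H]
    (μ : N →ₗ[R] H) (hμ : ∀ x : H, ∃ n : ℕ, ∀ a ∈ I ^ n, a • x ∈ LinearMap.range μ)
    (x : H) (q : S ⊗[R] N) (hq : (1 : S) ⊗ₜ[R] x = μ.lTensor S q) : x ∈ LinearMap.range μ := by
  rw [← Submodule.Quotient.mk_eq_zero, ← Submodule.mkQ_apply]
  obtain ⟨n, hn⟩ := hμ x
  refine eq_zero_of_torsion (S := S) h _ n (fun a ha => ?_) ?_
  · rw [← map_smul, Submodule.mkQ_apply, Submodule.Quotient.mk_eq_zero]
    exact hn a ha
  · have hex : Function.Exact (μ.lTensor S) ((LinearMap.range μ).mkQ.lTensor S) :=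
      lTensor_exact S (LinearMap.exact_map_mkQ_range μ) (Submodule.mkQ_surjective _)
    rw [← LinearMap.lTensor_tmul, hq]
    exact (hex _).mpr ⟨q, rfl⟩

/-- Flat base change of the kernel of a matrix `A : N^ι → N^κ`. -/
theorem exists_of_matrix_kernel [Module.Flat R S] {N : Type*} [AddCommGroup N] [Module R N]
    {ι κ : Type*} [Fintype ι] [DecidableEq ι] [Fintype κ] [DecidableEq κ] (A : κ → ι → R)
    (Φ : (ι → N) →ₗ[R] (κ → N)) (hΦ : ∀ x k, Φ x k = ∑ i, A k i • x i)
    (y : ι → S ⊗[R] N) (hy : ∀ k, ∑ i, A k i • y i = 0) :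
    ∃ z : S ⊗[R] (LinearMap.ker Φ),
      ∀ i, ((LinearMap.proj i).comp (LinearMap.ker Φ).subtype).lTensor S z = y i := by
  let e1 := TensorProduct.piRight R R S (fun _ : ι => N)
  let e2 := TensorProduct.piRight R R S (fun _ : κ => N)
  have hcomm : ∀ z : S ⊗[R] (ι → N), ∀ k, e2 (Φ.lTensor S z) k = ∑ i, A k i • e1 z i := by
    intro z k
    induction z with
    | zero => simp
    | add a b ha hb =>
      rw [map_add, map_add, map_add, Pi.add_apply, ha, hb, ← Finset.sum_add_distrib]
      simp [smul_add]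
    | tmul s x =>
      simp only [LinearMap.lTensor_tmul, e1, e2, TensorProduct.piRight_apply,
        TensorProduct.piRightHom_tmul]
      rw [hΦ, tmul_sum]
      simp
  have h0 : Φ.lTensor S (e1.symm y) = 0 := by
    apply e2.injective
    rw [map_zero]
    funext k
    rw [hcomm, LinearEquiv.apply_symm_apply, hy k, Pi.zero_apply]
  have hex : Function.Exact ((LinearMap.ker Φ).subtype.lTensor S) (Φ.lTensor S) :=
    Module.Flat.lTensor_exact S (LinearMap.exact_subtype_ker_map Φ)
  obtain ⟨z, hz⟩ := (hex _).mp h0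
  refine ⟨z, fun i => ?_⟩
  rw [LinearMap.lTensor_comp, LinearMap.comp_apply, hz]
  have : ∀ w : S ⊗[R] (ι → N), (LinearMap.proj (R := R) (φ := fun _ : ι => N) i).lTensor S w = e1 w i := by
    intro w
    induction w with
    | zero => simp
    | add a b ha hb => rw [map_add, ha, hb, map_add, Pi.add_apply]
    | tmul s x => simp [e1]
  rw [this, LinearEquiv.apply_symm_apply]

/-- Elements of `S ⊗ N` killed by `g i` (all `i`), the `g i` generating an ideal containing a power
of `I`, come from elements of `N` killed by all `g i`. -/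
theorem exists_of_smul_eq_zero [Module.Flat R S]
    (h : Function.Bijective
      (Ideal.quotientMap (I.map (algebraMap R S)) (algebraMap R S) Ideal.le_comap_map))
    {N : Type*} [AddCommGroup N] [Module R N] {ι : Type*} [Fintype ι] [DecidableEq ι] (g : ι → R)
    (m : ℕ) (hg : I ^ m ≤ Ideal.span (Set.range g)) (x : S ⊗[R] N) (hx : ∀ i, g i • x = 0) :
    ∃ y : N, (1 : S) ⊗ₜ[R] y = x ∧ ∀ i, g i • y = 0 := by
  let Φ : (Unit → N) →ₗ[R] (ι → N) := LinearMap.pi fun i => g i • LinearMap.proj ()
  obtain ⟨z, hz⟩ := exists_of_matrix_kernel (S := S) (fun (i : ι) (_ : Unit) => g i) Φ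
    (fun x k => by simp [Φ]) (fun _ => x) (fun k => by simpa using hx k)
  have hK : ∀ w : LinearMap.ker Φ, ∀ i, g i • w = 0 := by
    rintro ⟨w, hw⟩ i
    ext u
    have := congrFun (LinearMap.mem_ker.mp hw) i
    simpa [Φ] using this
  have htor : ∀ w : LinearMap.ker Φ, ∃ n : ℕ, ∀ a ∈ I ^ n, a • w = 0 := by
    intro w
    refine ⟨m, fun a ha => ?_⟩
    refine Submodule.span_induction (p := fun a _ => a • w = 0) ?_ ?_ ?_ ?_ (hg ha)
    · rintro _ ⟨i, rfl⟩
      exact hK w i
    · exact zero_smul _ _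
    · intro a b _ _ h1 h2
      rw [add_smul, h1, h2, add_zero]
    · intro a b _ h1
      rw [smul_eq_mul, mul_smul, h1, smul_zero]
  obtain ⟨w, hw⟩ := mk_surjective_of_torsion h.2 htor z
  refine ⟨w.1 (), ?_, fun i => ?_⟩
  · rw [← hz (), ← hw]
    simp
  · have := congrArg (fun v : LinearMap.ker Φ => v.1 ()) (hK w i)
    simpa using this

/-- The map `N^ι → N^(ι × ι)` whose kernel is `{x | g i • x j = g j • x i}`. -/
def compat {N : Type*} [AddCommGroup N] [Module R N] {ι : Type*} (g : ι → R) :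
    (ι → N) →ₗ[R] (ι × ι → N) :=
  LinearMap.pi fun p => g p.1 • LinearMap.proj p.2 - g p.2 • LinearMap.proj p.1

theorem compat_apply {N : Type*} [AddCommGroup N] [Module R N] {ι : Type*} (g : ι → R)
    (x : ι → N) (p : ι × ι) : compat g x p = g p.1 • x p.2 - g p.2 • x p.1 := rfl

theorem mem_ker_compat {N : Type*} [AddCommGroup N] [Module R N] {ι : Type*} (g : ι → R)
    (x : ι → N) : x ∈ LinearMap.ker (compat g (N := N)) ↔ ∀ i j, g i • x j = g j • x i := by
  rw [LinearMap.mem_ker, funext_iff]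
  constructor
  · intro h i j
    have := h (i, j)
    rwa [compat_apply, Pi.zero_apply, sub_eq_zero] at this
  · rintro h ⟨i, j⟩
    rw [compat_apply, Pi.zero_apply, sub_eq_zero]
    exact h i j

/-- The map `N → {x | g i • x j = g j • x i}`, `x ↦ (g i • x)`. -/
def mulMap {N : Type*} [AddCommGroup N] [Module R N] {ι : Type*} (g : ι → R) :
    N →ₗ[R] LinearMap.ker (compat g (N := N)) :=
  LinearMap.codRestrict _ (LinearMap.pi fun i => g i • LinearMap.id) fun x => by
    rw [mem_ker_compat]
    intro i j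
    simp [smul_comm (g i) (g j)]

theorem mulMap_apply {N : Type*} [AddCommGroup N] [Module R N] {ι : Type*} (g : ι → R)
    (x : N) (i : ι) : (mulMap g x).1 i = g i • x := rfl

/-- The cokernel of `mulMap` is killed by the ideal generated by the `g i`. -/
theorem coker_mulMap_torsion {N : Type*} [AddCommGroup N] [Module R N] {ι : Type*} (g : ι → R)
    (m : ℕ) (hg : I ^ m ≤ Ideal.span (Set.range g)) (x : LinearMap.ker (compat g (N := N))) :
    ∃ n : ℕ, ∀ a ∈ I ^ n, a • x ∈ LinearMap.range (mulMap g (N := N)) := by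
  refine ⟨m, fun a ha => ?_⟩
  refine Submodule.span_induction (p := fun a _ => a • x ∈ LinearMap.range (mulMap g (N := N)))
    ?_ ?_ ?_ ?_ (hg ha)
  · rintro _ ⟨i, rfl⟩
    refine ⟨x.1 i, ?_⟩
    ext j
    rw [mulMap_apply]
    exact ((mem_ker_compat g x.1).mp x.2 j i)
  · rw [zero_smul]; exact zero_mem _
  · intro a b _ _ h1 h2
    rw [add_smul]; exact add_mem h1 h2
  · intro a b _ h1
    rw [smul_eq_mul, mul_smul]; exact Submodule.smul_mem _ _ h1

theorem lTensor_proj_mulMap {N : Type*} [AddCommGroup N] [Module R N] {ι : Type*} (g : ι → R)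
    (i : ι) (q : S ⊗[R] N) :
    ((LinearMap.proj i).comp (LinearMap.ker (compat g (N := N))).subtype).lTensor S
      ((mulMap g (N := N)).lTensor S q) = g i • q := by
  induction q with
  | zero => simp
  | add a b ha hb => rw [map_add, map_add, ha, hb, smul_add]
  | tmul s x =>
    rw [LinearMap.lTensor_tmul, LinearMap.lTensor_tmul, LinearMap.comp_apply, LinearMap.proj_apply,
      Submodule.subtype_apply, mulMap_apply, tmul_smul]

theorem sum_compat {N : Type*} [AddCommGroup N] [Module R N] {ι : Type*} [Fintype ι]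
    [DecidableEq ι] (g : ι → R) (y : ι → N) (p : ι × ι) :
    ∑ i, ((if i = p.2 then g p.1 else 0) - (if i = p.1 then g p.2 else 0)) • y i =
      g p.1 • y p.2 - g p.2 • y p.1 := by
  simp [sub_smul, ite_smul]

/-- Key lemma for the surjectivity part. -/
theorem exists_compat_family [Module.Flat R S]
    (h : Function.Surjective
      (Ideal.quotientMap (I.map (algebraMap R S)) (algebraMap R S) Ideal.le_comap_map))
    {N : Type*} [AddCommGroup N] [Module R N] {ι : Type*} [Fintype ι] [DecidableEq ι] (g : ι → R)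
    (m : ℕ) (hg : I ^ m ≤ Ideal.span (Set.range g)) (y : ι → S ⊗[R] N)
    (hy : ∀ i j, g i • y j = g j • y i) :
    ∃ (x : ι → N) (q : S ⊗[R] N), (∀ i j, g i • x j = g j • x i) ∧
      ∀ i, y i = (1 : S) ⊗ₜ[R] x i + g i • q := by
  obtain ⟨z, hz⟩ := exists_of_matrix_kernel (S := S)
    (fun (p : ι × ι) (k : ι) => (if k = p.2 then g p.1 else 0) - (if k = p.1 then g p.2 else 0))
    (compat g (N := N)) (fun x p => by
      rw [compat_apply]
      exact (sum_compat g x p).symm) y (fun p => by
      refine (sum_compat g y p).trans ?_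
      rw [hy p.1 p.2, sub_self])
  obtain ⟨x, q, hxq⟩ := exists_eq_add_of_coker_torsion h (mulMap g (N := N))
    (coker_mulMap_torsion g m hg) z
  refine ⟨x.1, q, (mem_ker_compat g x.1).mp x.2, fun i => ?_⟩
  rw [← hz i, hxq, map_add, lTensor_proj_mulMap, LinearMap.lTensor_tmul]
  rfl

/-- Key lemma for the exactness part. -/
theorem exists_of_compat_family [Module.Flat R S]
    (h : Function.Bijective
      (Ideal.quotientMap (I.map (algebraMap R S)) (algebraMap R S) Ideal.le_comap_map))
    {N : Type*} [AddCommGroup N] [Module R N] {ι : Type*} [Fintype ι] [DecidableEq ι] (g : ι → R)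
    (m : ℕ) (hg : I ^ m ≤ Ideal.span (Set.range g)) (x : ι → N)
    (hx : ∀ i j, g i • x j = g j • x i) (q : S ⊗[R] N)
    (hq : ∀ i, (1 : S) ⊗ₜ[R] x i = g i • q) :
    ∃ n : N, (1 : S) ⊗ₜ[R] n = q ∧ ∀ i, x i = g i • n := by
  have h1 : (⟨x, (mem_ker_compat g x).mpr hx⟩ : LinearMap.ker (compat g (N := N))) ∈
      LinearMap.range (mulMap g (N := N)) := by
    refine mem_range_of_coker_torsion h (mulMap g (N := N)) (coker_mulMap_torsion g m hg) _ q ?_
    -- injectivity of `S ⊗ ker → S ⊗ (ι → N) ≃ (ι → S ⊗ N)`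
    have hinj : Function.Injective ((LinearMap.ker (compat g (N := N))).subtype.lTensor S) :=
      Module.Flat.lTensor_preserves_injective_linearMap _ (Submodule.subtype_injective _)
    apply hinj
    apply (TensorProduct.piRight R R S (fun _ : ι => N)).injective
    funext i
    have hpr : ∀ w : S ⊗[R] (ι → N), TensorProduct.piRight R R S (fun _ : ι => N) w i =
        (LinearMap.proj (R := R) (φ := fun _ : ι => N) i).lTensor S w := by
      intro w
      induction w with
      | zero => simp
      | add a b ha hb => rw [map_add, map_add, Pi.add_apply, ha, hb]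
      | tmul s x => simp
    rw [hpr, hpr, ← LinearMap.comp_apply, ← LinearMap.lTensor_comp, ← LinearMap.comp_apply,
      ← LinearMap.lTensor_comp, lTensor_proj_mulMap, ← hq i, LinearMap.lTensor_tmul]
    rfl
  obtain ⟨n, hn⟩ := h1
  have hn' : ∀ i, g i • n = x i := fun i => congrFun (congrArg Subtype.val hn) i
  obtain ⟨y, hy, hy'⟩ := exists_of_smul_eq_zero h g m hg (q - (1 : S) ⊗ₜ[R] n) (fun i => by
    rw [smul_sub, ← hq i, ← tmul_smul, hn' i, sub_self])
  refine ⟨n + y, ?_, fun i => ?_⟩
  · rw [tmul_add, hy, add_sub_cancel]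
  · rw [smul_add, hy' i, add_zero, hn' i]

end Groth.Agent.Etalg.FormalGlue
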