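import Mathlib.RingTheory.Filtration
import Mathlib.RingTheory.Finiteness.Nakayama
import Mathlib.RingTheory.Localization.Away.Basic
import Mathlib.RingTheory.RingHom.Finite

/-!
A finite ring map which is an isomorphism modulo all powers of an ideal is an isomorphism near it.
-/

set_option autoImplicit false
universe u
namespace Groth.Agent.Etalg.FormalIso

theorem exists_of_finite_of_formal {R B : Type u} [CommRing R] [IsNoetherianRing R] [CommRing B]
    (φ : R →+* B) (hφ : φ.Finite) (J : Ideal R) (h1 : ∀ b : B, ∃ r : R, b - φ r ∈ J.map φ)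
    (h2 : ∀ r, φ r = 0 → ∀ n, r ∈ J ^ n) :
    ∃ s : R, s - 1 ∈ J ∧ (∀ r, φ r = 0 → s * r = 0) ∧ (∀ b, ∃ r, φ s * b = φ r) := by
  algebraize [φ]
  -- cokernel
  let C := B ⧸ LinearMap.range (Algebra.linearMap R B)
  obtain ⟨s1, hs1, hs1'⟩ := Submodule.exists_sub_one_mem_and_smul_eq_zero_of_fg_of_le_smul J
    (⊤ : Submodule R C) Module.Finite.fg_top (by
      intro c _
      obtain ⟨b, rfl⟩ := Submodule.mkQ_surjective _ c
      obtain ⟨r, hr⟩ := h1 b
      have h3 : (LinearMap.range (Algebra.linearMap R B)).mkQ b =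
          (LinearMap.range (Algebra.linearMap R B)).mkQ (b - φ r) := by
        rw [map_sub, eq_comm, sub_eq_self, Submodule.mkQ_apply, Submodule.Quotient.mk_eq_zero]
        exact ⟨r, rfl⟩
      rw [h3]
      have h4 : b - φ r ∈ (J • ⊤ : Submodule R B) := by
        rw [Ideal.smul_top_eq_map]
        exact hr
      have := Submodule.mem_map_of_mem (f := (LinearMap.range (Algebra.linearMap R B)).mkQ) h4
      rw [Submodule.map_smul''] at this
      exact Submodule.smul_mono le_rfl le_top this)
  -- kernel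
  obtain ⟨s2, hs2, hs2'⟩ := Submodule.exists_sub_one_mem_and_smul_eq_zero_of_fg_of_le_smul J
    (RingHom.ker φ) (IsNoetherian.noetherian _) (by
      intro r hr
      have h3 : r ∈ (⨅ i : ℕ, J ^ i • ⊤ : Submodule R R) := by
        rw [Submodule.mem_iInf]
        intro i
        rw [smul_eq_mul, Ideal.mul_top]
        exact h2 r hr i
      obtain ⟨a, ha⟩ := (Ideal.mem_iInf_smul_pow_eq_bot_iff J r).mp h3
      rw [← ha]
      exact Submodule.smul_mem_smul a.2 hr)
  refine ⟨s1 * s2, ?_, ?_, ?_⟩
  · have : s1 * s2 - 1 = (s1 - 1) * s2 + (s2 - 1) := by ring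
    rw [this]
    exact add_mem (Ideal.mul_mem_right _ _ hs1) hs2
  · intro r hr
    have := hs2' r hr
    rw [smul_eq_mul] at this
    rw [mul_assoc, this, mul_zero]
  · intro b
    have := hs1' ((LinearMap.range (Algebra.linearMap R B)).mkQ b) trivial
    rw [← map_smul, Submodule.mkQ_apply, Submodule.Quotient.mk_eq_zero] at this
    obtain ⟨r, hr⟩ := this
    refine ⟨s2 * r, ?_⟩
    rw [map_mul, map_mul]
    have hr' : φ r = φ s1 * b := by
      have : φ r = s1 • b := hr
      rw [this, Algebra.smul_def]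
      rfl
    rw [hr']
    ring

theorem bijective_away_map {R B : Type u} [CommRing R] [CommRing B]
    (φ : R →+* B) (s : R) (h1 : ∀ r, φ r = 0 → s * r = 0) (h2 : ∀ b, ∃ r, φ s * b = φ r)
    (Rs Bs : Type u) [CommRing Rs] [CommRing Bs] [Algebra R Rs] [Algebra B Bs]
    [IsLocalization.Away s Rs] [IsLocalization.Away (φ s) Bs] :
    Function.Bijective (IsLocalization.Away.map Rs Bs φ s) := by
  constructor
  · rw [injective_iff_map_eq_zero]
    intro x hx
    obtain ⟨n, r, hr⟩ := IsLocalization.Away.surj s x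
    have hu := IsLocalization.Away.algebraMap_pow_isUnit (S := Rs) s n
    have h3 : IsLocalization.Away.map Rs Bs φ s (algebraMap R Rs r) = 0 := by
      rw [← hr, map_mul, hx, zero_mul]
    rw [IsLocalization.Away.map, IsLocalization.map_eq] at h3
    obtain ⟨⟨_, m, rfl⟩, hm⟩ := (IsLocalization.map_eq_zero_iff (Submonoid.powers (φ s)) Bs _).mp h3
    have h4 : φ (s ^ m * r) = 0 := by
      rw [map_mul, map_pow]
      exact hm
    have h5 := h1 _ h4
    have h6 : algebraMap R Rs r = 0 := by
      rw [IsLocalization.map_eq_zero_iff (Submonoid.powers s)]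
      refine ⟨⟨s ^ (m + 1), m + 1, rfl⟩, ?_⟩
      change s ^ (m + 1) * r = 0
      rw [pow_succ', mul_assoc, h5]
    rw [h6] at hr
    exact (hu.mul_left_eq_zero).mp hr
  · intro y
    obtain ⟨n, b, hb⟩ := IsLocalization.Away.surj (φ s) y
    obtain ⟨r, hr⟩ := h2 b
    have hu : IsUnit (algebraMap R Rs s ^ (n + 1)) :=
      (IsLocalization.Away.algebraMap_isUnit (S := Rs) s).pow _
    obtain ⟨u, hu'⟩ := hu
    refine ⟨algebraMap R Rs r * ↑u⁻¹, ?_⟩
    have hv : IsUnit (algebraMap B Bs (φ s) ^ (n + 1)) :=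
      (IsLocalization.Away.algebraMap_isUnit (S := Bs) (φ s)).pow _
    apply hv.mul_right_cancel
    have h3 : IsLocalization.Away.map Rs Bs φ s (↑u⁻¹ : Rs) * algebraMap B Bs (φ s) ^ (n + 1) = 1 := by
      have : algebraMap B Bs (φ s) ^ (n + 1) = IsLocalization.Away.map Rs Bs φ s (u : Rs) := by
        rw [hu', map_pow, IsLocalization.Away.map, IsLocalization.map_eq]
      rw [this, ← map_mul, Units.inv_mul, map_one]
    rw [map_mul, mul_assoc, h3, mul_one, IsLocalization.Away.map, IsLocalization.map_eq, ← hr,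
      pow_succ, ← mul_assoc, hb, map_mul, mul_comm]

end Groth.Agent.Etalg.FormalIso
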