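import Groth.Prelude.Def_CohB1
import Groth.Agent.Etalg.FormalIso
import Groth.Agent.CohqB.AlgThick
import Mathlib.AlgebraicGeometry.Morphisms.Proper
import Mathlib.AlgebraicGeometry.Morphisms.Finite
import Mathlib.AlgebraicGeometry.ZariskisMainTheorem
import Mathlib.RingTheory.AdicCompletion.Basic

/-!
# Proper morphisms that are isomorphisms on all thickenings

`A` Noetherian and `I`-adically complete, `X` proper over `A`, `π : W ⟶ X` proper inducing
isomorphisms over all `X_n = X ×_A A/I^(n+1)`.  Then `π` is an isomorphism.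
-/

set_option autoImplicit false
universe u
open AlgebraicGeometry CategoryTheory CategoryTheory.Limits TopologicalSpace

namespace Groth.Agent.Etalg.FormalIso2

variable {A : Type u} [CommRing A]

/-- An open of a proper scheme over an `I`-adically complete ring containing all points over `V(I)`
is everything. -/
theorem eq_top_of_isProper (I : Ideal A) (hI : I ≤ (⊥ : Ideal A).jacobson) {X : Scheme.{u}}
    (f : X ⟶ Spec (CommRingCat.of A)) [UniversallyClosed f] (U : X.Opens)
    (h : ∀ y : X, I ≤ (f y).asIdeal → y ∈ U) : U = ⊤ := by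
  by_contra hne
  have hcl : IsClosed (f '' (U : Set X)ᶜ) := f.isClosedMap _ U.2.isClosed_compl
  have hnemp : (f '' (U : Set X)ᶜ).Nonempty := by
    rw [Set.image_nonempty, Set.nonempty_compl]
    intro h'
    exact hne (SetLike.coe_injective h')
  obtain ⟨z, hz⟩ := hnemp
  obtain ⟨m, hm, hzm⟩ := Ideal.exists_le_maximal z.asIdeal z.2.ne_top
  let m' : Spec (CommRingCat.of A) := ⟨m, hm.isPrime⟩
  have hspec : z ⤳ m' := (PrimeSpectrum.le_iff_specializes z m').mp hzm
  obtain ⟨y, hy, hy'⟩ := hspec.mem_closed hcl hz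
  apply hy
  apply h
  rw [hy']
  refine hI.trans ?_
  rw [Ideal.jacobson]
  exact sInf_le ⟨bot_le, hm⟩

theorem isPullback_thick {X : Scheme.{u}} (f : X ⟶ Spec (CommRingCat.of A)) (I : Ideal A) (n : ℕ) :
    IsPullback (CohB1.thickι f I n) (CohB1.thickToBase f I n) f (CohB1.specQuot I n) :=
  IsPullback.of_hasPullback f (CohB1.specQuot I n)

/-- A point over `V(I)` comes from the thickening. -/
theorem exists_thick_point {X : Scheme.{u}} (f : X ⟶ Spec (CommRingCat.of A)) (I : Ideal A) (n : ℕ)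
    (y : X) (hy : I ≤ (f y).asIdeal) : ∃ y' : (CohB1.thick f I n : Scheme.{u}), CohB1.thickι f I n y' = y := by
  have h1 : f y ∈ Set.range (CohB1.specQuot I n) := by
    have hr : Set.range (CohB1.specQuot I n) = PrimeSpectrum.zeroLocus ((I ^ (n + 1) : Ideal A) : Set A) := by
      have := range_comap_of_surjective (A ⧸ I ^ (n + 1))
        (Ideal.Quotient.mk (I ^ (n + 1))) Ideal.Quotient.mk_surjective
      rw [Ideal.mk_ker] at this
      exact this
    rw [hr]
    change ((I ^ (n + 1) : Ideal A) : Set A) ⊆ (f y).asIdeal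
    exact (Ideal.pow_le_self n.succ_ne_zero).trans hy
  obtain ⟨z, hz⟩ := h1
  obtain ⟨y', h1, h2⟩ := Scheme.Pullback.exists_preimage_pullback (f := f) (g := CohB1.specQuot I n) y z hz.symm
  exact ⟨y', h1⟩

section

variable {X W : Scheme.{u}} (I : Ideal A) (f : X ⟶ Spec (CommRingCat.of A)) (π : W ⟶ X)
  (w : ∀ n, CohB1.thick f I n ⟶ W)
  (hw : ∀ n, IsPullback (w n) (CohB1.thickToBase f I n) (π ≫ f) (CohB1.specQuot I n))
  (hπ : ∀ n, w n ≫ π = CohB1.thickι f I n)

include hw hπ

theorem isPullback_id (n : ℕ) : IsPullback (w n) (𝟙 _) π (CohB1.thickι f I n) := by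
  refine IsPullback.of_bot (v₂₁ := CohB1.thickToBase f I n) (v₂₂ := f) (h₃₁ := CohB1.specQuot I n)
    ?_ ?_ (isPullback_thick f I n)
  · rw [Category.id_comp]; exact hw n
  · rw [hπ, Category.id_comp]

theorem fiber_subsingleton (y : X) (hy : I ≤ (f y).asIdeal) : (π ⁻¹' {y}).Finite := by
  apply Set.Subsingleton.finite
  obtain ⟨y', rfl⟩ := exists_thick_point f I 0 y hy
  have key : ∀ a ∈ π ⁻¹' {CohB1.thickι f I 0 y'}, a = w 0 y' := by
    intro a ha
    have sq := isPullback_id I f π w hw hπ 0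
    obtain ⟨z, h1, h2⟩ := Scheme.Pullback.exists_preimage_pullback (f := π)
      (g := CohB1.thickι f I 0) a y' ha
    have h3 : sq.isoPullback.inv z = y' := by
      have : sq.isoPullback.inv ≫ 𝟙 _ = pullback.snd _ _ := sq.isoPullback_inv_snd
      rw [Category.comp_id] at this
      rw [this]
      exact h2
    have h4 : sq.isoPullback.inv ≫ w 0 = pullback.fst _ _ := sq.isoPullback_inv_fst
    rw [← h1, ← h4, Scheme.Hom.comp_apply, h3]
  intro a ha b hb
  rw [key a ha, key b hb]

theorem isFinite (hI : I ≤ (⊥ : Ideal A).jacobson) [UniversallyClosed f] [IsProper π] : IsFinite π := by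
  apply IsZariskiLocalAtTarget.of_forall_exists_morphismRestrict (P := @IsFinite)
  let U : X.Opens := sSup {V : X.Opens | IsFinite (π ∣_ V)}
  have hU : U = ⊤ := by
    apply eq_top_of_isProper I hI f
    intro y hy
    obtain ⟨V, hyV, hV⟩ := exists_isFinite_morphismRestrict_of_finite_preimage_singleton π y
      (fiber_subsingleton I f π w hw hπ y hy)
    exact (le_sSup (a := V) hV : V ≤ U) hyV
  intro y
  have hy : y ∈ U := by rw [hU]; trivial
  obtain ⟨V, hV, hyV⟩ := TopologicalSpace.Opens.mem_sSup.mp hy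
  exact ⟨V, hyV, hV⟩

theorem exists_isIso_restrict [IsNoetherianRing A] [LocallyOfFiniteType f] [IsFinite π] (y : X)
    (hy : I ≤ (f y).asIdeal) : ∃ V : X.Opens, y ∈ V ∧ IsIso (π ∣_ V) := by
  have hloc : IsLocallyNoetherian X := LocallyOfFiniteType.isLocallyNoetherian f
  obtain ⟨_, ⟨V, hV, rfl⟩, hyV, -⟩ := X.isBasis_affineOpens.exists_subset_of_mem_open
    (Set.mem_univ y) isOpen_univ
  have hV : IsAffineOpen V := hV
  have hW : IsAffineOpen (π ⁻¹ᵁ V) := hV.preimage π
  have hR : IsNoetherianRing Γ(X, V) := IsLocallyNoetherian.component_noetherian ⟨V, hV⟩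
  let J : Ideal Γ(X, V) := I.map (CohqB.AlgThick.aff f V)
  have hfin : (π.app V).hom.Finite := π.finite_app V hV
  have hcomp : ∀ a : A, (π.app V).hom (CohqB.AlgThick.aff f V a) =
      CohqB.AlgThick.aff (π ≫ f) (π ⁻¹ᵁ V) a := by
    intro a
    have := CohqB.AlgThick.aff_comp f π V (π ⁻¹ᵁ V) le_rfl a
    rw [← this, Scheme.Hom.appLE_eq_app]
  -- the maps to the thickenings
  have hsq : ∀ n, IsPullback (w n ≫ π) (CohB1.thickToBase f I n) f (CohB1.specQuot I n) := by
    intro n
    rw [hπ n]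
    exact isPullback_thick f I n
  have hkerX : ∀ n, RingHom.ker ((w n ≫ π).app V).hom = (I ^ (n + 1)).map (CohqB.AlgThick.aff f V) :=
    fun n => CohqB.AlgThick.ker_app (hsq n) hV
  have hsurjX : ∀ n, Function.Surjective ((w n ≫ π).app V).hom :=
    fun n => CohqB.AlgThick.app_surjective (hsq n) hV
  have hkerW : ∀ n, RingHom.ker ((w n).app (π ⁻¹ᵁ V)).hom =
      (I ^ (n + 1)).map (CohqB.AlgThick.aff (π ≫ f) (π ⁻¹ᵁ V)) :=
    fun n => CohqB.AlgThick.ker_app (hw n) hW
  have hcompn : ∀ n r, ((w n ≫ π).app V).hom r = ((w n).app (π ⁻¹ᵁ V)).hom ((π.app V).hom r) := by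
    intro n r
    rw [Scheme.Hom.comp_app]
    rfl
  obtain ⟨s, hs1, hs2, hs3⟩ := FormalIso.exists_of_finite_of_formal (π.app V).hom hfin J (by
    intro b
    obtain ⟨r, hr⟩ := hsurjX 0 (((w 0).app (π ⁻¹ᵁ V)).hom b)
    refine ⟨r, ?_⟩
    have h1 : b - (π.app V).hom r ∈ RingHom.ker ((w 0).app (π ⁻¹ᵁ V)).hom := by
      rw [RingHom.mem_ker, map_sub, ← hcompn, hr, sub_self]
    rw [hkerW 0, zero_add, pow_one] at h1
    rw [Ideal.map_map]
    convert h1 using 2
    ext a
    exact hcomp a) (by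
    intro r hr n
    have h1 : r ∈ RingHom.ker ((w n ≫ π).app V).hom := by
      rw [RingHom.mem_ker, hcompn, hr, map_zero]
      rfl
    rw [hkerX n, Ideal.map_pow] at h1
    exact Ideal.pow_le_pow_right n.le_succ h1)
  refine ⟨X.basicOpen s, ?_, ?_⟩
  · have hyV' : y ∈ V := hyV
    have hJle : J ≤ (IsLocalRing.maximalIdeal (X.presheaf.stalk y)).comap
        (X.presheaf.germ V y hyV').hom := by
      rw [Ideal.map_le_iff_le_comap]
      intro a ha
      rw [Ideal.mem_comap, Ideal.mem_comap, IsLocalRing.mem_maximalIdeal, mem_nonunits_iff]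
      intro hu
      have h1 : y ∈ X.basicOpen (CohqB.AlgThick.aff f V a) := (Scheme.mem_basicOpen X _ y hyV').mpr hu
      have h2 : X.basicOpen (CohqB.AlgThick.aff f V a) = V ⊓ f ⁻¹ᵁ ((Spec (CommRingCat.of A)).basicOpen
          ((Scheme.ΓSpecIso (CommRingCat.of A)).inv.hom a)) := Scheme.basicOpen_appLE f V ⊤ le_top _
      rw [h2, basicOpen_eq_of_affine'] at h1
      have h3 : f y ∈ PrimeSpectrum.basicOpen ((Scheme.ΓSpecIso (CommRingCat.of A)).hom
          ((Scheme.ΓSpecIso (CommRingCat.of A)).inv.hom a)) := h1.2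
      have h4 : (Scheme.ΓSpecIso (CommRingCat.of A)).hom
          ((Scheme.ΓSpecIso (CommRingCat.of A)).inv.hom a) = a :=
        Iso.inv_hom_id_apply (Scheme.ΓSpecIso (CommRingCat.of A)) a
      rw [h4] at h3
      exact h3 (hy ha)
    rw [Scheme.mem_basicOpen X _ y hyV']
    have h5 : (X.presheaf.germ V y hyV').hom (s - 1) ∈ IsLocalRing.maximalIdeal (X.presheaf.stalk y) :=
      hJle hs1
    rw [map_sub, map_one] at h5
    by_contra hnu
    have h6 : (X.presheaf.germ V y hyV').hom s ∈ IsLocalRing.maximalIdeal (X.presheaf.stalk y) := hnu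
    have h7 := sub_mem h6 h5
    rw [sub_sub_cancel] at h7
    exact h7 isUnit_one
  · have hD : IsAffineOpen (X.basicOpen s) := hV.basicOpen s
    rw [isIso_morphismRestrict_iff_isIso_app π hD]
    have i1 := hV.isLocalization_basicOpen s
    have i2 := hW.isLocalization_basicOpen (π.app V s)
    have hbij := FormalIso.bijective_away_map (π.app V).hom s hs2 hs3 Γ(X, X.basicOpen s)
      Γ(W, W.basicOpen (π.app V s))
    rw [hV.app_basicOpen_eq_away_map π hW s]
    have : IsIso (CommRingCat.ofHom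
        (IsLocalization.Away.map Γ(X, X.basicOpen s) Γ(W, W.basicOpen (π.app V s)) (π.app V).hom s)) := by
      rw [ConcreteCategory.isIso_iff_bijective]
      exact hbij
    infer_instance

theorem isIso [IsNoetherianRing A] (hI : I ≤ (⊥ : Ideal A).jacobson) [LocallyOfFiniteType f]
    [UniversallyClosed f] [IsProper π] : IsIso π := by
  have := isFinite I f π w hw hπ hI
  rw [← MorphismProperty.isomorphisms.iff]
  apply IsZariskiLocalAtTarget.of_forall_exists_morphismRestrict (P := MorphismProperty.isomorphisms Scheme)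
  let U : X.Opens := sSup {V : X.Opens | IsIso (π ∣_ V)}
  have hU : U = ⊤ := by
    apply eq_top_of_isProper I hI f
    intro y hy
    obtain ⟨V, hyV, hV⟩ := exists_isIso_restrict I f π w hw hπ y hy
    exact (le_sSup (a := V) hV : V ≤ U) hyV
  intro y
  have hy : y ∈ U := by rw [hU]; trivial
  obtain ⟨V, hV, hyV⟩ := TopologicalSpace.Opens.mem_sSup.mp hy
  exact ⟨V, hyV, hV⟩

end

end Groth.Agent.Etalg.FormalIso2
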