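import Mathlib.FieldTheory.IntermediateField.Adjoin.Algebra
import Mathlib.RingTheory.AlgebraicIndependent.TranscendenceBasis
import Mathlib.RingTheory.AlgebraicIndependent.AlgebraicClosure
import Mathlib.RingTheory.EssentialFiniteness
import Mathlib.Algebra.CharP.Frobenius
import Mathlib.Algebra.Polynomial.Expand
import Mathlib.RingTheory.Noetherian.Basic

/-!
# The maximal perfect subfield of a finitely generated field extension is algebraic over the base

If `F/k` is a finitely generated field extension in characteristic `p` and `x ∈ F` has `p^n`-th roots in `F` for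
all `n`, then `x` is algebraic over `k`.
-/

set_option autoImplicit false
universe u v

open IntermediateField Polynomial

namespace Groth.Agent.Etalg.PerfPart

/-- A transcendental element is not in the field generated by its `p`-th power. -/
theorem notMem_adjoin_pow {k F : Type*} [Field k] [Field F] [Algebra k F] {p : ℕ} (hp : p.Prime) {z : F}
    (hz : Transcendental k z) : z ∉ adjoin k {z ^ p} := by
  intro hmem
  obtain ⟨r, s, hrs⟩ := (mem_adjoin_simple_iff k z).1 hmem
  have hz0 : z ≠ 0 := by
    rintro rfl
    exact hz isAlgebraic_zero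
  have hs0 : aeval (z ^ p) s ≠ 0 := by
    intro h0
    rw [h0, div_zero] at hrs
    exact hz0 hrs
  have hs : s ≠ 0 := by
    rintro rfl; exact hs0 (map_zero _)
  have h1 : aeval z (X * expand k p s - expand k p r) = 0 := by
    rw [map_sub, map_mul, aeval_X, expand_aeval, expand_aeval, sub_eq_zero]
    exact (eq_div_iff hs0).1 hrs
  have h2 : X * expand k p s - expand k p r = 0 := by
    by_contra hne
    exact hz ⟨_, hne, h1⟩
  have h3 : (X * expand k p s).natDegree = (expand k p r).natDegree := by
    rw [sub_eq_zero.1 h2]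
  have hes : expand k p s ≠ 0 := by
    rwa [Ne, expand_eq_zero hp.pos]
  rw [natDegree_X_mul hes, natDegree_expand, natDegree_expand] at h3
  have h4 : p ∣ 1 := (Nat.dvd_add_right (Dvd.intro_left _ rfl : p ∣ s.natDegree * p)).1
    (h3 ▸ (Dvd.intro_left _ rfl : p ∣ r.natDegree * p))
  exact hp.one_lt.ne' (Nat.dvd_one.1 h4)

theorem finiteDimensional_of_essFiniteType (k F : Type*) [Field k] [Field F] [Algebra k F]
    [Algebra.EssFiniteType k F] [Algebra.IsAlgebraic k F] : FiniteDimensional k F := by
  obtain ⟨s, hs⟩ := fg_top k F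
  have : FiniteDimensional k (adjoin k (s : Set F)) := by
    have : Finite (s : Set F) := s.finite_toSet
    exact finiteDimensional_adjoin fun x _ => (Algebra.IsAlgebraic.isAlgebraic x).isIntegral
  rw [hs] at this
  exact Module.Finite.equiv (topEquiv (F := k) (E := F)).toLinearEquiv

theorem isAlgebraic_of_forall_exists_pow {k F : Type u} [Field k] [Field F] [Algebra k F]
    [Algebra.EssFiniteType k F] {p : ℕ} (hp : p.Prime) [CharP k p] (x : F)
    (hx : ∀ n, ∃ y : F, y ^ (p ^ n) = x) : IsAlgebraic k x := by
  classical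
  by_contra htr
  have hcF : CharP F p := charP_of_injective_algebraMap (algebraMap k F).injective p
  have hfact : Fact p.Prime := ⟨hp⟩
  obtain ⟨t, hst, ht⟩ := exists_isTranscendenceBasis_superset (R := k) (A := F) (s := {x}) (by
    rw [AlgebraicIndepOn, algebraicIndependent_singleton_iff ⟨x, rfl⟩]
    exact htr)
  have hxt : x ∈ t := hst rfl
  let kT := adjoin k (t \ {x})
  have hxT : Transcendental kT x := by
    rw [transcendental_adjoin_iff]
    have h1 := ht.1.transcendental_adjoin (s := {i : t | (i : F) ≠ x}) (i := ⟨x, hxt⟩) (by simp)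
    have h2 : (Subtype.val '' {i : t | (i : F) ≠ x}) = t \ {x} := by
      ext y; constructor
      · rintro ⟨y, hy, rfl⟩; exact ⟨y.2, hy⟩
      · rintro ⟨hy, hy'⟩; exact ⟨⟨y, hy⟩, hy', rfl⟩
    rw [h2] at h1
    exact h1
  let E0 := adjoin kT {x}
  -- F is finite over E0
  have halg : Algebra.IsAlgebraic E0 F := by
    refine ⟨fun y => ?_⟩
    have h1 := ht.isAlgebraic_field
    rw [Subtype.range_coe] at h1
    have h2 : adjoin k t ≤ E0.restrictScalars k := by
      rw [adjoin_le_iff]
      intro z hz
      by_cases hzx : z = x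
      · rw [hzx]; exact mem_adjoin_simple_self kT x
      · exact E0.algebraMap_mem (⟨z, subset_adjoin _ _ ⟨hz, hzx⟩⟩ : kT)
    obtain ⟨P, hP0, hPy⟩ : IsAlgebraic (adjoin k t) y := Algebra.IsAlgebraic.isAlgebraic y
    let φ : adjoin k t →+* E0 := (IntermediateField.inclusion h2).toRingHom
    refine ⟨P.map φ, (Polynomial.map_ne_zero_iff φ.injective).2 hP0, ?_⟩
    rw [aeval_def, eval₂_map]
    exact hPy
  have hess0 : Algebra.EssFiniteType kT F := Algebra.EssFiniteType.of_comp k kT F
  have hess : Algebra.EssFiniteType E0 F := Algebra.EssFiniteType.of_comp kT E0 F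
  have hfd : FiniteDimensional E0 F := finiteDimensional_of_essFiniteType E0 F
  choose y hy using hx
  have hy0 : y 0 = x := by simpa using hy 0
  have hstep : ∀ n, y (n + 1) ^ p = y n := by
    intro n
    apply iterateFrobenius_inj F p n
    rw [iterateFrobenius_def, iterateFrobenius_def, ← pow_mul, ← pow_succ', hy, hy]
  have htrn : ∀ n, Transcendental kT (y n) := by
    intro n hal
    apply hxT
    rw [← hy n]
    exact hal.pow _
  let E : ℕ → IntermediateField kT F := fun n => adjoin kT {y n}
  have hmono : Monotone E := by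
    refine monotone_nat_of_le_succ fun n => ?_
    show adjoin kT {y n} ≤ adjoin kT {y (n + 1)}
    rw [adjoin_simple_le_iff, ← hstep n]
    exact pow_mem (mem_adjoin_simple_self kT (y (n + 1))) p
  have hE0 : ∀ n, E0 ≤ E n := fun n => by
    have : E0 = E 0 := by show adjoin kT {x} = adjoin kT {y 0}; rw [hy0]
    rw [this]; exact hmono (Nat.zero_le n)
  let f : ℕ →o Submodule E0 F :=
    { toFun := fun n =>
        { carrier := E n
          add_mem' := fun {a b} ha hb => (E n).add_mem ha hb
          zero_mem' := (E n).zero_mem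
          smul_mem' := fun c a ha => (E n).mul_mem (hE0 n c.2) ha }
      monotone' := fun m n hmn a ha => hmono hmn ha }
  obtain ⟨n, hn⟩ := (monotone_stabilizes_iff_noetherian (R := E0) (M := F)).2 inferInstance f
  have h1 : y (n + 1) ∈ f (n + 1) := mem_adjoin_simple_self kT _
  rw [← hn (n + 1) (Nat.le_succ n)] at h1
  have h2 : y (n + 1) ∈ adjoin kT {y n} := h1
  rw [← hstep n] at h2
  exact notMem_adjoin_pow hp (htrn (n + 1)) h2

end Groth.Agent.Etalg.PerfPart
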