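import Groth.Agent.Etalg.ResGeom
import Groth.Agent.Etalg.DVRExt2
import Groth.Agent.Etalg.PerfPart
import Mathlib.RingTheory.EssentialFiniteness
import Mathlib.FieldTheory.Perfect

/-!
# Residue fields of Gauss extensions and their finite extensions
-/

set_option autoImplicit false
universe u v

open Groth.Agent.Etalg.ResInd Groth.Agent.Etalg.ResMax Groth.Agent.Etalg.ResField IsLocalRing EtRam
  Groth.Agent.Etalg.RamBasic Polynomial IntermediateField

namespace Groth.Agent.Etalg.GaussRes

variable {Ω : Type u} [Field Ω] {O : ValuationSubring Ω} {K : Type u} [Field K] [Algebra K Ω]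

/-- the ring map between valuation rings of intermediate fields -/
def incl {E M : Type u} [Field E] [Field M] [Algebra E M] [Algebra M Ω] [Algebra E Ω] [IsScalarTower E M Ω] :
    O.comap (algebraMap E Ω) →+* O.comap (algebraMap M Ω) where
  toFun x := ⟨algebraMap E M x, by
    show algebraMap M Ω (algebraMap E M x) ∈ O
    rw [← IsScalarTower.algebraMap_apply]; exact x.2⟩
  map_one' := Subtype.ext (map_one _)
  map_mul' x y := Subtype.ext (map_mul _ _ _)
  map_zero' := Subtype.ext (map_zero _)
  map_add' x y := Subtype.ext (map_add _ _ _)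

section

variable {E M : Type u} [Field E] [Field M] [Algebra E M] [Algebra M Ω] [Algebra E Ω] [IsScalarTower E M Ω]

instance isLocalHom_incl : IsLocalHom (incl (O := O) (E := E) (M := M)) := by
  refine ⟨fun a ha => ?_⟩
  by_contra hna
  have h1 : (O.comap (algebraMap E Ω)).valuation (a : E) < 1 := (ValuationSubring.valuation_lt_one_iff _ _).1 hna
  rw [valuation_comap_lt_one_iff] at h1
  have h2 : (O.comap (algebraMap M Ω)).valuation (algebraMap E M (a : E)) = 1 :=
    (ValuationSubring.valuation_eq_one_iff _ _).1 ha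
  have h3 : (O.comap (algebraMap M Ω)).valuation (algebraMap E M (a : E)) < 1 := by
    rw [valuation_comap_lt_one_iff, ← IsScalarTower.algebraMap_apply]; exact h1
  exact absurd h2 h3.ne

end

/-- Residue fields of Gauss extensions are finitely generated. -/
theorem essFiniteType_gauss {ι : Type u} [Finite ι] {w : ι → Ω} (hw : ∀ i, O.valuation (w i) ≤ 1)
    (E N : IntermediateField K Ω) (h : RLI O (E : Set Ω) (mon w))
    (hN : N = E ⊔ adjoin K (Set.range w)) [Algebra (O.comap (algebraMap E Ω)) (O.comap (algebraMap N Ω))]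
    [IsLocalHom (algebraMap (O.comap (algebraMap E Ω)) (O.comap (algebraMap N Ω)))]
    (hc : ∀ x : O.comap (algebraMap E Ω),
      (((algebraMap (O.comap (algebraMap E Ω)) (O.comap (algebraMap N Ω)) x : O.comap (algebraMap N Ω)) : N) : Ω) =
        ((x : E) : Ω)) :
    Algebra.EssFiniteType (ResidueField (O.comap (algebraMap E Ω))) (ResidueField (O.comap (algebraMap N Ω))) := by
  have hwN : ∀ i, w i ∈ N := fun i => by
    rw [hN]
    exact (le_sup_right : adjoin K (Set.range w) ≤ _) (subset_adjoin _ _ ⟨i, rfl⟩)
  let w' : ι → (O.comap (algebraMap N Ω)) := fun i => ⟨⟨w i, hwN i⟩, (ValuationSubring.valuation_le_one_iff O _).1 (hw i)⟩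
  let F0 := adjoin (ResidueField (O.comap (algebraMap E Ω))) (Set.range fun i => residue (O.comap (algebraMap N Ω)) (w' i))
  -- residues of integral polynomials
  have hpoly : ∀ (P : MvPolynomial ι E) (x : (O.comap (algebraMap N Ω))), (∀ m, O.valuation ((P.coeff m : E) : Ω) ≤ 1) →
      ((x : N) : Ω) = MvPolynomial.aeval w P → residue (O.comap (algebraMap N Ω)) x ∈ F0 := by
    intro P x hP hx
    let c : (ι →₀ ℕ) → (O.comap (algebraMap E Ω)) := fun m => ⟨P.coeff m, (ValuationSubring.valuation_le_one_iff O _).1 (hP m)⟩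
    have h1 : x = ∑ m ∈ P.support, algebraMap _ (O.comap (algebraMap N Ω)) (c m) * m.prod fun i n => w' i ^ n := by
      apply Subtype.ext
      apply Subtype.ext
      rw [hx, aeval_eq_sum]
      push_cast
      refine Finset.sum_congr rfl fun m _ => ?_
      congr 1
      · exact (hc (c m)).symm
      · unfold mon Finsupp.prod
        push_cast
        rfl
    rw [h1, map_sum]
    refine sum_mem fun m _ => ?_
    rw [map_mul]
    refine mul_mem ?_ ?_
    · exact F0.algebraMap_mem (residue (O.comap (algebraMap E Ω)) (c m))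
    · unfold Finsupp.prod
      rw [map_prod]
      refine prod_mem fun i _ => ?_
      rw [map_pow]
      exact pow_mem (subset_adjoin _ _ (Set.mem_range_self i)) _
  have htop : F0 = ⊤ := by
    rw [eq_top_iff]
    intro z _
    obtain ⟨x, rfl⟩ := residue_surjective z
    have hxN : ((x : N) : Ω) ∈ E ⊔ adjoin K (Set.range w) := hN ▸ (x : N).2
    have hx1 : O.valuation ((x : N) : Ω) ≤ 1 := (ValuationSubring.valuation_le_one_iff O _).2 x.2
    obtain ⟨P, Q, hPQ, hQ⟩ := exists_num_den hw h _ hxN
    have hQN : MvPolynomial.aeval w Q ∈ N := by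
      rw [aeval_eq_sum]
      refine sum_mem fun m _ => mul_mem ?_ ?_
      · rw [hN]; exact (le_sup_left : E ≤ _) (Q.coeff m).2
      · unfold mon Finsupp.prod
        exact prod_mem fun i _ => pow_mem (hwN i) _
    have hQc : ∀ m, O.valuation ((Q.coeff m : E) : Ω) ≤ 1 := fun m => (coeff_le_aeval h Q m).trans hQ.le
    have hPc : ∀ m, O.valuation ((P.coeff m : E) : Ω) ≤ 1 := fun m => by
      refine (coeff_le_aeval h P m).trans ?_
      rw [← hPQ, map_mul, hQ, one_mul]; exact hx1
    let q : (O.comap (algebraMap N Ω)) := ⟨⟨_, hQN⟩, (ValuationSubring.valuation_le_one_iff O _).1 hQ.le⟩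
    have h1 : residue (O.comap (algebraMap N Ω)) q ∈ F0 := hpoly Q q hQc rfl
    have h2 : residue (O.comap (algebraMap N Ω)) (q * x) ∈ F0 := hpoly P (q * x) hPc hPQ
    have h3 : residue (O.comap (algebraMap N Ω)) q ≠ 0 := by
      rw [Ne, IsLocalRing.residue_eq_zero_iff, ValuationSubring.valuation_lt_one_iff, not_lt]
      refine le_of_not_gt fun hlt => ?_
      rw [valuation_comap_lt_one_iff] at hlt
      exact absurd hQ hlt.ne
    have h4 : residue (O.comap (algebraMap N Ω)) x = residue (O.comap (algebraMap N Ω)) (q * x) / residue (O.comap (algebraMap N Ω)) q := by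
      rw [map_mul, mul_div_cancel_left₀ _ h3]
    rw [h4]
    exact div_mem h2 h1
  have hfg : (⊤ : IntermediateField (ResidueField (O.comap (algebraMap E Ω))) (ResidueField (O.comap (algebraMap N Ω)))).FG := by
    rw [← htop]
    exact fg_adjoin_of_finite (Set.finite_range _)
  exact fg_top_iff.1 hfg

/-- algebraically closed residue field -/
theorem isAlgClosed_of_forall [IsAlgClosed Ω] {E : Type u} [Field E] [Algebra E Ω]
    (hAC : ∀ x : Ω, (algebraMap E Ω).IsIntegralElem x → O.valuation x ≤ 1 →
      ∃ y : E, O.valuation (x - algebraMap E Ω y) < 1) :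
    IsAlgClosed (ResidueField (O.comap (algebraMap E Ω))) := by
  refine IsAlgClosed.of_exists_root _ fun p hp hirr => ?_
  have hO := isAlgClosed_residueField O
  obtain ⟨q, hq, hqd, hqm⟩ := Polynomial.lifts_and_natDegree_eq_and_monic
    (Polynomial.mem_lifts_of_surjective residue_surjective p) hp
  let φ : O.comap (algebraMap E Ω) →+* O := inclOfComap O (algebraMap E Ω)
  -- residual root
  have hdeg : ((q.map φ).map (residue O)).degree ≠ 0 := by
    rw [Polynomial.Monic.degree_map (hqm.map φ), Polynomial.Monic.degree_map hqm]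
    intro h0
    have : q.natDegree = 0 := Polynomial.natDegree_eq_of_degree_eq_some h0
    rw [hqd] at this
    exact absurd this hirr.natDegree_pos.ne'
  obtain ⟨a, ha⟩ := IsAlgClosed.exists_root _ hdeg
  obtain ⟨u, rfl⟩ := residue_surjective a
  rw [Polynomial.IsRoot.def, Polynomial.eval_map, Polynomial.eval₂_at_apply, Polynomial.eval_map] at ha
  obtain ⟨α, hα, -⟩ := ResGeom.exists_lift_root φ q hqm u ha
  have hαint : (algebraMap E Ω).IsIntegralElem (α : Ω) := by
    refine ⟨q.map (O.comap (algebraMap E Ω)).subtype, hqm.map _, ?_⟩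
    rw [eval₂_map]
    have h4 := congrArg Subtype.val hα
    have h5 := hom_eval₂ q φ O.subtype α
    exact h5.symm.trans h4
  obtain ⟨y, hy⟩ := hAC α hαint (O.valuation_le_one α)
  have hyO : y ∈ O.comap (algebraMap E Ω) := by
    show algebraMap E Ω y ∈ O
    have : algebraMap E Ω y = (α : Ω) - (α - algebraMap E Ω y) := by ring
    rw [← ValuationSubring.valuation_le_one_iff, this]
    exact (Valuation.map_sub _ _ _).trans (max_le (O.valuation_le_one α) hy.le)
  refine ⟨residue _ ⟨y, hyO⟩, ?_⟩
  rw [← hq, Polynomial.eval_map, Polynomial.eval₂_at_apply, IsLocalRing.residue_eq_zero_iff]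
  -- the map on residue fields is injective
  rw [ValuationSubring.valuation_lt_one_iff, valuation_comap_lt_one_iff]
  have h6 : residue O (φ (q.eval ⟨y, hyO⟩)) = residue O (q.eval₂ φ α) := by
    rw [← Polynomial.eval₂_at_apply, hom_eval₂, hom_eval₂]
    congr 1
    rw [eq_comm, res_eq_iff]
    exact hy
  rw [hα, map_zero, res_eq_zero_iff] at h6
  exact h6

end Groth.Agent.Etalg.GaussRes
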