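import Groth.Prelude.Def_EtGlue
import Mathlib.LinearAlgebra.DirectSum.Finsupp
import Mathlib.LinearAlgebra.TensorProduct.RightExactness
import Mathlib.LinearAlgebra.TensorProduct.Finiteness
import Mathlib.RingTheory.TensorProduct.DirectLimitFG
import Mathlib.RingTheory.Ideal.Quotient.Operations
import Mathlib.LinearAlgebra.TensorProduct.Quotient
import Mathlib.Tactic.LinearCombination

/-!
Elementary lemmas on `EtGlue.QuotPowBijective` and glueing pairs (Beauville--Laszlo).
-/

set_option autoImplicit false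
universe u

open TensorProduct

namespace Groth.Agent.Etalg.GlueBasic

variable {R R' : Type u} [CommRing R] [CommRing R'] [Algebra R R'] {f : R}

/-- Every element of `R'` is `r + f^n s` with `r` from `R`. -/
theorem exists_decomp (hq : EtGlue.QuotPowBijective R R' f) (n : ℕ) (r' : R') :
    ∃ (r : R) (s : R'), r' = algebraMap R R' r + algebraMap R R' f ^ n * s := by
  rcases Nat.eq_zero_or_pos n with rfl | hn
  · exact ⟨0, r', by simp⟩
  obtain ⟨q, hq'⟩ := (hq n hn).2 (Ideal.Quotient.mk _ r')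
  obtain ⟨r, rfl⟩ := Ideal.Quotient.mk_surjective q
  rw [Ideal.quotientMap_mk, Ideal.Quotient.eq, Ideal.map_span, Set.image_singleton,
    Ideal.mem_span_singleton] at hq'
  obtain ⟨c, hc⟩ := hq'
  refine ⟨r, -c, ?_⟩
  rw [map_pow] at hc
  linear_combination -hc

/-- If `r` becomes divisible by `f^n` in `R'` then it is divisible by `f^n` in `R`. -/
theorem dvd_of_map_dvd (hq : EtGlue.QuotPowBijective R R' f) (n : ℕ) (r : R)
    (h : algebraMap R R' f ^ n ∣ algebraMap R R' r) : f ^ n ∣ r := by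
  rcases Nat.eq_zero_or_pos n with rfl | hn
  · simp
  have h1 : Ideal.quotientMap (Ideal.map (algebraMap R R') (Ideal.span {f ^ n})) (algebraMap R R')
      Ideal.le_comap_map (Ideal.Quotient.mk (Ideal.span {f ^ n}) r) = 0 := by
    rw [Ideal.quotientMap_mk, Ideal.Quotient.eq_zero_iff_mem, Ideal.map_span, Set.image_singleton,
      Ideal.mem_span_singleton, map_pow]
    exact h
  have h2 := (injective_iff_map_eq_zero _).1 (hq n hn).1 _ h1
  rwa [Ideal.Quotient.eq_zero_iff_mem, Ideal.mem_span_singleton] at h2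

variable {M : Type u} [AddCommGroup M] [Module R M]

/-- Every element of `R' ⊗ M` is `1 ⊗ m + f^n y`. -/
theorem exists_decomp_tensor (hq : EtGlue.QuotPowBijective R R' f) (n : ℕ) (x : R' ⊗[R] M) :
    ∃ (m : M) (y : R' ⊗[R] M), x = (1 : R') ⊗ₜ[R] m + f ^ n • y := by
  induction x with
  | zero => exact ⟨0, 0, by simp⟩
  | tmul r' m =>
    obtain ⟨r, s, rfl⟩ := exists_decomp hq n r'
    refine ⟨r • m, s ⊗ₜ m, ?_⟩
    rw [TensorProduct.add_tmul, TensorProduct.tmul_smul, TensorProduct.smul_tmul',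
      TensorProduct.smul_tmul', Algebra.smul_def, Algebra.smul_def, mul_one, map_pow]
  | add x y hx hy =>
    obtain ⟨m, z, rfl⟩ := hx
    obtain ⟨m', z', rfl⟩ := hy
    refine ⟨m + m', z + z', ?_⟩
    rw [TensorProduct.tmul_add, smul_add]; abel

/-- If `1 ⊗ m` is divisible by `f^n` in `R' ⊗ M` then `m` is divisible by `f^n`. -/
theorem exists_smul_of_tmul_eq_smul (hq : EtGlue.QuotPowBijective R R' f) (n : ℕ) (m : M)
    (y : R' ⊗[R] M) (h : (1 : R') ⊗ₜ[R] m = f ^ n • y) : ∃ m₀ : M, m = f ^ n • m₀ := by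
  rcases Nat.eq_zero_or_pos n with rfl | hn
  · exact ⟨m, by simp⟩
  let e := RingEquiv.ofBijective _ (hq n hn)
  -- the map `R' ⊗ M → (R/f^n) ⊗ M`
  let π : R' →ₗ[R] (R ⧸ Ideal.span {f ^ n}) :=
    { toFun := fun r' => e.symm (Ideal.Quotient.mk _ r')
      map_add' := fun a b => by rw [map_add, map_add]
      map_smul' := fun r a => by
        have h1 : (Ideal.Quotient.mk (Ideal.map (algebraMap R R') (Ideal.span {f ^ n}))) (algebraMap R R' r) =
            e (Ideal.Quotient.mk _ r) := by
          simp [e, Ideal.quotientMap_mk]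
        rw [Algebra.smul_def, map_mul, h1, map_mul, RingEquiv.symm_apply_apply, RingHom.id_apply,
          Algebra.smul_def]
        rfl }
  have hπ1 : π 1 = 1 := by
    show e.symm (Ideal.Quotient.mk _ 1) = 1
    rw [map_one, map_one]
  let g := (TensorProduct.quotTensorEquivQuotSMul M (Ideal.span {f ^ n})).toLinearMap ∘ₗ
    LinearMap.rTensor M π
  have hg : g ((1 : R') ⊗ₜ[R] m) = Submodule.Quotient.mk m := by
    simp only [g, LinearMap.coe_comp, Function.comp_apply, LinearMap.rTensor_tmul, hπ1,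
      LinearEquiv.coe_coe]
    rw [← map_one (Ideal.Quotient.mk (Ideal.span {f ^ n}))]
    rw [TensorProduct.quotTensorEquivQuotSMul_mk_tmul, one_smul]
  have hz : g (f ^ n • y) = 0 := by
    rw [map_smul]
    obtain ⟨z, hz⟩ := Submodule.Quotient.mk_surjective _ (g y)
    rw [← hz, ← Submodule.Quotient.mk_smul, Submodule.Quotient.mk_eq_zero]
    exact Submodule.smul_mem_smul (Ideal.mem_span_singleton_self _) Submodule.mem_top
  rw [h, hz] at hg
  have hm : m ∈ (Ideal.span {f ^ n} : Ideal R) • (⊤ : Submodule R M) :=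
    (Submodule.Quotient.mk_eq_zero _).1 hg.symm
  rw [Submodule.ideal_span_singleton_smul] at hm
  obtain ⟨m₀, -, hm₀⟩ := hm
  exact ⟨m₀, hm₀.symm⟩

/-- `f`-power torsion elements: injectivity of `M → R' ⊗ M` when `M` is itself `f`-power torsion. -/
theorem eq_zero_of_tmul_eq_zero_of_torsion (hq : EtGlue.QuotPowBijective R R' f)
    (hM : ∀ m : M, ∃ n : ℕ, f ^ n • m = 0) (m : M) (h : (1 : R') ⊗ₜ[R] m = 0) : m = 0 := by
  have h' : LinearMap.rTensor R' (Submodule.span R {m}).subtype
      ((⟨m, Submodule.mem_span_singleton_self m⟩ : Submodule.span R {m}) ⊗ₜ[R] (1 : R')) = 0 := by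
    rw [LinearMap.rTensor_tmul]
    have := congrArg (TensorProduct.comm R R' M) h
    simpa using this
  obtain ⟨Q, hPQ, hQ, h0⟩ := TensorProduct.eq_zero_of_fg_of_subtype_eq_zero
    (Submodule.fg_span_singleton m) h'
  rw [LinearMap.rTensor_tmul] at h0
  have hmQ : m ∈ Q := hPQ (Submodule.mem_span_singleton_self m)
  have h0' : (1 : R') ⊗ₜ[R] (⟨m, hmQ⟩ : Q) = 0 := by
    have := congrArg (TensorProduct.comm R Q R') h0
    rw [TensorProduct.comm_tmul, map_zero] at this
    exact this
  -- `Q` is killed by a power of `f`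
  have hk : ∃ n : ℕ, ∀ q ∈ Q, f ^ n • q = 0 := by
    obtain ⟨s, rfl⟩ := hQ
    choose N hN using hM
    refine ⟨s.sup N, fun q hq => ?_⟩
    induction hq using Submodule.span_induction with
    | mem x hx =>
      obtain ⟨k, hk⟩ := Nat.exists_eq_add_of_le (Finset.le_sup (f := N) hx)
      rw [hk, add_comm, pow_add, mul_smul, hN, smul_zero]
    | zero => simp
    | add x y _ _ hx hy => rw [smul_add, hx, hy, add_zero]
    | smul a x _ hx => rw [smul_comm, hx, smul_zero]
  obtain ⟨n, hn⟩ := hk
  obtain ⟨q0, hq0⟩ := exists_smul_of_tmul_eq_smul (M := Q) hq n ⟨m, hmQ⟩ 0 (by rw [h0', smul_zero])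
  have := congrArg Subtype.val hq0
  simp only [Submodule.coe_smul] at this
  rw [this, hn _ q0.2]

/-- For a glueing pair: `f^n`-torsion of `R'` comes from `R`. -/
theorem torsion_ring (h : EtGlue.IsGlueingPair R R' f) (n : ℕ) (x' : R')
    (hx : algebraMap R R' f ^ n * x' = 0) : ∃ x : R, f ^ n * x = 0 ∧ algebraMap R R' x = x' := by
  obtain ⟨-, hinj, hmid, -⟩ := h
  have hx0 : algebraMap R' (Localization.Away (algebraMap R R' f)) x' =
      Localization.awayMap (algebraMap R R') f 0 := by
    rw [map_zero]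
    have hu : IsUnit (algebraMap R' (Localization.Away (algebraMap R R' f)) (algebraMap R R' f)) :=
      IsLocalization.Away.algebraMap_isUnit _
    have := congrArg (algebraMap R' (Localization.Away (algebraMap R R' f))) hx
    rw [map_mul, map_pow, map_zero] at this
    exact (hu.pow n).mul_right_eq_zero.1 this
  obtain ⟨r, hr, hr'⟩ := hmid x' 0 hx0
  refine ⟨r, ?_, hr⟩
  apply hinj
  simp only [map_mul, map_pow, hr, hx, hr', mul_zero, map_zero]

/-- For a glueing pair: the map `R → R'` is injective on `f`-power torsion. -/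
theorem torsion_ring_inj (h : EtGlue.IsGlueingPair R R' f) (x : R) (n : ℕ) (hx : f ^ n * x = 0)
    (h0 : algebraMap R R' x = 0) : x = 0 := by
  obtain ⟨-, hinj, -, -⟩ := h
  apply hinj
  have hu : IsUnit (algebraMap R (Localization.Away f) f) :=
      IsLocalization.Away.algebraMap_isUnit _
  have := congrArg (algebraMap R (Localization.Away f)) hx
  rw [map_mul, map_pow, map_zero] at this
  have h1 := (hu.pow n).mul_right_eq_zero.1 this
  simp only [h0, h1, map_zero]

/-- For a glueing pair and a free module: `f^n`-torsion of `R' ⊗ F` comes from `F`. -/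
theorem torsion_free (h : EtGlue.IsGlueingPair R R' f) (ι : Type u) (n : ℕ)
    (x : R' ⊗[R] (ι →₀ R)) (hx : f ^ n • x = 0) :
    ∃ y : ι →₀ R, f ^ n • y = 0 ∧ (1 : R') ⊗ₜ[R] y = x := by
  classical
  let e := TensorProduct.finsuppScalarRight R R R' ι
  have hx' : ∀ i, algebraMap R R' f ^ n * (e x i) = 0 := by
    intro i
    have : e (f ^ n • x) i = 0 := by rw [hx, map_zero]; rfl
    rw [map_smul, Finsupp.smul_apply, Algebra.smul_def, map_pow] at this
    exact this
  choose y hy hy' using fun i => torsion_ring h n (e x i) (hx' i)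
  let y0 : ι →₀ R := Finsupp.onFinset (e x).support (fun i => if e x i = 0 then 0 else y i) (by
    intro i hi
    rw [Finsupp.mem_support_iff]
    intro h0
    exact hi (by simp [h0]))
  refine ⟨y0, ?_, ?_⟩
  · ext i
    rw [Finsupp.smul_apply]
    simp only [y0, Finsupp.onFinset_apply, smul_eq_mul, Finsupp.coe_zero, Pi.zero_apply]
    split_ifs
    · simp
    · exact hy i
  · apply e.injective
    ext i
    rw [TensorProduct.finsuppScalarRight_apply_tmul_apply]
    simp only [y0, Finsupp.onFinset_apply]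
    split_ifs with h0
    · rw [zero_smul, h0]
    · rw [Algebra.smul_def, mul_one, hy']

/-- Auxiliary form of the key lemma: descend `f^n`-torsion along a surjection `F → M`. -/
theorem torsion_surj_of_surjective (hq : EtGlue.QuotPowBijective R R' f) (n : ℕ)
    {F : Type u} [AddCommGroup F] [Module R F] (π : F →ₗ[R] M) (hπ : Function.Surjective π)
    (hF : ∀ x : R' ⊗[R] F, f ^ n • x = 0 → ∃ y : F, f ^ n • y = 0 ∧ (1 : R') ⊗ₜ[R] y = x)
    (x : R' ⊗[R] M) (hx : f ^ n • x = 0) : ∃ m : M, f ^ n • m = 0 ∧ (1 : R') ⊗ₜ[R] m = x := by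
  obtain ⟨y, rfl⟩ := LinearMap.lTensor_surjective R' hπ x
  have hex : Function.Exact (LinearMap.ker π).subtype π := LinearMap.exact_subtype_ker_map π
  have hex' := lTensor_exact (f := (LinearMap.ker π).subtype) (g := π) R' hex hπ
  rw [← map_smul] at hx
  obtain ⟨z, hz⟩ := (hex' _).1 hx
  obtain ⟨k, z', rfl⟩ := exists_decomp_tensor hq n z
  rw [map_add, map_smul, LinearMap.lTensor_tmul] at hz
  have h1 : (1 : R') ⊗ₜ[R] (k : F) =
      f ^ n • (y - LinearMap.lTensor R' (LinearMap.ker π).subtype z') := by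
    rw [smul_sub, ← hz]; simp
  obtain ⟨g, hg⟩ := exists_smul_of_tmul_eq_smul hq n _ _ h1
  rw [hg, TensorProduct.tmul_smul] at h1
  have h2 : f ^ n • ((1 : R') ⊗ₜ[R] g -
      (y - LinearMap.lTensor R' (LinearMap.ker π).subtype z')) = 0 := by
    rw [smul_sub, h1, sub_self]
  obtain ⟨w, hw, hw'⟩ := hF _ h2
  refine ⟨π (g - w), ?_, ?_⟩
  · rw [← map_smul, smul_sub, hw, sub_zero, ← hg]
    exact k.2
  · have h3 := congrArg (LinearMap.lTensor R' π) hw'
    rw [map_sub, map_sub, hex'.apply_apply_eq_zero, sub_zero, LinearMap.lTensor_tmul,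
      LinearMap.lTensor_tmul] at h3
    rw [map_sub, TensorProduct.tmul_sub, h3]
    abel

/-- **Key lemma**: for a glueing pair and any module `M`, the `f^n`-torsion of `R' ⊗ M` comes from
`f^n`-torsion of `M`. -/
theorem torsion_surj (h : EtGlue.IsGlueingPair R R' f) (n : ℕ) (x : R' ⊗[R] M)
    (hx : f ^ n • x = 0) : ∃ m : M, f ^ n • m = 0 ∧ (1 : R') ⊗ₜ[R] m = x :=
  torsion_surj_of_surjective h.1 n (Finsupp.linearCombination R id)
    (Finsupp.linearCombination_id_surjective R M) (torsion_free h M n) x hx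

end Groth.Agent.Etalg.GlueBasic
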