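import Groth.Agent.Etalg.GlueBasic
import Mathlib.RingTheory.Flat.Basic
import Mathlib.RingTheory.Flat.Tensor
import Mathlib.RingTheory.Flat.Equalizer
import Mathlib.RingTheory.Flat.Localization
import Mathlib.RingTheory.Flat.Stability
import Mathlib.RingTheory.Localization.BaseChange
import Mathlib.LinearAlgebra.TensorProduct.Prod

/-!
Flatness can be checked on a glueing pair (Stacks 0BP7).
-/

set_option autoImplicit false
universe u

open TensorProduct

namespace Groth.Agent.Etalg.GlueFlat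

open Groth.Agent.Etalg.GlueBasic

variable {R R' : Type u} [CommRing R] [CommRing R'] [Algebra R R'] {f : R}

/-- Submodules of modules whose `f`-power torsion injects. -/
theorem ker_baseChange_torsionFree (h : EtGlue.IsGlueingPair R R' f) {N₁ N₂ : Type u}
    [AddCommGroup N₁] [Module R N₁] [AddCommGroup N₂] [Module R N₂] (g : N₁ →ₗ[R] N₂)
    (hg : Function.Injective g)
    (hN₂ : ∀ m : N₂, (∃ n : ℕ, f ^ n • m = 0) → (1 : R') ⊗ₜ[R] m = 0 → m = 0)
    (k : R' ⊗[R] N₁) (hk : LinearMap.lTensor R' g k = 0) (n : ℕ) (hn : f ^ n • k = 0) : k = 0 := by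
  obtain ⟨m, hm, rfl⟩ := torsion_surj h n k hn
  rw [LinearMap.lTensor_tmul] at hk
  have hgm : g m = 0 := hN₂ _ ⟨n, by rw [← map_smul, hm, map_zero]⟩ hk
  have : m = 0 := hg (by rw [hgm, map_zero])
  rw [this, TensorProduct.tmul_zero]

/-- If `0 → L → F → N₁` is exact, and the `f`-power torsion of `N₁` injects into `R' ⊗ N₁`, then the
kernel of `R' ⊗ L → R' ⊗ F` is `f`-divisible. -/
theorem ker_baseChange_divisible (h : EtGlue.IsGlueingPair R R' f) {L F N₁ : Type u}
    [AddCommGroup L] [Module R L] [AddCommGroup F] [Module R F] [AddCommGroup N₁] [Module R N₁]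
    (ι : L →ₗ[R] F) (π : F →ₗ[R] N₁) (hι : Function.Injective ι) (hex : Function.Exact ι π)
    (hN₁ : ∀ m : N₁, (∃ n : ℕ, f ^ n • m = 0) → (1 : R') ⊗ₜ[R] m = 0 → m = 0)
    (k : R' ⊗[R] L) (hk : LinearMap.lTensor R' ι k = 0) (n : ℕ) :
    ∃ k' : R' ⊗[R] L, LinearMap.lTensor R' ι k' = 0 ∧ f ^ n • k' = k := by
  obtain ⟨l, y, rfl⟩ := exists_decomp_tensor h.1 n k
  rw [map_add, map_smul, LinearMap.lTensor_tmul] at hk
  have h1 : (1 : R') ⊗ₜ[R] (ι l) = f ^ n • (-(LinearMap.lTensor R' ι y)) := by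
    rw [smul_neg]; exact eq_neg_of_add_eq_zero_left hk
  obtain ⟨g, hg⟩ := exists_smul_of_tmul_eq_smul h.1 n _ _ h1
  have h2 : f ^ n • ((1 : R') ⊗ₜ[R] g + LinearMap.lTensor R' ι y) = 0 := by
    rw [smul_add, ← TensorProduct.tmul_smul, ← hg, hk]
  obtain ⟨w, hw, hw'⟩ := torsion_surj h n _ h2
  have hg1 : f ^ n • (g - w) = ι l := by rw [smul_sub, hw, sub_zero, hg]
  have hg2 : (1 : R') ⊗ₜ[R] (g - w) = -(LinearMap.lTensor R' ι y) := by
    rw [TensorProduct.tmul_sub, hw']; abel
  have hπ : π (g - w) = 0 := by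
    apply hN₁
    · refine ⟨n, ?_⟩
      rw [← map_smul, hg1, hex.apply_apply_eq_zero]
    · have h3 := congrArg (LinearMap.lTensor R' π) hg2
      rw [LinearMap.lTensor_tmul, map_neg, ← LinearMap.comp_apply, ← LinearMap.lTensor_comp,
        hex.linearMap_comp_eq_zero, LinearMap.lTensor_zero, LinearMap.zero_apply, neg_zero] at h3
      exact h3
  obtain ⟨l', hl'⟩ := (hex _).1 hπ
  have hl : f ^ n • l' = l := hι (by rw [map_smul, hl', hg1])
  refine ⟨(1 : R') ⊗ₜ[R] l' + y, ?_, ?_⟩
  · rw [map_add, LinearMap.lTensor_tmul, hl', hg2]; abel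
  · rw [smul_add, ← TensorProduct.tmul_smul, hl]

section kappa

variable (M' : Type u) [AddCommGroup M'] [Module R' M'] [Module R M'] [IsScalarTower R R' M']
  [Module.Flat R' M']

/-- Elements of `ker (M' ⊗_R N₁ → M' ⊗_R N₂)` come from `M' ⊗_{R'} ker (R' ⊗ N₁ → R' ⊗ N₂)`. -/
theorem exists_of_lTensor_eq_zero {N₁ N₂ : Type u}
    [AddCommGroup N₁] [Module R N₁] [AddCommGroup N₂] [Module R N₂] (g : N₁ →ₗ[R] N₂)
    (z : M' ⊗[R] N₁) (hz : LinearMap.lTensor M' g z = 0) :
    ∃ v : M' ⊗[R'] (LinearMap.ker (g.baseChange R')),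
      z = TensorProduct.AlgebraTensorModule.cancelBaseChange R R' R' M' N₁
        (LinearMap.lTensor M' (LinearMap.ker (g.baseChange R')).subtype v) := by
  have hex : Function.Exact (LinearMap.ker (g.baseChange R')).subtype (g.baseChange R') :=
    LinearMap.exact_subtype_ker_map _
  have hex' := Module.Flat.lTensor_exact (R := R') (N := LinearMap.ker (g.baseChange R'))
    (N' := R' ⊗[R] N₁) (N'' := R' ⊗[R] N₂) M' hex
  obtain ⟨v, hv⟩ := (hex' ((TensorProduct.AlgebraTensorModule.cancelBaseChange R R' R' M' N₁).symm z)).1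
    (by
      apply (TensorProduct.AlgebraTensorModule.cancelBaseChange R R' R' M' N₂).injective
      rw [map_zero, ← hz]
      have hcomp : ∀ w : M' ⊗[R'] (R' ⊗[R] N₁),
          TensorProduct.AlgebraTensorModule.cancelBaseChange R R' R' M' N₂
            (LinearMap.lTensor M' (g.baseChange R') w) =
          LinearMap.lTensor M' g (TensorProduct.AlgebraTensorModule.cancelBaseChange R R' R' M' N₁ w) := by
        intro w
        have := LinearMap.congr_fun
          (TensorProduct.AlgebraTensorModule.lTensor_comp_cancelBaseChange (R := R) (A := R') (B := R')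
            (M := M') g) w
        exact this.symm
      rw [hcomp, LinearEquiv.apply_symm_apply])
  exact ⟨v, by rw [hv, LinearEquiv.apply_symm_apply]⟩

theorem kappa_divisible (h : EtGlue.IsGlueingPair R R' f) {L F N₁ : Type u}
    [AddCommGroup L] [Module R L] [AddCommGroup F] [Module R F] [AddCommGroup N₁] [Module R N₁]
    (ι : L →ₗ[R] F) (π : F →ₗ[R] N₁) (hι : Function.Injective ι) (hex : Function.Exact ι π)
    (hN₁ : ∀ m : N₁, (∃ n : ℕ, f ^ n • m = 0) → (1 : R') ⊗ₜ[R] m = 0 → m = 0)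
    (z : M' ⊗[R] L) (hz : LinearMap.lTensor M' ι z = 0) (n : ℕ) :
    ∃ z' : M' ⊗[R] L, LinearMap.lTensor M' ι z' = 0 ∧ f ^ n • z' = z := by
  obtain ⟨v, rfl⟩ := exists_of_lTensor_eq_zero (R' := R') M' ι z hz
  have hv : ∀ v : M' ⊗[R'] (LinearMap.ker (ι.baseChange R')),
      ∃ v', (algebraMap R R' f ^ n) • v' = v := by
    intro v
    induction v with
    | zero => exact ⟨0, smul_zero _⟩
    | tmul m k =>
      obtain ⟨k', hk', hk''⟩ := ker_baseChange_divisible h ι π hι hex hN₁ k.1 k.2 n
      refine ⟨m ⊗ₜ ⟨k', hk'⟩, ?_⟩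
      rw [← TensorProduct.tmul_smul]
      congr 1
      apply Subtype.ext
      rw [Submodule.coe_smul, ← hk'', ← map_pow, algebraMap_smul]
    | add x y hx hy =>
      obtain ⟨x', rfl⟩ := hx
      obtain ⟨y', rfl⟩ := hy
      exact ⟨x' + y', smul_add _ _ _⟩
  obtain ⟨v', rfl⟩ := hv v
  refine ⟨TensorProduct.AlgebraTensorModule.cancelBaseChange R R' R' M' L
        (LinearMap.lTensor M' (LinearMap.ker (ι.baseChange R')).subtype v'), ?_, ?_⟩
  · have := LinearMap.congr_fun
      (TensorProduct.AlgebraTensorModule.lTensor_comp_cancelBaseChange (R := R) (A := R') (B := R')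
        (M := M') ι) (LinearMap.lTensor M' (LinearMap.ker (ι.baseChange R')).subtype v')
    refine Eq.trans this ?_
    show TensorProduct.AlgebraTensorModule.cancelBaseChange R R' R' M' F
      ((LinearMap.lTensor M' (ι.baseChange R') ∘ₗ
        LinearMap.lTensor M' (LinearMap.ker (ι.baseChange R')).subtype) v') = 0
    have h0 : ι.baseChange R' ∘ₗ (LinearMap.ker (ι.baseChange R')).subtype = 0 := by
      ext x; exact x.2
    rw [← LinearMap.lTensor_comp, h0, LinearMap.lTensor_zero, LinearMap.zero_apply, map_zero]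
  · rw [map_smul, map_smul, ← map_pow, algebraMap_smul]

theorem kappa_torsionFree (h : EtGlue.IsGlueingPair R R' f) {N₁ N₂ : Type u}
    [AddCommGroup N₁] [Module R N₁] [AddCommGroup N₂] [Module R N₂] (g : N₁ →ₗ[R] N₂)
    (hg : Function.Injective g)
    (hN₂ : ∀ m : N₂, (∃ n : ℕ, f ^ n • m = 0) → (1 : R') ⊗ₜ[R] m = 0 → m = 0)
    (z : M' ⊗[R] N₁) (hz : LinearMap.lTensor M' g z = 0) (n : ℕ) (hn : f ^ n • z = 0) : z = 0 := by
  obtain ⟨v, rfl⟩ := exists_of_lTensor_eq_zero (R' := R') M' g z hz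
  have h1 : (algebraMap R R' f ^ n) • v = 0 := by
    have hinj : Function.Injective (LinearMap.lTensor M' (LinearMap.ker (g.baseChange R')).subtype) :=
      Module.Flat.lTensor_preserves_injective_linearMap _ (Submodule.injective_subtype _)
    apply hinj
    apply (TensorProduct.AlgebraTensorModule.cancelBaseChange R R' R' M' N₁).injective
    rw [map_smul, map_smul, ← map_pow, algebraMap_smul, hn, map_zero, map_zero]
  have h2 : Function.Injective (LinearMap.lsmul R' (LinearMap.ker (g.baseChange R')) (algebraMap R R' f ^ n)) := by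
    rw [injective_iff_map_eq_zero]
    intro k hk
    apply Subtype.ext
    refine ker_baseChange_torsionFree h g hg hN₂ k.1 k.2 n ?_
    have := congrArg Subtype.val hk
    simp only [LinearMap.lsmul_apply, Submodule.coe_smul, ZeroMemClass.coe_zero] at this
    rw [← map_pow, algebraMap_smul] at this
    exact this
  have h3 := Module.Flat.lTensor_preserves_injective_linearMap (M := M') _ h2
  have h4 : LinearMap.lTensor M'
      (LinearMap.lsmul R' (LinearMap.ker (g.baseChange R')) (algebraMap R R' f ^ n)) v = 0 := by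
    rw [← h1]
    have : ∀ v, LinearMap.lTensor M'
      (LinearMap.lsmul R' (LinearMap.ker (g.baseChange R')) (algebraMap R R' f ^ n)) v =
        (algebraMap R R' f ^ n) • v := by
      intro v
      induction v with
      | zero => simp
      | tmul m k => rw [LinearMap.lTensor_tmul, LinearMap.lsmul_apply, TensorProduct.tmul_smul]
      | add x y hx hy => rw [map_add, hx, hy, smul_add]
    exact this v
  have h5 : v = 0 := h3 (by rw [h4, map_zero])
  rw [h5, map_zero, map_zero]

end kappa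

/-- Core diagram chase for the glueable case (abstract form). -/
theorem core (h : EtGlue.IsGlueingPair R R' f) {M M' Mf M'f : Type u}
    [AddCommGroup M] [Module R M] [AddCommGroup M'] [Module R M'] [Module R' M']
    [IsScalarTower R R' M'] [Module.Flat R' M'] [AddCommGroup Mf] [Module R Mf]
    [Module.Flat R Mf] [AddCommGroup M'f] [Module R M'f]
    (a : M →ₗ[R] M') (b : M →ₗ[R] Mf) (loc : M' →ₗ[R] M'f) (t : Mf →ₗ[R] M'f)
    [IsLocalizedModule (Submonoid.powers f) b] [IsLocalizedModule (Submonoid.powers f) loc]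
    (hinj : Function.Injective (a.prod b))
    (hexact : Function.Exact (a.prod b) (loc.coprod (-t)))
    (hsurj : Function.Surjective (loc.coprod (-t)))
    {L F N₁ N₂ : Type u} [AddCommGroup L] [Module R L] [AddCommGroup F] [Module R F]
    [AddCommGroup N₁] [Module R N₁] [AddCommGroup N₂] [Module R N₂] [Module.Flat R F]
    (ι : L →ₗ[R] F) (π : F →ₗ[R] N₁) (g : N₁ →ₗ[R] N₂) (hι : Function.Injective ι)
    (hex : Function.Exact ι π) (hπ : Function.Surjective π) (hg : Function.Injective g)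
    (hN₂ : ∀ m : N₂, (∃ n : ℕ, f ^ n • m = 0) → (1 : R') ⊗ₜ[R] m = 0 → m = 0) :
    Function.Injective (LinearMap.lTensor M g) := by
  have hN₁ : ∀ m : N₁, (∃ n : ℕ, f ^ n • m = 0) → (1 : R') ⊗ₜ[R] m = 0 → m = 0 := by
    rintro m ⟨n, hm⟩ h0
    apply hg
    rw [map_zero]
    refine hN₂ _ ⟨n, by rw [← map_smul, hm, map_zero]⟩ ?_
    have := congrArg (LinearMap.lTensor R' g) h0
    rwa [LinearMap.lTensor_tmul, map_zero] at this
  rw [injective_iff_map_eq_zero]
  intro x hx
  have : IsLocalizedModule (Submonoid.powers f) (LinearMap.rTensor N₁ b) :=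
    IsLocalizedModule.rTensor (R := R) (A := R) (Submonoid.powers f) b
  have : IsLocalizedModule (Submonoid.powers f) (LinearMap.rTensor L loc) :=
    IsLocalizedModule.rTensor (R := R) (A := R) (Submonoid.powers f) loc
  have : IsLocalizedModule (Submonoid.powers f) (LinearMap.rTensor F loc) :=
    IsLocalizedModule.rTensor (R := R) (A := R) (Submonoid.powers f) loc
  -- Step 1
  have hb : LinearMap.rTensor N₁ b x = 0 := by
    have hinj : Function.Injective (LinearMap.lTensor Mf g) :=
      Module.Flat.lTensor_preserves_injective_linearMap _ hg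
    apply hinj
    rw [← LinearMap.comp_apply, LinearMap.lTensor_comp_rTensor, ← LinearMap.rTensor_comp_lTensor,
      LinearMap.comp_apply, hx, map_zero, map_zero]
  have hfx : ∃ n : ℕ, f ^ n • x = 0 := by
    obtain ⟨⟨_, n, rfl⟩, hc⟩ :=
      (IsLocalizedModule.eq_zero_iff (Submonoid.powers f) (LinearMap.rTensor N₁ b)).1 hb
    exact ⟨n, hc⟩
  obtain ⟨n, hn⟩ := hfx
  -- Step 2
  have ha : LinearMap.rTensor N₁ a x = 0 := by
    refine kappa_torsionFree M' h g hg hN₂ _ ?_ n ?_
    · rw [← LinearMap.comp_apply, LinearMap.lTensor_comp_rTensor, ← LinearMap.rTensor_comp_lTensor,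
        LinearMap.comp_apply, hx, map_zero]
    · rw [← map_smul, hn, map_zero]
  have hj : LinearMap.rTensor N₁ (a.prod b) x = 0 := by
    have hdec : (LinearMap.inl R M' Mf) ∘ₗ a + (LinearMap.inr R M' Mf) ∘ₗ b = a.prod b := by
      apply LinearMap.ext
      intro m
      simp
    rw [← hdec, LinearMap.rTensor_add, LinearMap.add_apply, LinearMap.rTensor_comp,
      LinearMap.rTensor_comp, LinearMap.comp_apply, LinearMap.comp_apply, ha, hb, map_zero,
      map_zero, add_zero]
  -- Step 3
  obtain ⟨y, rfl⟩ := LinearMap.lTensor_surjective M hπ x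
  have hEexact := lTensor_exact (M' × Mf) hex hπ
  obtain ⟨c, hc⟩ := (hEexact (LinearMap.rTensor F (a.prod b) y)).1 (by
    rw [← LinearMap.comp_apply, LinearMap.lTensor_comp_rTensor, ← LinearMap.rTensor_comp_lTensor,
      LinearMap.comp_apply, hj])
  have hdj : (loc.coprod (-t)) ∘ₗ (a.prod b) = 0 := hexact.linearMap_comp_eq_zero
  have he : LinearMap.lTensor M'f ι (LinearMap.rTensor L (loc.coprod (-t)) c) = 0 := by
    rw [← LinearMap.comp_apply, LinearMap.lTensor_comp_rTensor, ← LinearMap.rTensor_comp_lTensor,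
      LinearMap.comp_apply, hc, ← LinearMap.comp_apply, ← LinearMap.rTensor_comp, hdj,
      LinearMap.rTensor_zero, LinearMap.zero_apply]
  obtain ⟨z', hz', hz''⟩ : ∃ z' : M' ⊗[R] L, LinearMap.lTensor M' ι z' = 0 ∧
      LinearMap.rTensor L loc z' = LinearMap.rTensor L (loc.coprod (-t)) c := by
    obtain ⟨⟨e₁, ⟨_, k, rfl⟩⟩, he₁⟩ := IsLocalizedModule.surj (Submonoid.powers f)
      (LinearMap.rTensor L loc) (LinearMap.rTensor L (loc.coprod (-t)) c)
    have he₁' : f ^ k • (LinearMap.rTensor L (loc.coprod (-t)) c) = LinearMap.rTensor L loc e₁ := he₁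
    have h1 : LinearMap.rTensor F loc (LinearMap.lTensor M' ι e₁) = 0 := by
      rw [← LinearMap.comp_apply, LinearMap.rTensor_comp_lTensor, ← LinearMap.lTensor_comp_rTensor,
        LinearMap.comp_apply, ← he₁', map_smul, he, smul_zero]
    obtain ⟨⟨_, m, rfl⟩, hm⟩ :=
      (IsLocalizedModule.eq_zero_iff (Submonoid.powers f) (LinearMap.rTensor F loc)).1 h1
    have hm' : f ^ m • (LinearMap.lTensor M' ι e₁) = 0 := hm
    obtain ⟨z', hz', hz''⟩ := kappa_divisible M' h ι π hι hex hN₁ (f ^ m • e₁)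
      (by rw [map_smul, hm']) (m + k)
    refine ⟨z', hz', ?_⟩
    apply IsLocalizedModule.smul_injective (LinearMap.rTensor L loc)
      (⟨f ^ (m + k), m + k, rfl⟩ : Submonoid.powers f)
    show f ^ (m + k) • LinearMap.rTensor L loc z' =
      f ^ (m + k) • LinearMap.rTensor L (loc.coprod (-t)) c
    rw [← map_smul, hz'', map_smul, ← he₁', smul_smul, pow_add]
  have hcomp : LinearMap.rTensor L (loc.coprod (-t)) (LinearMap.rTensor L
      (LinearMap.inl R M' Mf) z') = LinearMap.rTensor L loc z' := by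
    have hinl : (loc.coprod (-t)) ∘ₗ LinearMap.inl R M' Mf = loc := LinearMap.coprod_inl _ _
    rw [← LinearMap.comp_apply, ← LinearMap.rTensor_comp, hinl]
  obtain ⟨w, hw⟩ := (rTensor_exact L hexact hsurj
    (c - LinearMap.rTensor L (LinearMap.inl R M' Mf) z')).1 (by
      rw [map_sub, hcomp, hz'', sub_self])
  have hy : LinearMap.lTensor M ι w = y := by
    have hjF : Function.Injective (LinearMap.rTensor F (a.prod b)) :=
      Module.Flat.rTensor_preserves_injective_linearMap _ hinj
    apply hjF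
    rw [← LinearMap.comp_apply, LinearMap.rTensor_comp_lTensor, ← LinearMap.lTensor_comp_rTensor,
      LinearMap.comp_apply, hw, map_sub, hc, ← LinearMap.comp_apply (LinearMap.lTensor _ ι),
      LinearMap.lTensor_comp_rTensor, ← LinearMap.rTensor_comp_lTensor, LinearMap.comp_apply, hz',
      map_zero, sub_zero]
  rw [← hy, ← LinearMap.comp_apply, ← LinearMap.lTensor_comp, hex.linearMap_comp_eq_zero,
    LinearMap.lTensor_zero, LinearMap.zero_apply]

/-- Every module is a quotient of a free module (packaged to hide the `Finsupp` instances). -/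
theorem exists_free_cover (R : Type u) [CommRing R] (N : Type u) [AddCommGroup N] [Module R N] :
    ∃ (F : Type u) (_ : AddCommGroup F) (_ : Module R F) (_ : Module.Free R F) (π : F →ₗ[R] N),
      Function.Surjective π :=
  ⟨N →₀ R, inferInstance, inferInstance, inferInstance, Finsupp.linearCombination R id,
    Finsupp.linearCombination_id_surjective R N⟩

/-- Flatness from a glueing pair, glueable case, abstract form. -/
theorem flat_of_glueable_aux (h : EtGlue.IsGlueingPair R R' f) {M M' Mf M'f : Type u}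
    [AddCommGroup M] [Module R M] [AddCommGroup M'] [Module R M'] [Module R' M']
    [IsScalarTower R R' M'] [Module.Flat R' M'] [AddCommGroup Mf] [Module R Mf]
    [Module.Flat R Mf] [AddCommGroup M'f] [Module R M'f]
    (a : M →ₗ[R] M') (b : M →ₗ[R] Mf) (loc : M' →ₗ[R] M'f) (t : Mf →ₗ[R] M'f)
    [IsLocalizedModule (Submonoid.powers f) b] [IsLocalizedModule (Submonoid.powers f) loc]
    (htb : t ∘ₗ b = loc ∘ₗ a)
    (hdec : ∀ (n : ℕ) (x : M'), ∃ (m : M) (y : M'), x = a m + f ^ n • y)
    (hinj : ∀ m : M, a m = 0 → b m = 0 → m = 0)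
    (hmid : ∀ (x : M') (y : Mf), loc x = t y → ∃ m : M, a m = x ∧ b m = y) :
    Module.Flat R M := by
  rw [Module.Flat.iff_lTensor_injective']
  intro I
  have hinj' : Function.Injective (a.prod b) := by
    rw [injective_iff_map_eq_zero]
    intro m hm
    exact hinj m (congrArg Prod.fst hm) (congrArg Prod.snd hm)
  have hexact : Function.Exact (a.prod b) (loc.coprod (-t)) := by
    rintro ⟨x, y⟩
    rw [LinearMap.coprod_apply, LinearMap.neg_apply]
    constructor
    · intro hxy
      obtain ⟨m, hm1, hm2⟩ := hmid x y (add_neg_eq_zero.1 hxy)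
      exact ⟨m, Prod.ext hm1 hm2⟩
    · rintro ⟨m, hm⟩
      have hm1 : a m = x := congrArg Prod.fst hm
      have hm2 : b m = y := congrArg Prod.snd hm
      rw [← hm1, ← hm2, ← LinearMap.comp_apply t, htb, LinearMap.comp_apply, add_neg_cancel]
  have hsurj : Function.Surjective (loc.coprod (-t)) := by
    intro z
    obtain ⟨⟨x, ⟨_, n, rfl⟩⟩, rfl⟩ := IsLocalizedModule.mk'_surjective (Submonoid.powers f) loc z
    obtain ⟨m, y, rfl⟩ := hdec n x
    refine ⟨(y, -IsLocalizedModule.mk' b m (⟨f ^ n, n, rfl⟩ : Submonoid.powers f)), ?_⟩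
    apply IsLocalizedModule.smul_injective loc (⟨f ^ n, n, rfl⟩ : Submonoid.powers f)
    simp only [Function.uncurry_apply_pair]
    rw [LinearMap.coprod_apply, LinearMap.neg_apply, map_neg, neg_neg]
    have h1 : (⟨f ^ n, n, rfl⟩ : Submonoid.powers f) •
        t (IsLocalizedModule.mk' b m (⟨f ^ n, n, rfl⟩ : Submonoid.powers f)) = t (b m) := by
      have := congrArg t (IsLocalizedModule.mk'_cancel' b m (⟨f ^ n, n, rfl⟩ : Submonoid.powers f))
      rw [← this]
      exact (map_smul t (f ^ n) _).symm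
    rw [smul_add, h1]
    have h2 := IsLocalizedModule.mk'_cancel' loc (a m + f ^ n • y)
      (⟨f ^ n, n, rfl⟩ : Submonoid.powers f)
    refine Eq.trans ?_ h2.symm
    rw [map_add, map_smul, ← LinearMap.comp_apply, htb, LinearMap.comp_apply, add_comm]
    rfl
  obtain ⟨F, _, _, _, π, hπ⟩ := exists_free_cover R I
  exact core h a b loc t hinj' hexact hsurj (LinearMap.ker π).subtype π I.subtype
    (Submodule.injective_subtype _) (LinearMap.exact_subtype_ker_map _) hπ
    (Submodule.injective_subtype _) (by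
      rintro m ⟨n, hm⟩ h0
      refine torsion_ring_inj h m n hm ?_
      have := congrArg (TensorProduct.rid R R') h0
      rwa [TensorProduct.rid_tmul, map_zero, Algebra.smul_def, mul_one] at this)

/-- Flatness from a glueing pair, glueable case. -/
theorem flat_of_glueable (h : EtGlue.IsGlueingPair R R' f) (M : Type u) [AddCommGroup M]
    [Module R M] (hM : EtGlue.IsGlueable R R' f M) (h1 : Module.Flat R' (R' ⊗[R] M))
    (h2 : Module.Flat (Localization.Away f) (LocalizedModule (Submonoid.powers f) M)) :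
    Module.Flat R M := by
  have h3 : Module.Flat R (LocalizedModule (Submonoid.powers f) M) :=
    Module.Flat.trans R (Localization.Away f) _
  refine flat_of_glueable_aux h (M' := R' ⊗[R] M) (Mf := LocalizedModule (Submonoid.powers f) M)
    (M'f := LocalizedModule (Submonoid.powers f) (R' ⊗[R] M)) (TensorProduct.mk R R' M 1)
    (LocalizedModule.mkLinearMap (Submonoid.powers f) M) (EtGlue.locOfTensor R R' f M)
    (EtGlue.tensorOfLoc R R' f M) ?_ ?_ ?_ ?_
  · exact IsLocalizedModule.map_comp _ _ _ _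
  · intro n x
    exact exists_decomp_tensor h.1 n x
  · intro m h4 h5
    apply hM.1
    simp only [map_zero, h5, TensorProduct.tmul_zero]
    rw [Prod.mk.injEq]
    exact ⟨h4, rfl⟩
  · intro x y hxy
    exact hM.2 x y hxy

/-- Middle exactness modulo torsion, for a glueing pair and any module. -/
theorem exists_of_loc_eq (h : EtGlue.IsGlueingPair R R' f) {M Mf M'f : Type u}
    [AddCommGroup M] [Module R M] [AddCommGroup Mf] [Module R Mf] [AddCommGroup M'f] [Module R M'f]
    (b : M →ₗ[R] Mf) (loc : R' ⊗[R] M →ₗ[R] M'f) (t : Mf →ₗ[R] M'f)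
    [IsLocalizedModule (Submonoid.powers f) b] [IsLocalizedModule (Submonoid.powers f) loc]
    (htb : ∀ m, t (b m) = loc ((1 : R') ⊗ₜ[R] m)) (x : R' ⊗[R] M) (y : Mf) (hxy : loc x = t y) :
    ∃ m : M, (1 : R') ⊗ₜ[R] m = x ∧ b m = y := by
  obtain ⟨⟨m₀, ⟨_, n, rfl⟩⟩, hm₀⟩ := IsLocalizedModule.surj (Submonoid.powers f) b y
  have hm₀' : f ^ n • y = b m₀ := hm₀
  have h1 : loc (f ^ n • x - (1 : R') ⊗ₜ[R] m₀) = 0 := by
    rw [map_sub, map_smul, hxy, ← map_smul, hm₀', htb, sub_self]
  obtain ⟨⟨_, N, rfl⟩, hN⟩ := (IsLocalizedModule.eq_zero_iff (Submonoid.powers f) loc).1 h1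
  have hN' : f ^ N • (f ^ n • x - (1 : R') ⊗ₜ[R] m₀) = 0 := hN
  rw [smul_sub, sub_eq_zero, smul_smul, ← pow_add, ← TensorProduct.tmul_smul] at hN'
  obtain ⟨m₁, hm₁⟩ := exists_smul_of_tmul_eq_smul h.1 (N + n) _ _ hN'.symm
  obtain ⟨c, hc, hc'⟩ := torsion_surj h (N + n) (x - (1 : R') ⊗ₜ[R] m₁) (by
    rw [smul_sub, hN', hm₁, TensorProduct.tmul_smul, sub_self])
  refine ⟨m₁ + c, by rw [TensorProduct.tmul_add, hc']; abel, ?_⟩
  have hbc : b c = 0 := (IsLocalizedModule.eq_zero_iff (Submonoid.powers f) b).2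
    ⟨⟨f ^ (N + n), N + n, rfl⟩, hc⟩
  rw [map_add, hbc, add_zero]
  apply IsLocalizedModule.smul_injective b (⟨f ^ (N + n), N + n, rfl⟩ : Submonoid.powers f)
  show f ^ (N + n) • b m₁ = f ^ (N + n) • y
  rw [← map_smul, ← hm₁, map_smul, ← hm₀', smul_smul, pow_add]

/-- The submodule of `f`-power torsion elements dying in `R' ⊗ M`. -/
def badSub (R R' : Type u) [CommRing R] [CommRing R'] [Algebra R R'] (f : R)
    (M : Type u) [AddCommGroup M] [Module R M] : Submodule R M where
  carrier := {m | (∃ n : ℕ, f ^ n • m = 0) ∧ (1 : R') ⊗ₜ[R] m = 0}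
  zero_mem' := ⟨⟨0, by simp⟩, by simp⟩
  add_mem' := by
    rintro a b ⟨⟨n, hn⟩, h1⟩ ⟨⟨m, hm⟩, h2⟩
    refine ⟨⟨n + m, ?_⟩, by rw [TensorProduct.tmul_add, h1, h2, add_zero]⟩
    rw [smul_add, pow_add, mul_smul _ _ b, hm, smul_zero, mul_comm, mul_smul, hn, smul_zero, add_zero]
  smul_mem' := by
    rintro c a ⟨⟨n, hn⟩, h1⟩
    exact ⟨⟨n, by rw [smul_comm, hn, smul_zero]⟩, by rw [TensorProduct.tmul_smul, h1, smul_zero]⟩

/-- Flatness descends along a glueing pair (abstract form). -/
theorem flat_of_glueing_aux (h : EtGlue.IsGlueingPair R R' f) {M Mf M'f : Type u}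
    [AddCommGroup M] [Module R M] [Module.Flat R' (R' ⊗[R] M)] [AddCommGroup Mf] [Module R Mf]
    [Module.Flat R Mf] [AddCommGroup M'f] [Module R M'f]
    (b : M →ₗ[R] Mf) (loc : R' ⊗[R] M →ₗ[R] M'f) (t : Mf →ₗ[R] M'f)
    [IsLocalizedModule (Submonoid.powers f) b] [IsLocalizedModule (Submonoid.powers f) loc]
    (htb : ∀ m, t (b m) = loc ((1 : R') ⊗ₜ[R] m)) :
    Module.Flat R M := by
  let K := badSub R R' f M
  let a : M →ₗ[R] R' ⊗[R] M := TensorProduct.mk R R' M 1
  have hKa : K ≤ LinearMap.ker a := fun m hm => hm.2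
  have hKb : K ≤ LinearMap.ker b := fun m hm => by
    obtain ⟨⟨n, hn⟩, -⟩ := hm
    exact (IsLocalizedModule.eq_zero_iff (Submonoid.powers f) b).2 ⟨⟨f ^ n, n, rfl⟩, hn⟩
  let a' : (M ⧸ K) →ₗ[R] R' ⊗[R] M := K.liftQ a hKa
  let b' : (M ⧸ K) →ₗ[R] Mf := K.liftQ b hKb
  have ha' : ∀ m, a' (Submodule.Quotient.mk m) = (1 : R') ⊗ₜ[R] m := fun m => rfl
  have hb' : ∀ m, b' (Submodule.Quotient.mk m) = b m := fun m => rfl
  have : IsLocalizedModule (Submonoid.powers f) b' :=
    { map_units := IsLocalizedModule.map_units b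
      surj := fun y => by
        obtain ⟨⟨m, s⟩, hms⟩ := IsLocalizedModule.surj (Submonoid.powers f) b y
        exact ⟨⟨Submodule.Quotient.mk m, s⟩, hms⟩
      exists_of_eq := fun {x y} hxy => by
        obtain ⟨m, rfl⟩ := Submodule.Quotient.mk_surjective _ x
        obtain ⟨m', rfl⟩ := Submodule.Quotient.mk_surjective _ y
        obtain ⟨s, hs⟩ := IsLocalizedModule.exists_of_eq (S := Submonoid.powers f) (f := b) hxy
        exact ⟨s, congrArg (Submodule.Quotient.mk (p := K)) hs⟩ }
  have hflat : Module.Flat R (M ⧸ K) := by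
    refine flat_of_glueable_aux h a' b' loc t ?_ ?_ ?_ ?_
    · apply LinearMap.ext
      intro x
      obtain ⟨m, rfl⟩ := Submodule.Quotient.mk_surjective _ x
      exact htb m
    · intro n x
      obtain ⟨m, y, hxy⟩ := exists_decomp_tensor h.1 n x
      exact ⟨Submodule.Quotient.mk m, y, hxy⟩
    · intro x h1 h2
      obtain ⟨m, rfl⟩ := Submodule.Quotient.mk_surjective _ x
      rw [Submodule.Quotient.mk_eq_zero]
      obtain ⟨⟨_, n, rfl⟩, hn⟩ := (IsLocalizedModule.eq_zero_iff (Submonoid.powers f) b).1 h2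
      exact ⟨⟨n, hn⟩, h1⟩
    · intro x y hxy
      obtain ⟨m, hm1, hm2⟩ := exists_of_loc_eq h b loc t htb x y hxy
      exact ⟨Submodule.Quotient.mk m, hm1, hm2⟩
  have hinj : Function.Injective (LinearMap.lTensor R' K.subtype) :=
    LinearMap.lTensor_injective_of_exact_of_flat K.mkQ (Submodule.mkQ_surjective K) K.subtype
      (Submodule.injective_subtype K) (LinearMap.exact_subtype_mkQ K) R'
  have hK : K = ⊥ := by
    rw [eq_bot_iff]
    intro k hk
    rw [Submodule.mem_bot]
    have hk0 : (1 : R') ⊗ₜ[R] (⟨k, hk⟩ : K) = 0 := by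
      apply hinj
      rw [LinearMap.lTensor_tmul, map_zero]
      exact hk.2
    have := eq_zero_of_tmul_eq_zero_of_torsion (M := K) h.1 (fun m => by
      obtain ⟨⟨n, hn⟩, -⟩ := m.2
      exact ⟨n, Subtype.ext hn⟩) ⟨k, hk⟩ hk0
    exact congrArg Subtype.val this
  exact Module.Flat.of_linearEquiv (Submodule.quotEquivOfEqBot K hK).symm

/-- **Stacks 0BP7**, hard direction. -/
theorem flat_of_glueing (h : EtGlue.IsGlueingPair R R' f) (M : Type u) [AddCommGroup M]
    [Module R M] (h1 : Module.Flat R' (R' ⊗[R] M))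
    (h2 : Module.Flat (Localization.Away f) (LocalizedModule (Submonoid.powers f) M)) :
    Module.Flat R M := by
  have h3 : Module.Flat R (LocalizedModule (Submonoid.powers f) M) :=
    Module.Flat.trans R (Localization.Away f) _
  refine flat_of_glueing_aux h (Mf := LocalizedModule (Submonoid.powers f) M)
    (M'f := LocalizedModule (Submonoid.powers f) (R' ⊗[R] M))
    (LocalizedModule.mkLinearMap (Submonoid.powers f) M) (EtGlue.locOfTensor R R' f M)
    (EtGlue.tensorOfLoc R R' f M) ?_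
  intro m
  exact IsLocalizedModule.map_apply _ _ _ _ _

end Groth.Agent.Etalg.GlueFlat
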