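import Mathlib.RingTheory.Ideal.KrullsHeightTheorem
import Mathlib.RingTheory.Ideal.MinimalPrime.Noetherian
import Mathlib.RingTheory.Localization.Away.Basic
import Mathlib.RingTheory.Jacobson.Ring

/-!
# Noetherian Goldman domains have dimension at most one

If `D` is a Noetherian domain and `h ≠ 0` lies in every nonzero prime ideal of `D`, then every
nonzero prime ideal is maximal and minimal over `(h)`; in particular there are finitely many.
-/

set_option autoImplicit false
universe u

namespace Groth.Agent.Etalg.GoldmanBasic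

/-- In a Noetherian domain in which `h ≠ 0` lies in all nonzero primes, every nonzero prime is
minimal over `(h)`. -/
theorem mem_minimalPrimes_span_of_forall {D : Type u} [CommRing D] [IsDomain D] [IsNoetherianRing D]
    (h : D) (h0 : h ≠ 0) (H : ∀ p : Ideal D, p.IsPrime → p ≠ ⊥ → h ∈ p) (m : Ideal D)
    (hm : m.IsPrime) (hm0 : m ≠ ⊥) : m ∈ (Ideal.span {h}).minimalPrimes := by
  have hfin : (Ideal.span {h}).minimalPrimes.Finite :=
    Ideal.finite_minimalPrimes_of_isNoetherianRing D _
  -- `m` is contained in the union of the minimal primes over `(h)`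
  have hsub : (m : Set D) ⊆ ⋃ P ∈ (↑hfin.toFinset : Set (Ideal D)), (P : Set D) := by
    intro x hx
    rcases eq_or_ne x 0 with rfl | hx0
    · obtain ⟨P, hP, -⟩ := Ideal.exists_minimalPrimes_le (I := Ideal.span {h}) (J := m)
        ((Ideal.span_singleton_le_iff_mem _).2 (H m hm hm0))
      exact Set.mem_biUnion (by simpa using hP) P.zero_mem
    · obtain ⟨P, hP, hPm⟩ := Ideal.exists_minimalPrimes_le (I := Ideal.span {x}) (J := m)
        ((Ideal.span_singleton_le_iff_mem _).2 hx)
      have hPp : P.IsPrime := hP.1.1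
      have hxP : x ∈ P := (Ideal.span_singleton_le_iff_mem _).1 hP.1.2
      have hP0 : P ≠ ⊥ := fun e => hx0 (by rw [e] at hxP; simpa using hxP)
      have hht : P.height ≤ 1 :=
        Ideal.height_le_one_of_isPrincipal_of_mem_minimalPrimes (Ideal.span {x}) P hP
      obtain ⟨Q, hQ, hQP⟩ := Ideal.exists_minimalPrimes_le (I := Ideal.span {h}) (J := P)
        ((Ideal.span_singleton_le_iff_mem _).2 (H P hPp hP0))
      have hQp : Q.IsPrime := hQ.1.1
      have hQ0 : Q ≠ ⊥ := fun e => h0 (by
        have := (Ideal.span_singleton_le_iff_mem _).1 hQ.1.2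
        rw [e] at this; simpa using this)
      have hQP' : Q = P := by
        by_contra hne
        have hlt : Q < P := lt_of_le_of_ne hQP hne
        have h1 : (⊥ : Ideal D) < Q := bot_lt_iff_ne_bot.2 hQ0
        have hfh : P.FiniteHeight := ⟨Or.inr (hht.trans_lt (WithTop.coe_lt_top 1)).ne⟩
        have hfhQ : Q.FiniteHeight := ⟨Or.inr (((Ideal.height_mono hQP).trans hht).trans_lt
          (WithTop.coe_lt_top 1)).ne⟩
        have h2 := Ideal.height_strict_mono_of_isPrime_of_isPrime hlt
        have hb : (⊥ : Ideal D).IsPrime := Ideal.isPrime_bot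
        have h3 := Ideal.height_strict_mono_of_isPrime_of_isPrime h1
        have h4 : (0 : ℕ∞) < Q.height := lt_of_le_of_lt (zero_le) h3
        have h5 : (1 : ℕ∞) ≤ Q.height := Order.one_le_iff_pos.2 h4
        exact absurd (lt_of_le_of_lt h5 h2) (not_lt_of_ge hht)
      exact Set.mem_biUnion (x := Q) (by simpa using hQ) (hQP' ▸ hxP)
  obtain ⟨P, hP, hmP⟩ := (Ideal.subset_union_prime (s := hfin.toFinset) (f := fun P => P) ⊥ ⊥
    (fun i hi _ _ => (hfin.mem_toFinset.1 hi).1.1)).1 hsub
  have hP' := hfin.mem_toFinset.1 hP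
  have : P ≤ m := hP'.2 ⟨hm, (Ideal.span_singleton_le_iff_mem _).2 (H m hm hm0)⟩ hmP
  have : m = P := le_antisymm hmP this
  rw [this]
  exact hP'

/-- In a Noetherian domain in which `h ≠ 0` lies in all nonzero primes, every nonzero prime is
maximal. -/
theorem isMaximal_of_forall {D : Type u} [CommRing D] [IsDomain D] [IsNoetherianRing D]
    (h : D) (h0 : h ≠ 0) (H : ∀ p : Ideal D, p.IsPrime → p ≠ ⊥ → h ∈ p) (p : Ideal D)
    (hp : p.IsPrime) (hp0 : p ≠ ⊥) : p.IsMaximal := by
  obtain ⟨m, hm, hpm⟩ := p.exists_le_maximal hp.ne_top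
  have h1 := mem_minimalPrimes_span_of_forall h h0 H m hm.isPrime
    (fun e => hp0 (le_bot_iff.1 (e ▸ hpm)))
  have h2 : m ≤ p := h1.2 ⟨hp, (Ideal.span_singleton_le_iff_mem _).2 (H p hp hp0)⟩ hpm
  rwa [le_antisymm hpm h2]

/-- In a Noetherian domain in which `h ≠ 0` lies in all nonzero primes, there are finitely many
primes. -/
theorem finite_primes_of_forall {D : Type u} [CommRing D] [IsDomain D] [IsNoetherianRing D]
    (h : D) (h0 : h ≠ 0) (H : ∀ p : Ideal D, p.IsPrime → p ≠ ⊥ → h ∈ p) :
    {p : Ideal D | p.IsPrime}.Finite := by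
  refine ((Ideal.finite_minimalPrimes_of_isNoetherianRing D (Ideal.span {h})).insert ⊥).subset ?_
  intro p hp
  rcases eq_or_ne p ⊥ with rfl | hp0
  · exact Set.mem_insert _ _
  · exact Set.mem_insert_of_mem _ (mem_minimalPrimes_span_of_forall h h0 H p hp hp0)

/-- Version for a prime `q` of a Noetherian ring: if every prime strictly above `q` contains `h`,
and `h ∉ q`, then every prime strictly above `q` is maximal. -/
theorem isMaximal_of_forall_lt {A : Type u} [CommRing A] [IsNoetherianRing A]
    (q : Ideal A) (hq : q.IsPrime) (h : A) (hh : h ∉ q)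
    (H : ∀ p : Ideal A, p.IsPrime → q < p → h ∈ p) (p : Ideal A) (hp : p.IsPrime) (hqp : q < p) :
    p.IsMaximal := by
  have h0 : Ideal.Quotient.mk q h ≠ 0 := fun e => hh (Ideal.Quotient.eq_zero_iff_mem.1 e)
  have hsurj := Ideal.Quotient.mk_surjective (I := q)
  have hmap : (p.map (Ideal.Quotient.mk q)).IsPrime :=
    Ideal.map_isPrime_of_surjective hsurj (by rw [Ideal.mk_ker]; exact hqp.le)
  have hmax : (p.map (Ideal.Quotient.mk q)).IsMaximal := by
    refine isMaximal_of_forall (Ideal.Quotient.mk q h) h0 ?_ _ hmap ?_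
    · intro P hP hP0
      have h1 : q ≤ P.comap (Ideal.Quotient.mk q) := by
        intro x hx
        rw [Ideal.mem_comap, Ideal.Quotient.eq_zero_iff_mem.2 hx]
        exact P.zero_mem
      have h2 : q ≠ P.comap (Ideal.Quotient.mk q) := by
        intro e
        apply hP0
        rw [eq_bot_iff]
        intro x hx
        obtain ⟨x, rfl⟩ := hsurj x
        have : x ∈ q := by rw [e]; exact hx
        rw [Ideal.Quotient.eq_zero_iff_mem.2 this]
        exact Submodule.zero_mem _
      exact H (P.comap (Ideal.Quotient.mk q)) (hP.comap _) (lt_of_le_of_ne h1 h2)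
    · intro e
      apply hqp.not_ge
      intro x hx
      rw [← Ideal.Quotient.eq_zero_iff_mem]
      have : Ideal.Quotient.mk q x ∈ p.map (Ideal.Quotient.mk q) := Ideal.mem_map_of_mem _ hx
      rw [e] at this
      simpa using this
  have hcomap : (p.map (Ideal.Quotient.mk q)).comap (Ideal.Quotient.mk q) = p := by
    rw [Ideal.comap_map_of_surjective _ hsurj, ← RingHom.ker_eq_comap_bot, Ideal.mk_ker]
    exact sup_eq_left.2 hqp.le
  rw [← hcomap]
  exact Ideal.comap_isMaximal_of_surjective _ hsurj

/-- If `f` lies in the Jacobson radical of a Noetherian ring `A` then `A_f` is Jacobson. -/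
theorem isJacobsonRing_away {A : Type u} [CommRing A] [IsNoetherianRing A] (f : A)
    (hf : f ∈ (⊥ : Ideal A).jacobson) : IsJacobsonRing (Localization.Away f) := by
  rw [isJacobsonRing_iff_sInf_maximal]
  intro P hP
  refine ⟨{M | M.IsMaximal ∧ P ≤ M}, fun J hJ => Or.inl hJ.1, le_antisymm ?_ ?_⟩
  · exact le_sInf fun J hJ => hJ.2
  intro x hx
  by_contra hxP
  -- a prime maximal among the primes above `P` that do not contain `x`
  obtain ⟨(Q : Ideal (Localization.Away f)), ⟨hQp, hPQ, hxQ⟩, hQmax⟩ :=
    set_has_maximal_iff_noetherian.mpr (inferInstance : IsNoetherianRing (Localization.Away f))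
      {Q : Ideal (Localization.Away f) | Q.IsPrime ∧ P ≤ Q ∧ x ∉ Q} ⟨P, hP, le_rfl, hxP⟩
  have hQmax' : ∀ Q' : Ideal (Localization.Away f), Q'.IsPrime → Q < Q' → x ∈ Q' := by
    intro Q' hQ' hlt
    by_contra hx'
    exact hQmax Q' ⟨hQ', hPQ.trans hlt.le, hx'⟩ hlt
  -- `Q` is maximal
  have hQM : Q.IsMaximal := by
    by_contra hnot
    obtain ⟨M, hM, hQM⟩ := Q.exists_le_maximal hQp.ne_top
    have hlt : Q < M := lt_of_le_of_ne hQM (fun e => hnot (e ▸ hM))
    obtain ⟨g, s, hgs⟩ := IsLocalization.exists_mk'_eq (Submonoid.powers f) x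
    have hq : (Q.comap (algebraMap A (Localization.Away f))).IsPrime := hQp.comap _
    have hfu : IsUnit (algebraMap A (Localization.Away f) f) :=
      IsLocalization.Away.algebraMap_isUnit f
    have hmem : ∀ I : Ideal (Localization.Away f),
        (x ∈ I ↔ algebraMap A (Localization.Away f) g ∈ I) := by
      intro I
      rw [← hgs]
      exact IsLocalization.mk'_mem_iff
    have hpow : ∀ p : Ideal A, p.IsPrime → f ∉ p → 
        Disjoint ((Submonoid.powers f : Submonoid A) : Set A) (p : Set A) := by
      intro p hp hfp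
      rw [Set.disjoint_left]
      rintro _ ⟨n, rfl⟩ hn
      exact hfp (hp.mem_of_pow_mem n hn)
    have hmax : (M.comap (algebraMap A (Localization.Away f))).IsMaximal := by
      refine isMaximal_of_forall_lt (Q.comap (algebraMap A (Localization.Away f))) hq (f * g) ?_ ?_
        _ (hM.isPrime.comap _) ?_
      · intro hmem'
        rcases hq.mem_or_mem hmem' with h1 | h1
        · exact hQp.ne_top (Ideal.eq_top_of_isUnit_mem _ h1 hfu)
        · exact hxQ ((hmem Q).2 h1)
      · intro p hp hqp
        by_contra hfg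
        have hfp : f ∉ p := fun h => hfg (p.mul_mem_right _ h)
        have hgp : g ∉ p := fun h => hfg (p.mul_mem_left _ h)
        have hdis := hpow p hp hfp
        have hp' : (p.map (algebraMap A (Localization.Away f))).IsPrime :=
          IsLocalization.isPrime_of_isPrime_disjoint (Submonoid.powers f) _ p hp hdis
        have hcm : (p.map (algebraMap A (Localization.Away f))).comap
            (algebraMap A (Localization.Away f)) = p :=
          IsLocalization.under_map_of_isPrime_disjoint (Submonoid.powers f) _ hp hdis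
        have hQeq : (Q.comap (algebraMap A (Localization.Away f))).map
            (algebraMap A (Localization.Away f)) = Q :=
          IsLocalization.map_under (Submonoid.powers f) _ Q
        have hle : Q ≤ p.map (algebraMap A (Localization.Away f)) := by
          rw [← hQeq]; exact Ideal.map_mono hqp.le
        have hne : Q ≠ p.map (algebraMap A (Localization.Away f)) := by
          intro e
          rw [e, hcm] at hqp
          exact lt_irrefl _ hqp
        have hx' := hQmax' _ hp' (lt_of_le_of_ne hle hne)
        apply hgp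
        rw [← hcm]
        exact (hmem _).1 hx'
      · have h1 : Q.comap (algebraMap A (Localization.Away f)) ≤
          M.comap (algebraMap A (Localization.Away f)) := Ideal.comap_mono hlt.le
        refine lt_of_le_of_ne h1 fun e => hlt.ne ?_
        exact ((IsLocalization.map_under (Submonoid.powers f) (Localization.Away f) Q).symm.trans
          (congrArg (Ideal.map (algebraMap A (Localization.Away f))) e)).trans
          (IsLocalization.map_under (Submonoid.powers f) (Localization.Away f) M)
    have hfm : f ∈ M.comap (algebraMap A (Localization.Away f)) :=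
      (Ideal.mem_sInf.1 hf) ⟨bot_le, hmax⟩
    exact hM.ne_top (Ideal.eq_top_of_isUnit_mem _ hfm hfu)
  exact hxQ (Ideal.mem_sInf.1 hx ⟨hQM, hPQ⟩)

end Groth.Agent.Etalg.GoldmanBasic
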