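import Mathlib.RingTheory.Henselian
import Mathlib.Algebra.Polynomial.Taylor
import Mathlib.Algebra.Polynomial.Inductions

/-!
# Hensel's lemma for polynomials which need not be monic

For a henselian pair `(R, I)` (Mathlib's `HenselianRing`), simple roots modulo `I` of arbitrary (not
necessarily monic) polynomials lift.
-/

set_option autoImplicit false
universe u
open Polynomial

namespace Groth.Agent.Etalg.HenselNewton

theorem isUnit_of_sub_mem {R : Type*} [CommRing R] {I : Ideal R} (hI : I ≤ Ideal.jacobson ⊥)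
    {u z : R} (hu : IsUnit u) (h : z - u ∈ I) : IsUnit z := by
  have := isLocalHom_of_le_jacobson_bot I hI
  apply IsUnit.of_map (Ideal.Quotient.mk I)
  have h1 : Ideal.Quotient.mk I z = Ideal.Quotient.mk I u := by
    rw [Ideal.Quotient.eq]; exact h
  rw [h1]
  exact hu.map _

/-- In a henselian pair `(R, I)` every equation `b + u x + x² P(x) = 0` with `b ∈ I` and `u` a unit has a
solution `x` which is a multiple of `b`. -/
theorem exists_root_aux {R : Type*} [CommRing R] {I : Ideal R} [hR : HenselianRing R I] (b u : R)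
    (hb : b ∈ I) (hu : IsUnit u) (P : R[X]) :
    ∃ x, b + u * x + x ^ 2 * P.eval x = 0 ∧ b ∣ x := by
  classical
  nontriviality R
  let N := P.natDegree
  let E : R[X] := ∑ j ∈ Finset.range (N + 1), C (P.coeff j * b ^ j) * X ^ (N - j)
  have hEdeg : E.degree ≤ (N : ℕ) := by
    refine (degree_sum_le _ _).trans (Finset.sup_le fun j _ => ?_)
    refine (degree_C_mul_X_pow_le _ _).trans ?_
    exact_mod_cast Nat.sub_le _ _
  let H : R[X] := X ^ (N + 1) * (X + C u) + C b * E
  have hmon1 : (X ^ (N + 1) * (X + C u) : R[X]).Monic := (monic_X_pow _).mul (monic_X_add_C u)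
  have hdeg1 : (X ^ (N + 1) * (X + C u) : R[X]).degree = ((N + 2 : ℕ) : WithBot ℕ) := by
    rw [(monic_X_add_C u).degree_mul, degree_X_add_C, degree_X_pow]
    norm_cast
  have hHmon : H.Monic := by
    refine hmon1.add_of_left ?_
    rw [hdeg1]
    refine lt_of_le_of_lt (degree_mul_le _ _) ?_
    refine lt_of_le_of_lt (add_le_add (degree_C_le (a := b)) hEdeg) ?_
    rw [zero_add]
    exact_mod_cast (by omega : N < N + 2)
  have h1 : H.eval (-u) ∈ I := by
    have : H.eval (-u) = b * E.eval (-u) := by simp [H]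
    rw [this]
    exact I.mul_mem_right _ hb
  have h2 : IsUnit (Ideal.Quotient.mk I (H.derivative.eval (-u))) := by
    have h3 : H.derivative.eval (-u) = (-u) ^ (N + 1) + b * E.derivative.eval (-u) := by
      simp [H, derivative_mul]
    have h4 : Ideal.Quotient.mk I (b * E.derivative.eval (-u)) = 0 := by
      rw [Ideal.Quotient.eq_zero_iff_mem]
      exact I.mul_mem_right _ hb
    rw [h3, map_add, h4, add_zero]
    exact ((hu.neg).pow _).map _
  obtain ⟨z, hz, hzu⟩ := hR.is_henselian H hHmon (-u) h1 h2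
  have hzunit : IsUnit z := isUnit_of_sub_mem hR.jac hu.neg hzu
  obtain ⟨w, rfl⟩ := hzunit
  refine ⟨b * (↑w⁻¹ : R), ?_, dvd_mul_right _ _⟩
  set y : R := b * (↑w⁻¹ : R) with hy
  have hwy : (w : R) * y = b := by
    rw [hy, mul_comm, mul_assoc, Units.inv_mul, mul_one]
  have hE : (w : R) ^ N * P.eval y = E.eval (w : R) := by
    rw [eval_eq_sum_range, Finset.mul_sum]
    simp only [E, eval_finsetSum, eval_mul, eval_C, eval_pow, eval_X]
    refine Finset.sum_congr rfl fun j hj => ?_
    have hj' : j ≤ N := Nat.lt_succ_iff.mp (Finset.mem_range.mp hj)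
    have h5 : (w : R) ^ N = (w : R) ^ (N - j) * (w : R) ^ j := by
      rw [← pow_add, Nat.sub_add_cancel hj']
    calc (w : R) ^ N * (P.coeff j * y ^ j) = P.coeff j * (w * y) ^ j * (w : R) ^ (N - j) := by
          rw [h5, mul_pow]; ring
      _ = P.coeff j * b ^ j * (w : R) ^ (N - j) := by rw [hwy]
  have hroot : (w : R) ^ (N + 1) * (w + u) + b * E.eval (w : R) = 0 := by
    have := hz
    simpa [H, IsRoot.def] using this
  have hfin : (w : R) ^ (N + 2) * (b + u * y + y ^ 2 * P.eval y) = 0 := by
    calc (w : R) ^ (N + 2) * (b + u * y + y ^ 2 * P.eval y)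
        = (w : R) ^ (N + 2) * b + u * (w : R) ^ (N + 1) * (w * y)
            + (w * y) ^ 2 * ((w : R) ^ N * P.eval y) := by ring
      _ = (w : R) ^ (N + 2) * b + u * (w : R) ^ (N + 1) * b + b ^ 2 * E.eval (w : R) := by
          rw [hwy, hE]
      _ = b * ((w : R) ^ (N + 1) * (w + u) + b * E.eval (w : R)) := by ring
      _ = 0 := by rw [hroot, mul_zero]
  have hwu : IsUnit ((w : R) ^ (N + 2)) := w.isUnit.pow _
  exact (hwu.mul_right_eq_zero).mp hfin

/-- second order Taylor expansion of a polynomial at a point, with polynomial remainder. -/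
theorem eval_add_eq {R : Type*} [CommRing R] (f : R[X]) (a x : R) :
    f.eval (a + x) = f.eval a + f.derivative.eval a * x + x ^ 2 * (taylor a f).divX.divX.eval x := by
  have h1 := congrArg (eval x) (divX_mul_X_add (taylor a f))
  have h2 := congrArg (eval x) (divX_mul_X_add (taylor a f).divX)
  rw [taylor_coeff_zero, eval_add, eval_mul, eval_X, eval_C, taylor_eval, add_comm x a] at h1
  rw [coeff_divX, zero_add, taylor_coeff_one, eval_add, eval_mul, eval_X, eval_C] at h2
  rw [← h1, ← h2]
  ring

/-- Hensel's lemma for a henselian pair and an arbitrary polynomial: a simple root modulo `I` lifts, and the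
correction is a multiple of the value of the polynomial. -/
theorem exists_root {R : Type*} [CommRing R] {I : Ideal R} [hR : HenselianRing R I] (f : R[X]) (a₀ : R)
    (h₁ : f.eval a₀ ∈ I) (h₂ : IsUnit (Ideal.Quotient.mk I (f.derivative.eval a₀))) :
    ∃ a : R, f.IsRoot a ∧ a - a₀ ∈ I ∧ f.eval a₀ ∣ a - a₀ := by
  have := isLocalHom_of_le_jacobson_bot I hR.jac
  have hu : IsUnit (f.derivative.eval a₀) := IsUnit.of_map (Ideal.Quotient.mk I) _ h₂
  obtain ⟨x, hx, hdvd⟩ := exists_root_aux (I := I) (f.eval a₀) (f.derivative.eval a₀) h₁ hu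
    ((taylor a₀ f).divX.divX)
  refine ⟨a₀ + x, ?_, ?_, ?_⟩
  · rw [IsRoot.def, eval_add_eq, hx]
  · rw [add_sub_cancel_left]
    exact Ideal.mem_of_dvd _ hdvd h₁
  · rwa [add_sub_cancel_left]

end Groth.Agent.Etalg.HenselNewton
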