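import Groth.Agent.Etalg.SepElt
import Groth.Prelude.Def_PBC

set_option autoImplicit false

universe u

open CategoryTheory CategoryTheory.Limits

namespace Groth.Agent.Etalg.IndEt

open Groth.Agent.Etalg.SepElt

/-- An ind-étale algebra consists of separable elements (over any base ring). -/
theorem sepElt_eq_top_of_isIndEtale {A B : Type u} [CommRing A] [CommRing B] [Algebra A B]
    (h : EtPBC.IsIndEtale A B) : sepElt A B = ⊤ := by
  obtain ⟨J, _, _, D, c, hc, hD, ⟨e⟩⟩ := h
  -- replace the cocone by one with point `B`
  let c' : Cocone D := (Cocone.extend c e.hom)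
  let hc' : IsColimit c' := IsColimit.extendIso e.hom hc
  let W := sepElt A B
  have key : ∀ (j : J) (x : (D.obj j).right), (c'.ι.app j).right.hom x ∈ W := by
    intro j x
    let := (D.obj j).hom.hom.toAlgebra
    have := hD j
    let f : (D.obj j).right →ₐ[A] B :=
      { (c'.ι.app j).right.hom with
        commutes' := fun a => by
          have := Under.w (c'.ι.app j)
          exact DFunLike.congr_fun (congrArg CommRingCat.Hom.hom this) a }
    have hx : x ∈ sepElt A (D.obj j).right := by
      rw [sepElt_eq_top_of_etale]
      exact Algebra.mem_top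
    exact map_mem_sepElt f hx
  let wpt : Under (CommRingCat.of A) := Under.mk (CommRingCat.ofHom (algebraMap A W))
  let cw : Cocone D :=
    { pt := wpt
      ι :=
        { app := fun j => Under.homMk (CommRingCat.ofHom
            ((c'.ι.app j).right.hom.codRestrict W.toSubring (key j))) (by
              ext a
              apply Subtype.ext
              have := Under.w (c'.ι.app j)
              exact DFunLike.congr_fun (congrArg CommRingCat.Hom.hom this) a)
          naturality := by
            intro i j f
            ext x
            apply Subtype.ext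
            have := c'.ι.naturality f
            have := congrArg (fun g => g.right.hom x) this
            exact this } }
  let incl : wpt ⟶ c'.pt := Under.homMk (CommRingCat.ofHom W.val.toRingHom) (by
    ext a
    rfl)
  have h1 : hc'.desc cw ≫ incl = 𝟙 _ := by
    apply hc'.hom_ext
    intro j
    rw [← Category.assoc, hc'.fac, Category.comp_id]
    ext x
    rfl
  rw [eq_top_iff]
  intro b _
  have h2 : (incl.right.hom) ((hc'.desc cw).right.hom b) = b := by
    have := congrArg (fun g => g.right.hom b) h1
    exact this
  have h3 : incl.right.hom ((hc'.desc cw).right.hom b) ∈ W := ((hc'.desc cw).right.hom b).2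
  rw [h2] at h3
  exact h3

/-- Over a field, ind-étale algebras are weakly étale. -/
theorem weaklyEtale_of_isIndEtale {K B : Type u} [Field K] [CommRing B] [Algebra K B]
    (h : EtPBC.IsIndEtale K B) : Algebra.WeaklyEtale K B := by
  rw [weaklyEtale_iff]
  exact ⟨inferInstance, sepElt_eq_top_of_isIndEtale h⟩

section

variable (K B : Type u) [CommRing K] [CommRing B] [Algebra K B]

/-- The index category of finitely generated subalgebras. -/
abbrev FGSub : Type u := {S : Subalgebra K B // S.FG}

instance : Nonempty (FGSub K B) := ⟨⟨⊥, Subalgebra.fg_bot⟩⟩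

instance : IsDirectedOrder (FGSub K B) :=
  ⟨fun S T => ⟨⟨S.1 ⊔ T.1, S.2.sup T.2⟩, le_sup_left (a := S.1), le_sup_right (b := T.1)⟩⟩

/-- The diagram of finitely generated subalgebras. -/
def diag : FGSub K B ⥤ Under (CommRingCat.of K) where
  obj S := Under.mk (CommRingCat.ofHom (algebraMap K S.1))
  map {S T} f := Under.homMk (CommRingCat.ofHom (Subalgebra.inclusion (leOfHom f)).toRingHom) (by
    ext a
    rfl)
  map_id S := by
    ext x
    rfl
  map_comp f g := by
    ext x
    rfl

/-- The cocone of finitely generated subalgebras. -/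
def cocone : Cocone (diag K B) where
  pt := Under.mk (CommRingCat.ofHom (algebraMap K B))
  ι :=
    { app := fun S => Under.homMk (CommRingCat.ofHom S.1.val.toRingHom) (by ext a; rfl)
      naturality := by
        intro S T f
        ext x
        rfl }

variable {K B} in
/-- The algebra map attached to a leg of a cocone. -/
noncomputable def legAlgHom (s : Cocone (diag K B)) (S : FGSub K B) :
    letI := s.pt.hom.hom.toAlgebra
    S.1 →ₐ[K] s.pt.right :=
  letI := s.pt.hom.hom.toAlgebra
  { (s.ι.app S).right.hom with
    commutes' := fun a => by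
      have := Under.w (s.ι.app S)
      exact DFunLike.congr_fun (congrArg CommRingCat.Hom.hom this) a }

variable {K B} in
/-- The algebra map out of `B` attached to a cocone. -/
noncomputable def descAlgHom (s : Cocone (diag K B)) :
    letI := s.pt.hom.hom.toAlgebra
    (⊤ : Subalgebra K B) →ₐ[K] s.pt.right :=
  letI := s.pt.hom.hom.toAlgebra
  Subalgebra.iSupLift (fun S : FGSub K B => S.1)
    (fun S T => ⟨⟨S.1 ⊔ T.1, S.2.sup T.2⟩, le_sup_left (a := S.1), le_sup_right (b := T.1)⟩)
    (fun S => legAlgHom s S)
    (fun S T h => by
      ext x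
      have := congrArg (fun g => g.right.hom x) (s.w (homOfLE (show S ≤ T from h)))
      exact this.symm)
    ⊤ (fun b _ => by
      have hfg : (Algebra.adjoin K {b}).FG := ⟨{b}, by simp⟩
      exact (le_iSup (fun S : FGSub K B => S.1) ⟨_, hfg⟩) (Algebra.subset_adjoin rfl))

variable {K B} in
theorem descAlgHom_apply (s : Cocone (diag K B)) (S : FGSub K B) (x : S.1) :
    letI := s.pt.hom.hom.toAlgebra
    descAlgHom s ⟨(x : B), Algebra.mem_top⟩ = (s.ι.app S).right.hom x := by
  let := s.pt.hom.hom.toAlgebra
  have h1 := Subalgebra.iSupLift_of_mem (K := fun S : FGSub K B => S.1)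
    (dir := fun S T => ⟨⟨S.1 ⊔ T.1, S.2.sup T.2⟩, le_sup_left (a := S.1), le_sup_right (b := T.1)⟩)
    (f := fun S => legAlgHom s S)
    (hf := fun S T h => by
      ext x
      have := congrArg (fun g => g.right.hom x) (s.w (homOfLE (show S ≤ T from h)))
      exact this.symm)
    (T := ⊤) (hT := fun b _ => by
      have hfg : (Algebra.adjoin K {b}).FG := ⟨{b}, by simp⟩
      exact (le_iSup (fun S : FGSub K B => S.1) ⟨_, hfg⟩) (Algebra.subset_adjoin rfl))
    (i := S) ⟨(x : B), Algebra.mem_top⟩ x.2
  exact h1

/-- An algebra is the colimit of its finitely generated subalgebras. -/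
noncomputable def isColimit : IsColimit (cocone K B) where
  desc s :=
    letI := s.pt.hom.hom.toAlgebra
    Under.homMk (CommRingCat.ofHom ((descAlgHom s).toRingHom.comp
      (Subalgebra.topEquiv (R := K) (A := B)).symm.toRingEquiv.toRingHom)) (by
      ext a
      exact (descAlgHom s).commutes a)
  fac s S := by
    ext x
    exact descAlgHom_apply s S x
  uniq s m hm := by
    ext (b : B)
    have hfg : (Algebra.adjoin K {b}).FG := ⟨{b}, by simp⟩
    have h1 := congrArg (fun g => g.right.hom (⟨b, Algebra.subset_adjoin rfl⟩ : Algebra.adjoin K {b}))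
      (hm ⟨_, hfg⟩)
    have h2 := descAlgHom_apply s ⟨_, hfg⟩ (⟨b, Algebra.subset_adjoin rfl⟩ : Algebra.adjoin K {b})
    exact h1.trans h2.symm

/-- If all finitely generated subalgebras of `B` are étale then `B` is ind-étale. -/
theorem isIndEtale_of_forall_fg (h : ∀ S : Subalgebra K B, S.FG → Algebra.Etale K S) : EtPBC.IsIndEtale K B := by
  refine ⟨FGSub K B, inferInstance, ?_, diag K B, cocone K B, isColimit K B, ?_, ⟨Iso.refl _⟩⟩
  · exact isFiltered_of_directed_le_nonempty (FGSub K B)
  · intro S
    have e : (CommRingCat.Hom.hom ((diag K B).obj S).hom).toAlgebra = (S.1.algebra : Algebra K S.1) :=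
      Algebra.algebra_ext _ _ (fun _ => rfl)
    have h2 := h S.1 S.2
    rw [← e] at h2
    exact h2

end

end Groth.Agent.Etalg.IndEt
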