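import Mathlib.RingTheory.Invariant.Galois
import Mathlib.RingTheory.DiscreteValuationRing.Basic
import Mathlib.NumberTheory.RamificationInertia.Ramification
import Mathlib.NumberTheory.RamificationInertia.Galois
import Mathlib.GroupTheory.PGroup
import Mathlib.GroupTheory.SpecificGroups.Cyclic
import Mathlib.RingTheory.RootsOfUnity.Basic
import Mathlib.RingTheory.Ideal.Pointwise
import Mathlib.FieldTheory.Galois.Basic
import Mathlib.Data.Nat.Factorization.Defs
import Mathlib.RingTheory.Filtration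

/-!
Inertia and wild inertia of a finite group acting on a commutative ring.
-/

set_option autoImplicit false
open scoped Pointwise

namespace Groth.Agent.Etalg.InertiaBasic

section General

variable {B G : Type*} [CommRing B] [Group G] [MulSemiringAction G B] (m : Ideal B)

/-- An element acting trivially mod `m^2` acts trivially on `m^k/m^(k+1)`. -/
theorem smul_sub_mem_pow {σ : G} (hσ : σ ∈ (m ^ 2).inertia G) (k : ℕ) (y : B) (hy : y ∈ m ^ k) :
    σ • y - y ∈ m ^ (k + 1) := by
  induction k generalizing y with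
  | zero =>
    simp only [zero_add, pow_one]
    exact Ideal.pow_le_self (by norm_num) (hσ y)
  | succ k ih =>
    rw [pow_succ] at hy
    refine Submodule.mul_induction_on hy (fun a ha b hb ↦ ?_) (fun x y hx hy ↦ ?_)
    · have h1 : σ • a - a ∈ m ^ (k + 1) := ih a ha
      have h2 : σ • b - b ∈ m ^ 2 := hσ b
      have h3 : σ • a ∈ m ^ k := by
        have : σ • a = (σ • a - a) + a := by ring
        rw [this]
        exact Ideal.add_mem _ (Ideal.pow_le_pow_right (Nat.le_succ k) h1) ha
      have : σ • (a * b) - a * b = (σ • a) * (σ • b - b) + (σ • a - a) * b := by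
        rw [smul_mul']; ring
      rw [this]
      refine Ideal.add_mem _ ?_ ?_
      · have := Ideal.mul_mem_mul h3 h2
        rwa [← pow_add] at this
      · have := Ideal.mul_mem_mul h1 hb
        rwa [← pow_succ] at this
    · have : σ • (x + y) - (x + y) = (σ • x - x) + (σ • y - y) := by
        rw [smul_add]; ring
      rw [this]
      exact Ideal.add_mem _ hx hy

/-- `σ^n x - x ≡ n (σ x - x)` one level deeper. -/
theorem pow_smul_sub_mem {σ : G} (hσ : σ ∈ (m ^ 2).inertia G) (k : ℕ)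
    (hk : σ ∈ (m ^ k).inertia G) (x : B) (n : ℕ) :
    (σ ^ n • x - x) - n * (σ • x - x) ∈ m ^ (k + 1) := by
  induction n with
  | zero => simp
  | succ n ih =>
    have h1 : ∀ j : ℕ, σ ^ j ∈ (m ^ 2).inertia G := fun j ↦ Subgroup.pow_mem _ hσ j
    have h2 : σ ^ n • (σ • x - x) - (σ • x - x) ∈ m ^ (k + 1) :=
      smul_sub_mem_pow m (h1 n) k _ (hk x)
    have : (σ ^ (n + 1) • x - x) - (n + 1 : ℕ) * (σ • x - x) =
        ((σ ^ n • x - x) - n * (σ • x - x)) + (σ ^ n • (σ • x - x) - (σ • x - x)) := by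
      rw [pow_succ, mul_smul, smul_sub]
      push_cast
      ring
    rw [this]
    exact Ideal.add_mem _ ih h2

/-- If `n` is not in the maximal ideal `m` and `n y` is in `m^k`, then `y` is in `m^k`. -/
theorem mem_pow_of_mul_mem [m.IsMaximal] {a y : B} (ha : a ∉ m) (k : ℕ) (h : a * y ∈ m ^ k) :
    y ∈ m ^ k := by
  obtain ⟨b, c, hc, hbc⟩ := Ideal.IsMaximal.exists_inv (I := m) inferInstance ha
  -- `b * a + c = 1`
  rcases Nat.eq_zero_or_pos k with rfl | hk
  · simp
  · have hcop : Ideal.span {a} ⊔ m ^ k = ⊤ := by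
      rw [← Ideal.isCoprime_iff_sup_eq]
      refine IsCoprime.pow_right ?_
      rw [Ideal.isCoprime_iff_exists]
      exact ⟨b * a, Ideal.mul_mem_left _ _ (Ideal.mem_span_singleton_self a), c, hc, hbc⟩
    have h1 : (1 : B) ∈ Ideal.span {a} ⊔ m ^ k := by rw [hcop]; trivial
    obtain ⟨u, hu, v, hv, huv⟩ := Submodule.mem_sup.mp h1
    obtain ⟨d, rfl⟩ := Ideal.mem_span_singleton'.mp hu
    have : y = d * (a * y) + v * y := by
      calc y = 1 * y := (one_mul y).symm
        _ = (d * a + v) * y := by rw [huv]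
        _ = _ := by ring
    rw [this]
    exact Ideal.add_mem _ (Ideal.mul_mem_left _ _ h) (Ideal.mul_mem_right _ _ hv)

/-- An element of finite order `l` of the wild inertia group with `l ∉ m` is trivial. -/
theorem eq_one_of_mem_inertia_sq [m.IsMaximal] [FaithfulSMul G B] (hm : ⨅ i : ℕ, m ^ i = ⊥)
    {σ : G} (hσ : σ ∈ (m ^ 2).inertia G) (l : ℕ) (hl : σ ^ l = 1) (hlm : (l : B) ∉ m) : σ = 1 := by
  have key : ∀ k : ℕ, 2 ≤ k → σ ∈ (m ^ k).inertia G := by
    intro k hk
    induction k, hk using Nat.le_induction with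
    | base => exact hσ
    | succ k hk ih =>
      intro x
      have h := pow_smul_sub_mem m hσ k ih x l
      rw [hl, one_smul, sub_self, zero_sub, neg_mem_iff] at h
      exact mem_pow_of_mul_mem m hlm _ h
  refine FaithfulSMul.eq_of_smul_eq_smul (α := B) fun x ↦ ?_
  rw [one_smul, ← sub_eq_zero, ← Ideal.mem_bot, ← hm, Ideal.mem_iInf]
  intro i
  rcases le_total 2 i with h | h
  · exact key i h x
  · exact Ideal.pow_le_pow_right h (key 2 le_rfl x)

theorem inertia_pow_le {a b : ℕ} (h : a ≤ b) : (m ^ b).inertia G ≤ (m ^ a).inertia G :=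
  fun _ hσ x ↦ Ideal.pow_le_pow_right h (hσ x)

theorem inertia_sq_le_inertia : (m ^ 2).inertia G ≤ m.inertia G :=
  fun _ hσ x ↦ Ideal.pow_le_self (by norm_num) (hσ x)

/-- Elements of the wild inertia group have order divisible only by primes in `m`. -/
theorem isPGroup_inertia_sq [Finite G] [m.IsMaximal] [FaithfulSMul G B] (hm : ⨅ i : ℕ, m ^ i = ⊥)
    (p : ℕ) (hp : p.Prime) (hpm : (p : B) ∈ m) : IsPGroup p ((m ^ 2).inertia G) := by
  have hfact : Fact p.Prime := ⟨hp⟩
  rw [IsPGroup.iff_card]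
  refine ⟨_, Nat.eq_prime_pow_of_unique_prime_dvd Nat.card_pos.ne' (p := p) fun {q} hq hqd ↦ ?_⟩
  have hfq : Fact q.Prime := ⟨hq⟩
  obtain ⟨⟨σ, hσ⟩, hord⟩ := exists_prime_orderOf_dvd_card' q hqd
  by_contra hne
  have hqm : (q : B) ∉ m := by
    intro hqm
    have hcop : Nat.Coprime q p := (Nat.coprime_primes hq hp).mpr hne
    have h1 : IsCoprime (q : ℤ) (p : ℤ) := Nat.isCoprime_iff_coprime.mpr hcop
    obtain ⟨a, b, hab⟩ := h1
    have : (1 : B) ∈ m := by
      have h2 : ((a * q + b * p : ℤ) : B) = 1 := by rw [hab]; simp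
      rw [← h2]
      push_cast
      exact Ideal.add_mem _ (Ideal.mul_mem_left _ _ hqm) (Ideal.mul_mem_left _ _ hpm)
    exact (Ideal.ne_top_iff_one m).mp (Ideal.IsMaximal.ne_top ‹_›) this
  have hσ1 : σ = 1 := by
    refine eq_one_of_mem_inertia_sq m hm hσ q ?_ hqm
    have := pow_orderOf_eq_one (⟨σ, hσ⟩ : (m ^ 2).inertia G)
    rw [hord] at this
    simpa [Subtype.ext_iff] using this
  subst hσ1
  have : orderOf (⟨1, hσ⟩ : (m ^ 2).inertia G) = 1 := by
    rw [orderOf_eq_one_iff]; rfl
  rw [this] at hord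
  exact hq.one_lt.ne hord

/-- In residue characteristic zero the wild inertia group is trivial. -/
theorem inertia_sq_eq_bot [Finite G] [m.IsMaximal] [FaithfulSMul G B] (hm : ⨅ i : ℕ, m ^ i = ⊥)
    (h0 : ∀ n : ℕ, n ≠ 0 → (n : B) ∉ m) : (m ^ 2).inertia G = ⊥ := by
  rw [eq_bot_iff]
  intro σ hσ
  rw [Subgroup.mem_bot]
  exact eq_one_of_mem_inertia_sq m hm hσ (orderOf σ) (pow_orderOf_eq_one σ)
    (h0 _ (orderOf_pos σ).ne')

end General

end Groth.Agent.Etalg.InertiaBasic
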