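import Groth.Agent.Etalg.InertiaWild

/-!
`#I = e * f_i` in general (`f_i` the inseparable degree of the residue field extension), and the
index of the inertia group of an intermediate extension.
-/

set_option autoImplicit false
open scoped Pointwise
open Groth.Agent.Etalg.InertiaBasic Groth.Agent.Etalg.InertiaTame
  Groth.Agent.Etalg.InertiaStructure Groth.Agent.Etalg.InertiaWild

namespace Groth.Agent.Etalg.InertiaIndex

attribute [local instance] Ideal.Quotient.field

section Card

variable {A B : Type*} (G : Type*) [CommRing A] [CommRing B] [Algebra A B] [Group G]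
  [MulSemiringAction G B] [IsGaloisGroup G A B] [Finite G] (p : Ideal A) (m : Ideal B)
  [p.IsMaximal] [m.IsMaximal] [m.LiesOver p]

theorem card_stabilizer_eq_card_inertia_mul_finSepDegree :
    Nat.card (MulAction.stabilizer G m) =
      Nat.card (m.inertia G) * Field.finSepDegree (A ⧸ p) (B ⧸ m) := by
  have hN : Normal (A ⧸ p) (B ⧸ m) := Ideal.Quotient.normal G p m
  have h1 : Field.finSepDegree (A ⧸ p) (B ⧸ m) = Nat.card ((B ⧸ m) ≃ₐ[A ⧸ p] (B ⧸ m)) :=
    Nat.card_congr (Normal.algHomEquivAut (A ⧸ p) (AlgebraicClosure (B ⧸ m)) (B ⧸ m))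
  have : Subgroup.index _ = _ := Nat.card_congr
    (Ideal.Quotient.stabilizerQuotientInertiaEquiv G p m).toEquiv
  rw [h1, ← this,
    ← ((m.inertia G).subgroupOf (MulAction.stabilizer G m)).card_mul_index,
    Nat.card_congr (Subgroup.subgroupOfEquivOfLe (Ideal.inertia_le_stabilizer (M := G) m)).toEquiv,
    AddSubgroup.subgroupOf_inertia]

include p in
theorem card_stabilizer_eq [IsDomain A] [IsDomain B] [Module.Finite A B]
    [Module.Flat A B] :
    Nat.card (MulAction.stabilizer G m) = m.ramificationIdx A * m.inertiaDeg A := by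
  have h1 := Ideal.ncard_primesOver_mul_ramificationIdxIn_mul_inertiaDegIn p B G
  rw [Ideal.ramificationIdxIn_eq_ramificationIdx p m G, Ideal.inertiaDegIn_eq_inertiaDeg p m G] at h1
  have h2 : (p.primesOver B).ncard * Nat.card (MulAction.stabilizer G m) = Nat.card G := by
    rw [← Algebra.IsInvariant.orbit_eq_primesOver A B G p m]
    simpa using Nat.card_congr (MulAction.orbitProdStabilizerEquivGroup G m)
  rw [← h1] at h2
  have h3 : (p.primesOver B).ncard ≠ 0 := by
    intro h; rw [h, zero_mul] at h1; exact Nat.card_pos.ne h1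
  exact Nat.eq_of_mul_eq_mul_left (Nat.pos_of_ne_zero h3) h2

/-- `#I = e * f_i`. -/
theorem card_inertia_eq [IsDomain A] [IsDomain B] [Module.Finite A B]
    [Module.Flat A B] :
    Nat.card (m.inertia G) = m.ramificationIdx A * Field.finInsepDegree (A ⧸ p) (B ⧸ m) := by
  have hfin : FiniteDimensional (A ⧸ p) (B ⧸ m) := inferInstance
  have h1 := card_stabilizer_eq G p m
  rw [card_stabilizer_eq_card_inertia_mul_finSepDegree G p m, Ideal.inertiaDeg_eq_of_isMaximal p m,
    ← Field.finSepDegree_mul_finInsepDegree (A ⧸ p) (B ⧸ m)] at h1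
  have h2 : Field.finSepDegree (A ⧸ p) (B ⧸ m) ≠ 0 := NeZero.ne _
  apply Nat.eq_of_mul_eq_mul_right (Nat.pos_of_ne_zero h2)
  rw [h1]
  ring

end Card

section Tower

variable {A C B : Type*} {G : Type*} [CommRing A] [IsDomain A] [CommRing C] [IsDomain C]
  [CommRing B] [IsDomain B] [Algebra A B] [Algebra A C] [Algebra C B] [IsScalarTower A C B]
  [Group G] [MulSemiringAction G B] [IsGaloisGroup G A B] [Finite G] (H : Subgroup G)
  [IsGaloisGroup H C B] [Module.Finite A B] [Module.Flat A B] [Module.Finite C B]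
  [Module.Flat C B] [Module.Finite A C]
  (p : Ideal A) (n : Ideal C) (m : Ideal B)
  [p.IsMaximal] [n.IsMaximal] [m.IsMaximal] [n.LiesOver p] [m.LiesOver n] [m.LiesOver p]

theorem relIndex_inertia_eq :
    H.relIndex (m.inertia G) = n.ramificationIdx A * Field.finInsepDegree (A ⧸ p) (C ⧸ n) := by
  have h1 := card_inertia_eq G p m
  have h2 := card_inertia_eq H n m
  have h3 : m.ramificationIdx A = n.ramificationIdx A * m.ramificationIdx C :=
    Ideal.ramificationIdx_tower n m
  have htower : IsScalarTower (A ⧸ p) (C ⧸ n) (B ⧸ m) := by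
    refine IsScalarTower.of_algebraMap_eq' ?_
    ext x
    show Ideal.Quotient.mk m (algebraMap A B x) =
      Ideal.Quotient.mk m (algebraMap C B (algebraMap A C x))
    rw [← IsScalarTower.algebraMap_apply]
  have h4 : Field.finInsepDegree (A ⧸ p) (C ⧸ n) * Field.finInsepDegree (C ⧸ n) (B ⧸ m) =
      Field.finInsepDegree (A ⧸ p) (B ⧸ m) :=
    Field.finInsepDegree_mul_finInsepDegree_of_isAlgebraic _ _ _
  have h5 : Nat.card (H ⊓ m.inertia G : Subgroup G) * H.relIndex (m.inertia G) =
      Nat.card (m.inertia G) := by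
    rw [← Subgroup.relIndex_bot_left, ← Subgroup.relIndex_bot_left,
      ← Subgroup.inf_relIndex_right H (m.inertia G)]
    exact Subgroup.relIndex_mul_relIndex ⊥ (H ⊓ m.inertia G) (m.inertia G) bot_le inf_le_right
  have h6 : Nat.card (H ⊓ m.inertia G : Subgroup G) = Nat.card (m.inertia H) := by
    have e1 := Subgroup.subgroupOf_map_subtype (m.inertia G) H
    rw [AddSubgroup.subgroupOf_inertia] at e1
    rw [inf_comm]
    show Nat.card (m.toAddSubgroup.inertia G ⊓ H : Subgroup G) = _
    rw [← e1]
    exact (Nat.card_congr (Subgroup.equivMapOfInjective _ _ H.subtype_injective).toEquiv).symm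
  rw [h6, h1, h2, h3, ← h4] at h5
  have h7 : m.ramificationIdx C * Field.finInsepDegree (C ⧸ n) (B ⧸ m) ≠ 0 := by
    rw [← h2]; exact Nat.card_pos.ne'
  apply Nat.eq_of_mul_eq_mul_left (Nat.pos_of_ne_zero h7)
  rw [h5]
  ring

end Tower

end Groth.Agent.Etalg.InertiaIndex
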