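import Groth.Agent.Etalg.InertiaTame

/-!
Structure of the inertia group in the separable residue field case: `I/P` is cyclic of order the
prime-to-`p` part of `e`, isomorphic to the group of `e`-th roots of unity of the residue field.
-/

set_option autoImplicit false
open scoped Pointwise
open Groth.Agent.Etalg.InertiaBasic Groth.Agent.Etalg.InertiaTame

namespace Groth.Agent.Etalg.InertiaStructure

variable {A B G : Type*} [CommRing A] [CommRing B] [Algebra A B] [Group G]
  [MulSemiringAction G B] [IsGaloisGroup G A B] [Finite G] (p : Ideal A) (m : Ideal B)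
  [p.IsMaximal] [m.IsMaximal] [m.LiesOver p]

omit [Finite G] in
/-- normality of the wild inertia group in the decomposition group -/
theorem normal_inertia_sq {G : Type*} [Group G] [MulSemiringAction G B] :
    (((m ^ 2).inertia G).subgroupOf (MulAction.stabilizer G m)).Normal := by
  refine ⟨fun τ hτ σ x ↦ ?_⟩
  rw [Subgroup.mem_subgroupOf] at hτ
  have h1 : (τ : G) • ((σ : G)⁻¹ • x) - (σ : G)⁻¹ • x ∈ m ^ 2 := hτ _
  have h2 : (σ : G) • m = m := σ.2
  have h3 : (σ : G) • (m ^ 2) = m ^ 2 := by rw [smul_pow', h2]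
  have h4 : ((σ * τ * σ⁻¹ : MulAction.stabilizer G m) : G) • x - x =
      (σ : G) • ((τ : G) • ((σ : G)⁻¹ • x) - (σ : G)⁻¹ • x) := by
    rw [smul_sub, smul_inv_smul]
    simp only [Subgroup.coe_mul, InvMemClass.coe_inv, mul_smul]
  show ((σ * τ * σ⁻¹ : MulAction.stabilizer G m) : G) • x - x ∈ m ^ 2
  rw [h4, ← h3]
  exact Ideal.smul_mem_pointwise_smul (σ : G) _ (m ^ 2) h1

/-- The order of the wild inertia group is a power of the characteristic exponent. -/
theorem card_inertia_sq_eq_pow {G : Type*} [Group G] [MulSemiringAction G B] [Finite G]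
    [FaithfulSMul G B] (hm : ⨅ i : ℕ, m ^ i = ⊥) (q : ℕ) [ExpChar (B ⧸ m) q] :
    ∃ a : ℕ, Nat.card ((m ^ 2).inertia G) = q ^ a := by
  have hdom : IsDomain (B ⧸ m) := Ideal.Quotient.isDomain m
  have hexp : ExpChar (B ⧸ m) q := inferInstance
  rcases hexp with _ | ⟨hqp⟩
  · refine ⟨0, ?_⟩
    rw [inertia_sq_eq_bot m hm fun n hn hnm ↦ ?_]
    · simp
    · rw [← Ideal.Quotient.eq_zero_iff_mem, map_natCast, Nat.cast_eq_zero] at hnm
      exact hn hnm
  · have : Fact q.Prime := ⟨hqp⟩
    refine IsPGroup.iff_card.mp (isPGroup_inertia_sq m hm q hqp ?_)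
    rw [← Ideal.Quotient.eq_zero_iff_mem, map_natCast]
    exact CharP.cast_eq_zero _ q

omit [IsGaloisGroup G A B] [Finite G] in
/-- A finite subgroup of the units of a domain has order coprime to the characteristic exponent. -/
theorem coprime_card_units {κ : Type*} [CommRing κ] [IsDomain κ] (q : ℕ) [hq : ExpChar κ q]
    (H : Subgroup κˣ) [Finite H] : Nat.Coprime q (Nat.card H) := by
  rcases hq with _ | ⟨hqp⟩
  · exact Nat.coprime_one_left _
  · rw [Nat.Prime.coprime_iff_not_dvd hqp]
    intro hd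
    have : Fact q.Prime := ⟨hqp⟩
    obtain ⟨⟨x, hx⟩, hord⟩ := exists_prime_orderOf_dvd_card' q hd
    have h1 : x ^ q = 1 := by
      have := pow_orderOf_eq_one (⟨x, hx⟩ : H)
      rw [hord] at this
      simpa [Subtype.ext_iff] using this
    have h2 : (x : κ) = 1 := by
      apply frobenius_inj κ q
      rw [frobenius_def, frobenius_def, one_pow, ← Units.val_pow_eq_pow_val, h1, Units.val_one]
    have h3 : x = 1 := Units.ext h2
    subst h3
    have : orderOf (⟨1, hx⟩ : H) = 1 := by rw [orderOf_eq_one_iff]; rfl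
    rw [this] at hord
    exact hqp.one_lt.ne hord

section Main

variable [IsDomain A] [IsDedekindDomain B] [Module.Finite A B] [Module.Flat A B]
  [Algebra.IsSeparable (A ⧸ p) (B ⧸ m)]

include p in
/-- Main structure theorem. -/
theorem main (hm : m ≠ ⊥) :
    ∃ θ : m.inertia G →* (B ⧸ m)ˣ,
      θ.ker = ((m ^ 2).inertia G).subgroupOf (m.inertia G) ∧
      θ.range = rootsOfUnity (m.ramificationIdx A) (B ⧸ m) ∧
      ∀ (q : ℕ) [ExpChar (B ⧸ m) q], ∃ a : ℕ, Nat.card ((m ^ 2).inertia G) = q ^ a ∧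
        m.ramificationIdx A = q ^ a * Nat.card θ.range ∧ Nat.Coprime q (Nat.card θ.range) := by
  have hdom : IsDomain (B ⧸ m) := Ideal.Quotient.isDomain m
  have hfaith : FaithfulSMul G B := IsGaloisGroup.faithful A
  have hcomm : SMulCommClass G A B := IsGaloisGroup.commutes
  have hmi : ⨅ i : ℕ, m ^ i = ⊥ := Ideal.iInf_pow_eq_bot_of_isDomain m (Ideal.IsMaximal.ne_top ‹_›)
  have hm2 : m ^ 2 < m := by
    have := Ideal.pow_right_strictAnti m hm (Ideal.IsMaximal.ne_top ‹_›) (show 1 < 2 by norm_num)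
    simpa using this
  obtain ⟨π, hπ, hπ2⟩ := SetLike.exists_of_lt hm2
  have hker : (theta (G := G) m hm hπ hπ2).ker =
      ((m ^ 2).inertia G).subgroupOf (m.inertia G) := by
    ext σ
    rw [mem_ker_theta_iff_mem_inertia_sq p m hm hπ hπ2, Subgroup.mem_subgroupOf]
  have hcard : Nat.card (m.inertia G) = m.ramificationIdx A :=
    card_inertia_eq_ramificationIdx p m
  have hfin : Finite (theta (G := G) m hm hπ hπ2).range :=
    Finite.of_surjective _ (theta (G := G) m hm hπ hπ2).rangeRestrict_surjective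
  have hmul : Nat.card ((m ^ 2).inertia G) * Nat.card (theta (G := G) m hm hπ hπ2).range =
      m.ramificationIdx A := by
    rw [← hcard, ← Nat.card_congr (QuotientGroup.quotientKerEquivRange
      (theta (G := G) m hm hπ hπ2)).toEquiv,
      ← (theta (G := G) m hm hπ hπ2).ker.card_mul_index]
    congr 1
    rw [hker]
    exact (Nat.card_congr (Subgroup.subgroupOfEquivOfLe (inertia_sq_le_inertia m)).toEquiv).symm
  refine ⟨theta m hm hπ hπ2, hker, ?_, ?_⟩
  · obtain ⟨q, hq⟩ := ExpChar.exists (B ⧸ m)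
    obtain ⟨a, ha⟩ := card_inertia_sq_eq_pow (G := G) m hmi q
    have h0 : m.ramificationIdx A ≠ 0 := by rw [← hcard]; exact Nat.card_pos.ne'
    have h00 : Nat.card (theta (G := G) m hm hπ hπ2).range ≠ 0 := Nat.card_pos.ne'
    have : NeZero (m.ramificationIdx A) := ⟨h0⟩
    have : NeZero (Nat.card (theta (G := G) m hm hπ hπ2).range) := ⟨h00⟩
    have hle : (theta (G := G) m hm hπ hπ2).range ≤
        rootsOfUnity (m.ramificationIdx A) (B ⧸ m) := by
      rintro _ ⟨σ, rfl⟩
      rw [mem_rootsOfUnity, ← map_pow, ← hcard, pow_card_eq_one', map_one]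
    have heq : rootsOfUnity (m.ramificationIdx A) (B ⧸ m) =
        rootsOfUnity (Nat.card (theta (G := G) m hm hπ hπ2).range) (B ⧸ m) := by
      ext ζ
      rw [← hmul, ha]
      exact mem_rootsOfUnity_prime_pow_mul_iff (B ⧸ m) q a _
    have hle' : Nat.card (rootsOfUnity (m.ramificationIdx A) (B ⧸ m)) ≤
        Nat.card (theta (G := G) m hm hπ hπ2).range := by
      rw [heq]
      exact card_rootsOfUnity _ _
    exact Subgroup.eq_of_le_of_card_ge hle hle'
  · intro q hq
    obtain ⟨a, ha⟩ := card_inertia_sq_eq_pow (G := G) m hmi q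
    refine ⟨a, ha, ?_, coprime_card_units q _⟩
    rw [← ha, hmul]

end Main

end Groth.Agent.Etalg.InertiaStructure
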