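import Groth.Agent.Etalg.InertiaBasic

/-!
The tame character `θ : I → (B/m)ˣ` of the inertia group, its kernel (in the separable residue
field case it is the wild inertia group `(m^2).inertia`), and the order of the inertia group.
-/

set_option autoImplicit false
open scoped Pointwise

namespace Groth.Agent.Etalg.InertiaTame

section Theta

variable {B G : Type*} [CommRing B] [IsDedekindDomain B] [Group G] [MulSemiringAction G B]
  (m : Ideal B) [m.IsMaximal]

theorem exists_coeff (hm : m ≠ ⊥) {π : B} (hπ : π ∈ m) (hπ2 : π ∉ m ^ 2) (y : B) (hy : y ∈ m) :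
    ∃ b : B, y - b * π ∈ m ^ 2 := by
  obtain ⟨d, e, he, h⟩ := Ideal.exists_mul_add_mem_pow_succ hm (i := 1) (a := π) (c := y)
    (by simpa using hπ) (by simpa using hπ2) (by simpa using hy)
  refine ⟨d, ?_⟩
  have : y - d * π = e := by rw [← h]; ring
  rw [this]
  exact he

theorem mem_of_mul_mem_sq (hm : m ≠ ⊥) {π : B} (hπ2 : π ∉ m ^ 2) {b : B}
    (h : b * π ∈ m ^ 2) : b ∈ m := by
  refine Ideal.mem_prime_of_mul_mem_pow hm (i := 1) (a := π) (b := b) (by simpa using hπ2) ?_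
  rw [mul_comm]
  simpa using h

theorem smul_mem_of_mem_inertia {σ : G} (hσ : σ ∈ m.inertia G) {y : B} (hy : y ∈ m) : σ • y ∈ m := by
  have : σ • y = (σ • y - y) + y := by ring
  rw [this]
  exact Ideal.add_mem _ (hσ y) hy

theorem smul_mem_sq_of_mem_inertia {σ : G} (hσ : σ ∈ m.inertia G) {y : B} (hy : y ∈ m ^ 2) :
    σ • y ∈ m ^ 2 := by
  rw [pow_two] at hy ⊢
  refine Submodule.mul_induction_on hy (fun a ha b hb ↦ ?_) (fun x y hx hy ↦ ?_)
  · rw [smul_mul']
    exact Ideal.mul_mem_mul (smul_mem_of_mem_inertia m hσ ha) (smul_mem_of_mem_inertia m hσ hb)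
  · rw [smul_add]
    exact Ideal.add_mem _ hx hy

/-- The coefficient of `σ π` with respect to `π` modulo `m^2`. -/
noncomputable def coeff (hm : m ≠ ⊥) {π : B} (hπ : π ∈ m) (hπ2 : π ∉ m ^ 2)
    (σ : m.inertia G) : B :=
  (exists_coeff m hm hπ hπ2 (σ.1 • π) (smul_mem_of_mem_inertia m σ.2 hπ)).choose

theorem coeff_spec (hm : m ≠ ⊥) {π : B} (hπ : π ∈ m) (hπ2 : π ∉ m ^ 2) (σ : m.inertia G) :
    σ.1 • π - coeff m hm hπ hπ2 σ * π ∈ m ^ 2 :=
  (exists_coeff m hm hπ hπ2 (σ.1 • π) (smul_mem_of_mem_inertia m σ.2 hπ)).choose_spec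

theorem coeff_unique (hm : m ≠ ⊥) {π : B} (hπ : π ∈ m) (hπ2 : π ∉ m ^ 2) (σ : m.inertia G) (b : B)
    (h : σ.1 • π - b * π ∈ m ^ 2) :
    Ideal.Quotient.mk m (coeff m hm hπ hπ2 σ) = Ideal.Quotient.mk m b := by
  rw [Ideal.Quotient.eq]
  refine mem_of_mul_mem_sq m hm hπ2 ?_
  have : (coeff m hm hπ hπ2 σ - b) * π =
      (σ.1 • π - b * π) - (σ.1 • π - coeff m hm hπ hπ2 σ * π) := by ring
  rw [this]
  exact Ideal.sub_mem _ h (coeff_spec m hm hπ hπ2 σ)

/-- The tame character as a monoid hom to `B/m`. -/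
noncomputable def thetaMonoid (hm : m ≠ ⊥) {π : B} (hπ : π ∈ m) (hπ2 : π ∉ m ^ 2) :
    m.inertia G →* B ⧸ m where
  toFun σ := Ideal.Quotient.mk m (coeff m hm hπ hπ2 σ)
  map_one' := by
    rw [coeff_unique m hm hπ hπ2 (1 : m.inertia G) 1 (by simp), map_one]
  map_mul' σ τ := by
    rw [← map_mul]
    refine coeff_unique m hm hπ hπ2 (σ * τ) _ ?_
    set a := coeff m hm hπ hπ2 σ with ha
    set b := coeff m hm hπ hπ2 τ with hb
    have h1 : σ.1 • π - a * π ∈ m ^ 2 := coeff_spec m hm hπ hπ2 σ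
    have h2 : τ.1 • π - b * π ∈ m ^ 2 := coeff_spec m hm hπ hπ2 τ
    have h3 : σ.1 • b - b ∈ m := σ.2 b
    have : (σ * τ).1 • π - a * b * π =
        σ.1 • (τ.1 • π - b * π) + (σ.1 • b - b) * (σ.1 • π) + b * (σ.1 • π - a * π) := by
      rw [Subgroup.coe_mul, mul_smul, smul_sub, smul_mul']
      ring
    rw [this]
    refine Ideal.add_mem _ (Ideal.add_mem _ (smul_mem_sq_of_mem_inertia m σ.2 h2) ?_)
      (Ideal.mul_mem_left _ _ h1)
    rw [pow_two]
    exact Ideal.mul_mem_mul h3 (smul_mem_of_mem_inertia m σ.2 hπ)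

/-- The tame character `θ : I → (B/m)ˣ`. -/
noncomputable def theta (hm : m ≠ ⊥) {π : B} (hπ : π ∈ m) (hπ2 : π ∉ m ^ 2) :
    m.inertia G →* (B ⧸ m)ˣ :=
  (thetaMonoid m hm hπ hπ2).toHomUnits

theorem mem_ker_theta_iff (hm : m ≠ ⊥) {π : B} (hπ : π ∈ m) (hπ2 : π ∉ m ^ 2) (σ : m.inertia G) :
    σ ∈ (theta m hm hπ hπ2).ker ↔ σ.1 • π - π ∈ m ^ 2 := by
  rw [MonoidHom.mem_ker, Units.ext_iff]
  have h0 : ((theta m hm hπ hπ2 σ : (B ⧸ m)ˣ) : B ⧸ m) =
    Ideal.Quotient.mk m (coeff m hm hπ hπ2 σ) := rfl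
  rw [h0, Units.val_one]
  constructor
  · intro h
    rw [← map_one (Ideal.Quotient.mk m), Ideal.Quotient.eq] at h
    have h1 := coeff_spec m hm hπ hπ2 σ
    have : σ.1 • π - π = (σ.1 • π - coeff m hm hπ hπ2 σ * π) + (coeff m hm hπ hπ2 σ - 1) * π := by
      ring
    rw [this]
    refine Ideal.add_mem _ h1 ?_
    rw [pow_two]
    exact Ideal.mul_mem_mul h hπ
  · intro h
    rw [coeff_unique m hm hπ hπ2 σ 1 (by simpa using h), map_one]

/-- If `σ` is in the inertia group and fixes a uniformizer mod `m^2` then it acts trivially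
on `m/m^2`. -/
theorem smul_sub_mem_of_mem (hm : m ≠ ⊥) {π : B} (hπ : π ∈ m) (hπ2 : π ∉ m ^ 2) {σ : G}
    (hσ : σ ∈ m.inertia G) (h : σ • π - π ∈ m ^ 2) (y : B) (hy : y ∈ m) : σ • y - y ∈ m ^ 2 := by
  obtain ⟨b, hb⟩ := exists_coeff m hm hπ hπ2 y hy
  have : σ • y - y = σ • (y - b * π) + (σ • b - b) * (σ • π) + b * (σ • π - π) - (y - b * π) := by
    rw [smul_sub, smul_mul']
    ring
  rw [this]
  refine Ideal.sub_mem _ (Ideal.add_mem _ (Ideal.add_mem _ (smul_mem_sq_of_mem_inertia m hσ hb) ?_)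
    (Ideal.mul_mem_left _ _ h)) hb
  rw [pow_two]
  exact Ideal.mul_mem_mul (hσ b) (smul_mem_of_mem_inertia m hσ hπ)

end Theta

section Separable

variable {A B G : Type*} [CommRing A] [CommRing B] [Algebra A B] [Group G]
  [MulSemiringAction G B] [SMulCommClass G A B] (p : Ideal A) (m : Ideal B) [p.IsMaximal]
  [m.IsMaximal] [m.LiesOver p]

open Polynomial

/-- If the residue extension is separable, an element of the inertia group which acts trivially on
`m/m^2` acts trivially on `B/m^2`. -/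
theorem mem_inertia_sq_of_forall [Algebra.IsSeparable (A ⧸ p) (B ⧸ m)] {σ : G}
    (hσ : σ ∈ m.inertia G) (h : ∀ y ∈ m, σ • y - y ∈ m ^ 2) : σ ∈ (m ^ 2).inertia G := by
  let _ : Field (A ⧸ p) := Ideal.Quotient.field p
  let _ : Field (B ⧸ m) := Ideal.Quotient.field m
  intro x
  have hint : IsIntegral (A ⧸ p) (Ideal.Quotient.mk m x) :=
    Algebra.IsIntegral.isIntegral _
  have hsep : IsSeparable (A ⧸ p) (Ideal.Quotient.mk m x) :=
    Algebra.IsSeparable.isSeparable (A ⧸ p) (Ideal.Quotient.mk m x)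
  obtain ⟨f, hf⟩ := Polynomial.map_surjective (Ideal.Quotient.mk p) Ideal.Quotient.mk_surjective
    (minpoly (A ⧸ p) (Ideal.Quotient.mk m x))
  have hcomp : (algebraMap (A ⧸ p) (B ⧸ m)).comp (Ideal.Quotient.mk p) =
      (Ideal.Quotient.mk m).comp (algebraMap A B) := by
    ext a; rfl
  have hev : ∀ g : A[X], Ideal.Quotient.mk m (aeval x g) =
      aeval (Ideal.Quotient.mk m x) (g.map (Ideal.Quotient.mk p)) := by
    intro g
    rw [aeval_def, aeval_def, eval₂_map, hcomp, Polynomial.hom_eval₂]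
  have h0 : aeval x f ∈ m := by
    rw [← Ideal.Quotient.eq_zero_iff_mem, hev, hf, minpoly.aeval]
  have h1 : aeval x (derivative f) ∉ m := by
    rw [← Ideal.Quotient.eq_zero_iff_mem, hev, ← derivative_map, hf]
    exact hsep.aeval_derivative_ne_zero (minpoly.aeval _ _)
  -- `f (σ x) = σ (f x)`
  have h2 : aeval (σ • x) f = σ • aeval x f := by
    have := Polynomial.aeval_algHom_apply (MulSemiringAction.toAlgHom A B σ) x f
    exact this
  have h3 : σ • aeval x f - aeval x f ∈ m ^ 2 := h _ h0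
  -- Taylor
  obtain ⟨c, hc⟩ := Polynomial.binomExpansion (f.map (algebraMap A B)) x (σ • x - x)
  have hc' : aeval (σ • x) f = aeval x f + aeval x (derivative f) * (σ • x - x) +
      c * (σ • x - x) ^ 2 := by
    have e1 : x + (σ • x - x) = σ • x := by ring
    rw [e1] at hc
    simpa [aeval_def, eval_map, derivative_map] using hc
  have h4 : aeval x (derivative f) * (σ • x - x) ∈ m ^ 2 := by
    have : aeval x (derivative f) * (σ • x - x) =
        (σ • aeval x f - aeval x f) - c * (σ • x - x) ^ 2 := by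
      rw [← h2, hc']; ring
    rw [this]
    exact Ideal.sub_mem _ h3 (Ideal.mul_mem_left _ _ (Ideal.pow_mem_pow (hσ x) 2))
  exact Groth.Agent.Etalg.InertiaBasic.mem_pow_of_mul_mem m h1 2 h4

/-- Kernel of the tame character in the separable case. -/
theorem mem_ker_theta_iff_mem_inertia_sq [IsDedekindDomain B]
    [Algebra.IsSeparable (A ⧸ p) (B ⧸ m)] (hm : m ≠ ⊥) {π : B} (hπ : π ∈ m) (hπ2 : π ∉ m ^ 2)
    (σ : m.inertia G) : σ ∈ (theta m hm hπ hπ2).ker ↔ σ.1 ∈ (m ^ 2).inertia G := by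
  rw [mem_ker_theta_iff]
  exact ⟨fun h ↦ mem_inertia_sq_of_forall p m σ.2 (smul_sub_mem_of_mem m hm hπ hπ2 σ.2 h),
    fun h ↦ h π⟩

end Separable

section Card

variable {A B G : Type*} [CommRing A] [CommRing B] [Algebra A B] [Group G]
  [MulSemiringAction G B] [IsGaloisGroup G A B] [Finite G] (p : Ideal A) (m : Ideal B)
  [p.IsMaximal] [m.IsMaximal] [m.LiesOver p]

/-- Variant of the Mathlib statement with separable residue extension instead of a perfect
residue field. -/
theorem card_stabilizer_eq_card_inertia_mul_finrank [Algebra.IsSeparable (A ⧸ p) (B ⧸ m)] :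
    Nat.card (MulAction.stabilizer G m) = Nat.card (m.inertia G) * m.inertiaDeg A := by
  let _ : Field (A ⧸ p) := Ideal.Quotient.field p
  let _ : Field (B ⧸ m) := Ideal.Quotient.field m
  have : IsGalois (A ⧸ p) (B ⧸ m) :=
    { __ := Ideal.Quotient.normal G p m }
  have : Module.Finite (A ⧸ p) (B ⧸ m) := Ideal.Quotient.finite_of_isInvariant G p m
  have : Subgroup.index _ = _ := Nat.card_congr
    (Ideal.Quotient.stabilizerQuotientInertiaEquiv G p m).toEquiv
  rw [Ideal.inertiaDeg_eq_of_isMaximal p m, ← IsGalois.card_aut_eq_finrank (A ⧸ p) (B ⧸ m), ← this,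
    ← ((m.inertia G).subgroupOf (MulAction.stabilizer G m)).card_mul_index,
    Nat.card_congr (Subgroup.subgroupOfEquivOfLe (Ideal.inertia_le_stabilizer (M := G) m)).toEquiv,
    AddSubgroup.subgroupOf_inertia]

theorem ncard_primesOver_mul_card_inertia_mul_finrank [Algebra.IsSeparable (A ⧸ p) (B ⧸ m)] :
    (p.primesOver B).ncard * Nat.card (m.inertia G) * m.inertiaDeg A = Nat.card G := by
  rw [mul_assoc, ← card_stabilizer_eq_card_inertia_mul_finrank p m,
    ← Algebra.IsInvariant.orbit_eq_primesOver A B G p m]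
  simpa using Nat.card_congr (MulAction.orbitProdStabilizerEquivGroup G m)

/-- The order of the inertia group is the ramification index (separable residue extension). -/
theorem card_inertia_eq_ramificationIdx [IsDomain A] [IsDomain B] [Module.Finite A B]
    [Module.Flat A B] [Algebra.IsSeparable (A ⧸ p) (B ⧸ m)] :
    Nat.card (m.inertia G) = m.ramificationIdx A := by
  have H := ncard_primesOver_mul_card_inertia_mul_finrank (G := G) p m
  rw [← Ideal.inertiaDegIn_eq_inertiaDeg p m G] at H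
  have hG : Nat.card G ≠ 0 := Nat.card_pos.ne'
  have h1 : (p.primesOver B).ncard ≠ 0 := by
    intro h; rw [h] at H; simp at H; exact hG H.symm
  have h2 : p.inertiaDegIn B ≠ 0 := by
    intro h; rw [h] at H; simp at H; exact hG H.symm
  rw [← Ideal.ncard_primesOver_mul_ramificationIdxIn_mul_inertiaDegIn p B G,
    mul_assoc, mul_right_inj' h1, mul_left_inj' h2] at H
  rw [H, Ideal.ramificationIdxIn_eq_ramificationIdx p m G]

end Card

end Groth.Agent.Etalg.InertiaTame
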