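import Groth.Agent.Etalg.InertiaStructure
import Mathlib.FieldTheory.SeparableClosure
import Mathlib.FieldTheory.PurelyInseparable.Tower

/-!
Wild inertia without separability assumption on the residue field extension, the index
of the inertia subgroup of an intermediate extension, and criteria in terms of subgroups.
-/

set_option autoImplicit false
open scoped Pointwise
open Groth.Agent.Etalg.InertiaBasic Groth.Agent.Etalg.InertiaTame
  Groth.Agent.Etalg.InertiaStructure

namespace Groth.Agent.Etalg.InertiaWild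

section Wild

variable {B G : Type*} [CommRing B] [Group G] [MulSemiringAction G B] (m : Ideal B)

theorem smul_mem_of_mem_inertia {σ : G} (hσ : σ ∈ m.inertia G) {y : B} (hy : y ∈ m) : σ • y ∈ m := by
  have : σ • y = (σ • y - y) + y := by ring
  rw [this]
  exact Ideal.add_mem _ (hσ y) hy

theorem smul_mem_sq_of_mem_inertia {σ : G} (hσ : σ ∈ m.inertia G) {y : B} (hy : y ∈ m ^ 2) :
    σ • y ∈ m ^ 2 := by
  rw [pow_two] at hy ⊢
  refine Submodule.mul_induction_on hy (fun a ha b hb ↦ ?_) (fun x y hx hy ↦ ?_)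
  · rw [smul_mul']
    exact Ideal.mul_mem_mul (smul_mem_of_mem_inertia m hσ ha) (smul_mem_of_mem_inertia m hσ hb)
  · rw [smul_add]
    exact Ideal.add_mem _ hx hy

variable (G) in
/-- The wild inertia group: elements acting trivially on `B/m` and on `m/m^2`. -/
def wild : Subgroup G where
  carrier := {σ | σ ∈ m.inertia G ∧ ∀ y ∈ m, σ • y - y ∈ m ^ 2}
  one_mem' := ⟨one_mem _, fun y _ ↦ by simp⟩
  mul_mem' := by
    rintro σ τ ⟨h1, h2⟩ ⟨h3, h4⟩
    refine ⟨mul_mem h1 h3, fun y hy ↦ ?_⟩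
    have : (σ * τ) • y - y = σ • (τ • y - y) + (σ • y - y) := by
      rw [mul_smul, smul_sub]; ring
    rw [this]
    exact Ideal.add_mem _ (smul_mem_sq_of_mem_inertia m h1 (h4 y hy)) (h2 y hy)
  inv_mem' := by
    rintro σ ⟨h1, h2⟩
    refine ⟨inv_mem h1, fun y hy ↦ ?_⟩
    have : σ⁻¹ • y - y = - (σ⁻¹ • (σ • y - y)) := by
      rw [smul_sub, inv_smul_smul]; ring
    rw [this]
    exact neg_mem (smul_mem_sq_of_mem_inertia m (inv_mem h1) (h2 y hy))

theorem mem_wild_iff {σ : G} :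
    σ ∈ wild G m ↔ σ ∈ m.inertia G ∧ ∀ y ∈ m, σ • y - y ∈ m ^ 2 := Iff.rfl

theorem wild_le_inertia : wild G m ≤ m.inertia G := fun _ h ↦ h.1

theorem inertia_sq_le_wild : (m ^ 2).inertia G ≤ wild G m :=
  fun _ h ↦ ⟨inertia_sq_le_inertia m h, fun y _ ↦ h y⟩

/-- An element acting trivially on `B/m` and `m/m^2` acts trivially on `m^k/m^(k+1)`. -/
theorem smul_sub_mem_pow {σ : G} (hσ : σ ∈ wild G m) (k : ℕ) (y : B) (hy : y ∈ m ^ k) :
    σ • y - y ∈ m ^ (k + 1) := by
  induction k generalizing y with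
  | zero =>
    simp only [zero_add, pow_one]
    exact hσ.1 y
  | succ k ih =>
    rw [pow_succ] at hy
    refine Submodule.mul_induction_on hy (fun a ha b hb ↦ ?_) (fun x y hx hy ↦ ?_)
    · have h1 : σ • a - a ∈ m ^ (k + 1) := ih a ha
      have h2 : σ • b - b ∈ m ^ 2 := hσ.2 b hb
      have h3 : σ • a ∈ m ^ k := by
        have : σ • a = (σ • a - a) + a := by ring
        rw [this]
        exact Ideal.add_mem _ (Ideal.pow_le_pow_right (Nat.le_succ k) h1) ha
      have : σ • (a * b) - a * b = (σ • a) * (σ • b - b) + (σ • a - a) * b := by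
        rw [smul_mul']; ring
      rw [this]
      refine Ideal.add_mem _ ?_ ?_
      · have := Ideal.mul_mem_mul h3 h2
        rwa [← pow_add] at this
      · have := Ideal.mul_mem_mul h1 hb
        rwa [← pow_succ] at this
    · have : σ • (x + y) - (x + y) = (σ • x - x) + (σ • y - y) := by
        rw [smul_add]; ring
      rw [this]
      exact Ideal.add_mem _ hx hy

theorem pow_smul_sub_mem {σ : G} (hσ : σ ∈ wild G m) (k : ℕ)
    (hk : σ ∈ (m ^ k).inertia G) (x : B) (n : ℕ) :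
    (σ ^ n • x - x) - n * (σ • x - x) ∈ m ^ (k + 1) := by
  induction n with
  | zero => simp
  | succ n ih =>
    have h2 : σ ^ n • (σ • x - x) - (σ • x - x) ∈ m ^ (k + 1) :=
      smul_sub_mem_pow m (Subgroup.pow_mem _ hσ n) k _ (hk x)
    have : (σ ^ (n + 1) • x - x) - (n + 1 : ℕ) * (σ • x - x) =
        ((σ ^ n • x - x) - n * (σ • x - x)) + (σ ^ n • (σ • x - x) - (σ • x - x)) := by
      rw [pow_succ, mul_smul, smul_sub]
      push_cast
      ring
    rw [this]
    exact Ideal.add_mem _ ih h2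

theorem eq_one_of_mem_wild [m.IsMaximal] [FaithfulSMul G B] (hm : ⨅ i : ℕ, m ^ i = ⊥)
    {σ : G} (hσ : σ ∈ wild G m) (l : ℕ) (hl : σ ^ l = 1) (hlm : (l : B) ∉ m) : σ = 1 := by
  have key : ∀ k : ℕ, σ ∈ (m ^ k).inertia G := by
    intro k
    induction k with
    | zero => intro x; simp
    | succ k ih =>
      intro x
      have h := pow_smul_sub_mem m hσ k ih x l
      rw [hl, one_smul, sub_self, zero_sub, neg_mem_iff] at h
      exact mem_pow_of_mul_mem m hlm _ h
  refine FaithfulSMul.eq_of_smul_eq_smul (α := B) fun x ↦ ?_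
  rw [one_smul, ← sub_eq_zero, ← Ideal.mem_bot, ← hm, Ideal.mem_iInf]
  intro i
  exact key i x

theorem isPGroup_wild [Finite G] [m.IsMaximal] [FaithfulSMul G B] (hm : ⨅ i : ℕ, m ^ i = ⊥)
    (p : ℕ) (hp : p.Prime) (hpm : (p : B) ∈ m) : IsPGroup p (wild G m) := by
  have hfact : Fact p.Prime := ⟨hp⟩
  rw [IsPGroup.iff_card]
  refine ⟨_, Nat.eq_prime_pow_of_unique_prime_dvd Nat.card_pos.ne' (p := p) fun {q} hq hqd ↦ ?_⟩
  have hfq : Fact q.Prime := ⟨hq⟩
  obtain ⟨⟨σ, hσ⟩, hord⟩ := exists_prime_orderOf_dvd_card' q hqd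
  by_contra hne
  have hqm : (q : B) ∉ m := by
    intro hqm
    have hcop : Nat.Coprime q p := (Nat.coprime_primes hq hp).mpr hne
    have h1 : IsCoprime (q : ℤ) (p : ℤ) := Nat.isCoprime_iff_coprime.mpr hcop
    obtain ⟨a, b, hab⟩ := h1
    have : (1 : B) ∈ m := by
      have h2 : ((a * q + b * p : ℤ) : B) = 1 := by rw [hab]; simp
      rw [← h2]
      push_cast
      exact Ideal.add_mem _ (Ideal.mul_mem_left _ _ hqm) (Ideal.mul_mem_left _ _ hpm)
    exact (Ideal.ne_top_iff_one m).mp (Ideal.IsMaximal.ne_top ‹_›) this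
  have hσ1 : σ = 1 := by
    refine eq_one_of_mem_wild m hm hσ q ?_ hqm
    have := pow_orderOf_eq_one (⟨σ, hσ⟩ : wild G m)
    rw [hord] at this
    simpa [Subtype.ext_iff] using this
  subst hσ1
  have : orderOf (⟨1, hσ⟩ : wild G m) = 1 := by
    rw [orderOf_eq_one_iff]; rfl
  rw [this] at hord
  exact hq.one_lt.ne hord

theorem wild_eq_bot [Finite G] [m.IsMaximal] [FaithfulSMul G B] (hm : ⨅ i : ℕ, m ^ i = ⊥)
    (h0 : ∀ n : ℕ, n ≠ 0 → (n : B) ∉ m) : wild G m = ⊥ := by
  rw [eq_bot_iff]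
  intro σ hσ
  rw [Subgroup.mem_bot]
  exact eq_one_of_mem_wild m hm hσ (orderOf σ) (pow_orderOf_eq_one σ)
    (h0 _ (orderOf_pos σ).ne')

/-- The order of the wild inertia group is a power of the characteristic exponent. -/
theorem card_wild_eq_pow [m.IsMaximal] [Finite G]
    [FaithfulSMul G B] (hm : ⨅ i : ℕ, m ^ i = ⊥) (q : ℕ) [ExpChar (B ⧸ m) q] :
    ∃ a : ℕ, Nat.card (wild G m) = q ^ a := by
  have hdom : IsDomain (B ⧸ m) := Ideal.Quotient.isDomain m
  have hexp : ExpChar (B ⧸ m) q := inferInstance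
  rcases hexp with _ | ⟨hqp⟩
  · refine ⟨0, ?_⟩
    rw [wild_eq_bot m hm fun n hn hnm ↦ ?_]
    · simp
    · rw [← Ideal.Quotient.eq_zero_iff_mem, map_natCast, Nat.cast_eq_zero] at hnm
      exact hn hnm
  · have : Fact q.Prime := ⟨hqp⟩
    refine IsPGroup.iff_card.mp (isPGroup_wild m hm q hqp ?_)
    rw [← Ideal.Quotient.eq_zero_iff_mem, map_natCast]
    exact CharP.cast_eq_zero _ q

/-- Kernel of the tame character in general. -/
theorem ker_theta [IsDedekindDomain B] [m.IsMaximal] (hm : m ≠ ⊥) {π : B} (hπ : π ∈ m)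
    (hπ2 : π ∉ m ^ 2) :
    (theta (G := G) m hm hπ hπ2).ker = (wild G m).subgroupOf (m.inertia G) := by
  ext σ
  rw [mem_ker_theta_iff, Subgroup.mem_subgroupOf, mem_wild_iff]
  exact ⟨fun h ↦ ⟨σ.2, smul_sub_mem_of_mem m hm hπ hπ2 σ.2 h⟩, fun h ↦ h.2 π hπ⟩

theorem exists_uniformizer [IsDedekindDomain B] [m.IsMaximal] (hm : m ≠ ⊥) :
    ∃ π ∈ m, π ∉ m ^ 2 := by
  have hm2 : m ^ 2 < m := by
    have := Ideal.pow_right_strictAnti m hm (Ideal.IsMaximal.ne_top ‹_›) (show 1 < 2 by norm_num)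
    simpa using this
  obtain ⟨π, hπ, hπ2⟩ := SetLike.exists_of_lt hm2
  exact ⟨π, hπ, hπ2⟩

theorem normal_wild_subgroupOf [IsDedekindDomain B] [m.IsMaximal] (hm : m ≠ ⊥) :
    ((wild G m).subgroupOf (m.inertia G)).Normal := by
  obtain ⟨π, hπ, hπ2⟩ := exists_uniformizer m hm
  rw [← ker_theta m hm hπ hπ2]
  infer_instance

/-- The index of the wild inertia group in the inertia group is prime to the characteristic
exponent. -/
theorem coprime_relIndex_wild [IsDedekindDomain B] [m.IsMaximal] [Finite G] (hm : m ≠ ⊥) (q : ℕ)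
    [ExpChar (B ⧸ m) q] : Nat.Coprime q ((wild G m).relIndex (m.inertia G)) := by
  have hdom : IsDomain (B ⧸ m) := Ideal.Quotient.isDomain m
  obtain ⟨π, hπ, hπ2⟩ := exists_uniformizer m hm
  have hfin : Finite (theta (G := G) m hm hπ hπ2).range :=
    Finite.of_surjective _ (theta (G := G) m hm hπ hπ2).rangeRestrict_surjective
  have h1 : (wild G m).relIndex (m.inertia G) =
      Nat.card (theta (G := G) m hm hπ hπ2).range := by
    rw [Subgroup.relIndex, ← ker_theta m hm hπ hπ2]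
    exact Nat.card_congr (QuotientGroup.quotientKerEquivRange
      (theta (G := G) m hm hπ hπ2)).toEquiv
  rw [h1]
  exact coprime_card_units q _

/-- Pointwise action and inertia. -/
theorem conj_mem_inertia (g σ : G) (h : σ ∈ m.inertia G) :
    g * σ * g⁻¹ ∈ (g • m).inertia G := by
  intro x
  have : (g * σ * g⁻¹) • x - x = g • (σ • (g⁻¹ • x) - g⁻¹ • x) := by
    rw [smul_sub, smul_inv_smul, mul_smul, mul_smul]
  show (g * σ * g⁻¹) • x - x ∈ g • m
  rw [this]
  exact Ideal.smul_mem_pointwise_smul g _ m (h _)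

theorem conj_mem_wild (g σ : G) (h : σ ∈ wild G m) : g * σ * g⁻¹ ∈ wild G (g • m) := by
  refine ⟨conj_mem_inertia m g σ h.1, fun y hy ↦ ?_⟩
  have : (g * σ * g⁻¹) • y - y = g • (σ • (g⁻¹ • y) - g⁻¹ • y) := by
    rw [smul_sub, smul_inv_smul, mul_smul, mul_smul]
  rw [this, ← smul_pow']
  refine Ideal.smul_mem_pointwise_smul g _ (m ^ 2) (h.2 _ ?_)
  rwa [Ideal.mem_pointwise_smul_iff_inv_smul_mem] at hy

end Wild

section GroupTheory

variable {G : Type*} [Group G]

theorem relIndex_dvd_index_of_normal_right [Finite G] (H P : Subgroup G) [P.Normal] :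
    H.relIndex P ∣ H.index := by
  have h1 := Subgroup.card_mul_index H
  have h2 := Subgroup.card_mul_index (H ⊔ P)
  have h3 : Nat.card P * P.relIndex (H ⊔ P) = Nat.card (H ⊔ P : Subgroup G) := by
    rw [← Subgroup.relIndex_bot_left, ← Subgroup.relIndex_bot_left]
    exact Subgroup.relIndex_mul_relIndex ⊥ P (H ⊔ P) bot_le le_sup_right
  rw [Subgroup.relIndex_sup_right] at h3
  have h4 : Nat.card (P ⊓ H : Subgroup G) * P.relIndex H = Nat.card H := by
    rw [← Subgroup.relIndex_bot_left, ← Subgroup.relIndex_bot_left, ← Subgroup.inf_relIndex_right P H]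
    exact Subgroup.relIndex_mul_relIndex ⊥ (P ⊓ H) H bot_le inf_le_right
  have h5 : Nat.card (P ⊓ H : Subgroup G) * H.relIndex P = Nat.card P := by
    rw [← Subgroup.relIndex_bot_left, ← Subgroup.relIndex_bot_left, ← Subgroup.inf_relIndex_left P H]
    exact Subgroup.relIndex_mul_relIndex ⊥ (P ⊓ H) P bot_le inf_le_left
  refine ⟨(H ⊔ P).index, ?_⟩
  have hr : P.relIndex H ≠ 0 := by
    intro h
    rw [h, mul_zero] at h4
    exact Nat.card_pos.ne h4
  have hc : Nat.card (P ⊓ H : Subgroup G) ≠ 0 := Nat.card_pos.ne'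
  have h6 : Nat.card (P ⊓ H : Subgroup G) * P.relIndex H * H.index =
      Nat.card (P ⊓ H : Subgroup G) * P.relIndex H * (H.relIndex P * (H ⊔ P).index) := by
    rw [h4, h1, ← h2, ← h3, ← h5, ← h4]
    ring
  exact Nat.eq_of_mul_eq_mul_left (Nat.pos_of_ne_zero (mul_ne_zero hc hr)) h6

theorem coprime_relIndex_iff {P I : Subgroup G} (hP : (P.subgroupOf I).Normal) (hPI : P ≤ I)
    [Finite G] {q a : ℕ} (hcard : Nat.card P = q ^ a) (hcop : Nat.Coprime q (P.relIndex I))
    (H : Subgroup G) : Nat.Coprime q (H.relIndex I) ↔ P ≤ H := by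
  constructor
  · intro h
    set P' := P.subgroupOf I
    set H' := H.subgroupOf I
    have h1 : H'.relIndex P' ∣ H'.index := relIndex_dvd_index_of_normal_right H' P'
    have h2 : H'.relIndex P' ∣ Nat.card P' := Subgroup.relIndex_dvd_card _ _
    have h3 : Nat.card P' = q ^ a := by
      rw [← hcard]
      exact Nat.card_congr (Subgroup.subgroupOfEquivOfLe hPI).toEquiv
    have h4 : H'.relIndex P' = 1 := by
      rw [h3] at h2
      have h5 : Nat.Coprime (q ^ a) H'.index := Nat.Coprime.pow_left a h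
      exact Nat.eq_one_of_dvd_coprimes h5 h2 h1
    have h6 : P' ≤ H' := Subgroup.relIndex_eq_one.mp h4
    intro x hx
    exact h6 (show (⟨x, hPI hx⟩ : I) ∈ P' from hx)
  · intro h
    exact Nat.Coprime.coprime_dvd_right (Subgroup.relIndex_dvd_of_le_left I h) hcop

end GroupTheory

end Groth.Agent.Etalg.InertiaWild
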