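import Groth.Prelude.Def_EtBase

/-!
# The statement of proper base change (S0001), as a proposition
-/

set_option autoImplicit false
universe u

open CategoryTheory CategoryTheory.Limits AlgebraicGeometry Opposite

namespace Groth.Agent.Etalg.LACoreB

/-- Proper base change, the statement of S0001. -/
def PBC0 : Prop :=
  ∀ (X Y X' Y' : Scheme.{u}) (f : X ⟶ Y) (g : Y' ⟶ Y)
    (f' : X' ⟶ Y') (g' : X' ⟶ X) (h : IsPullback g' f' f g) [IsProper f]
    (F : EtCoh.Ab X) (_ : EtCoh.IsTorsion F),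
    (∀ q : ℕ, Nonempty ((EtCoh.pull g).obj ((EtCoh.Rpush f q).obj F) ≅
      (EtCoh.Rpush f' q).obj ((EtCoh.pull g').obj F))) ∧
    IsIso (EtCoh.baseChange0 f g f' g' h.w F)

end Groth.Agent.Etalg.LACoreB
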