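import Groth.Agent.Etalg.LACoreB0
import Groth.Agent.Etalg.LACoreBP
import Groth.Agent.EtpbcB.BCCalc
import Groth.Agent.EtpbcB.NKillEt
import Groth.Agent.EtpbcB.GeomPointIndep
import Groth.Agent.EtpbcA.ExactDetect
import Groth.Agent.Etrest.Punctual186
import Groth.Agent.Etrest.ConstBasic
import Groth.Agent.Etcore.Stalks
import Groth.Agent.Etbase.StalkPull

/-!
# Acyclicity of a complex on the closed fibre

Let `f : X ⟶ Spec R` be proper, `R` local with separably closed residue field, `K` a bounded below complex of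
`f_*`-acyclic sheaves killed by `n`, such that `p⁻¹ f_* K` is acyclic for the closed point `p`, and the stalks of `K`
at the points of the closed fibre outside a closed subscheme `T` finite over the base are acyclic. Then the stalks of `K` at
all points of the closed fibre are acyclic.
-/

set_option autoImplicit false
universe v u v' u'

open CategoryTheory CategoryTheory.Limits AlgebraicGeometry Opposite HomologicalComplex

namespace Groth.Agent.Etalg.LACoreB

open Groth.Agent.Cohder.RDAcyc

section general

variable {C : Type u} [Category.{v} C] [Abelian C] {D : Type u'} [Category.{v'} D] [Abelian D]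

theorem acyclic_map_of_exact (T : C ⥤ D) [T.Additive] [PreservesFiniteLimits T] [PreservesFiniteColimits T]
    {K : CochainComplex C ℤ} (hK : K.Acyclic) :
    ((T.mapHomologicalComplex (ComplexShape.up ℤ)).obj K).Acyclic := by
  intro m
  exact ShortComplex.Exact.map (hK m) T

theorem isZero_map_homology_iff (T : C ⥤ D) [T.Additive] [PreservesFiniteLimits T] [PreservesFiniteColimits T]
    (K : CochainComplex C ℤ) (m : ℤ) :
    IsZero (T.obj (K.homology m)) ↔ ((T.mapHomologicalComplex (ComplexShape.up ℤ)).obj K).ExactAt m := by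
  rw [exactAt_iff_isZero_homology]
  exact ((K.sc m).mapHomologyIso T).isZero_iff.symm

theorem acyclic_of_iso {K L : CochainComplex C ℤ} (e : K ≅ L) (hK : K.Acyclic) : L.Acyclic :=
  fun m => (hK m).of_iso e

/-- Acyclicity of the image only depends on the functor up to isomorphism. -/
theorem acyclic_map_congr {S T : C ⥤ D} [S.Additive] [T.Additive] (e : S ≅ T) {K : CochainComplex C ℤ}
    (hK : ((S.mapHomologicalComplex (ComplexShape.up ℤ)).obj K).Acyclic) :
    ((T.mapHomologicalComplex (ComplexShape.up ℤ)).obj K).Acyclic :=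
  acyclic_of_iso ((NatIso.mapHomologicalComplex e (ComplexShape.up ℤ)).app K) hK

end general

section closedFibre

variable (hP : PBC0.{u}) {R : Type u} [CommRing R] [IsLocalRing R]
  {X : Scheme.{u}} (f : X ⟶ Spec (CommRingCat.of R)) [IsProper f]
  {k₀ : Type u} [Field k₀] [IsSepClosed k₀] (p : Spec (CommRingCat.of k₀) ⟶ Spec (CommRingCat.of R))
  {n : ℕ} (hn : 0 < n)
  (K : CochainComplex (EtCoh.Ab X) ℤ) (a : ℤ) [K.IsStrictlyGE a]
  (hKn : ∀ m, EtCoh.KilledBy n (K.X m)) (hKa : ∀ m, IsAcyc (EtCoh.push f) (K.X m))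
  (hG : (((EtCoh.pull p).mapHomologicalComplex (ComplexShape.up ℤ)).obj
    (((EtCoh.push f).mapHomologicalComplex (ComplexShape.up ℤ)).obj K)).Acyclic)
  {T : Scheme.{u}} (i : T ⟶ X) [IsClosedImmersion i] [IsFinite (i ≫ f)]

include a hP hn hKn hKa hG in
/-- The restriction of `K` to the closed fibre is acyclic. -/
theorem acyclic_pull
    (hst : ∀ (k : Type u) [Field k] [IsSepClosed k] (ξ : Spec (CommRingCat.of k) ⟶ X),
      f (ξ default) = p default → ξ default ∉ Set.range i →
        (((EtCoh.stalk ξ).mapHomologicalComplex (ComplexShape.up ℤ)).obj K).Acyclic) :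
    (((EtCoh.pull (pullback.fst f p)).mapHomologicalComplex (ComplexShape.up ℤ)).obj K).Acyclic := by
  let σ := pullback.fst f p
  let fs := pullback.snd f p
  have hsq : IsPullback σ fs f p := IsPullback.of_hasPullback f p
  have hfs : IsProper fs := MorphismProperty.of_isPullback hsq inferInstance
  have hpbc := fun m => hP _ _ _ _ f p fs σ hsq (K.X m)
    (Groth.Agent.Etrest.ConstBasic.isTorsion_of_killedBy hn (hKn m))
  refine EtpbcA.ExactDetect.acyclic_of_map (EtCoh.push fs) _ a ?_ ?_ ?_
  · intro m q hq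
    obtain ⟨e⟩ := (hpbc m).1 q
    exact ((EtCoh.pull p).map_isZero (hKa m q hq)).of_iso e.symm
  · let β : ((EtCoh.pull p).mapHomologicalComplex (ComplexShape.up ℤ)).obj
        (((EtCoh.push f).mapHomologicalComplex (ComplexShape.up ℤ)).obj K) ⟶
        ((EtCoh.push fs).mapHomologicalComplex (ComplexShape.up ℤ)).obj
          (((EtCoh.pull σ).mapHomologicalComplex (ComplexShape.up ℤ)).obj K) :=
      { f := fun m => (EtpbcB.BCCalc.bcNat hsq.w).app (K.X m)
        comm' := fun p q _ => ((EtpbcB.BCCalc.bcNat hsq.w).naturality (K.d p q)).symm }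
    have h1 : ∀ m, IsIso (β.f m) := fun m => (hpbc m).2
    have h2 : IsIso β := HomologicalComplex.Hom.isIso_of_components β
    exact acyclic_of_iso (asIso β) hG
  · intro m hm
    let i' := pullback.snd i σ
    have hi' : IsClosedImmersion i' := inferInstance
    have hfin : IsFinite (i' ≫ fs) := by
      have sq : IsPullback (pullback.fst i σ) (i' ≫ fs) (i ≫ f) p :=
        (IsPullback.of_hasPullback i σ).paste_vert hsq
      exact MorphismProperty.of_isPullback sq inferInstance
    refine Etrest.Punctual186.isZero_of_push fs i' _ ?_ hm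
    intro x hx
    obtain ⟨Ω, _, _, ζ, hζ⟩ := EtpbcA.Germ.exists_geomPt_aux (pullback f p) x
    refine ⟨Ω, inferInstance, inferInstance, ζ, hζ, ?_⟩
    rw [isZero_map_homology_iff]
    have h1 : (((EtCoh.stalk (ζ ≫ σ)).mapHomologicalComplex (ComplexShape.up ℤ)).obj K).Acyclic := by
      refine hst Ω (ζ ≫ σ) ?_ ?_
      · have h2 : f ((ζ ≫ σ) default) = p (fs (ζ default)) := by
          have h3 := congrArg (fun (φ : Spec (CommRingCat.of Ω) ⟶ Spec (CommRingCat.of R)) => φ default)
            (show (ζ ≫ σ) ≫ f = (ζ ≫ fs) ≫ p by rw [Category.assoc, Category.assoc, hsq.w])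
          simpa using h3
        rw [h2]
        congr 1
        exact Subsingleton.elim (α := Spec (CommRingCat.of k₀)) _ _
      · rintro ⟨z, hz⟩
        apply hx
        obtain ⟨w, hw1, hw2⟩ := Scheme.Pullback.exists_preimage_pullback (f := i) (g := σ) z x (by
          rw [hz, Scheme.Hom.comp_apply, hζ])
        exact ⟨w, hw2⟩
    have h4 := acyclic_map_congr (Etbase.StalkPull.stalkPullIso σ ζ) h1
    exact h4 m

include a hP hn hKn hKa hG in
theorem acyclic_stalk
    (hst : ∀ (k : Type u) [Field k] [IsSepClosed k] (ξ : Spec (CommRingCat.of k) ⟶ X),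
      f (ξ default) = p default → ξ default ∉ Set.range i →
        (((EtCoh.stalk ξ).mapHomologicalComplex (ComplexShape.up ℤ)).obj K).Acyclic)
    (k : Type u) [Field k] [IsSepClosed k] (ξ : Spec (CommRingCat.of k) ⟶ X) (hξ : f (ξ default) = p default) :
    (((EtCoh.stalk ξ).mapHomologicalComplex (ComplexShape.up ℤ)).obj K).Acyclic := by
  have h0 := acyclic_pull hP f p hn K a hKn hKa hG i hst
  obtain ⟨y, hy1, hy2⟩ := Scheme.Pullback.exists_preimage_pullback (f := f) (g := p) (ξ default) default hξ
  obtain ⟨Ω, _, _, ζ, hζ⟩ := EtpbcA.Germ.exists_geomPt_aux (pullback f p) y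
  have h1 := acyclic_map_of_exact (EtCoh.stalk ζ) h0
  have h2 : (((EtCoh.stalk (ζ ≫ pullback.fst f p)).mapHomologicalComplex (ComplexShape.up ℤ)).obj K).Acyclic :=
    acyclic_map_congr (Etbase.StalkPull.stalkPullIso (pullback.fst f p) ζ).symm h1
  obtain ⟨e⟩ := EtpbcB.GeomPointIndep.nonempty_stalkIso (ζ ≫ pullback.fst f p) ξ (by
    rw [Scheme.Hom.comp_apply, hζ, hy1])
  exact acyclic_map_congr e h2

end closedFibre

end Groth.Agent.Etalg.LACoreB
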