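import Groth.Agent.Cohder.RDPlusAcyc
import Groth.Agent.Cohder.CoconeSES

/-!
# The unit of an adjunction on complexes

`unitC adj E : E ⟶ G(L(E))` for an adjunction `L ⊣ G` of additive functors.
-/

set_option autoImplicit false
universe v u v' u' v'' u''
open CategoryTheory Category Limits HomologicalComplex

namespace Groth.Agent.Etalg.LACoreB

variable {C : Type u} [Category.{v} C] [Abelian C] {D : Type u'} [Category.{v'} D] [Abelian D]

/-- The unit of an adjunction, on complexes. -/
noncomputable def unitC {L : C ⥤ D} {G : D ⥤ C} [L.Additive] [G.Additive] (adj : L ⊣ G)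
    (E : CochainComplex C ℤ) :
    E ⟶ (G.mapHomologicalComplex (ComplexShape.up ℤ)).obj
      ((L.mapHomologicalComplex (ComplexShape.up ℤ)).obj E) where
  f m := adj.unit.app (E.X m)
  comm' := by intro i j _; exact (adj.unit.naturality (E.d i j)).symm

variable {L : C ⥤ D} {G : D ⥤ C} [L.Additive] [G.Additive] (adj : L ⊣ G)

@[simp]
theorem unitC_f (E : CochainComplex C ℤ) (m : ℤ) : (unitC adj E).f m = adj.unit.app (E.X m) := rfl

@[reassoc]
theorem unitC_naturality {E E' : CochainComplex C ℤ} (a : E ⟶ E') :
    a ≫ unitC adj E' = unitC adj E ≫ (G.mapHomologicalComplex (ComplexShape.up ℤ)).map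
      ((L.mapHomologicalComplex (ComplexShape.up ℤ)).map a) := by
  ext m
  exact adj.unit.naturality (a.f m)

end Groth.Agent.Etalg.LACoreB
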