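import Groth.Agent.Etalg.LACoreB0
import Mathlib.Algebra.Homology.ShortComplex.PreservesHomology

/-!
# Quasi-isomorphisms from natural transformations of exact functors
-/

set_option autoImplicit false
universe v u v' u' v₁ u₁ v₂ u₂ v₃ u₃ v₄ u₄ v₅ u₅
open CategoryTheory Category Limits HomologicalComplex

namespace Groth.Agent.Etalg.LACoreB

section

variable {C : Type u} [Category.{v} C] [Abelian C] {D : Type u'} [Category.{v'} D] [Abelian D]

/-- A natural transformation of exact functors which is an isomorphism on the homology objects of a complex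
induces a quasi-isomorphism. -/
theorem quasiIso_natTrans {P Q : C ⥤ D} (τ : P ⟶ Q) [P.Additive] [Q.Additive] [P.PreservesHomology]
    [Q.PreservesHomology] (K : CochainComplex C ℤ) (h : ∀ m, IsIso (τ.app (K.homology m))) :
    QuasiIso ((NatTrans.mapHomologicalComplex τ (ComplexShape.up ℤ)).app K) := by
  rw [quasiIso_iff]
  intro m
  rw [quasiIsoAt_iff_isIso_homologyMap]
  have h1 := NatTrans.app_homology τ (K.sc m)
  have h2 : IsIso (τ.app (K.sc m).homology) := h m
  rw [h1] at h2
  have h3 : IsIso (ShortComplex.homologyMap ((K.sc m).mapNatTrans τ)) := by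
    have h4 : ShortComplex.homologyMap ((K.sc m).mapNatTrans τ) =
      ((K.sc m).mapHomologyIso P).hom ≫ (((K.sc m).mapHomologyIso P).inv ≫
      ShortComplex.homologyMap ((K.sc m).mapNatTrans τ) ≫ ((K.sc m).mapHomologyIso Q).hom) ≫
        ((K.sc m).mapHomologyIso Q).inv := by simp
    rw [h4]
    infer_instance
  exact h3

end

section

variable {𝒳 : Type u₁} [Category.{v₁} 𝒳] [Abelian 𝒳] {𝒴 : Type u₂} [Category.{v₂} 𝒴] [Abelian 𝒴]
  {𝒮 : Type u₃} [Category.{v₃} 𝒮] [Abelian 𝒮] {𝒯 : Type u₄} [Category.{v₄} 𝒯] [Abelian 𝒯]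
  {𝒵 : Type u₅} [Category.{v₅} 𝒵] [Abelian 𝒵]
  {e : 𝒳 ⥤ 𝒴} {eR : 𝒴 ⥤ 𝒳} [e.Additive] [eR.Additive] (adjE : e ⊣ eR)
  (f : 𝒳 ⥤ 𝒮) [f.Additive] (g : 𝒴 ⥤ 𝒯) [g.Additive]
  {t : 𝒮 ⥤ 𝒯} {tR : 𝒯 ⥤ 𝒮} [t.Additive] [tR.Additive] (adjT : t ⊣ tR)
  (s : 𝒮 ⥤ 𝒵) [s.Additive]

/-- `s f (E → eR I)` is a quasi-isomorphism. -/
theorem quasiIso_map_push [PreservesFiniteLimits t] [PreservesFiniteColimits t]
    [PreservesFiniteLimits tR] [PreservesFiniteColimits tR] [PreservesFiniteLimits s]
    [PreservesFiniteColimits s]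
    (θ : eR ⋙ f ≅ g ⋙ tR) (bc : f ⋙ t ⟶ e ⋙ g)
    (hbc : ∀ F : 𝒳, f.map (adjE.unit.app F) ≫ θ.hom.app (e.obj F) =
      adjT.unit.app (f.obj F) ≫ tR.map (bc.app F))
    (E : CochainComplex 𝒳 ℤ) (I : CochainComplex 𝒴 ℤ)
    (i : (e.mapHomologicalComplex (ComplexShape.up ℤ)).obj E ⟶ I)
    (h1 : ∀ m, IsIso (bc.app (E.X m)))
    (h2 : QuasiIso ((g.mapHomologicalComplex (ComplexShape.up ℤ)).map i))
    (h3 : ∀ m, IsIso (s.map (adjT.unit.app
      (((f.mapHomologicalComplex (ComplexShape.up ℤ)).obj E).homology m)))) :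
    QuasiIso ((s.mapHomologicalComplex (ComplexShape.up ℤ)).map
      ((f.mapHomologicalComplex (ComplexShape.up ℤ)).map
        (unitC adjE E ≫ (eR.mapHomologicalComplex (ComplexShape.up ℤ)).map i))) := by
  let fE := (f.mapHomologicalComplex (ComplexShape.up ℤ)).obj E
  let bcE : (t.mapHomologicalComplex (ComplexShape.up ℤ)).obj fE ⟶
      (g.mapHomologicalComplex (ComplexShape.up ℤ)).obj ((e.mapHomologicalComplex (ComplexShape.up ℤ)).obj E) :=
    { f := fun m => bc.app (E.X m)
      comm' := fun p q _ => (bc.naturality (E.d p q)).symm }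
  let θI : (f.mapHomologicalComplex (ComplexShape.up ℤ)).obj
      ((eR.mapHomologicalComplex (ComplexShape.up ℤ)).obj I) ⟶
      (tR.mapHomologicalComplex (ComplexShape.up ℤ)).obj ((g.mapHomologicalComplex (ComplexShape.up ℤ)).obj I) :=
    { f := fun m => θ.hom.app (I.X m)
      comm' := fun p q _ => (θ.hom.naturality (I.d p q)).symm }
  have hθI : IsIso θI := by
    have : ∀ m, IsIso (θI.f m) := fun m => inferInstanceAs (IsIso (θ.hom.app (I.X m)))
    exact HomologicalComplex.Hom.isIso_of_components θI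
  have hbcE : IsIso bcE := by
    have : ∀ m, IsIso (bcE.f m) := h1
    exact HomologicalComplex.Hom.isIso_of_components bcE
  have key : (f.mapHomologicalComplex (ComplexShape.up ℤ)).map
        (unitC adjE E ≫ (eR.mapHomologicalComplex (ComplexShape.up ℤ)).map i) ≫ θI =
      unitC adjT fE ≫ (tR.mapHomologicalComplex (ComplexShape.up ℤ)).map bcE ≫
        (tR.mapHomologicalComplex (ComplexShape.up ℤ)).map
          ((g.mapHomologicalComplex (ComplexShape.up ℤ)).map i) := by
    have aux : ∀ {A : 𝒳} {B : 𝒴} (x : e.obj A ⟶ B),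
        f.map (adjE.unit.app A ≫ eR.map x) ≫ θ.hom.app B =
          adjT.unit.app (f.obj A) ≫ tR.map (bc.app A) ≫ tR.map (g.map x) := by
      intro A B x
      have h4 : f.map (eR.map x) ≫ θ.hom.app B = θ.hom.app (e.obj A) ≫ tR.map (g.map x) :=
        θ.hom.naturality x
      rw [f.map_comp, Category.assoc, h4, ← Category.assoc, hbc, Category.assoc]
    ext m
    exact aux (i.f m)
  have h5 : QuasiIso ((s.mapHomologicalComplex (ComplexShape.up ℤ)).map (unitC adjT fE)) := by
    let τ : s ⟶ (t ⋙ tR) ⋙ s := Functor.whiskerRight adjT.unit s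
    have a1 : PreservesFiniteLimits ((t ⋙ tR) ⋙ s) := by
      have := comp_preservesFiniteLimits t tR
      exact comp_preservesFiniteLimits _ _
    have a2 : PreservesFiniteColimits ((t ⋙ tR) ⋙ s) := by
      have := comp_preservesFiniteColimits t tR
      exact comp_preservesFiniteColimits _ _
    exact quasiIso_natTrans (P := s) (Q := (t ⋙ tR) ⋙ s) τ fE h3
  have h6 : QuasiIso ((s.mapHomologicalComplex (ComplexShape.up ℤ)).map
      ((tR.mapHomologicalComplex (ComplexShape.up ℤ)).map
          ((g.mapHomologicalComplex (ComplexShape.up ℤ)).map i))) := by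
    have := HomologicalComplex.quasiIso_map_of_preservesHomology
      ((g.mapHomologicalComplex (ComplexShape.up ℤ)).map i) tR
    exact HomologicalComplex.quasiIso_map_of_preservesHomology _ s
  have h7 : QuasiIso ((s.mapHomologicalComplex (ComplexShape.up ℤ)).map
      ((f.mapHomologicalComplex (ComplexShape.up ℤ)).map
        (unitC adjE E ≫ (eR.mapHomologicalComplex (ComplexShape.up ℤ)).map i) ≫ θI)) := by
    rw [key, Functor.map_comp, Functor.map_comp]
    infer_instance
  rw [Functor.map_comp] at h7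
  exact (quasiIso_iff_comp_right _ _).1 h7

end

end Groth.Agent.Etalg.LACoreB
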