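import Groth.Agent.Etalg.SepElt
import Groth.Prelude.Def_EtAlgD

set_option autoImplicit false

universe u

namespace Groth.Agent.Etalg.MaxWEt

open Groth.Agent.Etalg.SepElt

/-- The maximal weakly étale subalgebra is `sepElt`. -/
theorem maxWeaklyEtale_eq (K : Type u) [Field K] (A : Type u) [CommRing A] [Algebra K A] :
    EtAlgD.maxWeaklyEtale K A = sepElt K A := by
  apply le_antisymm
  · refine sSup_le ?_
    intro S hS
    exact weaklyEtale_subalgebra_iff.1 hS
  · exact le_sSup weaklyEtale_sepElt

end Groth.Agent.Etalg.MaxWEt
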