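import Groth.Prelude.Def_EtMil
import Mathlib.RingTheory.Flat.Basic
import Mathlib.RingTheory.Flat.EquationalCriterion
import Mathlib.LinearAlgebra.TensorProduct.RightExactness
import Mathlib.LinearAlgebra.TensorProduct.Quotient
import Mathlib.Algebra.Module.Projective
import Mathlib.RingTheory.Finiteness.Defs

/-!
Milnor squares: basic facts about the glued module `EtMil.glue`.
-/

set_option autoImplicit false
universe u
open TensorProduct

namespace Groth.Agent.Etalg.Milnor

section general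

variable {R S : Type*} [CommRing R] [CommRing S] [Algebra R S]

/-- `1 ⊗ m = 0` in `S ⊗ M` iff `m ∈ ker (R → S) • M`, when `R → S` is surjective. -/
theorem one_tmul_eq_zero_iff (hs : Function.Surjective (algebraMap R S))
    {M : Type*} [AddCommGroup M] [Module R M] (m : M) :
    (1 : S) ⊗ₜ[R] m = 0 ↔ m ∈ (RingHom.ker (algebraMap R S)) • (⊤ : Submodule R M) := by
  have hk := LinearMap.ker_tensorProductMk (R := R) (Q := M) (I := RingHom.ker (algebraMap R S))
  rw [← hk, LinearMap.mem_ker, TensorProduct.mk_apply]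
  let e : (R ⧸ RingHom.ker (algebraMap R S)) ≃ₗ[R] S :=
    (Ideal.quotientKerAlgEquivOfSurjective (f := Algebra.ofId R S) hs).toLinearEquiv
  have he : e 1 = 1 := map_one (Ideal.quotientKerAlgEquivOfSurjective (f := Algebra.ofId R S) hs)
  have h2 : (TensorProduct.congr e (LinearEquiv.refl R M))
      ((1 : R ⧸ RingHom.ker (algebraMap R S)) ⊗ₜ[R] m) = (1 : S) ⊗ₜ[R] m := by
    rw [TensorProduct.congr_tmul, he]; rfl
  rw [← h2]
  exact (TensorProduct.congr e (LinearEquiv.refl R M)).map_eq_zero_iff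

theorem one_tmul_surjective (hs : Function.Surjective (algebraMap R S))
    {M : Type*} [AddCommGroup M] [Module R M] (x : S ⊗[R] M) :
    ∃ m : M, (1 : S) ⊗ₜ[R] m = x := by
  obtain ⟨m, hm⟩ := TensorProduct.mk_surjective R M S hs x
  exact ⟨m, hm⟩

end general

variable {B' B A' A : Type u} [CommRing B'] [CommRing B] [CommRing A'] [CommRing A]
  [Algebra B' B] [Algebra B' A'] [Algebra B A] [Algebra A' A] [Algebra B' A]
  [IsScalarTower B' B A] [IsScalarTower B' A' A]

theorem compat (c : B') : algebraMap B A (algebraMap B' B c) = algebraMap A' A (algebraMap B' A' c) := by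
  rw [← IsScalarTower.algebraMap_apply, ← IsScalarTower.algebraMap_apply]

omit [Algebra B' A] [IsScalarTower B' B A] [IsScalarTower B' A' A] in
theorem exists_mem (hsq : EtMil.IsFibreSquare B' B A' A) (b : B) (a' : A')
    (h : algebraMap B A b = algebraMap A' A a') :
    ∃ b' : B', algebraMap B' B b' = b ∧ algebraMap B' A' b' = a' :=
  (hsq.2 b a' h).exists

theorem ext_of (hsq : EtMil.IsFibreSquare B' B A' A) {x y : B'}
    (h1 : algebraMap B' B x = algebraMap B' B y) (h2 : algebraMap B' A' x = algebraMap B' A' y) :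
    x = y :=
  (hsq.2 (algebraMap B' B y) (algebraMap B' A' y) (compat y)).unique ⟨h1, h2⟩ ⟨rfl, rfl⟩

omit [Algebra B' A] [IsScalarTower B' B A] [IsScalarTower B' A' A] in
theorem surjective_B (hsq : EtMil.IsFibreSquare B' B A' A) :
    Function.Surjective (algebraMap B' B) := by
  intro b
  obtain ⟨a', ha'⟩ := hsq.1 (algebraMap B A b)
  obtain ⟨b', hb', _⟩ := exists_mem hsq b a' ha'.symm
  exact ⟨b', hb'⟩

omit [Algebra B' A] [IsScalarTower B' B A] [IsScalarTower B' A' A] in
theorem exists_ker (hsq : EtMil.IsFibreSquare B' B A' A) (i : A') (hi : algebraMap A' A i = 0) :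
    ∃ j : B', algebraMap B' B j = 0 ∧ algebraMap B' A' j = i := by
  apply exists_mem hsq 0 i
  rw [hi, map_zero]

variable {N M' : Type u} [AddCommGroup N] [Module B N] [Module B' N] [IsScalarTower B' B N]
  [AddCommGroup M'] [Module A' M'] [Module B' M'] [IsScalarTower B' A' M']

theorem mem_glue (φ : A ⊗[B] N ≃ₗ[A] A ⊗[A'] M') (x : N × M') :
    x ∈ EtMil.glue B' φ ↔ φ ((1 : A) ⊗ₜ[B] x.1) = (1 : A) ⊗ₜ[A'] x.2 := Iff.rfl

theorem exists_lift (hs : Function.Surjective (algebraMap A' A))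
    (φ : A ⊗[B] N ≃ₗ[A] A ⊗[A'] M') (n : N) :
    ∃ m : M', ((n, m) : N × M') ∈ EtMil.glue B' φ := by
  obtain ⟨m, hm⟩ := one_tmul_surjective hs (φ ((1 : A) ⊗ₜ[B] n))
  exact ⟨m, hm.symm⟩

theorem zero_mem_glue_iff (hs : Function.Surjective (algebraMap A' A))
    (φ : A ⊗[B] N ≃ₗ[A] A ⊗[A'] M') (m : M') :
    ((0, m) : N × M') ∈ EtMil.glue B' φ ↔
      m ∈ (RingHom.ker (algebraMap A' A)) • (⊤ : Submodule A' M') := by
  rw [mem_glue, ← one_tmul_eq_zero_iff hs]
  simp only [tmul_zero, map_zero]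
  exact eq_comm

/-- The image of the glued module generates `M'` over `A'`. -/
theorem span_snd (hs : Function.Surjective (algebraMap A' A))
    (φ : A ⊗[B] N ≃ₗ[A] A ⊗[A'] M') :
    Submodule.span A' (Set.range (EtMil.glueSnd B' φ)) = ⊤ := by
  rw [eq_top_iff]
  intro m _
  -- every element of `A ⊗ N` maps to the class of an element of the span
  have key : ∀ t : A ⊗[B] N, ∃ m' ∈ Submodule.span A' (Set.range (EtMil.glueSnd B' φ)),
      φ t = (1 : A) ⊗ₜ[A'] m' := by
    intro t
    induction t using TensorProduct.induction_on with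
    | zero => exact ⟨0, Submodule.zero_mem _, by simp⟩
    | tmul a n =>
      obtain ⟨m', hm'⟩ := exists_lift (B' := B') hs φ n
      obtain ⟨a', rfl⟩ := hs a
      refine ⟨a' • m', Submodule.smul_mem _ _ (Submodule.subset_span ⟨⟨(n, m'), hm'⟩, rfl⟩), ?_⟩
      rw [mem_glue] at hm'
      have : (algebraMap A' A a') ⊗ₜ[B] n = (algebraMap A' A a') • ((1 : A) ⊗ₜ[B] n) := by
        rw [TensorProduct.smul_tmul', smul_eq_mul, mul_one]
      rw [this, map_smul, hm', TensorProduct.smul_tmul', smul_eq_mul, mul_one, TensorProduct.tmul_smul,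
        TensorProduct.smul_tmul', Algebra.smul_def, mul_one]
    | add x y hx hy =>
      obtain ⟨m₁, h₁, e₁⟩ := hx
      obtain ⟨m₂, h₂, e₂⟩ := hy
      exact ⟨m₁ + m₂, Submodule.add_mem _ h₁ h₂, by rw [map_add, e₁, e₂, tmul_add]⟩
  obtain ⟨m', hm', e⟩ := key (φ.symm ((1 : A) ⊗ₜ[A'] m))
  rw [LinearEquiv.apply_symm_apply] at e
  have h3 : (1 : A) ⊗ₜ[A'] (m - m') = 0 := by rw [tmul_sub, e, sub_self]
  have h4 : m - m' ∈ Submodule.span A' (Set.range (EtMil.glueSnd B' φ)) := by
    refine Submodule.subset_span ⟨⟨(0, m - m'), ?_⟩, rfl⟩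
    rw [mem_glue]
    simp [h3]
  have := Submodule.add_mem _ h4 hm'
  simpa using this

/-- Elements of `IM'` are `I`-combinations of second components of glued elements; lifted to `N'`. -/
theorem exists_smul_glue (hsq : EtMil.IsFibreSquare B' B A' A)
    (φ : A ⊗[B] N ≃ₗ[A] A ⊗[A'] M') (y : EtMil.glue B' φ) (hy : EtMil.glueFst B' φ y = 0) :
    y ∈ (RingHom.ker (algebraMap B' B)) • (⊤ : Submodule B' (EtMil.glue B' φ)) := by
  obtain ⟨⟨n, m⟩, hnm⟩ := y
  have hn : n = 0 := hy
  subst hn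
  have hm := (zero_mem_glue_iff hsq.1 φ m).mp hnm
  -- show: for every m ∈ I • ⊤ there is z in J • ⊤ with components (0, m)
  have key : ∀ m ∈ (RingHom.ker (algebraMap A' A)) • (⊤ : Submodule A' M'),
      ∃ z ∈ (RingHom.ker (algebraMap B' B)) • (⊤ : Submodule B' (EtMil.glue B' φ)),
        EtMil.glueFst B' φ z = 0 ∧ EtMil.glueSnd B' φ z = m := by
    intro m hm
    rw [← span_snd (B' := B') hsq.1 φ] at hm
    induction hm using Submodule.smul_induction_on' with
    | smul r hr x hx =>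
      -- x in the span
      rw [RingHom.mem_ker] at hr
      induction hx using Submodule.span_induction generalizing r with
      | mem x hx =>
        obtain ⟨w, rfl⟩ := hx
        obtain ⟨j, hj1, hj2⟩ := exists_ker hsq r hr
        refine ⟨j • w, Submodule.smul_mem_smul hj1 Submodule.mem_top, ?_, ?_⟩
        · rw [map_smul, ← IsScalarTower.algebraMap_smul B j, hj1, zero_smul]
        · rw [map_smul, ← IsScalarTower.algebraMap_smul A' j, hj2]
      | zero => exact ⟨0, Submodule.zero_mem _, by simp, by simp⟩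
      | add x y _ _ hx hy =>
        obtain ⟨z₁, h₁, e₁, f₁⟩ := hx r hr
        obtain ⟨z₂, h₂, e₂, f₂⟩ := hy r hr
        exact ⟨z₁ + z₂, Submodule.add_mem _ h₁ h₂, by rw [map_add, e₁, e₂, add_zero],
          by rw [map_add, f₁, f₂, smul_add]⟩
      | smul a x _ hx =>
        obtain ⟨z₁, h₁, e₁, f₁⟩ := hx (r * a) (by rw [map_mul, hr, zero_mul])
        exact ⟨z₁, h₁, e₁, by rw [f₁, mul_smul]⟩
    | add x _ y _ hx hy =>
      obtain ⟨z₁, h₁, e₁, f₁⟩ := hx
      obtain ⟨z₂, h₂, e₂, f₂⟩ := hy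
      exact ⟨z₁ + z₂, Submodule.add_mem _ h₁ h₂, by rw [map_add, e₁, e₂, add_zero],
        by rw [map_add, f₁, f₂]⟩
  obtain ⟨z, hz, e, f⟩ := key m hm
  have : z = ⟨(0, m), hnm⟩ := by
    apply Subtype.ext
    apply Prod.ext
    · exact e
    · exact f
  rwa [← this]

theorem glueFst_surjective (hs : Function.Surjective (algebraMap A' A))
    (φ : A ⊗[B] N ≃ₗ[A] A ⊗[A'] M') : Function.Surjective (EtMil.glueFst B' φ) := by
  intro n
  obtain ⟨m, hm⟩ := exists_lift (B' := B') hs φ n
  exact ⟨⟨(n, m), hm⟩, rfl⟩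

theorem baseChange_fst_bijective (hsq : EtMil.IsFibreSquare B' B A' A)
    (φ : A ⊗[B] N ≃ₗ[A] A ⊗[A'] M') :
    Function.Bijective (LinearMap.liftBaseChange B (EtMil.glueFst B' φ)) := by
  constructor
  · rw [injective_iff_map_eq_zero]
    intro t ht
    obtain ⟨y, rfl⟩ := one_tmul_surjective (surjective_B hsq) t
    rw [LinearMap.liftBaseChange_tmul, one_smul] at ht
    rw [one_tmul_eq_zero_iff (surjective_B hsq)]
    exact exists_smul_glue hsq φ y ht
  · intro n
    obtain ⟨y, hy⟩ := glueFst_surjective (B' := B') hsq.1 φ n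
    exact ⟨1 ⊗ₜ y, by rw [LinearMap.liftBaseChange_tmul, one_smul, hy]⟩

theorem baseChange_snd_bijective (hsq : EtMil.IsFibreSquare B' B A' A)
    (φ : A ⊗[B] N ≃ₗ[A] A ⊗[A'] M') :
    Function.Bijective (LinearMap.liftBaseChange A' (EtMil.glueSnd B' φ)) := by
  constructor
  · rw [injective_iff_map_eq_zero]
    intro t ht
    let eB : B ⊗[B'] (EtMil.glue B' φ) ≃ₗ[B] N :=
      LinearEquiv.ofBijective _ (baseChange_fst_bijective hsq φ)
    let F := AlgebraTensorModule.cancelBaseChange B' A' A A (EtMil.glue B' φ)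
    let E := (AlgebraTensorModule.cancelBaseChange B' B A A (EtMil.glue B' φ)).symm
    let G : A ⊗[B] (B ⊗[B'] (EtMil.glue B' φ)) ≃ₗ[A] A ⊗[B] N :=
      AlgebraTensorModule.congr (LinearEquiv.refl A A) eB
    have hcomp : ∀ t : A' ⊗[B'] (EtMil.glue B' φ),
        φ (G (E (F ((1 : A) ⊗ₜ[A'] t)))) =
          (1 : A) ⊗ₜ[A'] (LinearMap.liftBaseChange A' (EtMil.glueSnd B' φ) t) := by
      intro t
      induction t using TensorProduct.induction_on with
      | zero => simp
      | tmul a' y =>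
        have h1 : F ((1 : A) ⊗ₜ[A'] (a' ⊗ₜ[B'] y)) = (a' • (1 : A)) ⊗ₜ[B'] y := by
          simp [F]
        have h2 : E ((a' • (1 : A)) ⊗ₜ[B'] y) = (a' • (1 : A)) ⊗ₜ[B] ((1 : B) ⊗ₜ[B'] y) := by
          simp [E]
        have h3 : G ((a' • (1 : A)) ⊗ₜ[B] ((1 : B) ⊗ₜ[B'] y)) =
            (a' • (1 : A)) ⊗ₜ[B] (EtMil.glueFst B' φ y) := by
          simp [G, eB]
        rw [h1, h2, h3]
        have h4 : (a' • (1 : A)) ⊗ₜ[B] (EtMil.glueFst B' φ y) =
            (a' • (1 : A)) • ((1 : A) ⊗ₜ[B] (EtMil.glueFst B' φ y)) := by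
          rw [TensorProduct.smul_tmul', smul_eq_mul, mul_one]
        rw [h4, map_smul]
        have h5 : φ ((1 : A) ⊗ₜ[B] (EtMil.glueFst B' φ y)) = (1 : A) ⊗ₜ[A'] (EtMil.glueSnd B' φ y) :=
          y.2
        rw [h5, LinearMap.liftBaseChange_tmul, TensorProduct.smul_tmul', smul_eq_mul, mul_one,
          TensorProduct.tmul_smul, TensorProduct.smul_tmul']
      | add x y hx hy => rw [tmul_add, map_add, map_add, map_add, map_add, hx, hy, map_add, tmul_add]
    have h1 : (1 : A) ⊗ₜ[A'] t = 0 := by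
      have h := hcomp t
      rw [ht, tmul_zero] at h
      have h6 := φ.map_eq_zero_iff.mp h
      have h7 := G.map_eq_zero_iff.mp h6
      have h8 := E.map_eq_zero_iff.mp h7
      exact F.map_eq_zero_iff.mp h8
    rw [one_tmul_eq_zero_iff hsq.1] at h1
    -- elements of I • ⊤ have the form 1 ⊗ y with y.1 = 0
    have key : ∀ t ∈ (RingHom.ker (algebraMap A' A)) • (⊤ : Submodule A' (A' ⊗[B'] (EtMil.glue B' φ))),
        ∃ y : EtMil.glue B' φ, EtMil.glueFst B' φ y = 0 ∧ t = (1 : A') ⊗ₜ[B'] y := by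
      intro t ht
      refine Submodule.smul_induction_on ht ?_ ?_
      · rintro r hr x -
        rw [RingHom.mem_ker] at hr
        induction x using TensorProduct.induction_on with
        | zero => exact ⟨0, by simp, by simp⟩
        | tmul a' y =>
          obtain ⟨j, hj1, hj2⟩ := exists_ker hsq (r * a') (by rw [map_mul, hr, zero_mul])
          refine ⟨j • y, ?_, ?_⟩
          · rw [map_smul, ← IsScalarTower.algebraMap_smul B j, hj1, zero_smul]
          · rw [TensorProduct.smul_tmul', smul_eq_mul, TensorProduct.tmul_smul,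
              TensorProduct.smul_tmul', Algebra.smul_def, mul_one, hj2]
        | add x y hx hy =>
          obtain ⟨y₁, h₁, e₁⟩ := hx
          obtain ⟨y₂, h₂, e₂⟩ := hy
          exact ⟨y₁ + y₂, by rw [map_add, h₁, h₂, add_zero], by rw [smul_add, e₁, e₂, tmul_add]⟩
      · rintro x y ⟨y₁, h₁, e₁⟩ ⟨y₂, h₂, e₂⟩
        exact ⟨y₁ + y₂, by rw [map_add, h₁, h₂, add_zero], by rw [e₁, e₂, tmul_add]⟩
    obtain ⟨y, hy1, rfl⟩ := key t h1
    rw [LinearMap.liftBaseChange_tmul, one_smul] at ht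
    have : y = 0 := by
      apply Subtype.ext
      apply Prod.ext
      · exact hy1
      · exact ht
    rw [this, tmul_zero]
  · intro m
    have hm : m ∈ Submodule.span A' (Set.range (EtMil.glueSnd B' φ)) := by
      rw [span_snd hsq.1 φ]; trivial
    induction hm using Submodule.span_induction with
    | mem x hx =>
      obtain ⟨y, rfl⟩ := hx
      exact ⟨1 ⊗ₜ y, by rw [LinearMap.liftBaseChange_tmul, one_smul]⟩
    | zero => exact ⟨0, map_zero _⟩
    | add x y _ _ hx hy =>
      obtain ⟨z₁, h₁⟩ := hx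
      obtain ⟨z₂, h₂⟩ := hy
      exact ⟨z₁ + z₂, by rw [map_add, h₁, h₂]⟩
    | smul a x _ hx =>
      obtain ⟨z₁, h₁⟩ := hx
      exact ⟨a • z₁, by rw [map_smul, h₁]⟩

end Groth.Agent.Etalg.Milnor
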