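import Groth.Agent.Etalg.Milnor
import Mathlib.LinearAlgebra.TensorProduct.Pi
import Mathlib.LinearAlgebra.TensorProduct.Prod

/-!
Milnor squares: flatness of the glued module `EtMil.glue`.
-/

set_option autoImplicit false
universe u
open TensorProduct

namespace Groth.Agent.Etalg.Milnor2

open Groth.Agent.Etalg.Milnor

section general

variable {B A : Type*} [CommRing B] [CommRing A] [Algebra B A]
variable {N : Type*} [AddCommGroup N] [Module B N]

/-- Simultaneous trivialisation of finitely many relations in `A ⊗ N`, `N` flat. -/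
theorem exists_simul [Module.Flat B N] {ι : Type*} [Fintype ι] {σ : Type*} [Fintype σ]
    (a : σ → ι → A) (n : σ → N) (h : ∀ i, ∑ s, a s i ⊗ₜ[B] n s = 0) :
    ∃ (q : ℕ) (S : σ → Fin q → B) (v : Fin q → N), (∀ s, n s = ∑ j, S s j • v j) ∧
      ∀ j i, ∑ s, algebraMap B A (S s j) * a s i = 0 := by
  classical
  have h0 : ∑ s, a s ⊗ₜ[B] n s = (0 : (ι → A) ⊗[B] N) := by
    apply (TensorProduct.comm B (ι → A) N).injective
    apply (TensorProduct.piRight B B N (fun _ : ι => A)).injective
    rw [map_zero, map_zero, map_sum, map_sum]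
    funext i
    rw [Finset.sum_apply, Pi.zero_apply]
    have := congrArg (TensorProduct.comm B A N) (h i)
    rw [map_sum, map_zero] at this
    rw [← this]
    apply Finset.sum_congr rfl
    intro s _
    simp
  obtain ⟨q, S, v, h1, h2⟩ := TensorProduct.vanishesTrivially_of_sum_tmul_eq_zero_of_rTensor_injective B
    (Module.Flat.rTensor_preserves_injective_linearMap _ (Submodule.injective_subtype _)) h0
  refine ⟨q, S, v, h1, fun j i => ?_⟩
  have := congrFun (h2 j) i
  rw [Finset.sum_apply] at this
  simpa [Algebra.smul_def] using this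

/-- finitely many tensors can be written with a common set of right entries -/
theorem exists_common {K : ℕ} (t : Fin K → A ⊗[B] N) :
    ∃ (P : Type) (_ : Fintype P) (γ : Fin K → P → A) (u : P → N),
      ∀ k, t k = ∑ p, γ k p ⊗ₜ[B] u p := by
  classical
  choose P g u h using fun k => TensorProduct.exists_sum_tmul_eq (t k)
  refine ⟨(k : Fin K) × Fin (P k), inferInstance, fun k p => if h : p.1 = k then g p.1 p.2 else 0,
    fun p => u p.1 p.2, fun k => ?_⟩
  rw [Fintype.sum_sigma, Finset.sum_eq_single k]
  · rw [h k]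
    apply Finset.sum_congr rfl
    intro j _
    simp
  · intro b _ hb
    apply Finset.sum_eq_zero
    intro j _
    simp [hb]
  · simp

end general

variable {B' B A' A : Type u} [CommRing B'] [CommRing B] [CommRing A'] [CommRing A]
  [Algebra B' B] [Algebra B' A'] [Algebra B A] [Algebra A' A] [Algebra B' A]
  [IsScalarTower B' B A] [IsScalarTower B' A' A]
variable {N M' : Type u} [AddCommGroup N] [Module B N] [Module B' N] [IsScalarTower B' B N]
  [AddCommGroup M'] [Module A' M'] [Module B' M'] [IsScalarTower B' A' M']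

theorem glue_ext (φ : A ⊗[B] N ≃ₗ[A] A ⊗[A'] M') {x y : EtMil.glue B' φ}
    (h1 : EtMil.glueFst B' φ x = EtMil.glueFst B' φ y)
    (h2 : EtMil.glueSnd B' φ x = EtMil.glueSnd B' φ y) : x = y := by
  apply Subtype.ext
  apply Prod.ext
  · exact h1
  · exact h2

theorem fst_smul (φ : A ⊗[B] N ≃ₗ[A] A ⊗[A'] M') (c : B') (x : EtMil.glue B' φ) :
    EtMil.glueFst B' φ (c • x) = algebraMap B' B c • EtMil.glueFst B' φ x := by
  rw [map_smul, IsScalarTower.algebraMap_smul]

theorem snd_smul (φ : A ⊗[B] N ≃ₗ[A] A ⊗[A'] M') (c : B') (x : EtMil.glue B' φ) :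
    EtMil.glueSnd B' φ (c • x) = algebraMap B' A' c • EtMil.glueSnd B' φ x := by
  rw [map_smul, IsScalarTower.algebraMap_smul]

theorem glue_compat (φ : A ⊗[B] N ≃ₗ[A] A ⊗[A'] M') (x : EtMil.glue B' φ) :
    φ ((1 : A) ⊗ₜ[B] (EtMil.glueFst B' φ x)) = (1 : A) ⊗ₜ[A'] (EtMil.glueSnd B' φ x) := x.2

/-- The glue of flat modules is flat. -/
theorem flat_glue (hsq : EtMil.IsFibreSquare B' B A' A)
    (φ : A ⊗[B] N ≃ₗ[A] A ⊗[A'] M') [Module.Flat B N] [Module.Flat A' M'] :
    Module.Flat B' (EtMil.glue B' φ) := by
  classical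
  apply Module.Flat.of_forall_isTrivialRelation
  intro l f x hfx
  have hn : ∑ i, (algebraMap B' B (f i)) • (EtMil.glueFst B' φ (x i)) = 0 := by
    have := congrArg (EtMil.glueFst B' φ) hfx
    rw [map_sum, map_zero] at this
    simpa only [fst_smul] using this
  have hm : ∑ i, (algebraMap B' A' (f i)) • (EtMil.glueSnd B' φ (x i)) = 0 := by
    have := congrArg (EtMil.glueSnd B' φ) hfx
    rw [map_sum, map_zero] at this
    simpa only [snd_smul] using this
  obtain ⟨κ, β, y, hy, hβ⟩ := Module.Flat.isTrivialRelation_of_sum_smul_eq_zero hn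
  obtain ⟨K, α, z, hz, hα⟩ := Module.Flat.isTrivialRelation_of_sum_smul_eq_zero hm
  beta_reduce at hy hz hβ hα
  obtain ⟨P, _, γ, u, hγ⟩ := exists_common (B := B) (fun k : Fin K => φ.symm ((1 : A) ⊗ₜ[A'] z k))
  -- the relation in `A ⊗ N`
  have hrel : ∀ i, ∑ s : Fin κ ⊕ P, (Sum.elim (fun j i => algebraMap B A (β i j))
      (fun p i => - ∑ k, algebraMap A' A (α i k) * γ k p) s i : A) ⊗ₜ[B] (Sum.elim y u s) = 0 := by
    intro i
    rw [Fintype.sum_sum_type]
    simp only [Sum.elim_inl, Sum.elim_inr, neg_tmul, Finset.sum_neg_distrib]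
    rw [add_neg_eq_zero]
    have e1 : ∑ j, (algebraMap B A (β i j)) ⊗ₜ[B] y j = (1 : A) ⊗ₜ[B] (EtMil.glueFst B' φ (x i)) := by
      rw [hy i, tmul_sum]
      apply Finset.sum_congr rfl
      intro j _
      rw [← TensorProduct.smul_tmul, Algebra.smul_def, mul_one]
    have e2 : (1 : A) ⊗ₜ[B] (EtMil.glueFst B' φ (x i)) =
        ∑ k, algebraMap A' A (α i k) • φ.symm ((1 : A) ⊗ₜ[A'] z k) := by
      apply φ.injective
      rw [glue_compat, map_sum, hz i, tmul_sum]
      apply Finset.sum_congr rfl
      intro k _
      rw [map_smul, LinearEquiv.apply_symm_apply, ← TensorProduct.smul_tmul, Algebra.smul_def,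
        mul_one, TensorProduct.smul_tmul', smul_eq_mul, mul_one]
    rw [e1, e2]
    simp_rw [hγ, Finset.smul_sum, TensorProduct.smul_tmul', smul_eq_mul, TensorProduct.sum_tmul]
    rw [Finset.sum_comm]
  obtain ⟨q, S, v, hv1, hv2⟩ := exists_simul _ _ hrel
  have hv_y : ∀ j, y j = ∑ r, S (Sum.inl j) r • v r := fun j => hv1 (Sum.inl j)
  have hv_u : ∀ p, u p = ∑ r, S (Sum.inr p) r • v r := fun p => hv1 (Sum.inr p)
  -- the gluing coefficients
  let g : Fin K → Fin q → A := fun k r => ∑ p, γ k p * algebraMap B A (S (Sum.inr p) r)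
  let b : Fin l → Fin q → B := fun i r => ∑ j, β i j * S (Sum.inl j) r
  have hbg : ∀ i r, algebraMap B A (b i r) = ∑ k, algebraMap A' A (α i k) * g k r := by
    intro i r
    have := hv2 r i
    rw [Fintype.sum_sum_type] at this
    simp only [Sum.elim_inl, Sum.elim_inr, mul_neg, Finset.sum_neg_distrib] at this
    rw [add_neg_eq_zero] at this
    simp only [b, g, map_sum, map_mul, Finset.mul_sum] at this ⊢
    rw [Finset.sum_comm] at this
    convert this using 1
    · apply Finset.sum_congr rfl
      intro j _
      ring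
    · apply Finset.sum_congr rfl
      intro k _
      apply Finset.sum_congr rfl
      intro p _
      ring
  choose g' hg' using fun k r => hsq.1 (g k r)
  choose v' hv' using fun r => exists_lift (B' := B') hsq.1 φ (v r)
  let V : Fin q → EtMil.glue B' φ := fun r => ⟨(v r, v' r), hv' r⟩
  -- `z k - ∑ g' v' ∈ I M'`
  have hδ : ∀ k, ((0, z k - ∑ r, g' k r • v' r) : N × M') ∈ EtMil.glue B' φ := by
    intro k
    rw [mem_glue]
    simp only [tmul_zero, map_zero, tmul_sub, tmul_sum]
    symm
    rw [sub_eq_zero]
    have e1 : (1 : A) ⊗ₜ[A'] z k = φ (∑ r, g k r ⊗ₜ[B] v r) := by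
      have h1 : (1 : A) ⊗ₜ[A'] z k = φ (φ.symm ((1 : A) ⊗ₜ[A'] z k)) := by simp
      rw [h1, hγ k]
      congr 1
      simp only [g, TensorProduct.sum_tmul]
      rw [Finset.sum_comm]
      apply Finset.sum_congr rfl
      intro p _
      rw [hv_u p, tmul_sum]
      apply Finset.sum_congr rfl
      intro r _
      rw [← TensorProduct.smul_tmul, Algebra.smul_def, mul_comm]
    rw [e1, map_sum]
    apply Finset.sum_congr rfl
    intro r _
    have e2 : g k r ⊗ₜ[B] v r = g k r • ((1 : A) ⊗ₜ[B] v r) := by
      rw [TensorProduct.smul_tmul', smul_eq_mul, mul_one]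
    have e3 : φ ((1 : A) ⊗ₜ[B] v r) = (1 : A) ⊗ₜ[A'] v' r := hv' r
    rw [e2, map_smul, e3, TensorProduct.smul_tmul', smul_eq_mul, mul_one, ← hg' k r,
      ← TensorProduct.smul_tmul, Algebra.smul_def, mul_one]
  let δ : Fin K → EtMil.glue B' φ := fun k => ⟨_, hδ k⟩
  have hδJ : ∀ k, δ k ∈ (RingHom.ker (algebraMap B' B)) •
      Submodule.span B' (Set.range (id : EtMil.glue B' φ → EtMil.glue B' φ)) := by
    intro k
    rw [Set.range_id, Submodule.span_univ]
    exact exists_smul_glue hsq φ (δ k) rfl
  simp_rw [Submodule.mem_ideal_smul_span_iff_exists_sum] at hδJ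
  choose c hcJ hc using hδJ
  let L : Finset (EtMil.glue B' φ) := Finset.univ.biUnion (fun k => (c k).support)
  have hc' : ∀ k, δ k = ∑ w ∈ L, c k w • w := by
    intro k
    rw [← hc k, Finsupp.sum]
    apply Finset.sum_subset
    · intro w hw
      exact Finset.mem_biUnion.mpr ⟨k, Finset.mem_univ _, hw⟩
    · intro w _ hw
      rw [Finsupp.notMem_support_iff.mp hw, zero_smul]
  -- the coefficients in `B'`
  have hC1 : ∀ i r, ∃ e : B', algebraMap B' B e = b i r ∧
      algebraMap B' A' e = ∑ k, α i k * g' k r := by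
    intro i r
    apply exists_mem hsq
    rw [hbg, map_sum]
    apply Finset.sum_congr rfl
    intro k _
    rw [map_mul, hg']
  choose C1 hC1a hC1b using hC1
  have hC2 : ∀ i (w : L), ∃ e : B', algebraMap B' B e = 0 ∧
      algebraMap B' A' e = ∑ k, α i k * algebraMap B' A' (c k w) := by
    intro i w
    apply exists_mem hsq
    rw [map_zero, map_sum]
    symm
    apply Finset.sum_eq_zero
    intro k _
    rw [map_mul, ← compat (B := B), (RingHom.mem_ker.mp (hcJ k w)), map_zero, mul_zero]
  choose C2 hC2a hC2b using hC2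
  rw [Module.isTrivialRelation_iff_vanishesTrivially]
  refine TensorProduct.VanishesTrivially.of_fintype (κ := Fin q ⊕ L)
    (fun i => Sum.elim (C1 i) (C2 i)) (Sum.elim V (fun w => w.1)) ?_ ?_
  · intro i
    rw [Fintype.sum_sum_type]
    simp only [Sum.elim_inl, Sum.elim_inr]
    apply glue_ext
    · rw [map_add, map_sum, map_sum]
      simp only [fst_smul, hC1a, hC2a, zero_smul, Finset.sum_const_zero, add_zero]
      have : ∀ r, EtMil.glueFst B' φ (V r) = v r := fun r => rfl
      simp only [this, b]
      rw [hy i]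
      simp only [hv_y, Finset.smul_sum, Finset.sum_smul, mul_smul]
      rw [Finset.sum_comm]
    · rw [map_add, map_sum, map_sum]
      simp only [snd_smul, hC1b, hC2b]
      have h1 : ∀ r, EtMil.glueSnd B' φ (V r) = v' r := fun r => rfl
      simp only [h1]
      rw [hz i]
      have h2 : ∀ k, z k = ∑ r, g' k r • v' r +
          ∑ w ∈ L, algebraMap B' A' (c k w) • EtMil.glueSnd B' φ w := by
        intro k
        have h3 := congrArg (EtMil.glueSnd B' φ) (hc' k)
        rw [map_sum] at h3
        simp only [snd_smul] at h3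
        rw [← h3]
        change z k = _ + (z k - _)
        abel
      conv_lhs => enter [2, k]; rw [h2 k, smul_add]
      rw [Finset.sum_add_distrib]
      congr 1
      · simp only [Finset.smul_sum, Finset.sum_smul, mul_smul]
        rw [Finset.sum_comm]
      · simp only [Finset.sum_smul, mul_smul]
        rw [Finset.sum_coe_sort L
          (f := fun w => ∑ k, α i k • algebraMap B' A' (c k w) • EtMil.glueSnd B' φ w)]
        rw [Finset.sum_comm]
        simp only [Finset.smul_sum]
  · rintro (r | w)
    · simp only [Sum.elim_inl, smul_eq_mul]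
      apply ext_of hsq
      · rw [map_sum, map_zero]
        simp only [map_mul, hC1a, b, Finset.sum_mul]
        rw [Finset.sum_comm]
        apply Finset.sum_eq_zero
        intro j _
        have := hβ j
        calc ∑ i, β i j * S (Sum.inl j) r * algebraMap B' B (f i)
            = (∑ i, algebraMap B' B (f i) * β i j) * S (Sum.inl j) r := by
              rw [Finset.sum_mul]
              apply Finset.sum_congr rfl
              intro i _
              ring
          _ = 0 := by rw [this, zero_mul]
      · rw [map_sum, map_zero]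
        simp only [map_mul, hC1b, Finset.sum_mul]
        rw [Finset.sum_comm]
        apply Finset.sum_eq_zero
        intro k _
        have := hα k
        calc ∑ i, α i k * g' k r * algebraMap B' A' (f i)
            = (∑ i, algebraMap B' A' (f i) * α i k) * g' k r := by
              rw [Finset.sum_mul]
              apply Finset.sum_congr rfl
              intro i _
              ring
          _ = 0 := by rw [this, zero_mul]
    · simp only [Sum.elim_inr, smul_eq_mul]
      apply ext_of hsq
      · rw [map_sum, map_zero]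
        simp only [map_mul, hC2a, zero_mul, Finset.sum_const_zero]
      · rw [map_sum, map_zero]
        simp only [map_mul, hC2b, Finset.sum_mul]
        rw [Finset.sum_comm]
        apply Finset.sum_eq_zero
        intro k _
        have := hα k
        calc ∑ i, α i k * algebraMap B' A' (c k w) * algebraMap B' A' (f i)
            = (∑ i, algebraMap B' A' (f i) * α i k) * algebraMap B' A' (c k w) := by
              rw [Finset.sum_mul]
              apply Finset.sum_congr rfl
              intro i _
              ring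
          _ = 0 := by rw [this, zero_mul]

end Groth.Agent.Etalg.Milnor2
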