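import Groth.Agent.Etalg.Milnor2
import Mathlib.Algebra.Module.Projective
import Mathlib.RingTheory.Finiteness.Basic

/-!
Milnor squares: finiteness and projectivity of the glued module `EtMil.glue`.
-/

set_option autoImplicit false
universe u
open TensorProduct

namespace Groth.Agent.Etalg.Milnor3

open Groth.Agent.Etalg.Milnor Groth.Agent.Etalg.Milnor2

variable {B' B A' A : Type u} [CommRing B'] [CommRing B] [CommRing A'] [CommRing A]
  [Algebra B' B] [Algebra B' A'] [Algebra B A] [Algebra A' A] [Algebra B' A]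
  [IsScalarTower B' B A] [IsScalarTower B' A' A]
variable {N M' : Type u} [AddCommGroup N] [Module B N] [Module B' N] [IsScalarTower B' B N]
  [AddCommGroup M'] [Module A' M'] [Module B' M'] [IsScalarTower B' A' M']

/-- Generation criterion: a set `T` of glued elements whose first components generate `N` over `B`
and whose second components generate `M'` over `A'` generates the glued module over `B'`. -/
theorem span_eq_top (hsq : EtMil.IsFibreSquare B' B A' A)
    (φ : A ⊗[B] N ≃ₗ[A] A ⊗[A'] M') (T : Set (EtMil.glue B' φ))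
    (h1 : Submodule.span B (EtMil.glueFst B' φ '' T) = ⊤)
    (h2 : Submodule.span A' (EtMil.glueSnd B' φ '' T) = ⊤) :
    Submodule.span B' T = ⊤ := by
  rw [eq_top_iff]
  rintro y -
  -- first component
  have key1 : ∀ n : N, ∃ z ∈ Submodule.span B' T, EtMil.glueFst B' φ z = n := by
    intro n
    have hn : n ∈ Submodule.span B (EtMil.glueFst B' φ '' T) := by rw [h1]; trivial
    induction hn using Submodule.span_induction with
    | mem x hx =>
      obtain ⟨w, hw, rfl⟩ := hx
      exact ⟨w, Submodule.subset_span hw, rfl⟩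
    | zero => exact ⟨0, Submodule.zero_mem _, map_zero _⟩
    | add x y _ _ hx hy =>
      obtain ⟨z₁, h₁, e₁⟩ := hx
      obtain ⟨z₂, h₂, e₂⟩ := hy
      exact ⟨z₁ + z₂, Submodule.add_mem _ h₁ h₂, by rw [map_add, e₁, e₂]⟩
    | smul a x _ hx =>
      obtain ⟨z₁, h₁, e₁⟩ := hx
      obtain ⟨a', rfl⟩ := surjective_B hsq a
      exact ⟨a' • z₁, Submodule.smul_mem _ _ h₁, by rw [fst_smul, e₁]⟩
  have key2 : ∀ m ∈ (RingHom.ker (algebraMap A' A)) • (⊤ : Submodule A' M'),
      ∃ z ∈ Submodule.span B' T, EtMil.glueFst B' φ z = 0 ∧ EtMil.glueSnd B' φ z = m := by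
    intro m hm
    rw [← h2] at hm
    induction hm using Submodule.smul_induction_on' with
    | smul r hr x hx =>
      rw [RingHom.mem_ker] at hr
      induction hx using Submodule.span_induction generalizing r with
      | mem x hx =>
        obtain ⟨w, hw, rfl⟩ := hx
        obtain ⟨j, hj1, hj2⟩ := exists_ker hsq r hr
        refine ⟨j • w, Submodule.smul_mem _ _ (Submodule.subset_span hw), ?_, ?_⟩
        · rw [fst_smul, hj1, zero_smul]
        · rw [snd_smul, hj2]
      | zero => exact ⟨0, Submodule.zero_mem _, by simp, by simp⟩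
      | add x y _ _ hx hy =>
        obtain ⟨z₁, h₁, e₁, f₁⟩ := hx r hr
        obtain ⟨z₂, h₂, e₂, f₂⟩ := hy r hr
        exact ⟨z₁ + z₂, Submodule.add_mem _ h₁ h₂, by rw [map_add, e₁, e₂, add_zero],
          by rw [map_add, f₁, f₂, smul_add]⟩
      | smul a x _ hx =>
        obtain ⟨z₁, h₁, e₁, f₁⟩ := hx (r * a) (by rw [map_mul, hr, zero_mul])
        exact ⟨z₁, h₁, e₁, by rw [f₁, mul_smul]⟩
    | add x _ y _ hx hy =>
      obtain ⟨z₁, h₁, e₁, f₁⟩ := hx
      obtain ⟨z₂, h₂, e₂, f₂⟩ := hy
      exact ⟨z₁ + z₂, Submodule.add_mem _ h₁ h₂, by rw [map_add, e₁, e₂, add_zero],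
        by rw [map_add, f₁, f₂]⟩
  obtain ⟨z, hz, ez⟩ := key1 (EtMil.glueFst B' φ y)
  have hm : EtMil.glueSnd B' φ (y - z) ∈ (RingHom.ker (algebraMap A' A)) • (⊤ : Submodule A' M') := by
    rw [← one_tmul_eq_zero_iff hsq.1, ← glue_compat, map_sub, ez, sub_self, tmul_zero, map_zero]
  obtain ⟨w, hw, e1, e2⟩ := key2 _ hm
  have : y - z = w := by
    apply glue_ext φ
    · rw [map_sub, ez, sub_self, e1]
    · rw [e2]
  have h3 : y = w + z := by rw [← this]; abel
  rw [h3]
  exact Submodule.add_mem _ hw hz

/-- A finite generating set. -/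
theorem exists_finset (hsq : EtMil.IsFibreSquare B' B A' A)
    (φ : A ⊗[B] N ≃ₗ[A] A ⊗[A'] M') [hN : Module.Finite B N] [hM : Module.Finite A' M'] :
    ∃ T : Finset (EtMil.glue B' φ),
      Submodule.span B (EtMil.glueFst B' φ '' (T : Set (EtMil.glue B' φ))) = ⊤ ∧
      Submodule.span A' (EtMil.glueSnd B' φ '' (T : Set (EtMil.glue B' φ))) = ⊤ := by
  classical
  have a1 : (Submodule.span B (EtMil.glueFst B' φ '' Set.univ)).FG := by
    rw [Set.image_univ, Set.range_eq_univ.mpr (glueFst_surjective hsq.1 φ), Submodule.span_univ]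
    exact hN.fg_top
  have a2 : (Submodule.span A' (EtMil.glueSnd B' φ '' Set.univ)).FG := by
    rw [Set.image_univ, span_snd hsq.1 φ]
    exact hM.fg_top
  rw [Submodule.fg_span_iff_fg_span_finset_subset] at a1 a2
  obtain ⟨s1, hs1, e1⟩ := a1
  obtain ⟨s2, hs2, e2⟩ := a2
  rw [Set.image_univ, Set.range_eq_univ.mpr (glueFst_surjective hsq.1 φ), Submodule.span_univ] at e1
  rw [Set.image_univ, span_snd hsq.1 φ] at e2
  obtain ⟨t1, -, ht1⟩ := Finset.subset_set_image_iff.mp hs1
  obtain ⟨t2, -, ht2⟩ := Finset.subset_set_image_iff.mp hs2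
  refine ⟨t1 ∪ t2, ?_, ?_⟩
  · rw [eq_top_iff, e1, ← ht1, Finset.coe_image]
    apply Submodule.span_mono
    apply Set.image_mono
    rw [Finset.coe_union]
    exact Set.subset_union_left
  · rw [eq_top_iff, e2, ← ht2, Finset.coe_image]
    apply Submodule.span_mono
    apply Set.image_mono
    rw [Finset.coe_union]
    exact Set.subset_union_right

/-- The glue of finite modules is finite. -/
theorem finite_glue (hsq : EtMil.IsFibreSquare B' B A' A)
    (φ : A ⊗[B] N ≃ₗ[A] A ⊗[A'] M') [Module.Finite B N] [Module.Finite A' M'] :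
    Module.Finite B' (EtMil.glue B' φ) := by
  obtain ⟨T, h1, h2⟩ := exists_finset hsq φ
  exact ⟨⟨T, span_eq_top hsq φ T h1 h2⟩⟩

/-- The glue of finite projective modules is projective. -/
theorem projective_glue (hsq : EtMil.IsFibreSquare B' B A' A)
    (φ : A ⊗[B] N ≃ₗ[A] A ⊗[A'] M') [Module.Finite B N] [Module.Finite A' M']
    [Module.Projective B N] [Module.Projective A' M'] :
    Module.Projective B' (EtMil.glue B' φ) := by
  classical
  obtain ⟨T, h1, h2⟩ := exists_finset hsq φ
  let e : (T → B') →ₗ[B'] EtMil.glue B' φ := Fintype.linearCombination B' (fun t : T => t.1)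
  let eB : (T → B) →ₗ[B] N := Fintype.linearCombination B (fun t : T => EtMil.glueFst B' φ t.1)
  let eA' : (T → A') →ₗ[A'] M' :=
    Fintype.linearCombination A' (fun t : T => EtMil.glueSnd B' φ t.1)
  let eA : (T → A) →ₗ[A] A ⊗[A'] M' :=
    Fintype.linearCombination A (fun t : T => (1 : A) ⊗ₜ[A'] EtMil.glueSnd B' φ t.1)
  let rB : (T → B) →ₗ[B] (T → A) := (Algebra.linearMap B A).compLeft T
  let rA' : (T → A') →ₗ[A'] (T → A) := (Algebra.linearMap A' A).compLeft T
  have hrange1 : Set.range (fun t : T => EtMil.glueFst B' φ t.1) =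
      EtMil.glueFst B' φ '' (T : Set (EtMil.glue B' φ)) := by
    ext x; simp
  have hrange2 : Set.range (fun t : T => EtMil.glueSnd B' φ t.1) =
      EtMil.glueSnd B' φ '' (T : Set (EtMil.glue B' φ)) := by
    ext x; simp
  have heB : Function.Surjective eB := by
    rw [← LinearMap.range_eq_top, Fintype.range_linearCombination, hrange1, h1]
  have heA' : Function.Surjective eA' := by
    rw [← LinearMap.range_eq_top, Fintype.range_linearCombination, hrange2, h2]
  have c1 : ∀ f : T → B, eA (rB f) = φ ((1 : A) ⊗ₜ[B] eB f) := by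
    intro f
    simp only [eA, eB, rB, Fintype.linearCombination_apply, tmul_sum, map_sum,
      LinearMap.compLeft_apply, Function.comp_apply, Algebra.linearMap_apply]
    apply Finset.sum_congr rfl
    intro t _
    rw [← glue_compat, ← map_smul, TensorProduct.smul_tmul', smul_eq_mul, mul_one,
      ← TensorProduct.smul_tmul, Algebra.smul_def, mul_one]
  have c2 : ∀ f : T → A', eA (rA' f) = (1 : A) ⊗ₜ[A'] eA' f := by
    intro f
    simp only [eA, eA', rA', Fintype.linearCombination_apply, tmul_sum,
      LinearMap.compLeft_apply, Function.comp_apply, Algebra.linearMap_apply]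
    apply Finset.sum_congr rfl
    intro t _
    rw [TensorProduct.smul_tmul', smul_eq_mul, mul_one,
      ← TensorProduct.smul_tmul, Algebra.smul_def, mul_one]
  obtain ⟨s, hs⟩ := Module.projective_lifting_property eB LinearMap.id heB
  have hs' : ∀ n, eB (s n) = n := fun n => LinearMap.congr_fun hs n
  let sA0 : A ⊗[B] N →ₗ[A] (T → A) := LinearMap.liftBaseChange A (rB ∘ₗ s)
  have hsA0 : ∀ n, sA0 ((1 : A) ⊗ₜ[B] n) = rB (s n) := by
    intro n
    simp [sA0]
  have hsA0' : ∀ x, eA (sA0 x) = φ x := by
    intro x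
    induction x using TensorProduct.induction_on with
    | zero => simp
    | tmul a n =>
      have : a ⊗ₜ[B] n = a • ((1 : A) ⊗ₜ[B] n) := by
        rw [TensorProduct.smul_tmul', smul_eq_mul, mul_one]
      rw [this, map_smul, map_smul, map_smul, hsA0, c1, hs']
    | add x y hx hy => rw [map_add, map_add, map_add, hx, hy]
  -- the fibre product
  let D : (T → A) × M' →ₗ[A'] A ⊗[A'] M' :=
    (eA.restrictScalars A').comp (LinearMap.fst A' (T → A) M') -
      (TensorProduct.mk A' A M' 1).comp (LinearMap.snd A' (T → A) M')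
  have hD : ∀ p m, (p, m) ∈ LinearMap.ker D ↔ eA p = (1 : A) ⊗ₜ[A'] m := by
    intro p m
    rw [LinearMap.mem_ker]
    exact sub_eq_zero
  let G : (T → A') →ₗ[A'] LinearMap.ker D :=
    (rA'.prod eA').codRestrict _ (fun f => (hD _ _).mpr (c2 f))
  have hG : Function.Surjective G := by
    rintro ⟨⟨p, m⟩, hpm⟩
    rw [hD] at hpm
    choose p' hp' using fun t => hsq.1 (p t)
    have hp'' : rA' p' = p := by
      funext t
      simp only [rA', LinearMap.compLeft_apply, Function.comp_apply, Algebra.linearMap_apply]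
      exact hp' t
    have hz : (1 : A) ⊗ₜ[A'] (m - eA' p') = 0 := by
      rw [tmul_sub, ← c2, hp'', hpm, sub_self]
    rw [one_tmul_eq_zero_iff hsq.1, ← h2, ← hrange2,
      Submodule.mem_ideal_smul_span_iff_exists_sum] at hz
    obtain ⟨a, ha, hsum⟩ := hz
    refine ⟨p' + (fun t => a t), ?_⟩
    apply Subtype.ext
    apply Prod.ext
    · change rA' (p' + fun t => a t) = p
      rw [map_add, hp'']
      have : rA' (fun t => a t) = 0 := by
        funext t
        simp only [rA', LinearMap.compLeft_apply, Function.comp_apply, Algebra.linearMap_apply]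
        exact ha t
      rw [this, add_zero]
    · change eA' (p' + fun t => a t) = m
      rw [map_add]
      have : eA' (fun t => a t) = m - eA' p' := by
        rw [← hsum, Finsupp.sum_fintype _ _ (fun i => by simp)]
        rfl
      rw [this]; abel
  let g : M' →ₗ[A'] LinearMap.ker D :=
    ((((sA0 ∘ₗ φ.symm.toLinearMap).restrictScalars A') ∘ₗ (TensorProduct.mk A' A M' 1)).prod
      LinearMap.id).codRestrict _ (fun m => by
        rw [LinearMap.prod_apply]
        refine (hD _ _).mpr ?_
        simp only [LinearMap.coe_comp, LinearMap.coe_restrictScalars, LinearEquiv.coe_coe,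
          Function.comp_apply, TensorProduct.mk_apply, LinearMap.id_apply]
        rw [hsA0', LinearEquiv.apply_symm_apply])
  obtain ⟨t, ht⟩ := Module.projective_lifting_property G g hG
  have ht1 : ∀ m, rA' (t m) = sA0 (φ.symm ((1 : A) ⊗ₜ[A'] m)) := by
    intro m
    exact congrArg (fun x => (Subtype.val x).1) (LinearMap.congr_fun ht m)
  have ht2 : ∀ m, eA' (t m) = m := by
    intro m
    exact congrArg (fun x => (Subtype.val x).2) (LinearMap.congr_fun ht m)
  have hex : ∀ (y : EtMil.glue B' φ) (i : T), ∃ b' : B',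
      algebraMap B' B b' = s (EtMil.glueFst B' φ y) i ∧
      algebraMap B' A' b' = t (EtMil.glueSnd B' φ y) i := by
    intro y i
    apply exists_mem hsq
    have h3 : rB (s (EtMil.glueFst B' φ y)) = rA' (t (EtMil.glueSnd B' φ y)) := by
      rw [← hsA0, ht1, ← glue_compat, LinearEquiv.symm_apply_apply]
    exact congrFun h3 i
  choose σ hσ1 hσ2 using hex
  let σ' : EtMil.glue B' φ →ₗ[B'] (T → B') :=
    { toFun := fun y i => σ y i
      map_add' := fun x y => by
        funext i
        apply ext_of hsq
        · rw [Pi.add_apply, map_add, hσ1, hσ1, hσ1, map_add, map_add, Pi.add_apply]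
        · rw [Pi.add_apply, map_add, hσ2, hσ2, hσ2, map_add, map_add, Pi.add_apply]
      map_smul' := fun c x => by
        funext i
        apply ext_of hsq
        · rw [Pi.smul_apply, smul_eq_mul, RingHom.id_apply, map_mul, hσ1, hσ1, fst_smul, map_smul,
            Pi.smul_apply, smul_eq_mul]
        · rw [Pi.smul_apply, smul_eq_mul, RingHom.id_apply, map_mul, hσ2, hσ2, snd_smul, map_smul,
            Pi.smul_apply, smul_eq_mul] }
  refine Module.Projective.of_split σ' e ?_
  ext1 y
  rw [LinearMap.comp_apply, LinearMap.id_apply]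
  apply glue_ext φ
  · simp only [e, σ', Fintype.linearCombination_apply, LinearMap.coe_mk, AddHom.coe_mk, map_sum,
      fst_smul, hσ1]
    have := hs' (EtMil.glueFst B' φ y)
    simpa only [eB, Fintype.linearCombination_apply] using this
  · simp only [e, σ', Fintype.linearCombination_apply, LinearMap.coe_mk, AddHom.coe_mk, map_sum,
      snd_smul, hσ2]
    have := ht2 (EtMil.glueSnd B' φ y)
    simpa only [eA', Fintype.linearCombination_apply] using this

end Groth.Agent.Etalg.Milnor3
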