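import Groth.Prelude.Def_Found
import Mathlib.RingTheory.Localization.BaseChange
import Mathlib.RingTheory.Finiteness.Descent
import Mathlib.RingTheory.Artinian.Module
import Mathlib.RingTheory.Flat.FaithfullyFlat.Algebra
import Mathlib.RingTheory.Flat.TorsionFree
import Mathlib.RingTheory.Unramified.Field
import Mathlib.RingTheory.Etale.Field
import Mathlib.FieldTheory.SeparableClosure
import Mathlib.RingTheory.DiscreteValuationRing.Basic

/-!
# N-2 rings: independence of the fraction field, and descent along faithfully flat maps
-/

set_option autoImplicit false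
universe u
open TensorProduct

namespace Groth.Agent.Etalg.N2Descent

/-- The tensor product of a field extension with a separable algebraic field extension is reduced. -/
theorem isReduced_tensor_of_isSeparable (K K₁ L : Type u) [Field K] [Field K₁] [Field L] [Algebra K K₁]
    [Algebra K L] [Algebra.IsSeparable K L] : IsReduced (K₁ ⊗[K] L) := by
  refine IsReduced.tensorProduct_of_flat_of_forall_fg (fun D hD => ?_)
  have hDf : IsField D := by
    have : Algebra.IsIntegral K D :=
      ⟨fun x => (isIntegral_algHom_iff D.val Subtype.val_injective).mp (Algebra.IsIntegral.isIntegral (R := K) (D.val x))⟩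
    exact isField_of_isIntegral_of_isField' (R := K) (Field.toIsField K)
  let E : IntermediateField K L := D.toIntermediateField' hDf
  have hE : E.toSubalgebra = D := by ext; rfl
  let _ : Field D := hDf.toField
  have : Algebra.IsSeparable K D := Algebra.IsSeparable.of_algHom K L D.val
  have : Algebra.FiniteType K D := by
    rwa [← Subalgebra.fg_iff_finiteType]
  have : Algebra.FormallyUnramified K D := Algebra.FormallyUnramified.of_isSeparable K D
  exact Algebra.FormallyUnramified.isReduced_of_field K₁ (K₁ ⊗[K] D)

/-- A version of the N-2 condition with respect to arbitrary fraction field. -/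
def N2For (R : Type u) [CommRing R] (K : Type u) [Field K] [Algebra R K] : Prop :=
  ∀ (L : Type u) [Field L] [Algebra K L] [Algebra R L] [IsScalarTower R K L] [FiniteDimensional K L],
    Module.Finite R (integralClosure R L)

theorem finite_integralClosure_of_surj {A A' : Type u} [CommRing A] [CommRing A'] [Algebra A A']
    (hs : Function.Surjective (algebraMap A A')) (L : Type u) [Field L] [Algebra A L] [Algebra A' L]
    [IsScalarTower A A' L] :
    Module.Finite A (integralClosure A L) ↔ Module.Finite A' (integralClosure A' L) := by
  have hint : Algebra.IsIntegral A A' := ⟨fun x => by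
    obtain ⟨y, rfl⟩ := hs x
    exact isIntegral_algebraMap⟩
  have hmem : ∀ x : L, x ∈ integralClosure A L ↔ x ∈ integralClosure A' L := by
    intro x
    constructor
    · intro h
      exact IsIntegral.tower_top (R := A) h
    · intro h
      exact isIntegral_trans (R := A) x h
  let e : integralClosure A L →ₗ[A] integralClosure A' L :=
    { toFun := fun x => ⟨x.1, (hmem _).mp x.2⟩
      map_add' := fun _ _ => rfl
      map_smul' := fun _ _ => rfl }
  have he : Function.Bijective e := by
    constructor
    · intro x y h
      exact Subtype.ext (congrArg (fun z : integralClosure A' L => (z : L)) h)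
    · intro y
      exact ⟨⟨y.1, (hmem _).mpr y.2⟩, rfl⟩
  have hfin : Module.Finite A A' := Module.Finite.of_surjective (Algebra.linearMap A A') hs
  constructor
  · intro h
    have : Module.Finite A (integralClosure A' L) := Module.Finite.of_surjective e he.2
    exact Module.Finite.of_restrictScalars_finite A A' _
  · intro h
    have : Module.Finite A (integralClosure A' L) := Module.Finite.trans A' _
    exact Module.Finite.equiv (LinearEquiv.ofBijective e he).symm

theorem isFractionRing_of_bijective {A A' : Type u} [CommRing A] [IsDomain A] [CommRing A'] [IsDomain A']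
    [Algebra A A'] (hbij : Function.Bijective (algebraMap A A')) (F : Type u) [Field F] [Algebra A' F]
    [IsFractionRing A' F] [Algebra A F] [IsScalarTower A A' F] : IsFractionRing A F := by
  have : FaithfulSMul A F := by
    rw [faithfulSMul_iff_algebraMap_injective, IsScalarTower.algebraMap_eq A A' F]
    exact (IsFractionRing.injective A' F).comp hbij.1
  refine IsFractionRing.of_field A F (fun z => ?_)
  obtain ⟨x, y, _, rfl⟩ := IsFractionRing.div_surjective (A := A') z
  obtain ⟨x, rfl⟩ := hbij.2 x
  obtain ⟨y, rfl⟩ := hbij.2 y
  exact ⟨x, y, by rw [← IsScalarTower.algebraMap_apply, ← IsScalarTower.algebraMap_apply]⟩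

theorem finite_of_ringEquiv {K F L : Type u} [Field K] [Field F] [Field L] [Algebra F L]
    (e : K ≃+* F) [Algebra K L] (he : ∀ x, algebraMap K L x = algebraMap F L (e x))
    [FiniteDimensional F L] : FiniteDimensional K L := by
  let _ : Algebra K F := (e : K →+* F).toAlgebra
  have : IsScalarTower K F L := IsScalarTower.of_algebraMap_eq he
  have : Module.Finite K F := Module.Finite.of_surjective (Algebra.linearMap K F) e.surjective
  exact Module.Finite.trans F L

/-- transfer of finiteness of integral closures to an isomorphic ring with its standard fraction field -/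
theorem isN2_of_n2For {A A' : Type u} [CommRing A] [IsDomain A] [CommRing A'] [IsDomain A'] [Algebra A A']
    (hbij : Function.Bijective (algebraMap A A')) (K : Type u) [Field K] [Algebra A K] [IsFractionRing A K]
    (h : N2For A K) : CAlg.IsN2 A' := by
  intro L _ _ _ _ hfin
  let F := FractionRing A'
  have hF : IsFractionRing A F := isFractionRing_of_bijective hbij F
  let e : K ≃ₐ[A] F := IsLocalization.algEquiv (nonZeroDivisors A) K F
  let _ : Algebra K L := ((algebraMap F L).comp (e : K →+* F)).toAlgebra
  let _ : Algebra A L := ((algebraMap A' L).comp (algebraMap A A')).toAlgebra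
  have : IsScalarTower A A' L := IsScalarTower.of_algebraMap_eq' rfl
  have : IsScalarTower A F L := by
    refine IsScalarTower.of_algebraMap_eq' ?_
    rw [IsScalarTower.algebraMap_eq A A' F, ← RingHom.comp_assoc, ← IsScalarTower.algebraMap_eq A' F L]
    rfl
  have : IsScalarTower A K L := by
    refine IsScalarTower.of_algebraMap_eq' ?_
    ext x
    have h2 : e (algebraMap A K x) = algebraMap A F x := e.commutes x
    change algebraMap A L x = algebraMap F L (e (algebraMap A K x))
    rw [h2, ← IsScalarTower.algebraMap_apply]
  have : FiniteDimensional K L := finite_of_ringEquiv (F := F) e.toRingEquiv (fun x => rfl)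
  exact (finite_integralClosure_of_surj hbij.2 L).mp (h L)

/-- the N-2 condition gives finiteness of integral closures for arbitrary fraction fields -/
theorem n2For_of_isN2 {A A' : Type u} [CommRing A] [IsDomain A] [CommRing A'] [IsDomain A'] [Algebra A A']
    (hbij : Function.Bijective (algebraMap A A')) (K : Type u) [Field K] [Algebra A K] [IsFractionRing A K]
    (h : CAlg.IsN2 A') : N2For A K := by
  intro L _ _ _ _ _
  let F := FractionRing A'
  have hF : IsFractionRing A F := isFractionRing_of_bijective hbij F
  let e0 : A ≃+* A' := RingEquiv.ofBijective (algebraMap A A') hbij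
  let e : K ≃ₐ[A] F := IsLocalization.algEquiv (nonZeroDivisors A) K F
  let _ : Algebra F L := ((algebraMap K L).comp (e.symm : F →+* K)).toAlgebra
  let _ : Algebra A' L := ((algebraMap A L).comp (e0.symm : A' →+* A)).toAlgebra
  have : IsScalarTower A A' L := by
    refine IsScalarTower.of_algebraMap_eq (fun x => ?_)
    change algebraMap A L x = algebraMap A L (e0.symm (e0 x))
    rw [e0.symm_apply_apply]
  have : IsScalarTower A' F L := by
    refine IsScalarTower.of_algebraMap_eq (fun x => ?_)
    obtain ⟨x, rfl⟩ := hbij.2 x
    rw [← IsScalarTower.algebraMap_apply A A' L, ← IsScalarTower.algebraMap_apply A A' F]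
    change algebraMap A L x = algebraMap K L (e.symm (algebraMap A F x))
    rw [e.symm.commutes, ← IsScalarTower.algebraMap_apply]
  have : FiniteDimensional F L := finite_of_ringEquiv (F := K) e.symm.toRingEquiv (fun x => rfl)
  exact (finite_integralClosure_of_surj hbij.2 L).mpr (h L this)

theorem isN2_iff_n2For (A : Type u) [CommRing A] [IsDomain A] (K : Type u) [Field K] [Algebra A K]
    [IsFractionRing A K] : CAlg.IsN2 A ↔ N2For A K :=
  ⟨n2For_of_isN2 (A' := A) Function.bijective_id K, isN2_of_n2For (A' := A) Function.bijective_id K⟩

/-- A domain is isomorphic to its quotient by the zero ideal, so a Nagata domain is N-2. -/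
theorem n2For_of_isNagata (A : Type u) [CommRing A] [IsDomain A] (K : Type u) [Field K] [Algebra A K]
    [IsFractionRing A K] (h : CAlg.IsNagata A) : N2For A K := by
  have hb : (⊥ : Ideal A).IsPrime := Ideal.isPrime_bot
  have hbij : Function.Bijective (algebraMap A (A ⧸ (⊥ : Ideal A))) :=
    ⟨by
      rw [injective_iff_map_eq_zero]
      intro a ha
      exact (Ideal.Quotient.eq_zero_iff_mem.mp ha : a ∈ (⊥ : Ideal A)), Ideal.Quotient.mk_surjective⟩
  exact n2For_of_isN2 hbij K (h.2 ⊥)

theorem n2For_of_isField (A : Type u) [CommRing A] [IsDomain A] (hA : IsField A) (K : Type u) [Field K]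
    [Algebra A K] [IsFractionRing A K] : N2For A K := by
  intro L _ _ _ _ _
  have hs : Function.Surjective (algebraMap A K) :=
    (IsField.localization_map_bijective (M := nonZeroDivisors A) (fun h => zero_notMem_nonZeroDivisors h) hA).2
  have : Module.Finite A K := Module.Finite.of_surjective (Algebra.linearMap A K) hs
  have : Module.Finite A L := Module.Finite.trans K L
  have : IsNoetherianRing A := by
    let _ : Field A := hA.toField
    infer_instance
  have : IsNoetherian A L := isNoetherian_of_isNoetherianRing_of_finite A L
  exact Module.Finite.of_injective (integralClosure A L).val.toLinearMap Subtype.val_injective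

/-- Fields are N-2. -/
theorem isN2_of_isField (A : Type u) [CommRing A] [IsDomain A] (hA : IsField A) : CAlg.IsN2 A :=
  (isN2_iff_n2For A (FractionRing A)).mpr (n2For_of_isField A hA _)

/-- A one-dimensional noetherian domain (every nonzero prime is maximal) which is N-2 is Nagata. -/
theorem isNagata_of_n2For (A : Type u) [CommRing A] [IsDomain A] [IsNoetherianRing A]
    (hdim : ∀ p : Ideal A, p.IsPrime → p ≠ ⊥ → p.IsMaximal) (K : Type u) [Field K] [Algebra A K]
    [IsFractionRing A K] (h : N2For A K) : CAlg.IsNagata A := by
  refine ⟨inferInstance, fun p hp => ?_⟩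
  by_cases h0 : p = ⊥
  · subst h0
    have hbij : Function.Bijective (algebraMap A (A ⧸ (⊥ : Ideal A))) :=
      ⟨by
        rw [injective_iff_map_eq_zero]
        intro a ha
        exact (Ideal.Quotient.eq_zero_iff_mem.mp ha : a ∈ (⊥ : Ideal A)), Ideal.Quotient.mk_surjective⟩
    exact isN2_of_n2For hbij K h
  · have hm := hdim p hp h0
    exact isN2_of_isField (A ⧸ p) ((Ideal.Quotient.maximal_ideal_iff_isField_quotient p).mp hm)

/-- Descent of the N-2 property along a faithfully flat map with separable algebraic extension of
fraction fields. -/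
theorem n2For_descend (A B K L : Type u) [CommRing A] [IsDomain A]
    [CommRing B] [IsDomain B] [IsNoetherianRing B] [Algebra A B] [Module.FaithfullyFlat A B]
    [Field K] [Field L] [Algebra A K] [IsFractionRing A K] [Algebra B L] [IsFractionRing B L]
    [Algebra K L] [Algebra A L] [IsScalarTower A K L] [IsScalarTower A B L] [Algebra.IsSeparable K L]
    (hB : N2For B L) : N2For A K := by
  intro K₁ _ _ _ _ _
  -- the reduced artinian ring `R₁ = L ⊗ K₁`
  have hred : IsReduced (L ⊗[K] K₁) := by
    have := isReduced_tensor_of_isSeparable K K₁ L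
    exact isReduced_of_injective (Algebra.TensorProduct.comm K L K₁) (Algebra.TensorProduct.comm K L K₁).injective
  have hart : IsArtinianRing (L ⊗[K] K₁) := IsArtinianRing.of_finite L _
  let A₁ := integralClosure A K₁
  have hcompat : CompatibleSMul A K L K₁ :=
    IsLocalization.tensorProduct_compatibleSMul (nonZeroDivisors A) K L K₁
  let f1 : B ⊗[A] A₁ →ₐ[B] L ⊗[A] K₁ := Algebra.TensorProduct.map (Algebra.ofId B L) A₁.val
  have hf1 : Function.Injective f1 := by
    have : Module.Flat A K := IsLocalization.flat K (nonZeroDivisors A)
    have : Module.Flat A K₁ := Module.Flat.trans A K K₁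
    have h1 : Function.Injective (A₁.val.toLinearMap.lTensor B) :=
      Module.Flat.lTensor_preserves_injective_linearMap _ Subtype.val_injective
    have h2 : Function.Injective
        ((IsScalarTower.toAlgHom A B L).toLinearMap.rTensor K₁) :=
      Module.Flat.rTensor_preserves_injective_linearMap _ (IsFractionRing.injective B L)
    have h3 : ∀ x, f1 x = (IsScalarTower.toAlgHom A B L).toLinearMap.rTensor K₁ (A₁.val.toLinearMap.lTensor B x) := by
      intro x
      induction x with
      | zero => simp
      | add x y hx hy => rw [map_add, map_add, map_add, hx, hy]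
      | tmul x y => rfl
    intro x y hxy
    rw [h3, h3] at hxy
    exact h1 (h2 hxy)
  let f2 : L ⊗[A] K₁ ≃ₐ[B] L ⊗[K] K₁ := Algebra.TensorProduct.equivOfCompatibleSMul K A B L K₁
  let Φ : B ⊗[A] A₁ →ₐ[B] L ⊗[K] K₁ := f2.toAlgHom.comp f1
  have hΦ : Function.Injective Φ := f2.injective.comp hf1
  have hint : ∀ (m : MaximalSpectrum (L ⊗[K] K₁)) (x : B ⊗[A] A₁),
      Ideal.Quotient.mkₐ B m.asIdeal (Φ x) ∈ integralClosure B ((L ⊗[K] K₁) ⧸ m.asIdeal) := by
    intro m x
    exact ((Algebra.IsIntegral.isIntegral (R := B) x).map Φ).map (Ideal.Quotient.mkₐ B m.asIdeal)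
  let Ψ : B ⊗[A] A₁ →ₗ[B] ∀ m : MaximalSpectrum (L ⊗[K] K₁), integralClosure B ((L ⊗[K] K₁) ⧸ m.asIdeal) :=
    LinearMap.pi (fun m =>
      { toFun := fun x => ⟨_, hint m x⟩
        map_add' := fun x y => Subtype.ext (by simp)
        map_smul' := fun b x => Subtype.ext (by simp) })
  have hΨ : Function.Injective Ψ := by
    intro x y hxy
    apply hΦ
    apply (IsArtinianRing.equivPi (L ⊗[K] K₁)).injective
    ext m
    have := congrFun hxy m
    exact congrArg Subtype.val this
  have hfin : ∀ m : MaximalSpectrum (L ⊗[K] K₁),
      Module.Finite B (integralClosure B ((L ⊗[K] K₁) ⧸ m.asIdeal)) := by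
    intro m
    have := m.isMaximal
    let _ : Field ((L ⊗[K] K₁) ⧸ m.asIdeal) := Ideal.Quotient.field m.asIdeal
    have : FiniteDimensional L ((L ⊗[K] K₁) ⧸ m.asIdeal) := inferInstance
    exact hB ((L ⊗[K] K₁) ⧸ m.asIdeal)
  have : Module.Finite B (B ⊗[A] A₁) := Module.Finite.of_injective Ψ hΨ
  exact Module.Finite.of_finite_tensorProduct_of_faithfullyFlat B

end Groth.Agent.Etalg.N2Descent
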