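import Groth.Agent.Etalg.PtEtHens
import Groth.Prelude.Def_Hens2
import Mathlib.RingTheory.Flat.Equalizer
import Mathlib.RingTheory.Flat.FaithfullyFlat.Algebra

/-!
The henselization of a pair `(A, I)` is `Hens A (A ⧸ I)`; it is flat and formally etale over `A`, and has the
same quotients modulo powers of `I`.
-/

set_option autoImplicit false

universe u

open TensorProduct Polynomial

namespace Groth.Agent.Etalg.PairHens

open Groth.Agent.Etalg.PtEt Groth.Agent.Etalg.PtEtSystem Groth.Agent.Etalg.PtEtHens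

section General

variable {A K : Type u} [CommRing A] [CommRing K] [Algebra A K]

instance flat_Hens : Module.Flat A (Hens A K) := by
  classical
  rw [Module.Flat.iff_forall_isTrivialRelation]
  intro l f x h
  -- common index for the `x j`
  obtain ⟨i, hi⟩ : ∃ i : Idx A K, ∀ j, ∃ y : i.R, ofR i y = x j := by
    obtain ⟨i, hi⟩ := exists_ofR_finset (Finset.univ.image x)
    exact ⟨i, fun j => hi _ (Finset.mem_image_of_mem _ (Finset.mem_univ _))⟩
  choose y hy using hi
  have h0 : Hens.of i (algebraMap i.R i.B (∑ j, f j • y j)) = 0 := by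
    rw [← ofR_apply, map_sum, ← h]
    refine Finset.sum_congr rfl fun j _ => ?_
    rw [map_smul, hy]
  obtain ⟨k, hik, hk⟩ := Hens.of_eq_zero _ h0
  let z : Fin l → k.B := fun j => Idx.tr i k hik (algebraMap i.R i.B (y j))
  have hz : ∑ j, f j • z j = 0 := by
    rw [← hk, map_sum, map_sum]
    refine Finset.sum_congr rfl fun j _ => ?_
    rw [← map_smul]
    congr 1
    exact (map_smul (IsScalarTower.toAlgHom A i.R i.B) (f j) (y j)).symm
  have htriv := (Module.Flat.iff_forall_isTrivialRelation.1 (inferInstance : Module.Flat A k.B)) hz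
  have hzx : x = fun j => Hens.of k (z j) := by
    ext j
    rw [Hens.of_tr, ← ofR_apply, hy]
  rw [hzx]
  obtain ⟨κ, a, w, h1, h2⟩ := htriv
  refine ⟨κ, a, fun j => Hens.of k (w j), fun j => ?_, h2⟩
  change Hens.of k (z j) = _
  rw [h1 j, map_sum]
  exact Finset.sum_congr rfl fun _ _ => map_smul _ _ _

instance formallyEtale_Hens : Algebra.FormallyEtale A (Hens A K) := by
  rw [Algebra.FormallyEtale.iff_comp_bijective]
  intro C _ _ I hI
  constructor
  · intro g₁ g₂ h
    apply Hens.hom_ext
    intro i x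
    have h1 : (g₁.comp (Hens.of i)) = (g₂.comp (Hens.of i)) := by
      apply (Algebra.FormallyEtale.comp_bijective A i.B I hI).1
      refine AlgHom.ext fun b => ?_
      exact congrArg (fun f : Hens A K →ₐ[A] C ⧸ I => f (Hens.of i b)) h
    exact congrArg (fun f : i.B →ₐ[A] C => f x) h1
  · intro t
    have ex : ∀ i : Idx A K, ∃ g : i.B →ₐ[A] C, (Ideal.Quotient.mkₐ A I).comp g = t.comp (Hens.of i) :=
      fun i => (Algebra.FormallyEtale.comp_bijective A i.B I hI).2 _
    choose g hg using ex
    have hc : ∀ i j (h : i ≤ j) (x : i.B), g j (Idx.tr i j h x) = g i x := by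
      intro i j h x
      have : (g j).comp (Idx.tr i j h) = g i := by
        apply (Algebra.FormallyEtale.comp_bijective A i.B I hI).1
        change (Ideal.Quotient.mkₐ A I).comp ((g j).comp (Idx.tr i j h)) =
          (Ideal.Quotient.mkₐ A I).comp (g i)
        rw [hg, ← AlgHom.comp_assoc, hg]
        refine AlgHom.ext fun b => ?_
        change t (Hens.of j (Idx.tr i j h b)) = t (Hens.of i b)
        rw [Hens.of_tr]
      exact congrArg (fun f : i.B →ₐ[A] C => f x) this
    refine ⟨Hens.lift g hc, ?_⟩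
    apply Hens.hom_ext
    intro i x
    exact congrArg (fun f : i.B →ₐ[A] C ⧸ I => f x) (hg i)

end General

section Pair

variable {A : Type u} [CommRing A] {I : Ideal A}

/-- Key: an element of the kernel of a pointed etale algebra over `A/I` is killed, modulo `I`, by an element
mapping to `1`. -/
theorem exists_mul_mem {R : Type u} [CommRing R] [Algebra A R] [Algebra.FormallyUnramified A R]
    [Algebra.EssFiniteType A R] (σ : R →ₐ[A] A ⧸ I) :
    ∃ e : R, σ e = 1 ∧ ∀ x, σ x = 0 → x * e ∈ I.map (algebraMap A R) := by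
  obtain ⟨t, ht₁, ht₂⟩ := (Algebra.FormallyUnramified.iff_exists_tensorProduct (R := A) (S := R)).1
    inferInstance
  let IR : Ideal R := I.map (algebraMap A R)
  have hIR : ∀ a ∈ I, (Algebra.ofId A (R ⧸ IR)) a = 0 := by
    intro a ha
    change Ideal.Quotient.mk IR (algebraMap A R a) = 0
    exact Ideal.Quotient.eq_zero_iff_mem.2 (Ideal.mem_map_of_mem _ ha)
  let j : (A ⧸ I) →ₐ[A] R ⧸ IR := Ideal.Quotient.liftₐ I (Algebra.ofId A _) hIR
  let ρ : R ⊗[A] R →ₐ[A] R ⧸ IR := Algebra.TensorProduct.lift (Ideal.Quotient.mkₐ A IR) (j.comp σ)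
    (fun _ _ => Commute.all _ _)
  have hσ : ∀ x ∈ IR, σ x = 0 := by
    intro x hx
    have : IR ≤ RingHom.ker σ.toRingHom := by
      rw [Ideal.map_le_iff_le_comap]
      intro a ha
      change σ (algebraMap A R a) = 0
      rw [AlgHom.commutes]
      exact Ideal.Quotient.eq_zero_iff_mem.2 ha
    exact this hx
  let σb : R ⧸ IR →ₐ[A] A ⧸ I := Ideal.Quotient.liftₐ IR σ hσ
  have hσj : ∀ y, σb (j y) = y := by
    intro y
    obtain ⟨a, rfl⟩ := Ideal.Quotient.mk_surjective y
    change σb (j (algebraMap A (A ⧸ I) a)) = algebraMap A (A ⧸ I) a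
    rw [AlgHom.commutes, AlgHom.commutes]
  have hσρ : ∀ z, σb (ρ z) = σ (Algebra.TensorProduct.lmul' A z) := by
    intro z
    induction z with
    | zero => simp
    | add x y hx hy => simp only [map_add, hx, hy]
    | tmul x y =>
      change σb ((Algebra.TensorProduct.lift _ _ _) (x ⊗ₜ y)) = _
      rw [Algebra.TensorProduct.lift_tmul, map_mul, Algebra.TensorProduct.lmul'_apply_tmul, map_mul,
        AlgHom.comp_apply, hσj]
      rfl
  obtain ⟨e, he⟩ := Ideal.Quotient.mk_surjective (ρ t)
  refine ⟨e, ?_, fun x hx => ?_⟩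
  · have : σb (Ideal.Quotient.mk IR e) = σ e := rfl
    rw [← this, he, hσρ, ht₂, map_one]
  · have h1 := congrArg ρ (ht₁ x)
    rw [map_mul, map_zero, map_sub] at h1
    have h2 : ρ (1 ⊗ₜ x) = 0 := by
      change (Algebra.TensorProduct.lift _ _ _) (1 ⊗ₜ x) = 0
      rw [Algebra.TensorProduct.lift_tmul, map_one, one_mul, AlgHom.comp_apply, hx, map_zero]
    have h3 : ρ (x ⊗ₜ 1) = Ideal.Quotient.mk IR x := by
      change (Algebra.TensorProduct.lift _ _ _) (x ⊗ₜ 1) = _
      rw [Algebra.TensorProduct.lift_tmul, map_one, mul_one]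
      rfl
    rw [h2, h3, zero_sub, neg_mul, neg_eq_zero, ← he, ← map_mul] at h1
    exact Ideal.Quotient.eq_zero_iff_mem.1 h1

/-- The kernel of the localized pointed algebra is generated by `I`. -/
theorem ker_idx (i : Idx A (A ⧸ I)) : RingHom.ker i.τ = I.map (algebraMap A i.B) := by
  apply le_antisymm
  · intro x hx
    obtain ⟨b, s, rfl⟩ := IsLocalization.exists_mk'_eq (unitSub i.σ) x
    obtain ⟨e, he, hmul⟩ := exists_mul_mem i.σ
    have hb : i.σ b = 0 := by
      rw [← Idx.τ_algebraMap, ← IsLocalization.mk'_spec i.B b s, map_mul, (RingHom.mem_ker).1 hx,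
        zero_mul]
    have h1 := hmul b hb
    have h2 : algebraMap i.R i.B (b * e) ∈ I.map (algebraMap A i.B) := by
      have := Ideal.mem_map_of_mem (algebraMap i.R i.B) h1
      rwa [Ideal.map_map, ← IsScalarTower.algebraMap_eq] at this
    have hu : IsUnit (algebraMap i.R i.B (s * e)) := by
      apply i.isUnit_of_τ
      rw [Idx.τ_algebraMap, map_mul, he, mul_one]
      exact s.2
    have h3 : IsLocalization.mk' i.B b s * algebraMap i.R i.B (s * e) = algebraMap i.R i.B (b * e) := by
      rw [map_mul, ← mul_assoc, IsLocalization.mk'_spec, ← map_mul]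
    exact (Ideal.mul_unit_mem_iff_mem _ hu).1 (h3 ▸ h2)
  · rw [Ideal.map_le_iff_le_comap]
    intro a ha
    rw [Ideal.mem_comap, RingHom.mem_ker, AlgHom.commutes]
    exact Ideal.Quotient.eq_zero_iff_mem.2 ha

theorem ker_Hens : RingHom.ker (Hens.τ A (A ⧸ I)) = I.map (algebraMap A (Hens A (A ⧸ I))) := by
  apply le_antisymm
  · intro x hx
    obtain ⟨i, y, rfl⟩ := Hens.exists_of x
    have h1 : y ∈ RingHom.ker i.τ := hx
    rw [ker_idx] at h1
    have := Ideal.mem_map_of_mem (Hens.of i).toRingHom h1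
    rw [Ideal.map_map, show (Hens.of i).toRingHom.comp (algebraMap A i.B) =
      algebraMap A (Hens A (A ⧸ I)) from (Hens.of i).comp_algebraMap] at this
    exact this
  · rw [Ideal.map_le_iff_le_comap]
    intro a ha
    rw [Ideal.mem_comap, RingHom.mem_ker, AlgHom.commutes]
    exact Ideal.Quotient.eq_zero_iff_mem.2 ha

/-- `Hens A (A/I)` is a henselization of the pair `(A, I)`. -/
theorem isPairHenselization_Hens (A : Type u) [CommRing A] (I : Ideal A) :
    Hens2.IsPairHenselization A I (Hens A (A ⧸ I)) := by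
  refine ⟨by rw [← ker_Hens]; infer_instance, ?_⟩
  intro C _ J f hC hf
  let _ : Algebra A C := f.toAlgebra
  have h0 : ∀ a ∈ I, (Algebra.ofId A (C ⧸ J)) a = 0 := fun a ha =>
    Ideal.Quotient.eq_zero_iff_mem.2 (hf (Ideal.mem_map_of_mem _ ha))
  let τ' : (A ⧸ I) →ₐ[A] C ⧸ J := Ideal.Quotient.liftₐ I (Algebra.ofId A _) h0
  obtain ⟨g, hg⟩ := exists_lift J τ' hC
  refine ⟨g.toRingHom, g.comp_algebraMap, fun g' hg' => ?_⟩
  let G' : Hens A (A ⧸ I) →ₐ[A] C := { g' with commutes' := fun r => congrArg (fun h : A →+* C => h r) hg' }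
  have : G' = g := by
    apply lift_unique (Ideal.Quotient.mkₐ A J) (fun x hx => isUnit_of_mk hC x hx)
    intro x
    -- write `x = a + y` with `y ∈ I Hens`
    obtain ⟨a, ha⟩ := Ideal.Quotient.mk_surjective (Hens.τ A (A ⧸ I) x)
    have hy : x - algebraMap A _ a ∈ I.map (algebraMap A (Hens A (A ⧸ I))) := by
      rw [← ker_Hens, RingHom.mem_ker, map_sub, AlgHom.commutes, sub_eq_zero, ← ha]
      rfl
    have key : ∀ (G : Hens A (A ⧸ I) →ₐ[A] C), Ideal.Quotient.mk J (G x) =
        algebraMap A (C ⧸ J) a := by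
      intro G
      have h1 : G (x - algebraMap A _ a) ∈ J := by
        have h2 := Ideal.mem_map_of_mem G.toRingHom hy
        rw [Ideal.map_map, show G.toRingHom.comp (algebraMap A (Hens A (A ⧸ I))) = f from
          G.comp_algebraMap] at h2
        exact hf h2
      rw [map_sub, AlgHom.commutes] at h1
      have h2 := Ideal.Quotient.eq.2 h1
      rw [h2]; rfl
    change Ideal.Quotient.mk J _ = Ideal.Quotient.mk J _
    rw [key, key]
  rw [← this]

end Pair

end Groth.Agent.Etalg.PairHens
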