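import Groth.Agent.Etalg.PairHens
import Groth.Agent.Etalg.FormalGlue

/-!
Uniqueness of henselizations of pairs, transfer of flatness and quotients, comparison with local henselization.
-/

set_option autoImplicit false

universe u

open TensorProduct Polynomial

namespace Groth.Agent.Etalg.PairHens2

open Groth.Agent.Etalg.PtEt Groth.Agent.Etalg.PtEtSystem Groth.Agent.Etalg.PtEtHens
  Groth.Agent.Etalg.PairHens

variable {A : Type u} [CommRing A] {I : Ideal A}

/-- Two henselizations of a pair are isomorphic. -/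
theorem exists_equiv {B B' : Type u} [CommRing B] [Algebra A B] [CommRing B'] [Algebra A B']
    (h : Hens2.IsPairHenselization A I B) (h' : Hens2.IsPairHenselization A I B') :
    Nonempty (B ≃ₐ[A] B') := by
  obtain ⟨g, hg, -⟩ := h.2 B' _ (algebraMap A B') h'.1 le_rfl
  obtain ⟨g', hg', -⟩ := h'.2 B _ (algebraMap A B) h.1 le_rfl
  have h1 : g'.comp g = RingHom.id B := by
    refine (h.2 B _ (algebraMap A B) h.1 le_rfl).unique ?_ ?_
    · rw [RingHom.comp_assoc]
      rw [hg]; exact hg'
    · exact RingHom.id_comp _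
  have h2 : g.comp g' = RingHom.id B' := by
    refine (h'.2 B' _ (algebraMap A B') h'.1 le_rfl).unique ?_ ?_
    · rw [RingHom.comp_assoc]
      rw [hg']; exact hg
    · exact RingHom.id_comp _
  let G : B →ₐ[A] B' := { g with commutes' := fun r => congrArg (fun f : A →+* B' => f r) hg }
  let G' : B' →ₐ[A] B := { g' with commutes' := fun r => congrArg (fun f : A →+* B => f r) hg' }
  refine ⟨AlgEquiv.ofAlgHom G G' ?_ ?_⟩
  · refine AlgHom.ext fun x => ?_
    exact congrArg (fun f : B' →+* B' => f x) h2
  · refine AlgHom.ext fun x => ?_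
    exact congrArg (fun f : B →+* B => f x) h1

theorem henselianRing_of_equiv {R S : Type u} [CommRing R] [CommRing S] (e : R ≃+* S) {J : Ideal R}
    (h : HenselianRing R J) : HenselianRing S (J.map e.toRingHom) := by
  have hmem : ∀ x : S, x ∈ J.map e.toRingHom ↔ e.symm x ∈ J := by
    intro x
    rw [show J.map e.toRingHom = J.comap e.symm.toRingHom from Ideal.map_comap_of_equiv e]
    rfl
  constructor
  · intro x hx
    rw [Ideal.mem_jacobson_bot]
    intro y
    have h1 := h.jac ((hmem x).1 hx)
    rw [Ideal.mem_jacobson_bot] at h1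
    have h2 := (h1 (e.symm y)).map e
    simpa using h2
  · intro f hf a₀ h0 h1
    obtain ⟨a, ha, ha'⟩ := h.is_henselian (f.map e.symm.toRingHom) (hf.map _) (e.symm a₀) (by
      have : eval (e.symm a₀) (map e.symm.toRingHom f) = e.symm (eval a₀ f) :=
        eval_map_apply e.symm.toRingHom a₀
      rw [this]; exact (hmem _).1 h0) (by
      rw [derivative_map]
      have : eval (e.symm a₀) (map e.symm.toRingHom (derivative f)) =
        e.symm (eval a₀ (derivative f)) := eval_map_apply e.symm.toRingHom a₀
      rw [this]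
      let q : S ⧸ J.map e.toRingHom →+* R ⧸ J := Ideal.Quotient.lift _
        ((Ideal.Quotient.mk J).comp e.symm.toRingHom) (fun x hx => by
          exact Ideal.Quotient.eq_zero_iff_mem.2 ((hmem x).1 hx))
      exact h1.map q)
    refine ⟨e a, ?_, ?_⟩
    · rw [IsRoot.def] at ha ⊢
      have h2 := congrArg e ha
      rw [map_zero] at h2
      have h3 : eval (e a) (map e.toRingHom (map e.symm.toRingHom f)) =
        e (eval a (map e.symm.toRingHom f)) := eval_map_apply e.toRingHom a
      rw [Polynomial.map_map] at h3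
      have h4 : e.toRingHom.comp e.symm.toRingHom = RingHom.id S := by
        ext x; simp
      rw [h4, Polynomial.map_id] at h3
      rw [h3]; exact h2
    · rw [hmem, map_sub, RingEquiv.symm_apply_apply]; exact ha'

/-- Henselizations of pairs are stable under isomorphism. -/
theorem of_equiv {B B' : Type u} [CommRing B] [Algebra A B] [CommRing B'] [Algebra A B']
    (h : Hens2.IsPairHenselization A I B) (e : B ≃ₐ[A] B') : Hens2.IsPairHenselization A I B' := by
  refine ⟨?_, ?_⟩
  · have h1 := henselianRing_of_equiv e.toRingEquiv h.1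
    rw [Ideal.map_map] at h1
    rwa [show (e.toRingEquiv : B ≃+* B').toRingHom.comp (algebraMap A B) = algebraMap A B' from
      e.toAlgHom.comp_algebraMap] at h1
  · intro C _ J f hC hf
    obtain ⟨g, hg, hu⟩ := h.2 C J f hC hf
    refine ⟨g.comp e.symm.toRingEquiv.toRingHom, ?_, ?_⟩
    · change (g.comp _).comp (algebraMap A B') = f
      rw [RingHom.comp_assoc, show (e.symm.toRingEquiv : B' ≃+* B).toRingHom.comp (algebraMap A B') =
        algebraMap A B from e.symm.toAlgHom.comp_algebraMap]
      exact hg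
    · intro g' hg'
      have := hu (g'.comp e.toRingEquiv.toRingHom) (by
        change (g'.comp _).comp (algebraMap A B) = f
        rw [RingHom.comp_assoc, show (e.toRingEquiv : B ≃+* B').toRingHom.comp (algebraMap A B) =
          algebraMap A B' from e.toAlgHom.comp_algebraMap]
        exact hg')
      rw [← this]
      ext x
      simp

variable (B : Type u) [CommRing B] [Algebra A B]

/-- A henselization of a pair is flat. -/
theorem flat (h : Hens2.IsPairHenselization A I B) : Module.Flat A B := by
  obtain ⟨e⟩ := exists_equiv h (isPairHenselization_Hens A I)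
  exact Module.Flat.of_linearEquiv e.toLinearEquiv

/-- A henselization of a pair is formally etale. -/
theorem formallyEtale (h : Hens2.IsPairHenselization A I B) : Algebra.FormallyEtale A B := by
  obtain ⟨e⟩ := exists_equiv h (isPairHenselization_Hens A I)
  exact Algebra.FormallyEtale.of_equiv e.symm

theorem quot_bijective_Hens : Function.Bijective
    (Ideal.quotientMap (I.map (algebraMap A (Hens A (A ⧸ I)))) (algebraMap A (Hens A (A ⧸ I)))
      Ideal.le_comap_map) := by
  constructor
  · rw [injective_iff_map_eq_zero]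
    intro x hx
    obtain ⟨a, rfl⟩ := Ideal.Quotient.mk_surjective x
    rw [Ideal.quotientMap_mk, Ideal.Quotient.eq_zero_iff_mem, ← ker_Hens, RingHom.mem_ker,
      AlgHom.commutes] at hx
    exact hx
  · intro y
    obtain ⟨x, rfl⟩ := Ideal.Quotient.mk_surjective y
    obtain ⟨a, ha⟩ := Ideal.Quotient.mk_surjective (Hens.τ A (A ⧸ I) x)
    refine ⟨Ideal.Quotient.mk I a, ?_⟩
    rw [Ideal.quotientMap_mk, Ideal.Quotient.eq, ← ker_Hens, RingHom.mem_ker, map_sub,
      AlgHom.commutes, sub_eq_zero, ← ha]
    rfl

/-- `A/I → B/IB` is bijective. -/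
theorem quot_bijective (h : Hens2.IsPairHenselization A I B) : Function.Bijective
    (Ideal.quotientMap (I.map (algebraMap A B)) (algebraMap A B) Ideal.le_comap_map) := by
  obtain ⟨e⟩ := exists_equiv h (isPairHenselization_Hens A I)
  have hmap : (I.map (algebraMap A B)).map e.toRingEquiv.toRingHom =
      I.map (algebraMap A (Hens A (A ⧸ I))) := by
    rw [Ideal.map_map]
    congr 1
    exact e.toAlgHom.comp_algebraMap
  have hmem : ∀ x : B, x ∈ I.map (algebraMap A B) ↔ e x ∈ I.map (algebraMap A (Hens A (A ⧸ I))) := by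
    intro x
    rw [← hmap, show (I.map (algebraMap A B)).map e.toRingEquiv.toRingHom =
      (I.map (algebraMap A B)).comap e.symm.toRingEquiv.toRingHom from
      Ideal.map_comap_of_equiv e.toRingEquiv, Ideal.mem_comap]
    change _ ↔ e.symm (e x) ∈ _
    rw [AlgEquiv.symm_apply_apply]
  obtain ⟨h1, h2⟩ := quot_bijective_Hens (A := A) (I := I)
  constructor
  · rw [injective_iff_map_eq_zero] at h1 ⊢
    intro x hx
    apply h1
    obtain ⟨a, rfl⟩ := Ideal.Quotient.mk_surjective x
    rw [Ideal.quotientMap_mk, Ideal.Quotient.eq_zero_iff_mem] at hx ⊢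
    rw [hmem, AlgEquiv.commutes] at hx
    exact hx
  · intro y
    obtain ⟨x, rfl⟩ := Ideal.Quotient.mk_surjective y
    obtain ⟨z, hz⟩ := h2 (Ideal.Quotient.mk _ (e x))
    obtain ⟨a, rfl⟩ := Ideal.Quotient.mk_surjective z
    refine ⟨Ideal.Quotient.mk I a, ?_⟩
    rw [Ideal.quotientMap_mk, Ideal.Quotient.eq] at hz ⊢
    rw [hmem, map_sub, AlgEquiv.commutes]
    exact hz

end Groth.Agent.Etalg.PairHens2

namespace Groth.Agent.Etalg.PairHens2

open Groth.Agent.Etalg.FormalGlue

/-- Flat + iso mod `I` implies iso mod `I ^ n`. -/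
theorem quot_pow_bijective {A B : Type u} [CommRing A] [CommRing B] [Algebra A B] {I : Ideal A}
    [Module.Flat A B]
    (h : Function.Bijective
      (Ideal.quotientMap (I.map (algebraMap A B)) (algebraMap A B) Ideal.le_comap_map)) (n : ℕ) :
    Function.Bijective
      (Ideal.quotientMap ((I ^ n).map (algebraMap A B)) (algebraMap A B) Ideal.le_comap_map) := by
  have hM : ∀ m : A ⧸ I ^ n, ∃ n : ℕ, ∀ a ∈ I ^ n, a • m = 0 := by
    intro m
    refine ⟨n, fun a ha => ?_⟩
    obtain ⟨x, rfl⟩ := Ideal.Quotient.mk_surjective m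
    change Ideal.Quotient.mk (I ^ n) (a • x) = 0
    rw [Ideal.Quotient.eq_zero_iff_mem]
    exact Ideal.mul_mem_right _ _ ha
  constructor
  · rw [injective_iff_map_eq_zero]
    intro x hx
    obtain ⟨a, rfl⟩ := Ideal.Quotient.mk_surjective x
    rw [Ideal.quotientMap_mk, Ideal.Quotient.eq_zero_iff_mem] at hx
    refine eq_zero_of_torsion (S := B) h (Ideal.Quotient.mk (I ^ n) a) n (fun b hb => ?_) ?_
    · change Ideal.Quotient.mk (I ^ n) (b • a) = 0
      rw [Ideal.Quotient.eq_zero_iff_mem]
      exact Ideal.mul_mem_right _ _ hb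
    · have h1 : (1 : B) ⊗ₜ[A] (Ideal.Quotient.mk (I ^ n) a) = algebraMap A B a ⊗ₜ[A] 1 := by
        rw [Algebra.algebraMap_eq_smul_one, smul_tmul, ← Algebra.algebraMap_eq_smul_one]
        rfl
      rw [h1]
      have h2 : (Algebra.TensorProduct.quotIdealMapEquivTensorQuot B (I ^ n))
        (Ideal.Quotient.mk _ (algebraMap A B a)) = 0 := by
        rw [Ideal.Quotient.eq_zero_iff_mem.2 hx, map_zero]
      exact h2
  · intro y
    obtain ⟨x, rfl⟩ := Ideal.Quotient.mk_surjective y
    obtain ⟨r, hr⟩ := exists_sub_mem_pow (exists_sub_mem_of_surjective h.2) n x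
    refine ⟨Ideal.Quotient.mk _ r, ?_⟩
    rw [Ideal.quotientMap_mk, eq_comm, Ideal.Quotient.eq]
    exact hr

end Groth.Agent.Etalg.PairHens2
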