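import Groth.Agent.Etalg.PairHens2

/-!
Henselization of the pair `(A, m)` for a local ring `A` is the henselization of the local ring `A`.
-/

set_option autoImplicit false

universe u

open TensorProduct Polynomial

namespace Groth.Agent.Etalg.PairHensLocal

open Groth.Agent.Etalg.PtEt Groth.Agent.Etalg.PtEtSystem Groth.Agent.Etalg.PtEtHens
  Groth.Agent.Etalg.PairHens Groth.Agent.Etalg.PairHens2 IsLocalRing

/-- If `(B, J)` is a henselian pair with `J` maximal then `B` is a henselian local ring with maximal ideal `J`. -/
theorem isLocalRing_of_pair {B : Type u} [CommRing B] {J : Ideal B} (h : HenselianRing B J)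
    (hJ : J.IsMaximal) : IsLocalRing B := by
  refine IsLocalRing.of_unique_max_ideal ⟨J, hJ, fun M hM => ?_⟩
  have : J ≤ M := h.jac.trans (sInf_le ⟨bot_le, hM⟩)
  exact (hJ.eq_of_le hM.ne_top this).symm

theorem henselianLocalRing_of_pair {B : Type u} [CommRing B] [IsLocalRing B]
    (h : HenselianRing B (maximalIdeal B)) : HenselianLocalRing B where
  is_henselian f hf a₀ h0 h1 := h.is_henselian f hf a₀ h0 (h1.map _)

variable {A : Type u} [CommRing A] [IsLocalRing A]

theorem isMaximal_ker {B : Type u} [CommRing B] [Algebra A B]
    (h : Hens2.IsPairHenselization A (maximalIdeal A) B) :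
    ((maximalIdeal A).map (algebraMap A B)).IsMaximal := by
  have hb := quot_bijective B h
  apply Ideal.Quotient.maximal_of_isField
  have e := RingEquiv.ofBijective _ hb
  exact MulEquiv.isField ((Ideal.Quotient.maximal_ideal_iff_isField_quotient _).1
    (inferInstance : (maximalIdeal A).IsMaximal)) e.symm.toMulEquiv

theorem map_maximalIdeal {B : Type u} [CommRing B] [IsLocalRing B] [Algebra A B]
    (h : Hens2.IsPairHenselization A (maximalIdeal A) B) :
    (maximalIdeal A).map (algebraMap A B) = maximalIdeal B :=
  IsLocalRing.eq_maximalIdeal (isMaximal_ker h)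

theorem isHenselization_of_pair {B : Type u} [CommRing B] [IsLocalRing B] [Algebra A B]
    [IsLocalHom (algebraMap A B)]
    (h : Hens2.IsPairHenselization A (maximalIdeal A) B) : Hensel.IsHenselization A B where
  henselian := by
    apply henselianLocalRing_of_pair
    rw [← map_maximalIdeal h]
    exact h.1
  universal T _ _ f hf := by
    refine h.2 T (maximalIdeal T) f inferInstance ?_
    rw [Ideal.map_le_iff_le_comap]
    exact ((local_hom_TFAE f).out 0 3).1 hf

theorem pair_of_isHenselization {B : Type u} [CommRing B] [IsLocalRing B] [Algebra A B]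
    [IsLocalHom (algebraMap A B)] (h : Hensel.IsHenselization A B) :
    Hens2.IsPairHenselization A (maximalIdeal A) B := by
  let H := Hens A (A ⧸ maximalIdeal A)
  have hH : Hens2.IsPairHenselization A (maximalIdeal A) H := isPairHenselization_Hens A _
  have : IsLocalRing H := isLocalRing_of_pair hH.1 (isMaximal_ker hH)
  have hloc : IsLocalHom (algebraMap A H) := by
    refine ((local_hom_TFAE (algebraMap A H)).out 0 2).2 ?_
    exact (map_maximalIdeal hH).le
  have hH' : Hensel.IsHenselization A H := isHenselization_of_pair hH
  have i1 := h.henselian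
  have i2 := hH'.henselian
  obtain ⟨g, hg, -⟩ := h.universal H (algebraMap A H) hloc
  obtain ⟨g', hg', -⟩ := hH'.universal B (algebraMap A B) inferInstance
  have h1 : g'.comp g = RingHom.id B := by
    refine (h.universal B (algebraMap A B) inferInstance).unique ?_ ?_
    · rw [RingHom.comp_assoc, hg]; exact hg'
    · exact RingHom.id_comp _
  have h2 : g.comp g' = RingHom.id H := by
    refine (hH'.universal H (algebraMap A H) hloc).unique ?_ ?_
    · rw [RingHom.comp_assoc, hg']; exact hg
    · exact RingHom.id_comp _
  let G : B →ₐ[A] H := { g with commutes' := fun r => congrArg (fun f : A →+* H => f r) hg }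
  let G' : H →ₐ[A] B := { g' with commutes' := fun r => congrArg (fun f : A →+* B => f r) hg' }
  have e : H ≃ₐ[A] B := by
    refine AlgEquiv.ofAlgHom G' G ?_ ?_
    · refine AlgHom.ext fun x => ?_
      exact congrArg (fun f : B →+* B => f x) h1
    · refine AlgHom.ext fun x => ?_
      exact congrArg (fun f : H →+* H => f x) h2
  exact of_equiv hH e

end Groth.Agent.Etalg.PairHensLocal
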