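import Groth.Agent.Etalg.PairHens2
import Groth.Agent.Hensel.ColimNoeth
import Mathlib.RingTheory.AdicCompletion.Noetherian
import Mathlib.RingTheory.AdicCompletion.Functoriality
import Mathlib.RingTheory.AdicCompletion.Algebra
import Mathlib.RingTheory.Filtration

/-!
The henselization of a Noetherian pair is Noetherian and has the same completion.
-/

set_option autoImplicit false

universe u

open TensorProduct Polynomial

namespace Groth.Agent.Etalg.PairHensNoeth

open Groth.Agent.Etalg.PtEt Groth.Agent.Etalg.PtEtSystem Groth.Agent.Etalg.PtEtHens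
  Groth.Agent.Etalg.PairHens Groth.Agent.Etalg.PairHens2 Groth.Agent.Hensel.ColimNoeth

theorem mem_of_forall_mem_sup_pow {A : Type u} [CommRing A] [IsNoetherianRing A] (I : Ideal A)
    (hI : I ≤ Ideal.jacobson ⊥)
    (J : Ideal A) (x : A) (hx : ∀ n : ℕ, x ∈ J ⊔ I ^ n) : x ∈ J := by
  have hH : IsHausdorff I (A ⧸ J) := IsHausdorff.of_le_jacobson I _ hI
  rw [← Ideal.Quotient.eq_zero_iff_mem]
  refine hH.haus' _ fun n => ?_
  rw [SModEq.zero]
  obtain ⟨y, hy, z, hz, hyz⟩ := Submodule.mem_sup.mp (hx n)
  have : Ideal.Quotient.mk J x = z • (1 : A ⧸ J) := by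
    rw [← hyz, map_add, Ideal.Quotient.eq_zero_iff_mem.mpr hy, zero_add, Algebra.smul_def, mul_one]
    rfl
  rw [this]
  exact Submodule.smul_mem_smul hz Submodule.mem_top

/-- A ring `S` with a f.g. ideal `J` with `S/J` Noetherian, such that every finite set lies in the image of a
faithfully flat map from a Noetherian Zariski pair `(A, I)` with `IS = J`, is Noetherian. -/
theorem isNoetherianRing_of_exists_flat {S : Type u} [CommRing S] (J : Ideal S) (hJ : J.FG)
    (hN : IsNoetherianRing (S ⧸ J))
    (h : ∀ s : Finset S, ∃ (A : Type u) (_ : CommRing A) (_ : Algebra A S) (I : Ideal A),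
      IsNoetherianRing A ∧ Module.FaithfullyFlat A S ∧ I ≤ Ideal.jacobson ⊥ ∧
        I.map (algebraMap A S) = J ∧ (↑s : Set S) ⊆ Set.range (algebraMap A S)) :
    IsNoetherianRing S := by
  classical
  have hclosed : ∀ (J' : Ideal S), J'.FG → ∀ x : S, (∀ n : ℕ, x ∈ J' ⊔ J ^ n) → x ∈ J' := by
    rintro J' ⟨t, rfl⟩ x hx
    obtain ⟨A, _, _, I, hA, hflat, hjac, hmax, hr⟩ := h (insert x t)
    have hr' : ∀ y ∈ insert x t, ∃ a : A, algebraMap A S a = y :=
      fun y hy => hr (Finset.mem_coe.mpr hy)
    choose! g hg using hr'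
    have ht : (Ideal.span ((t.image g : Finset A) : Set A)).map (algebraMap A S) =
        Ideal.span (t : Set S) := by
      rw [Ideal.map_span, Finset.coe_image, ← Set.image_comp]
      congr 1
      ext y
      constructor
      · rintro ⟨z, hz, rfl⟩
        change algebraMap A S (g z) ∈ _
        rw [hg z (Finset.mem_insert_of_mem hz)]; exact hz
      · intro hy
        exact ⟨y, hy, hg y (Finset.mem_insert_of_mem hy)⟩
    have hx' : g x ∈ Ideal.span ((t.image g : Finset A) : Set A) := by
      refine mem_of_forall_mem_sup_pow I hjac _ _ fun n => ?_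
      have h1 : (Ideal.span ((t.image g : Finset A) : Set A) ⊔ I ^ n) =
          ((Ideal.span ((t.image g : Finset A) : Set A) ⊔ I ^ n).map (algebraMap A S)).comap
            (algebraMap A S) := (Ideal.comap_map_eq_self_of_faithfullyFlat _).symm
      rw [h1, Ideal.mem_comap, Ideal.map_sup, Ideal.map_pow, ht, hmax,
        hg x (Finset.mem_insert_self _ _)]
      exact hx n
    have := Ideal.mem_map_of_mem (algebraMap A S) hx'
    rwa [ht, hg x (Finset.mem_insert_self _ _)] at this
  rw [isNoetherianRing_iff_ideal_fg]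
  intro I
  obtain ⟨I₀, hfg, hle, hd⟩ := exists_fg_dense J hJ hN I
  have : I = I₀ := le_antisymm (fun x hx => hclosed I₀ hfg x fun n => hd n hx) hle
  rw [this]; exact hfg

variable {A : Type u} [CommRing A] {I : Ideal A}

theorem jac_idx (i : Idx A (A ⧸ I)) : I.map (algebraMap A i.B) ≤ Ideal.jacobson ⊥ := by
  rw [← ker_idx]
  intro x hx
  rw [Ideal.mem_jacobson_bot]
  intro y
  apply i.isUnit_of_τ
  rw [map_add, map_mul, map_one, (RingHom.mem_ker).1 hx, zero_mul, zero_add]
  exact isUnit_one

instance [IsNoetherianRing A] (i : Idx A (A ⧸ I)) : IsNoetherianRing i.B :=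
  have : IsNoetherianRing i.R := inferInstance
  IsLocalization.isNoetherianRing (unitSub i.σ) i.B this

theorem faithfullyFlat_of (i : Idx A (A ⧸ I)) :
    letI := (Hens.of i).toRingHom.toAlgebra
    Module.FaithfullyFlat i.B (Hens A (A ⧸ I)) := by
  let _ := (Hens.of i).toRingHom.toAlgebra
  have hst : IsScalarTower A i.B (Hens A (A ⧸ I)) :=
    IsScalarTower.of_algebraMap_eq fun r => ((Hens.of i).commutes r).symm
  have hfl : Module.Flat i.B (Hens A (A ⧸ I)) :=
    Algebra.FormallyUnramified.flat_of_restrictScalars (R := A) (S := i.B) (Hens A (A ⧸ I))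
  refine { submodule_ne_top := ?_ }
  intro m hm h
  have h1 : I.map (algebraMap A i.B) ≤ m := (jac_idx i).trans (sInf_le ⟨bot_le, hm⟩)
  have h2 : m.map (algebraMap i.B (Hens A (A ⧸ I))) = ⊤ := by
    rw [Ideal.smul_top_eq_map] at h
    rw [eq_top_iff]
    intro x _
    have : x ∈ (⊤ : Submodule i.B (Hens A (A ⧸ I))) := trivial
    rw [← h] at this
    exact this
  -- apply `τ`
  have h3 : (m.map (algebraMap i.B (Hens A (A ⧸ I)))).map (Hens.τ A (A ⧸ I)).toRingHom = ⊤ := by
    rw [h2, Ideal.map_top]
  rw [Ideal.map_map] at h3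
  have h4 : (Hens.τ A (A ⧸ I)).toRingHom.comp (algebraMap i.B (Hens A (A ⧸ I))) = i.τ.toRingHom := rfl
  rw [h4] at h3
  have hs : Function.Surjective i.τ.toRingHom := by
    intro y
    obtain ⟨a, rfl⟩ := Ideal.Quotient.mk_surjective y
    exact ⟨algebraMap A i.B a, i.τ.commutes a⟩
  have h5 : (1 : A ⧸ I) ∈ m.map i.τ.toRingHom := by rw [h3]; trivial
  obtain ⟨x, hx, hx1⟩ := (Ideal.mem_map_iff_of_surjective _ hs).1 h5
  have h6 : x - 1 ∈ m := h1 (by
    rw [← ker_idx, RingHom.mem_ker, map_sub, map_one, sub_eq_zero]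
    exact hx1)
  apply hm.ne_top
  rw [Ideal.eq_top_iff_one]
  have := m.sub_mem hx h6
  simpa using this

theorem isNoetherianRing_Hens [IsNoetherianRing A] : IsNoetherianRing (Hens A (A ⧸ I)) := by
  apply isNoetherianRing_of_exists_flat (I.map (algebraMap A (Hens A (A ⧸ I))))
    (Ideal.FG.map (IsNoetherian.noetherian I) _)
  · have e := RingEquiv.ofBijective _ (quot_bijective_Hens (A := A) (I := I))
    exact isNoetherianRing_of_ringEquiv _ e
  · intro s
    obtain ⟨i, hi⟩ := exists_ofR_finset s
    refine ⟨i.B, inferInstance, (Hens.of i).toRingHom.toAlgebra, I.map (algebraMap A i.B),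
      inferInstance, faithfullyFlat_of i, jac_idx i, ?_, ?_⟩
    · rw [Ideal.map_map]
      congr 1
      exact (Hens.of i).comp_algebraMap
    · intro x hx
      obtain ⟨y, hy⟩ := hi x hx
      exact ⟨algebraMap i.R i.B y, hy⟩

/-- Bijectivity of the map on completions. -/
theorem map_bijective {B : Type u} [CommRing B] [Algebra A B]
    (hq : ∀ n : ℕ, Function.Bijective
      (Ideal.quotientMap ((I ^ n).map (algebraMap A B)) (algebraMap A B) Ideal.le_comap_map)) :
    Function.Bijective (AdicCompletion.map I (Algebra.linearMap A B) :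
        AdicCompletion I A → AdicCompletion I B) := by
  have key : ∀ n, Function.Bijective (LinearMap.reduceModIdeal (I ^ n) (Algebra.linearMap A B)) := by
    intro n
    have hmemA : ∀ a : A, a ∈ (I ^ n • ⊤ : Submodule A A) ↔ a ∈ I ^ n := by
      intro a; rw [smul_eq_mul, Ideal.mul_top]
    have hmemB : ∀ b : B, b ∈ (I ^ n • ⊤ : Submodule A B) ↔ b ∈ (I ^ n).map (algebraMap A B) := by
      intro b; rw [Ideal.smul_top_eq_map]; rfl
    constructor
    · rw [injective_iff_map_eq_zero]
      intro x hx
      obtain ⟨a, rfl⟩ := Submodule.Quotient.mk_surjective _ x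
      rw [LinearMap.reduceModIdeal_apply, Submodule.Quotient.mk_eq_zero, hmemB] at hx
      rw [Submodule.Quotient.mk_eq_zero, hmemA]
      have h1 := (hq n).1
      rw [injective_iff_map_eq_zero] at h1
      rw [← Ideal.Quotient.eq_zero_iff_mem]
      apply h1
      rw [Ideal.quotientMap_mk, Ideal.Quotient.eq_zero_iff_mem]
      exact hx
    · intro y
      obtain ⟨b, rfl⟩ := Submodule.Quotient.mk_surjective _ y
      obtain ⟨x, hx⟩ := (hq n).2 (Ideal.Quotient.mk _ b)
      obtain ⟨a, rfl⟩ := Ideal.Quotient.mk_surjective x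
      refine ⟨Submodule.Quotient.mk a, ?_⟩
      rw [LinearMap.reduceModIdeal_apply, Submodule.Quotient.eq, hmemB]
      rw [Ideal.quotientMap_mk, Ideal.Quotient.eq] at hx
      exact hx
  constructor
  · intro x y hxy
    ext n
    apply (key n).1
    have := congrArg (fun z : AdicCompletion I B => z.val n) hxy
    simpa using this
  · intro y
    choose x hx using fun n => (key n).2 (y.val n)
    refine ⟨⟨x, ?_⟩, ?_⟩
    · intro m n hmn
      apply (key m).1
      have h1 := congrArg (fun g => g (x n))
        (AdicCompletion.transitionMap_comp_reduceModIdeal I (Algebra.linearMap A B) hmn)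
      simp only [LinearMap.comp_apply] at h1
      have h2 : LinearMap.reduceModIdeal (I ^ m) (Algebra.linearMap A B)
          (AdicCompletion.transitionMap I A hmn (x n)) =
          AdicCompletion.transitionMap I B hmn
            (LinearMap.reduceModIdeal (I ^ n) (Algebra.linearMap A B) (x n)) := h1.symm
      rw [h2, hx, hx]
      exact y.property hmn
    · ext n
      exact hx n

end Groth.Agent.Etalg.PairHensNoeth
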