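import Mathlib.RingTheory.Etale.Basic
import Mathlib.RingTheory.Unramified.Finite
import Mathlib.RingTheory.Henselian
import Mathlib.Algebra.Colimit.DirectLimit
import Mathlib.RingTheory.Smooth.Flat

/-!
Pointed etale algebras: etale `A`-algebras `B` with an `A`-algebra map to a fixed `A`-algebra `K`.
Uniqueness of maps between their localizations, and the thin directed system they form.
-/

set_option autoImplicit false

universe u

open TensorProduct Polynomial

namespace Groth.Agent.Etalg.PtEt

section Uniqueness

/-- Two algebra maps out of an essentially finite type formally unramified algebra which agree after a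
unit-reflecting map are equal. -/
theorem hom_unique {A B C D : Type*} [CommRing A] [CommRing B] [CommRing C] [CommRing D]
    [Algebra A B] [Algebra A C] [Algebra A D]
    [Algebra.FormallyUnramified A B] [Algebra.EssFiniteType A B]
    (q : C →ₐ[A] D) (hq : ∀ x, IsUnit (q x) → IsUnit x)
    (g₁ g₂ : B →ₐ[A] C) (h : ∀ b, q (g₁ b) = q (g₂ b)) : g₁ = g₂ := by
  obtain ⟨t, ht₁, ht₂⟩ := (Algebra.FormallyUnramified.iff_exists_tensorProduct (R := A) (S := B)).1
    inferInstance
  let G : B ⊗[A] B →ₐ[A] C := Algebra.TensorProduct.lift g₁ g₂ (fun _ _ => Commute.all _ _)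
  have hG : ∀ x : B ⊗[A] B, q (G x) = q (g₁ (Algebra.TensorProduct.lmul' A x)) := by
    intro x
    induction x with
    | zero => simp
    | add x y hx hy => simp only [map_add, hx, hy]
    | tmul x y =>
      simp only [G, Algebra.TensorProduct.lift_tmul, map_mul, Algebra.TensorProduct.lmul'_apply_tmul,
        h y]
  have hu : IsUnit (G t) := by
    apply hq
    rw [hG, ht₂, map_one, map_one]
    exact isUnit_one
  ext s
  have h1 := congrArg G (ht₁ s)
  rw [map_mul, map_zero, map_sub] at h1
  simp only [G, Algebra.TensorProduct.lift_tmul, map_one, one_mul, mul_one] at h1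
  have h2 := (hu.mul_left_eq_zero).1 h1
  exact (sub_eq_zero.1 h2).symm

end Uniqueness

section Loc

variable {A K : Type u} [CommRing A] [CommRing K] [Algebra A K]

/-- The submonoid of elements which become units in `K`. -/
def unitSub {B : Type u} [CommRing B] [Algebra A B] (σ : B →ₐ[A] K) : Submonoid B :=
  (IsUnit.submonoid K).comap σ

theorem mem_unitSub {B : Type u} [CommRing B] [Algebra A B] (σ : B →ₐ[A] K) (b : B) :
    b ∈ unitSub σ ↔ IsUnit (σ b) := Iff.rfl

/-- Localization of a pointed algebra at the elements which become units in `K`. -/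
abbrev Loc {B : Type u} [CommRing B] [Algebra A B] (σ : B →ₐ[A] K) : Type u :=
  Localization (unitSub σ)

/-- The induced map of the localization to `K`. -/
noncomputable def locMap {B : Type u} [CommRing B] [Algebra A B] (σ : B →ₐ[A] K) : Loc σ →ₐ[A] K :=
  IsLocalization.liftAlgHom (M := unitSub σ) (f := σ) (fun y => y.2)

@[simp]
theorem locMap_algebraMap {B : Type u} [CommRing B] [Algebra A B] (σ : B →ₐ[A] K) (b : B) :
    locMap σ (algebraMap B (Loc σ) b) = σ b := by
  rw [locMap, IsLocalization.liftAlgHom_apply, IsLocalization.lift_eq]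
  rfl

theorem locMap_isUnit {B : Type u} [CommRing B] [Algebra A B] (σ : B →ₐ[A] K) (x : Loc σ)
    (hx : IsUnit (locMap σ x)) : IsUnit x := by
  obtain ⟨b, s, rfl⟩ := IsLocalization.exists_mk'_eq (unitSub σ) x
  have h1 : locMap σ (IsLocalization.mk' (Loc σ) b s) * σ s = σ b := by
    rw [← locMap_algebraMap σ (s : B), ← map_mul, IsLocalization.mk'_spec, locMap_algebraMap]
  have hb : b ∈ unitSub σ := by
    rw [mem_unitSub, ← h1]
    exact hx.mul s.2
  have h2 : IsUnit (algebraMap B (Loc σ) b) := IsLocalization.map_units (Loc σ) (⟨b, hb⟩ : unitSub σ)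
  have h3 : IsUnit (algebraMap B (Loc σ) (s : B)) := IsLocalization.map_units (Loc σ) s
  have h4 : IsLocalization.mk' (Loc σ) b s * algebraMap B (Loc σ) s = algebraMap B (Loc σ) b :=
    IsLocalization.mk'_spec _ _ _
  exact isUnit_of_mul_isUnit_left (h4 ▸ h2)

/-- `C` maps `K`-compatibly: a map out of a pointed algebra into an algebra in which elements that
become units in `K` are units extends to the localization. -/
noncomputable def locLift {B C : Type u} [CommRing B] [Algebra A B] [CommRing C] [Algebra A C]
    (σ : B →ₐ[A] K) (g : B →ₐ[A] C) (hg : ∀ b, IsUnit (σ b) → IsUnit (g b)) : Loc σ →ₐ[A] C :=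
  IsLocalization.liftAlgHom (M := unitSub σ) (f := g) (fun y => hg _ y.2)

@[simp]
theorem locLift_algebraMap {B C : Type u} [CommRing B] [Algebra A B] [CommRing C] [Algebra A C]
    (σ : B →ₐ[A] K) (g : B →ₐ[A] C) (hg : ∀ b, IsUnit (σ b) → IsUnit (g b)) (b : B) :
    locLift σ g hg (algebraMap B (Loc σ) b) = g b := by
  rw [locLift, IsLocalization.liftAlgHom_apply, IsLocalization.lift_eq]
  rfl

theorem loc_ext {B C : Type u} [CommRing B] [Algebra A B] [CommRing C] [Algebra A C]
    (σ : B →ₐ[A] K) {g₁ g₂ : Loc σ →ₐ[A] C}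
    (h : ∀ b, g₁ (algebraMap B (Loc σ) b) = g₂ (algebraMap B (Loc σ) b)) : g₁ = g₂ := by
  apply AlgHom.coe_ringHom_injective
  apply IsLocalization.ringHom_ext (unitSub σ)
  ext b
  exact h b

end Loc

end Groth.Agent.Etalg.PtEt
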