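import Groth.Agent.Etalg.PtEtSystem
import Mathlib.RingTheory.Etale.StandardEtale
import Mathlib.Algebra.Polynomial.Lifts
import Mathlib.RingTheory.Flat.EquationalCriterion

/-!
`Hens A K` is henselian along the kernel of `Hens A K → K`, universal, flat and formally etale.
-/

set_option autoImplicit false

universe u

open TensorProduct Polynomial

namespace Groth.Agent.Etalg.PtEtHens

open Groth.Agent.Etalg.PtEt Groth.Agent.Etalg.PtEtSystem

variable {A K : Type u} [CommRing A] [CommRing K] [Algebra A K]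

/-- The map from the etale algebra of an index. -/
noncomputable def ofR (i : Idx A K) : i.R →ₐ[A] Hens A K :=
  (Hens.of i).comp (IsScalarTower.toAlgHom A i.R i.B)

theorem ofR_apply (i : Idx A K) (x : i.R) : ofR i x = Hens.of i (algebraMap i.R i.B x) := rfl

@[simp]
theorem τ_ofR (i : Idx A K) (x : i.R) : Hens.τ A K (ofR i x) = i.σ x := by
  rw [ofR_apply, Hens.τ_of, Idx.τ_algebraMap]

/-- Uniqueness of maps from etale (or ess. finite type formally unramified) algebras. -/
theorem hom_Hens_unique {B : Type u} [CommRing B] [Algebra A B] [Algebra.FormallyUnramified A B]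
    [Algebra.EssFiniteType A B] (g₁ g₂ : B →ₐ[A] Hens A K)
    (h : ∀ b, Hens.τ A K (g₁ b) = Hens.τ A K (g₂ b)) : g₁ = g₂ :=
  hom_unique (Hens.τ A K) Hens.isUnit_of_τ g₁ g₂ h

/-- Good is stable under localization at an element which becomes a unit. -/
theorem good_away (i : Idx A K) (s : i.R) (hs : IsUnit (i.σ s)) :
    Good A K (Localization.Away s) (IsLocalization.liftAlgHom (M := Submonoid.powers s) (f := i.σ)
      (fun y => by obtain ⟨_, n, rfl⟩ := y; simpa using hs.pow n)) := by
  intro C _ _ J τ hJ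
  obtain ⟨g, hg⟩ := i.good C J τ hJ
  have hgs : IsUnit (g s) := isUnit_of_mk hJ _ (by rw [hg]; exact hs.map τ)
  have hgs' : ∀ y : Submonoid.powers s, IsUnit (g y) := fun y => by
    obtain ⟨_, n, rfl⟩ := y; simpa using hgs.pow n
  refine ⟨IsLocalization.liftAlgHom (M := Submonoid.powers s) (f := g) hgs', fun b => ?_⟩
  have : (Ideal.Quotient.mk J).comp
      (IsLocalization.liftAlgHom (M := Submonoid.powers s) (S := Localization.Away s) (f := g)
        hgs').toRingHom = τ.toRingHom.comp
      (IsLocalization.liftAlgHom (M := Submonoid.powers s) (S := Localization.Away s) (f := i.σ)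
      (fun y => by obtain ⟨_, n, rfl⟩ := y; simpa using hs.pow n)).toRingHom := by
    apply IsLocalization.ringHom_ext (Submonoid.powers s)
    refine RingHom.ext fun x => ?_
    simp only [RingHom.comp_apply]
    change Ideal.Quotient.mk J (IsLocalization.lift _ (algebraMap i.R (Localization.Away s) x)) =
      τ (IsLocalization.lift _ (algebraMap i.R (Localization.Away s) x))
    rw [IsLocalization.lift_eq, IsLocalization.lift_eq]
    exact hg x
  exact congrArg (fun f : Localization.Away s →+* C ⧸ J => f b) this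

/-- Every element of `Hens` comes from the etale algebra of an index. -/
theorem exists_ofR (x : Hens A K) : ∃ (i : Idx A K) (y : i.R), ofR i y = x := by
  obtain ⟨i, y, rfl⟩ := Hens.exists_of x
  obtain ⟨b, s, rfl⟩ := IsLocalization.exists_mk'_eq (unitSub i.σ) y
  have hs : IsUnit (i.σ (s : i.R)) := s.2
  have : Algebra.Etale A (Localization.Away (s : i.R)) :=
    Algebra.Etale.comp A i.R (Localization.Away (s : i.R))
  obtain ⟨j, e, he⟩ := Idx.exists_equiv (Localization.Away (s : i.R)) _ (good_away i s hs)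
  refine ⟨j, e.symm (IsLocalization.mk' (Localization.Away (s : i.R)) b
    (⟨s, Submonoid.mem_powers _⟩ : Submonoid.powers (s : i.R))), ?_⟩
  -- the two maps `i.R → Hens` agree
  have key : ((ofR j).comp e.symm.toAlgHom).comp
      (IsScalarTower.toAlgHom A i.R (Localization.Away (s : i.R))) = ofR i := by
    apply hom_Hens_unique
    intro b
    rw [τ_ofR]
    change Hens.τ A K (ofR j (e.symm (algebraMap i.R (Localization.Away (s : i.R)) b))) = _
    rw [τ_ofR, ← he, AlgEquiv.apply_symm_apply]
    change (IsLocalization.lift _ (algebraMap i.R (Localization.Away (s : i.R)) b)) = _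
    rw [IsLocalization.lift_eq]
    rfl
  have hsu : IsUnit (ofR i (s : i.R)) := by
    apply Hens.isUnit_of_τ; rw [τ_ofR]; exact hs
  refine hsu.mul_right_cancel ?_
  have e1 : ofR j (e.symm (IsLocalization.mk' (Localization.Away (s : i.R)) b
      (⟨s, Submonoid.mem_powers _⟩ : Submonoid.powers (s : i.R)))) * ofR i (s : i.R) = ofR i b := by
    rw [← key]
    change ofR j (e.symm _) * ofR j (e.symm (algebraMap i.R (Localization.Away (s : i.R)) s)) =
      ofR j (e.symm (algebraMap i.R (Localization.Away (s : i.R)) b))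
    rw [← map_mul, ← map_mul]
    congr 2
    exact IsLocalization.mk'_spec (Localization.Away (s : i.R)) b
      (⟨s, Submonoid.mem_powers _⟩ : Submonoid.powers (s : i.R))
  rw [e1, ofR_apply, ofR_apply, ← map_mul, IsLocalization.mk'_spec]

/-- Compatible maps commute with `ofR`. -/
theorem ofR_comp {i j : Idx A K} (g : i.R →ₐ[A] j.R) (hg : ∀ x, j.σ (g x) = i.σ x) (x : i.R) :
    ofR j (g x) = ofR i x := by
  have : (ofR j).comp g = ofR i := by
    apply hom_Hens_unique
    intro b
    rw [AlgHom.comp_apply, τ_ofR, τ_ofR, hg]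
  exact congrArg (fun f : i.R →ₐ[A] Hens A K => f x) this

theorem exists_ofR_pair (i j : Idx A K) : ∃ (k : Idx A K) (g : i.R →ₐ[A] k.R) (h : j.R →ₐ[A] k.R),
    (∀ x, k.σ (g x) = i.σ x) ∧ (∀ x, k.σ (h x) = j.σ x) := by
  have : Algebra.Etale A (i.R ⊗[A] j.R) := Algebra.Etale.comp A i.R (i.R ⊗[A] j.R)
  obtain ⟨k, e, he⟩ := Idx.exists_equiv (i.R ⊗[A] j.R) _ (good_tensor i.good j.good)
  refine ⟨k, e.symm.toAlgHom.comp Algebra.TensorProduct.includeLeft,
    e.symm.toAlgHom.comp Algebra.TensorProduct.includeRight, fun x => ?_, fun x => ?_⟩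
  · rw [← he]
    change (Algebra.TensorProduct.lift i.σ j.σ _) (e (e.symm (x ⊗ₜ 1))) = _
    rw [AlgEquiv.apply_symm_apply, Algebra.TensorProduct.lift_tmul, map_one, mul_one]
  · rw [← he]
    change (Algebra.TensorProduct.lift i.σ j.σ _) (e (e.symm (1 ⊗ₜ x))) = _
    rw [AlgEquiv.apply_symm_apply, Algebra.TensorProduct.lift_tmul, map_one, one_mul]

theorem exists_ofR_finset (s : Finset (Hens A K)) :
    ∃ i : Idx A K, ∀ x ∈ s, ∃ y : i.R, ofR i y = x := by
  classical
  induction s using Finset.induction_on with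
  | empty =>
    obtain ⟨i⟩ : Nonempty (Idx A K) := inferInstance
    exact ⟨i, by simp⟩
  | insert a s ha ih =>
    obtain ⟨i, hi⟩ := ih
    obtain ⟨j, y, hy⟩ := exists_ofR a
    obtain ⟨k, g, h, hg, hh⟩ := exists_ofR_pair i j
    refine ⟨k, fun x hx => ?_⟩
    rw [Finset.mem_insert] at hx
    rcases hx with rfl | hx
    · exact ⟨h y, by rw [ofR_comp h hh, hy]⟩
    · obtain ⟨z, hz⟩ := hi x hx
      exact ⟨g z, by rw [ofR_comp g hg, hz]⟩

/-- A root adjunction of a good pointed algebra is good. -/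
theorem good_root {R : Type u} [CommRing R] [Algebra A R] (σ : R →ₐ[A] K) (hR : Good A K R σ)
    (f : R[X]) (hf : f.Monic) (a : R) (h0 : σ (f.eval a) = 0)
    (h1 : IsUnit (σ (f.derivative.eval a))) :
    ∃ (P : StandardEtalePair R) (_ : Algebra A P.Ring) (_ : IsScalarTower A R P.Ring)
      (σ' : P.Ring →ₐ[A] K), P.f = f ∧ σ' P.X = σ a ∧ (∀ r, σ' (algebraMap R P.Ring r) = σ r) ∧
        Good A K P.Ring σ' := by
  let P : StandardEtalePair R := ⟨f, hf, derivative f, ⟨1, 0, 1, by simp⟩⟩
  let _ : Algebra R K := σ.toRingHom.toAlgebra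
  have hst : IsScalarTower A R K := IsScalarTower.of_algebraMap_eq fun r => (σ.commutes r).symm
  have hmapK : P.HasMap (σ a) := by
    refine ⟨?_, ?_⟩
    · rw [aeval_def, eval₂_eq_eval_map]
      change eval (σ.toRingHom a) (map σ.toRingHom f) = 0
      rw [eval_map_apply]; exact h0
    · rw [aeval_def, eval₂_eq_eval_map]
      change IsUnit (eval (σ.toRingHom a) (map σ.toRingHom (derivative f)))
      rw [eval_map_apply]; exact h1
  let σ' : P.Ring →ₐ[R] K := P.lift _ hmapK
  let _ : Algebra A P.Ring := ((algebraMap R P.Ring).comp (algebraMap A R)).toAlgebra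
  have hst' : IsScalarTower A R P.Ring := IsScalarTower.of_algebraMap_eq fun r => rfl
  refine ⟨P, inferInstance, hst', σ'.restrictScalars A, rfl, P.lift_X _ hmapK,
    fun r => σ'.commutes r, ?_⟩
  intro C _ _ J τ hJ
  obtain ⟨g, hg⟩ := hR C J τ hJ
  obtain ⟨c, hc, hca⟩ := hJ.is_henselian (f.map g.toRingHom) (hf.map _) (g a) (by
    rw [← Ideal.Quotient.eq_zero_iff_mem]
    have : eval (g a) (map g.toRingHom f) = g (f.eval a) := eval_map_apply _ _
    rw [this, hg, h0, map_zero]) (by
    rw [derivative_map]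
    have : eval (g a) (map g.toRingHom (derivative f)) = g (f.derivative.eval a) :=
      eval_map_apply _ _
    rw [this, hg]
    exact h1.map τ)
  let _ : Algebra R C := g.toRingHom.toAlgebra
  have hstC : IsScalarTower A R C := IsScalarTower.of_algebraMap_eq fun r => (g.commutes r).symm
  have hcmod : Ideal.Quotient.mk J c = τ (σ a) := by
    rw [← hg, Ideal.Quotient.eq]; exact hca
  have hmapC : P.HasMap c := by
    refine ⟨?_, ?_⟩
    · rw [aeval_def, eval₂_eq_eval_map]
      exact hc
    · rw [aeval_def, eval₂_eq_eval_map]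
      change IsUnit (eval c (map g.toRingHom (derivative f)))
      apply isUnit_of_mk hJ
      have e1 : Ideal.Quotient.mk J (eval c (map g.toRingHom (derivative f))) =
          Ideal.Quotient.mk J (eval (g a) (map g.toRingHom (derivative f))) := by
        rw [Ideal.Quotient.eq]
        have := (map g.toRingHom (derivative f)).sub_dvd_eval_sub c (g a)
        exact Ideal.mem_of_dvd J this hca
      have e2 : eval (g a) (map g.toRingHom (derivative f)) = g (f.derivative.eval a) :=
        eval_map_apply _ _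
      rw [e1, e2, hg]
      exact h1.map τ
  let G : P.Ring →ₐ[R] C := P.lift c hmapC
  refine ⟨G.restrictScalars A, fun b => ?_⟩
  let _ : Algebra R (C ⧸ J) := (τ.toRingHom.comp σ.toRingHom).toAlgebra
  have e3 : ∀ r : R, Ideal.Quotient.mk J (algebraMap R C r) = algebraMap R (C ⧸ J) r :=
    fun r => hg r
  let q : C →ₐ[R] (C ⧸ J) := { (Ideal.Quotient.mk J) with commutes' := e3 }
  let t : K →ₐ[R] (C ⧸ J) := { τ.toRingHom with commutes' := fun r => rfl }
  have e4 : q.comp G = t.comp σ' := by
    apply P.hom_ext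
    change Ideal.Quotient.mk J (P.lift c hmapC P.X) = τ (P.lift (σ a) hmapK P.X)
    rw [P.lift_X, P.lift_X, hcmod]
  exact congrArg (fun f : P.Ring →ₐ[R] (C ⧸ J) => f b) e4

/-- Simple roots mod the kernel exist in `Hens`. -/
theorem exists_root (i : Idx A K) (f : i.R[X]) (hf : f.Monic) (a : i.R) (h0 : i.σ (f.eval a) = 0)
    (h1 : IsUnit (i.σ (f.derivative.eval a))) :
    ∃ x : Hens A K, (f.map (ofR i).toRingHom).IsRoot x ∧ Hens.τ A K x = i.σ a := by
  obtain ⟨P, _, _, σ', hPf, hX, hr, hgood⟩ := good_root i.σ i.good f hf a h0 h1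
  have : Algebra.Etale A P.Ring := Algebra.Etale.comp A i.R P.Ring
  obtain ⟨j, e, he⟩ := Idx.exists_equiv P.Ring σ' hgood
  have key : ((ofR j).comp e.symm.toAlgHom).comp (IsScalarTower.toAlgHom A i.R P.Ring) = ofR i := by
    apply hom_Hens_unique
    intro b
    rw [τ_ofR]
    change Hens.τ A K (ofR j (e.symm (algebraMap i.R P.Ring b))) = _
    rw [τ_ofR, ← he, AlgEquiv.apply_symm_apply]
    exact hr b
  refine ⟨ofR j (e.symm P.X), ?_, ?_⟩
  · rw [IsRoot.def, ← key]
    let φ : P.Ring →ₐ[A] Hens A K := (ofR j).comp e.symm.toAlgHom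
    change eval (φ P.X) (map (φ.toRingHom.comp (algebraMap i.R P.Ring)) f) = 0
    rw [← Polynomial.map_map]
    have : eval (φ P.X) (map φ.toRingHom (map (algebraMap i.R P.Ring) f)) =
      φ ((map (algebraMap i.R P.Ring) f).eval P.X) := eval_map_apply _ _
    rw [this]
    have h3 := P.hasMap_X.1
    rw [aeval_def, eval₂_eq_eval_map, hPf] at h3
    rw [h3, map_zero]
  · rw [τ_ofR, ← he, AlgEquiv.apply_symm_apply, hX]

instance henselianRing : HenselianRing (Hens A K) (RingHom.ker (Hens.τ A K)) where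
  jac := Hens.ker_τ_le_jacobson
  is_henselian f hf a₀ h0 h1 := by
    classical
    obtain ⟨i, hi⟩ := exists_ofR_finset (insert a₀ ((Finset.range (f.natDegree + 1)).image f.coeff))
    obtain ⟨a, ha⟩ := hi a₀ (Finset.mem_insert_self _ _)
    have hlift : f ∈ lifts (ofR i).toRingHom := by
      rw [lifts_iff_coeff_lifts]
      intro n
      by_cases hn : n < f.natDegree + 1
      · obtain ⟨y, hy⟩ := hi (f.coeff n) (Finset.mem_insert_of_mem
          (Finset.mem_image_of_mem _ (Finset.mem_range.2 hn)))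
        exact ⟨y, hy⟩
      · exact ⟨0, by rw [map_zero, coeff_eq_zero_of_natDegree_lt (by omega)]⟩
    obtain ⟨g, hg, -, hgm⟩ := lifts_and_natDegree_eq_and_monic hlift hf
    have hgm' : g.Monic := hgm
    have e0 : eval a₀ f = ofR i (g.eval a) := by
      rw [← hg, ← ha]; exact eval_map_apply _ _
    have e1 : eval a₀ (derivative f) = ofR i (g.derivative.eval a) := by
      rw [← hg, ← ha, derivative_map]; exact eval_map_apply _ _
    obtain ⟨x, hx, hx'⟩ := exists_root i g hgm' a (by
      rw [RingHom.mem_ker, e0, τ_ofR] at h0; exact h0) (by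
      rw [e1] at h1
      have h2 : IsUnit (Ideal.Quotient.lift (RingHom.ker (Hens.τ A K)) (Hens.τ A K).toRingHom
        (fun a ha => ha) (Ideal.Quotient.mk _ (ofR i (g.derivative.eval a)))) := h1.map _
      rw [Ideal.Quotient.lift_mk] at h2
      rw [← τ_ofR]; exact h2)
    refine ⟨x, ?_, ?_⟩
    · rw [← hg]; exact hx
    · rw [RingHom.mem_ker, map_sub, hx', ← ha, τ_ofR, sub_self]

/-- The universal property: existence. -/
theorem exists_lift {C : Type u} [CommRing C] [Algebra A C] (J : Ideal C) (τ' : K →ₐ[A] C ⧸ J)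
    (hJ : HenselianRing C J) :
    ∃ g : Hens A K →ₐ[A] C, ∀ x, Ideal.Quotient.mk J (g x) = τ' (Hens.τ A K x) := by
  have hq : ∀ x, IsUnit (Ideal.Quotient.mkₐ A J x) → IsUnit x := fun x hx => isUnit_of_mk hJ x hx
  have ex : ∀ i : Idx A K, ∃ g : i.B →ₐ[A] C, ∀ b, Ideal.Quotient.mkₐ A J (g b) = τ' (i.τ b) := by
    intro i
    obtain ⟨g, hg⟩ := i.good C J τ' hJ
    have h1 : ∀ b, IsUnit (i.σ b) → IsUnit (g b) := fun b hb =>
      hq _ (by change IsUnit (Ideal.Quotient.mk J (g b)); rw [hg]; exact hb.map τ')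
    refine ⟨locLift i.σ g h1, fun b => ?_⟩
    have : (Ideal.Quotient.mkₐ A J).comp (locLift i.σ g h1) = τ'.comp i.τ := by
      apply loc_ext
      intro b
      rw [AlgHom.comp_apply, locLift_algebraMap, AlgHom.comp_apply, Idx.τ_algebraMap]
      exact hg b
    exact congrArg (fun f : i.B →ₐ[A] (C ⧸ J) => f b) this
  choose g hg using ex
  have hc : ∀ i j (h : i ≤ j) (x : i.B), g j (Idx.tr i j h x) = g i x := by
    intro i j h x
    have : (g j).comp (Idx.tr i j h) = g i := by
      apply hom_unique (Ideal.Quotient.mkₐ A J) hq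
      intro b
      rw [AlgHom.comp_apply, hg, hg, Idx.τ_tr]
    exact congrArg (fun f : i.B →ₐ[A] C => f x) this
  refine ⟨Hens.lift g hc, fun x => ?_⟩
  obtain ⟨i, y, rfl⟩ := Hens.exists_of x
  rw [Hens.lift_of, Hens.τ_of]
  exact hg i y

/-- Uniqueness of maps out of `Hens`. -/
theorem lift_unique {C D : Type u} [CommRing C] [Algebra A C] [CommRing D] [Algebra A D]
    (q : C →ₐ[A] D) (hq : ∀ x, IsUnit (q x) → IsUnit x) (g₁ g₂ : Hens A K →ₐ[A] C)
    (h : ∀ x, q (g₁ x) = q (g₂ x)) : g₁ = g₂ := by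
  apply Hens.hom_ext
  intro i x
  have : g₁.comp (Hens.of i) = g₂.comp (Hens.of i) := hom_unique q hq _ _ (fun b => h _)
  exact congrArg (fun f : i.B →ₐ[A] C => f x) this

end Groth.Agent.Etalg.PtEtHens
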