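import Groth.Agent.Etalg.PtEt

/-!
The directed system of (localized) pointed etale algebras over `A → K` which admit maps to all
henselian targets, and its direct limit `Hens A K`.
-/

set_option autoImplicit false

universe u

open TensorProduct Polynomial

namespace Groth.Agent.Etalg.PtEtSystem

open Groth.Agent.Etalg.PtEt

variable (A K : Type u) [CommRing A] [CommRing K] [Algebra A K]

/-- A pointed `A`-algebra `(B, σ)` over `K` is good if it maps, compatibly, to every henselian
pair `(C, J)` over `A` with a map `K → C/J`. -/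
def Good (B : Type u) [CommRing B] [Algebra A B] (σ : B →ₐ[A] K) : Prop :=
  ∀ (C : Type u) [CommRing C] [Algebra A C] (J : Ideal C) (τ : K →ₐ[A] C ⧸ J), HenselianRing C J →
    ∃ g : B →ₐ[A] C, ∀ b, Ideal.Quotient.mk J (g b) = τ (σ b)

variable {A K} in
theorem isUnit_of_mk {C : Type u} [CommRing C] {J : Ideal C} (hJ : HenselianRing C J) (x : C)
    (hx : IsUnit (Ideal.Quotient.mk J x)) : IsUnit x := by
  have := isLocalHom_of_le_jacobson_bot J hJ.jac
  exact (isUnit_map_iff (Ideal.Quotient.mk J) x).1 hx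

/-- Indices: presentations of good pointed etale algebras. -/
structure Idx : Type u where
  /-- number of generators -/
  n : ℕ
  /-- ideal of relations -/
  J : Ideal (MvPolynomial (Fin n) A)
  et : Algebra.Etale A (MvPolynomial (Fin n) A ⧸ J)
  /-- the point -/
  σ : (MvPolynomial (Fin n) A ⧸ J) →ₐ[A] K
  good : Good A K (MvPolynomial (Fin n) A ⧸ J) σ

namespace Idx

variable {A K}

/-- The etale algebra of an index. -/
abbrev R (i : Idx A K) : Type u := MvPolynomial (Fin i.n) A ⧸ i.J

instance (i : Idx A K) : Algebra.Etale A i.R := i.et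

/-- The localized algebra of an index. -/
abbrev B (i : Idx A K) : Type u := Loc i.σ

/-- The point of the localized algebra. -/
noncomputable def τ (i : Idx A K) : i.B →ₐ[A] K := locMap i.σ

theorem isUnit_of_τ (i : Idx A K) (x : i.B) (hx : IsUnit (i.τ x)) : IsUnit x :=
  locMap_isUnit i.σ x hx

@[simp]
theorem τ_algebraMap (i : Idx A K) (b : i.R) : i.τ (algebraMap i.R i.B b) = i.σ b :=
  locMap_algebraMap _ _

instance (i : Idx A K) : Algebra.EssFiniteType A i.B := by
  have : Algebra.EssFiniteType A i.R := inferInstance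
  have : Algebra.EssFiniteType i.R i.B := Algebra.EssFiniteType.of_isLocalization _ (unitSub i.σ)
  exact Algebra.EssFiniteType.comp A i.R i.B

instance (i : Idx A K) : Algebra.FormallyEtale A i.B := by
  have : Algebra.FormallyEtale i.R i.B := Algebra.FormallyEtale.of_isLocalization (unitSub i.σ)
  exact Algebra.FormallyEtale.comp A i.R i.B

instance (i : Idx A K) : Module.Flat A i.B := by
  have : Module.Flat A i.R := inferInstance
  have : Module.Flat i.R i.B := IsLocalization.flat _ (unitSub i.σ)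
  exact Module.Flat.trans A i.R i.B

/-- Every good pointed etale algebra is isomorphic to one of our indices. -/
theorem exists_equiv (B : Type u) [CommRing B] [Algebra A B] [Algebra.Etale A B] (σ : B →ₐ[A] K)
    (hg : Good A K B σ) : ∃ (i : Idx A K) (e : i.R ≃ₐ[A] B), ∀ x, σ (e x) = i.σ x := by
  obtain ⟨n, I, e, -⟩ := Algebra.FinitePresentation.iff.1
    (inferInstance : Algebra.FinitePresentation A B)
  refine ⟨⟨n, I, Algebra.Etale.of_equiv e.symm, σ.comp e.toAlgHom, ?_⟩, e, fun x => rfl⟩
  intro C _ _ J τ hJ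
  obtain ⟨g, hg'⟩ := hg C J τ hJ
  exact ⟨g.comp e.toAlgHom, fun b => hg' (e b)⟩

/-- There is at most one transition map. -/
theorem trans_unique {i j : Idx A K} (g₁ g₂ : i.B →ₐ[A] j.B) (h₁ : ∀ x, j.τ (g₁ x) = i.τ x)
    (h₂ : ∀ x, j.τ (g₂ x) = i.τ x) : g₁ = g₂ :=
  hom_unique j.τ j.isUnit_of_τ g₁ g₂ (fun b => (h₁ b).trans (h₂ b).symm)

instance : Preorder (Idx A K) where
  le i j := ∃ g : i.B →ₐ[A] j.B, ∀ x, j.τ (g x) = i.τ x
  le_refl i := ⟨AlgHom.id A _, fun _ => rfl⟩
  le_trans i j k := by
    rintro ⟨g, hg⟩ ⟨g', hg'⟩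
    exact ⟨g'.comp g, fun x => (hg' (g x)).trans (hg x)⟩

/-- The transition map. -/
noncomputable def tr (i j : Idx A K) (h : i ≤ j) : i.B →ₐ[A] j.B := h.choose

@[simp]
theorem τ_tr (i j : Idx A K) (h : i ≤ j) (x : i.B) : j.τ (tr i j h x) = i.τ x := h.choose_spec x

theorem eq_tr {i j : Idx A K} (h : i ≤ j) (g : i.B →ₐ[A] j.B) (hg : ∀ x, j.τ (g x) = i.τ x) :
    g = tr i j h :=
  trans_unique _ _ hg (τ_tr i j h)

instance : DirectedSystem (fun i : Idx A K => i.B) (fun i j h => tr i j h) where
  map_self i x := by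
    have : AlgHom.id A i.B = tr i i le_rfl := eq_tr _ _ (fun _ => rfl)
    exact (congrArg (fun f : i.B →ₐ[A] i.B => f x) this).symm
  map_map k j i hij hjk x := by
    have : (tr j k hjk).comp (tr i j hij) = tr i k (hij.trans hjk) := by
      apply eq_tr
      intro x
      simp
    exact (congrArg (fun f : i.B →ₐ[A] k.B => f x) this)

/-- A compatible map of pointed etale algebras gives an inequality. -/
theorem le_of_hom {i j : Idx A K} (g : i.R →ₐ[A] j.R) (hg : ∀ x, j.σ (g x) = i.σ x) : i ≤ j := by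
  refine ⟨locLift i.σ ((IsScalarTower.toAlgHom A j.R j.B).comp g) (fun b hb => ?_), ?_⟩
  · apply j.isUnit_of_τ
    change IsUnit (j.τ (algebraMap j.R j.B (g b)))
    rw [τ_algebraMap, hg]
    exact hb
  · intro x
    have : j.τ.comp (locLift i.σ ((IsScalarTower.toAlgHom A j.R j.B).comp g) (fun b hb => by
        apply j.isUnit_of_τ
        change IsUnit (j.τ (algebraMap j.R j.B (g b)))
        rw [τ_algebraMap, hg]
        exact hb)) = i.τ := by
      apply loc_ext
      intro b
      rw [AlgHom.comp_apply, locLift_algebraMap, τ_algebraMap]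
      change j.τ (algebraMap j.R j.B (g b)) = _
      rw [τ_algebraMap, hg]
    exact congrArg (fun f : i.B →ₐ[A] K => f x) this

end Idx

section Good

variable {A K}

theorem good_self : Good A K A (Algebra.ofId A K) := by
  intro C _ _ J τ hJ
  refine ⟨Algebra.ofId A C, fun b => ?_⟩
  rw [Algebra.ofId_apply, Algebra.ofId_apply, AlgHom.commutes]
  rfl

theorem good_tensor {B B' : Type u} [CommRing B] [Algebra A B] [CommRing B'] [Algebra A B']
    {σ : B →ₐ[A] K} {σ' : B' →ₐ[A] K} (h : Good A K B σ) (h' : Good A K B' σ') :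
    Good A K (B ⊗[A] B') (Algebra.TensorProduct.lift σ σ' (fun _ _ => Commute.all _ _)) := by
  intro C _ _ J τ hJ
  obtain ⟨g, hg⟩ := h C J τ hJ
  obtain ⟨g', hg'⟩ := h' C J τ hJ
  refine ⟨Algebra.TensorProduct.lift g g' (fun _ _ => Commute.all _ _), fun b => ?_⟩
  induction b with
  | zero => simp
  | add x y hx hy => simp only [map_add, hx, hy]
  | tmul x y => simp only [Algebra.TensorProduct.lift_tmul, map_mul, hg, hg']

end Good

instance : Nonempty (Idx A K) :=
  let ⟨i, _⟩ := Idx.exists_equiv A (Algebra.ofId A K) (good_self (A := A) (K := K))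
  ⟨i⟩

instance : IsDirectedOrder (Idx A K) where
  directed i j := by
    have : Algebra.Etale A (i.R ⊗[A] j.R) := Algebra.Etale.comp A i.R (i.R ⊗[A] j.R)
    obtain ⟨k, e, he⟩ := Idx.exists_equiv (i.R ⊗[A] j.R) _ (good_tensor i.good j.good)
    refine ⟨k, Idx.le_of_hom (e.symm.toAlgHom.comp Algebra.TensorProduct.includeLeft) (fun x => ?_),
      Idx.le_of_hom (e.symm.toAlgHom.comp Algebra.TensorProduct.includeRight) (fun x => ?_)⟩
    · rw [← he]
      change (Algebra.TensorProduct.lift i.σ j.σ _) (e (e.symm (x ⊗ₜ 1))) = _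
      rw [AlgEquiv.apply_symm_apply, Algebra.TensorProduct.lift_tmul, map_one, mul_one]
    · rw [← he]
      change (Algebra.TensorProduct.lift i.σ j.σ _) (e (e.symm (1 ⊗ₜ x))) = _
      rw [AlgEquiv.apply_symm_apply, Algebra.TensorProduct.lift_tmul, map_one, one_mul]

/-- The henselization of `A → K`. -/
abbrev Hens : Type u := DirectLimit (fun i : Idx A K => i.B) (fun i j h => Idx.tr i j h)

namespace Hens

variable {A K}

/-- The canonical map. -/
noncomputable def of (i : Idx A K) : i.B →ₐ[A] Hens A K where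
  toFun x := ⟦⟨i, x⟩⟧
  map_one' := (DirectLimit.one_def i).symm
  map_mul' _ _ := (DirectLimit.mul_def ..).symm
  map_zero' := (DirectLimit.zero_def i).symm
  map_add' _ _ := (DirectLimit.add_def ..).symm
  commutes' r := (DirectLimit.algebraMap_def i r).symm

theorem of_tr {i j : Idx A K} (h : i ≤ j) (x : i.B) : of j (Idx.tr i j h x) = of i x :=
  (DirectLimit.eq_of_le (f := fun i j h => Idx.tr (A := A) (K := K) i j h) ⟨i, x⟩ j h).symm

theorem exists_of (x : Hens A K) : ∃ (i : Idx A K) (y : i.B), of i y = x := by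
  obtain ⟨i, y, h⟩ := DirectLimit.exists_eq_mk _ x
  exact ⟨i, y, h.symm⟩

theorem of_eq_of {i j : Idx A K} (x : i.B) (y : j.B) (h : of i x = of j y) :
    ∃ (k : Idx A K) (hi : i ≤ k) (hj : j ≤ k), Idx.tr i k hi x = Idx.tr j k hj y := by
  obtain ⟨k, hi, hj, h⟩ := Quotient.exact h
  exact ⟨k, hi, hj, h⟩

theorem of_eq_zero {i : Idx A K} (x : i.B) (h : of i x = 0) :
    ∃ (k : Idx A K) (hi : i ≤ k), Idx.tr i k hi x = 0 := by
  rw [← map_zero (of i)] at h
  obtain ⟨k, hi, hj, h⟩ := of_eq_of _ _ h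
  exact ⟨k, hi, by rw [h, map_zero]⟩

/-- Maps out of `Hens A K`. -/
noncomputable def lift {C : Type*} [CommRing C] [Algebra A C] (g : ∀ i : Idx A K, i.B →ₐ[A] C)
    (hg : ∀ i j (h : i ≤ j) (x : i.B), g j (Idx.tr i j h x) = g i x) : Hens A K →ₐ[A] C where
  toFun := DirectLimit.lift (fun i j h => Idx.tr (A := A) (K := K) i j h) (fun i => g i)
    (fun i j h x => (hg i j h x).symm)
  map_one' := by
    obtain ⟨i⟩ : Nonempty (Idx A K) := inferInstance
    rw [DirectLimit.one_def i]
    exact map_one (g i)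
  map_mul' := DirectLimit.induction₂ _ fun i x y => by
    rw [DirectLimit.mul_def]; exact map_mul (g i) x y
  map_zero' := by
    obtain ⟨i⟩ : Nonempty (Idx A K) := inferInstance
    rw [DirectLimit.zero_def i]
    exact map_zero (g i)
  map_add' := DirectLimit.induction₂ _ fun i x y => by
    rw [DirectLimit.add_def]; exact map_add (g i) x y
  commutes' r := by
    obtain ⟨i⟩ : Nonempty (Idx A K) := inferInstance
    rw [DirectLimit.algebraMap_def i]
    exact (g i).commutes r

@[simp]
theorem lift_of {C : Type*} [CommRing C] [Algebra A C] (g : ∀ i : Idx A K, i.B →ₐ[A] C)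
    (hg : ∀ i j (h : i ≤ j) (x : i.B), g j (Idx.tr i j h x) = g i x) (i : Idx A K) (x : i.B) :
    lift g hg (of i x) = g i x := rfl

theorem hom_ext {C : Type*} [CommRing C] [Algebra A C] {f g : Hens A K →ₐ[A] C}
    (h : ∀ i (x : i.B), f (of i x) = g (of i x)) : f = g := by
  refine DFunLike.ext _ _ fun x => ?_
  obtain ⟨i, y, rfl⟩ := exists_of x
  exact h i y

theorem ringHom_ext {C : Type*} [CommRing C] {f g : Hens A K →+* C}
    (h : ∀ i (x : i.B), f (of i x) = g (of i x)) : f = g := by
  refine DFunLike.ext _ _ fun x => ?_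
  obtain ⟨i, y, rfl⟩ := exists_of x
  exact h i y

variable (A K) in
/-- The point of the henselization. -/
noncomputable def τ : Hens A K →ₐ[A] K := lift (fun i => i.τ) (fun i j h x => Idx.τ_tr i j h x)

@[simp]
theorem τ_of (i : Idx A K) (x : i.B) : τ A K (of i x) = i.τ x := rfl

theorem isUnit_of_τ (x : Hens A K) (hx : IsUnit (τ A K x)) : IsUnit x := by
  obtain ⟨i, y, rfl⟩ := exists_of x
  rw [τ_of] at hx
  exact (i.isUnit_of_τ y hx).map (of i)

theorem ker_τ_le_jacobson : RingHom.ker (τ A K) ≤ Ideal.jacobson ⊥ := by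
  intro x hx
  rw [Ideal.mem_jacobson_bot]
  intro y
  apply isUnit_of_τ
  rw [map_add, map_mul, map_one, (RingHom.mem_ker).1 hx, zero_mul, zero_add]
  exact isUnit_one

/-- Elements of a pointed good etale algebra lift. -/
theorem exists_map (B : Type u) [CommRing B] [Algebra A B] [Algebra.Etale A B] (σ : B →ₐ[A] K)
    (hg : Good A K B σ) : ∃ g : B →ₐ[A] Hens A K, ∀ b, τ A K (g b) = σ b := by
  obtain ⟨i, e, he⟩ := Idx.exists_equiv B σ hg
  refine ⟨(of i).comp ((IsScalarTower.toAlgHom A i.R i.B).comp e.symm.toAlgHom), fun b => ?_⟩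
  change τ A K (of i (algebraMap i.R i.B (e.symm b))) = _
  rw [τ_of, Idx.τ_algebraMap, ← he, AlgEquiv.apply_symm_apply]

end Hens

end Groth.Agent.Etalg.PtEtSystem
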