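import Groth.Agent.Etalg.FLCTorsor
import Groth.Agent.Sga4h.EtaleRes2
import Groth.Agent.EtpbcA.StalkTools
import Groth.Agent.EtpbcA.PullFLC
import Groth.Agent.EtpbcB.NKillEt
import Groth.Agent.EtpbcB.Acyc
import Groth.Prelude.Def_FEt

/-!
# `R¹ j_* F = 0` for finite locally constant `F` when finite étale covers extend

`isZero_Rpush_one`: `j : U → X` a dominant morphism such that for every étale `V → X` every
finite étale cover of `V ×_X U` extends to `V`.  Then `R¹ j_* G = 0` for every finite locally constant abelian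
sheaf `G` on `U`.
-/

set_option autoImplicit false
universe u
open CategoryTheory CategoryTheory.Limits AlgebraicGeometry Opposite

namespace Groth.Agent.Etalg.R1Flc

open Groth.Agent.EtpbcA Groth.Agent.EtpbcB Groth.Agent.Etalg.FLCTorsor

variable {X U : Scheme.{u}}

/-- A finite étale morphism whose base change along a dominant morphism is surjective is surjective. -/
theorem surjective_of_dominant {E V Y : Scheme.{u}} (e : E ⟶ V) [IsFinite e] [Etale e] (pr : Y ⟶ V)
    (hd : Dense (Set.range pr)) (hs : Surjective (pullback.snd e pr)) : Surjective e := by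
  have hc : IsClosed (Set.range e) := e.isClosedMap.isClosed_range
  have hsub : Set.range pr ⊆ Set.range e := by
    rintro _ ⟨y, rfl⟩
    obtain ⟨z, hz⟩ := hs.surj y
    refine ⟨pullback.fst e pr z, ?_⟩
    rw [← hz, ← Scheme.Hom.comp_apply, pullback.condition, Scheme.Hom.comp_apply]
  refine ⟨fun v => ?_⟩
  have : v ∈ closure (Set.range pr) := hd v
  exact (closure_minimal hsub hc) this

/-- the structure morphism of `V ×_X U` over `U` is étale -/
noncomputable abbrev kk (j : U ⟶ X) (V : X.Etale) : ((EtCoh.bc j).obj V).left ⟶ U := ((EtCoh.bc j).obj V).hom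

instance (j : U ⟶ X) (V : X.Etale) : Etale (kk j V) := ((EtCoh.bc j).obj V).prop

/-- comparison of the terminal étale scheme over `V ×_X U` with `V ×_X U` -/
noncomputable def iota0 (V' : U.Etale) [Etale V'.hom] :
    (EtShriek.compEtale V'.hom).obj (EtCoh.top V'.left) ⟶ V' :=
  MorphismProperty.Over.homMk (𝟙 V'.left) (by
    change 𝟙 V'.left ≫ V'.hom = 𝟙 V'.left ≫ V'.hom
    rfl)

theorem exists_ext (j : U ⟶ X) (V : X.Etale)
    (hE : (FEt.restrict (pullback.fst V.hom j)).EssSurj)
    (hd : Dense (Set.range (pullback.fst V.hom j)))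
    (P : ((EtCoh.bc j).obj V).left.Etale) (hP : IsFinite P.hom) (hPs : Surjective P.hom) :
    ∃ (W : X.Etale) (g : W ⟶ V) (τ : (EtCoh.bc j).obj W ⟶ (EtShriek.compEtale (kk j V)).obj P),
      Surjective g.left ∧
      τ ≫ (EtShriek.compEtale (kk j V)).map (toTop P) ≫ iota0 ((EtCoh.bc j).obj V) = (EtCoh.bc j).map g := by
  let pr : pullback V.hom j ⟶ V.left := pullback.fst V.hom j
  let P1 : FEt.Cat (pullback V.hom j) := MorphismProperty.Over.mk ⊤ P.hom ⟨hP, P.prop⟩
  obtain ⟨E, ⟨θ⟩⟩ := hE.mem_essImage P1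
  have hEf : IsFinite E.hom := E.prop.1
  have hEe : Etale E.hom := E.prop.2
  have hVe : Etale V.hom := V.prop
  let W : X.Etale := MorphismProperty.Over.mk ⊤ (E.hom ≫ V.hom) (inferInstance : Etale (E.hom ≫ V.hom))
  let g : W ⟶ V := MorphismProperty.Over.homMk E.hom rfl
  -- the isomorphism on underlying schemes
  let θl : pullback E.hom pr ⟶ P.left := θ.hom.left
  let θr : P.left ⟶ pullback E.hom pr := θ.inv.left
  have hθ : θl ≫ P.hom = pullback.snd E.hom pr := Over.w θ.hom.hom
  have hlr : θl ≫ θr = 𝟙 _ := congrArg (fun a => a.left) θ.hom_inv_id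
  have hrl : θr ≫ θl = 𝟙 _ := congrArg (fun a => a.left) θ.inv_hom_id
  have hθi : IsIso θl := ⟨θr, hlr, hrl⟩
  have hsq := EtCoh.isPullback_bc_map j g
  have hcomm : (pullback.fst W.hom j : ((EtCoh.bc j).obj W).left ⟶ W.left) ≫ E.hom =
      ((EtCoh.bc j).map g).left ≫ pr := hsq.w.symm
  let lf : ((EtCoh.bc j).obj W).left ⟶ pullback E.hom pr :=
    pullback.lift (pullback.fst W.hom j) ((EtCoh.bc j).map g).left hcomm
  have hlf : lf ≫ pullback.snd E.hom pr = ((EtCoh.bc j).map g).left := pullback.lift_snd _ _ _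
  have hlt : (lf ≫ θl) ≫ P.hom = ((EtCoh.bc j).map g).left :=
    (Category.assoc _ _ _).trans ((congrArg (fun a => lf ≫ a) hθ).trans hlf)
  let τ : (EtCoh.bc j).obj W ⟶ (EtShriek.compEtale (kk j V)).obj P :=
    MorphismProperty.Over.homMk (lf ≫ θl) (by
      have h1 : ((EtCoh.bc j).map g).left ≫ kk j V = ((EtCoh.bc j).obj W).hom :=
        MorphismProperty.Over.w ((EtCoh.bc j).map g)
      exact (Category.assoc (lf ≫ θl) P.hom (kk j V)).symm.trans
        ((congrArg (fun a => a ≫ kk j V) hlt).trans h1))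
  refine ⟨W, g, τ, ?_, ?_⟩
  · have hs : Surjective (pullback.snd E.hom pr) := by
      rw [← hθ]
      exact MorphismProperty.comp_mem (W := @Surjective) θl P.hom inferInstance hPs
    exact surjective_of_dominant E.hom pr hd hs
  · apply MorphismProperty.Over.Hom.ext
    have h1 : (toTop P).left = P.hom :=
      (Category.comp_id _).symm.trans (MorphismProperty.Over.w (toTop P))
    change (lf ≫ θl) ≫ (toTop P).left ≫ 𝟙 _ = ((EtCoh.bc j).map g).left
    exact (congrArg (fun a => (lf ≫ θl) ≫ a) ((Category.comp_id _).trans h1)).trans hlt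

/-- The key case: `R¹ j_* G = 0` for finite locally constant `G`. -/
theorem isZero_Rpush_one (j : U ⟶ X)
    (hE : ∀ V : X.Etale, (FEt.restrict (pullback.fst V.hom j)).EssSurj)
    (hd : ∀ V : X.Etale, Dense (Set.range (pullback.fst V.hom j)))
    {n : ℕ} (hn : 0 < n) (G : EtCoh.Ab U) (hG : EtCoh.IsFiniteLocallyConstant G)
    (hGn : EtCoh.KilledBy n G) : IsZero ((EtCoh.Rpush j 1).obj G) := by
  obtain ⟨J, hJ, i, hi⟩ := NKill.exists_mono_tor ((NKillEt.killedBy_iff n G).1 hGn)
  let K := NKill.tor n J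
  let Q := cokernel i
  let p : K ⟶ Q := cokernel.π i
  have hS : (ShortComplex.mk i p (cokernel.condition i)).ShortExact :=
    ⟨ShortComplex.exact_cokernel i⟩
  have hQn : NKill.Killed n Q := NKill.killed_of_epi p (NKill.killed_tor n J)
  have hQn' : EtCoh.KilledBy n Q := (NKillEt.killedBy_iff n Q).2 hQn
  have hK : IsZero ((EtCoh.Rpush j 1).obj K) := NKillEt.acyclic_push_tor j J hn 1 (by omega)
  refine RDerLES.isZero_one (EtCoh.push j) hS hK ?_
  rw [StalkTools.epi_iff_locIm]
  intro V q v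
  let V' : U.Etale := (EtCoh.bc j).obj V
  let k : V'.left ⟶ U := kk j V
  have hJ : EtShriek.JCont k := Groth.Agent.Sga4h.EtaleRes.jCont k
  let R : EtCoh.Ab U ⥤ EtCoh.Ab V'.left := EtShriek.restrAlong k
  have hRS : (ShortComplex.mk (R.map i) (R.map p) (by
      rw [← R.map_comp, cokernel.condition, R.map_zero])).ShortExact := hS.map_of_exact R
  have hRG : EtCoh.IsFiniteLocallyConstant (R.obj G) :=
    PullFLC.isFLC_of_iso ((Groth.Agent.Sga4h.EtaleRes.pullIsoRestr k).app G) (PullFLC.isFLC_pull k G hG)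
  let q' : EtCoh.sect (R.obj Q) (EtCoh.top V'.left) := Q.obj.map (iota0 V').op q
  have hq' : n • q' = 0 := hQn' _ _
  obtain ⟨P, k0, hPf, hPs, hk0⟩ := exists_finite_lift hn hRS hRG q' hq'
  obtain ⟨W, g, τ, hg, hτ⟩ := exists_ext j V (hE V) (hd V) P hPf hPs
  obtain ⟨w, hw⟩ := hg.surj v
  refine ⟨W, g, w, hw, K.obj.map τ.op k0, ?_⟩
  have h1 : p.hom.app _ (K.obj.map τ.op k0) = Q.obj.map τ.op (p.hom.app _ k0) :=
    ConcreteCategory.congr_hom (p.hom.naturality τ.op) k0
  have h2 : Q.obj.map ((EtCoh.bc j).map g).op q = Q.obj.map τ.op (Q.obj.map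
      ((EtShriek.compEtale (kk j V)).map (toTop P)).op (Q.obj.map (iota0 V').op q)) := by
    rw [← hτ, op_comp, op_comp, Functor.map_comp, Functor.map_comp]
    rfl
  refine h1.trans (Eq.trans ?_ h2.symm)
  exact congrArg (Q.obj.map τ.op) hk0

end Groth.Agent.Etalg.R1Flc
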