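import Groth.Agent.EtpbcB.RDerLES
import Groth.Agent.Sga4h.PushDer

/-!
# `R¹ G (F H) ↪ R¹ (G ∘ F) H`, vanishing form
-/

set_option autoImplicit false
universe v₁ v₂ v₃ u₁ u₂ u₃ u
open CategoryTheory CategoryTheory.Limits AlgebraicGeometry Opposite

namespace Groth.Agent.Etalg.R1Inj

open Groth.Agent.EtpbcB Groth.Agent.Sga4h.PushDer

section abstract_nonsense

variable {A : Type u₁} [Category.{v₁} A] [Abelian A] {B : Type u₂} [Category.{v₂} B] [Abelian B]
  {D : Type u₃} [Category.{v₃} D] [Abelian D] [EnoughInjectives A] [EnoughInjectives B]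
  (F : A ⥤ B) [F.Additive] [PreservesFiniteLimits F] (G : B ⥤ D) [G.Additive] [PreservesFiniteLimits G]

/-- If `R¹ (F ⋙ G) H = 0` then `R¹ G (F H) = 0`, for `F` preserving injectives. -/
theorem isZero_one_of_comp (hF : ∀ I : A, Injective I → Injective (F.obj I)) (H : A)
    (h : IsZero (((F ⋙ G).rightDerived 1).obj H)) : IsZero ((G.rightDerived 1).obj (F.obj H)) := by
  let I : A := Injective.under H
  let i : H ⟶ I := Injective.ι H
  let p : I ⟶ cokernel i := cokernel.π i
  have hS : (ShortComplex.mk i p (cokernel.condition i)).ShortExact :=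
    ⟨ShortComplex.exact_cokernel i⟩
  have hepi : Epi ((F ⋙ G).map p) := RDerLES.epi_map_g (F ⋙ G) hS h
  have hFm : F.PreservesMonomorphisms := inferInstance
  have hFi : Mono (F.map i) := inferInstance
  have hS' : (ShortComplex.mk (F.map i) (cokernel.π (F.map i)) (cokernel.condition _)).ShortExact :=
    ⟨ShortComplex.exact_cokernel _⟩
  have hw : F.map i ≫ F.map p = 0 := by
    rw [← F.map_comp, cokernel.condition, F.map_zero]
  let m : cokernel (F.map i) ⟶ F.obj (cokernel i) := cokernel.desc (F.map i) (F.map p) hw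
  have hm : cokernel.π (F.map i) ≫ m = F.map p := cokernel.π_desc _ _ _
  have hex : (ShortComplex.mk (F.map i) (F.map p) hw).Exact :=
    hS.exact.map_of_mono_of_preservesKernel F (inferInstance : Mono i) inferInstance
  have hmm : Mono m := (ShortComplex.exact_iff_mono_cokernel_desc _).1 hex
  have hI : Injective (F.obj I) := hF I inferInstance
  have hz : IsZero ((G.rightDerived 1).obj (F.obj I)) :=
    G.isZero_rightDerived_obj_injective_succ 0 (F.obj I)
  refine RDerLES.isZero_one G hS' hz ?_
  change Epi (G.map (cokernel.π (F.map i)))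
  have e1 : G.map (cokernel.π (F.map i)) ≫ G.map m = (F ⋙ G).map p := by
    rw [← G.map_comp, hm]; rfl
  have e2 : Epi (G.map m) := by
    rw [← e1] at hepi
    exact epi_of_epi (G.map (cokernel.π (F.map i))) _
  have e3 : Mono (G.map m) := inferInstance
  have e4 : IsIso (G.map m) := isIso_of_mono_of_epi _
  have e5 : G.map (cokernel.π (F.map i)) = (F ⋙ G).map p ≫ inv (G.map m) := by
    rw [← e1, Category.assoc, IsIso.hom_inv_id, Category.comp_id]
  rw [e5]
  exact epi_comp _ _

end abstract_nonsense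

/-- `R¹ (k ≫ g)_* H = 0` implies `R¹ g_* (k_* H) = 0`. -/
theorem isZero_Rpush_one_push {X Y Z : Scheme.{u}} (k : X ⟶ Y) (g : Y ⟶ Z) (H : EtCoh.Ab X)
    (h : IsZero ((EtCoh.Rpush (k ≫ g) 1).obj H)) :
    IsZero ((EtCoh.Rpush g 1).obj ((EtCoh.push k).obj H)) := by
  refine isZero_one_of_comp (EtCoh.push k) (EtCoh.push g) (push_injective k) H ?_
  exact h.of_iso ((Groth.Agent.Sga4h.LerayAcyc.rightDerivedCongr (EtCoh.pushComp g k) 1).app H)

end Groth.Agent.Etalg.R1Inj
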