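import Groth.Agent.Etalg.RamKey2
import Groth.Agent.Etalg.RamDVR
import Mathlib.FieldTheory.Perfect

/-!
# Ramification indices, residue fields of valuation subrings, perfect fields: tools for Abhyankar's lemma
-/

set_option autoImplicit false
universe u

namespace Groth.Agent.Etalg.RamApp

open Polynomial TensorProduct IsLocalRing RamRed RamKey RamKey2 RamDVR

/-- Over a perfect field every reduced algebra is geometrically reduced. -/
theorem isGeometricallyReduced_of_perfectField {k R : Type*} [Field k] [PerfectField k] [CommRing R] [Algebra k R]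
    [IsReduced R] : Algebra.IsGeometricallyReduced k R := by
  rw [Algebra.isGeometricallyReduced_field_iff]
  suffices h : IsReduced (R ⊗[k] AlgebraicClosure k) from
    isReduced_of_injective _ (Algebra.TensorProduct.comm k (AlgebraicClosure k) R).injective
  refine IsReduced.tensorProduct_of_flat_of_forall_fg fun S hS => ?_
  obtain ⟨s, rfl⟩ := hS
  let E := IntermediateField.adjoin k (s : Set (AlgebraicClosure k))
  have hfd : FiniteDimensional k E :=
    IntermediateField.finiteDimensional_adjoin (fun x _ => Algebra.IsIntegral.isIntegral x)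
  have hle : Algebra.adjoin k (s : Set (AlgebraicClosure k)) ≤ E.toSubalgebra :=
    Algebra.adjoin_le (IntermediateField.subset_adjoin k _)
  have hred : IsReduced (R ⊗[k] E) := isReduced_tensor_of_finite_separable
  exact isReduced_of_injective (Algebra.TensorProduct.map (AlgHom.id k R) (Subalgebra.inclusion hle))
    (Module.Flat.lTensor_preserves_injective_linearMap (Subalgebra.inclusion hle).toLinearMap
      (Subalgebra.inclusion_injective hle))

/-- Uniformizers and the ramification index. -/
theorem exists_unit_ramificationIdx {A B : Type*} [CommRing A] [IsDomain A] [IsDiscreteValuationRing A] [CommRing B]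
    [IsDomain B] [IsDiscreteValuationRing B] [Algebra A B] [IsLocalHom (algebraMap A B)]
    (hinj : Function.Injective (algebraMap A B)) {π : A} (hπ : Irreducible π) {ρ : B} (hρ : Irreducible ρ) :
    Ideal.ramificationIdx' (maximalIdeal A) (maximalIdeal B) ≠ 0 ∧
    ∃ u : Bˣ, algebraMap A B π = u * ρ ^ Ideal.ramificationIdx' (maximalIdeal A) (maximalIdeal B) := by
  have h0 : algebraMap A B π ≠ 0 := by
    rw [Ne, map_eq_zero_iff _ hinj]; exact hπ.ne_zero
  obtain ⟨n, u, hu⟩ := IsDiscreteValuationRing.eq_unit_mul_pow_irreducible h0 hρ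
  have hmap : (maximalIdeal A).map (algebraMap A B) = maximalIdeal B ^ n := by
    rw [hπ.maximalIdeal_eq, hρ.maximalIdeal_eq, Ideal.map_span, Set.image_singleton, hu, Ideal.span_singleton_pow,
      Ideal.span_singleton_mul_left_unit u.isUnit]
  have hn : Ideal.ramificationIdx' (maximalIdeal A) (maximalIdeal B) = n := by
    refine Ideal.ramificationIdx'_spec hmap.le ?_
    rw [hmap, hρ.maximalIdeal_eq, Ideal.span_singleton_pow, Ideal.span_singleton_pow, Ideal.span_singleton_le_span_singleton]
    intro hdvd
    rw [pow_dvd_pow_iff hρ.ne_zero hρ.not_isUnit] at hdvd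
    omega
  rw [hn]
  refine ⟨?_, u, hu⟩
  rintro rfl
  rw [pow_zero, mul_one] at hu
  have : IsUnit (algebraMap A B π) := by rw [hu]; exact u.isUnit
  exact hπ.not_isUnit (isUnit_of_map_unit (algebraMap A B) _ this)

/-- the residue field extension of an algebraic extension of a DVR is algebraic -/
theorem isAlgebraic_residueField {A V : Type*} [CommRing A] [IsDomain A] [IsDiscreteValuationRing A] [CommRing V]
    [IsDomain V] [IsLocalRing V] [Algebra A V] [IsLocalHom (algebraMap A V)]
    (hinj : Function.Injective (algebraMap A V)) [Algebra.IsAlgebraic A V] :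
    Algebra.IsAlgebraic (ResidueField A) (ResidueField V) := by
  constructor
  intro x
  obtain ⟨x, rfl⟩ := residue_surjective x
  obtain ⟨p, hp0, hpx⟩ := Algebra.IsAlgebraic.isAlgebraic (R := A) x
  obtain ⟨i, hi, hmin⟩ := Finset.exists_min_image p.support (fun i => IsDiscreteValuationRing.addVal A (p.coeff i))
    (support_nonempty.2 hp0)
  have hdvd : C (p.coeff i) ∣ p := by
    rw [C_dvd_iff_dvd_coeff]
    intro j
    by_cases hj : j ∈ p.support
    · rw [← IsDiscreteValuationRing.addVal_le_iff_dvd]; exact hmin j hj
    · rw [notMem_support_iff.1 hj]; exact dvd_zero _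
  obtain ⟨q, hq⟩ := hdvd
  have hci : p.coeff i ≠ 0 := mem_support_iff.1 hi
  have hqi : q.coeff i = 1 := by
    have := congrArg (fun r => r.coeff i) hq
    simp only [coeff_C_mul] at this
    exact (mul_left_cancel₀ hci (by rw [mul_one]; exact this)).symm
  have hqx : aeval x q = 0 := by
    rw [hq, map_mul, aeval_C] at hpx
    refine (mul_eq_zero.1 hpx).resolve_left fun h => ?_
    exact hci ((map_eq_zero_iff _ hinj).1 h)
  refine ⟨q.map (residue A), ?_, ?_⟩
  · intro h
    have := congrArg (fun r => r.coeff i) h
    simp only [coeff_map, hqi, map_one, coeff_zero] at this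
    exact one_ne_zero this
  · have h1 : aeval (residue V x) (q.map (residue A)) = residue V (aeval x q) := by
      rw [aeval_def, eval₂_map, aeval_def, hom_eval₂]
      rfl
    rw [h1, hqx, map_zero]

/-- values below one for the restriction of a valuation subring -/
theorem comap_valuation_lt_one_iff {K₁ M : Type*} [Field K₁] [Field M] (W : ValuationSubring M) (f : K₁ →+* M)
    (x : K₁) : (W.comap f).valuation x < 1 ↔ W.valuation (f x) < 1 := by
  rw [← ValuationSubring.mem_nonunits_iff, ← ValuationSubring.mem_nonunits_iff,
    ValuationSubring.mem_nonunits_iff_or, ValuationSubring.mem_nonunits_iff_or, ValuationSubring.mem_comap,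
    map_inv₀, map_eq_zero]

theorem comap_valuation_eq_one_iff {K₁ M : Type*} [Field K₁] [Field M] (W : ValuationSubring M) (f : K₁ →+* M)
    (x : K₁) : (W.comap f).valuation x = 1 ↔ W.valuation (f x) = 1 := by
  have h1 : (W.comap f).valuation x ≤ 1 ↔ W.valuation (f x) ≤ 1 := by
    rw [ValuationSubring.valuation_le_one_iff, ValuationSubring.valuation_le_one_iff, ValuationSubring.mem_comap]
  have h2 := comap_valuation_lt_one_iff W f x
  constructor
  · intro h
    exact le_antisymm (h1.1 h.le) (not_lt.1 fun h' => absurd h (h2.2 h').ne)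
  · intro h
    exact le_antisymm (h1.2 h.le) (not_lt.1 fun h' => absurd h (h2.1 h').ne)

/-- the map from a dominated ring to the valuation subring is local -/
theorem isLocalHom_codRestrict {A : Type u} [CommRing A] [IsLocalRing A] {F : Type u} [Field F] {g : A →+* F}
    {V : ValuationSubring F} (h : EtRam.Dominates A g V) : IsLocalHom (RingHom.codRestrict g V h.1) := by
  constructor
  intro a ha
  by_contra hcon
  have h1 : a ∈ maximalIdeal A := by rwa [mem_maximalIdeal, mem_nonunits_iff]
  have h2 := h.2 a h1
  have h3 := (V.valuation_eq_one_iff _).1 ha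
  exact absurd h3 h2.ne

section

variable {B : Type u} [CommRing B] [IsLocalRing B] {K L K₁ : Type u} [Field K] [Field L] [Field K₁]
  [Algebra K L] [Algebra K K₁] [Algebra B L]

/-- the compositum is finite over `L` -/
theorem finite_of_adjoin_eq_top {K L K₁ M : Type*} [Field K] [Field L] [Field K₁] [Algebra K L] [Algebra K K₁]
    [Field M] [Algebra K M] [Algebra L M] [Algebra K₁ M] [IsScalarTower K L M]
    [IsScalarTower K K₁ M] [FiniteDimensional K K₁]
    (hadj : Algebra.adjoin L (Set.range (algebraMap K₁ M)) = ⊤) : FiniteDimensional L M := by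
  let f : L ⊗[K] K₁ →ₐ[L] M := Algebra.TensorProduct.lift (Algebra.ofId L M) (IsScalarTower.toAlgHom K K₁ M)
    (fun _ _ => Commute.all _ _)
  have hf : Function.Surjective f := by
    rw [← AlgHom.range_eq_top, eq_top_iff, ← hadj]
    refine Algebra.adjoin_le ?_
    rintro _ ⟨x, rfl⟩
    exact ⟨1 ⊗ₜ x, by simp [f]⟩
  exact Module.Finite.of_surjective f.toLinearMap hf

end

end Groth.Agent.Etalg.RamApp
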