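import Groth.Agent.Etalg.RamDVR2
import Mathlib.NumberTheory.RamificationInertia.Ramification
import Mathlib.FieldTheory.Separable

/-!
# Towers: multiplicativity of ramification indices, residue fields
-/

set_option autoImplicit false
universe u

open IsLocalRing EtRam Groth.Agent.Etalg.RamBasic Groth.Agent.Etalg.RamDVR2

namespace Groth.Agent.Etalg.RamTower

section Rings

variable {A B C : Type u} [CommRing A] [IsDomain A] [IsDiscreteValuationRing A]
  [CommRing B] [IsDomain B] [IsDiscreteValuationRing B]
  [CommRing C] [IsDomain C] [IsDiscreteValuationRing C]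

theorem injective_of_isLocalHom (f : A →+* B) [IsLocalHom f] (hf : (maximalIdeal A).map f ≠ ⊥) :
    Function.Injective f := by
  rw [injective_iff_map_eq_zero]
  intro a ha
  by_contra ha0
  obtain ⟨π, hπ⟩ := IsDiscreteValuationRing.exists_irreducible A
  obtain ⟨n, u, rfl⟩ := IsDiscreteValuationRing.eq_unit_mul_pow_irreducible ha0 hπ
  rw [map_mul, mul_eq_zero, map_pow] at ha
  rcases ha with ha | ha
  · have := (u.isUnit.map f)
    rw [ha] at this
    exact not_isUnit_zero this
  · have hπ0 : f π = 0 := by
      exact eq_zero_of_pow_eq_zero ha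
    apply hf
    rw [hπ.maximalIdeal_eq, Ideal.map_span, Set.image_singleton, hπ0]
    simp

/-- The ramification index of an extension of discrete valuation rings is the exponent of the uniformizer. -/
theorem map_maximalIdeal_eq_pow [Algebra A B] [IsLocalHom (algebraMap A B)]
    (hinj : Function.Injective (algebraMap A B)) :
    (maximalIdeal A).map (algebraMap A B) =
      maximalIdeal B ^ Ideal.ramificationIdx' (maximalIdeal A) (maximalIdeal B) := by
  have hne : (maximalIdeal A).map (algebraMap A B) ≠ ⊥ := by
    rw [Ne, Ideal.map_eq_bot_iff_of_injective hinj]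
    exact IsDiscreteValuationRing.not_a_field A
  obtain ⟨ϖ, hϖ⟩ := IsDiscreteValuationRing.exists_irreducible B
  obtain ⟨n, hn⟩ := IsDiscreteValuationRing.ideal_eq_span_pow_irreducible hne hϖ
  have h1 : (maximalIdeal A).map (algebraMap A B) = maximalIdeal B ^ n := by
    rw [hn, hϖ.maximalIdeal_eq, Ideal.span_singleton_pow]
  have h2 : Ideal.ramificationIdx' (maximalIdeal A) (maximalIdeal B) = n := by
    refine Ideal.ramificationIdx'_spec h1.le ?_
    intro hle
    rw [h1, hϖ.maximalIdeal_eq, Ideal.span_singleton_pow, Ideal.span_singleton_pow,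
      Ideal.span_singleton_le_span_singleton] at hle
    have := (pow_dvd_pow_iff hϖ.ne_zero hϖ.not_isUnit).mp hle
    lia
  rw [h2, h1]

theorem ramificationIdx'_ne_zero [Algebra A B] [IsLocalHom (algebraMap A B)]
    (hinj : Function.Injective (algebraMap A B)) :
    Ideal.ramificationIdx' (maximalIdeal A) (maximalIdeal B) ≠ 0 := by
  intro h0
  have h1 := map_maximalIdeal_eq_pow hinj
  rw [h0, pow_zero, Ideal.one_eq_top] at h1
  have h2 : (maximalIdeal A).map (algebraMap A B) ≤ maximalIdeal B :=
    (((local_hom_TFAE (algebraMap A B)).out 0 2 rfl rfl).mp ‹_›)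
  rw [h1, top_le_iff] at h2
  exact (maximalIdeal.isMaximal B).ne_top h2

/-- `ramificationIdx' = n` iff `m_A B = m_B ^ n`. -/
theorem ramificationIdx'_eq_iff [Algebra A B] [IsLocalHom (algebraMap A B)]
    (hinj : Function.Injective (algebraMap A B)) (n : ℕ) :
    Ideal.ramificationIdx' (maximalIdeal A) (maximalIdeal B) = n ↔
      (maximalIdeal A).map (algebraMap A B) = maximalIdeal B ^ n := by
  refine ⟨fun h => h ▸ map_maximalIdeal_eq_pow hinj, fun h => ?_⟩
  have h1 := map_maximalIdeal_eq_pow hinj
  rw [h] at h1
  obtain ⟨ϖ, hϖ⟩ := IsDiscreteValuationRing.exists_irreducible B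
  rw [hϖ.maximalIdeal_eq, Ideal.span_singleton_pow, Ideal.span_singleton_pow] at h1
  have h2 : ϖ ^ n ∣ ϖ ^ Ideal.ramificationIdx' (maximalIdeal A) (Ideal.span {ϖ}) :=
    (Ideal.span_singleton_le_span_singleton).mp h1.ge
  have h3 : ϖ ^ Ideal.ramificationIdx' (maximalIdeal A) (Ideal.span {ϖ}) ∣ ϖ ^ n :=
    (Ideal.span_singleton_le_span_singleton).mp h1.le
  rw [pow_dvd_pow_iff hϖ.ne_zero hϖ.not_isUnit] at h2 h3
  rw [hϖ.maximalIdeal_eq]
  exact le_antisymm h3 h2

/-- Weakly unramified means ramification index one. -/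
theorem isWeaklyUnramified_iff [Algebra A B] [IsLocalHom (algebraMap A B)]
    (hinj : Function.Injective (algebraMap A B)) :
    IsWeaklyUnramified A B ↔ Ideal.ramificationIdx' (maximalIdeal A) (maximalIdeal B) = 1 := by
  rw [ramificationIdx'_eq_iff hinj, pow_one]
  rfl

/-- Multiplicativity of the ramification index in towers of discrete valuation rings. -/
theorem ramificationIdx'_tower [Algebra A B] [Algebra B C] [Algebra A C] [IsScalarTower A B C]
    [IsLocalHom (algebraMap A B)] [IsLocalHom (algebraMap B C)]
    (h1 : Function.Injective (algebraMap A B)) (h2 : Function.Injective (algebraMap B C)) :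
    Ideal.ramificationIdx' (maximalIdeal A) (maximalIdeal C) =
      Ideal.ramificationIdx' (maximalIdeal A) (maximalIdeal B) *
        Ideal.ramificationIdx' (maximalIdeal B) (maximalIdeal C) := by
  have h3 : Function.Injective (algebraMap A C) := by
    rw [IsScalarTower.algebraMap_eq A B C]
    exact h2.comp h1
  refine Ideal.ramificationIdx'_algebra_tower ?_ ?_ ?_
  · rw [Ne, Ideal.map_eq_bot_iff_of_injective h2]
    exact IsDiscreteValuationRing.not_a_field B
  · rw [Ne, Ideal.map_eq_bot_iff_of_injective h3]
    exact IsDiscreteValuationRing.not_a_field A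
  · exact (((local_hom_TFAE (algebraMap B C)).out 0 2 rfl rfl).mp ‹_›)

end Rings

end Groth.Agent.Etalg.RamTower
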