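import Groth.Agent.Etalg.RamBasic
import Groth.Agent.Etalg.RamDVR
import Groth.Agent.Etalg.RamTower
import Mathlib.RingTheory.RamificationInertia.Basic
import Mathlib.RingTheory.DedekindDomain.Dvr
import Mathlib.RingTheory.DedekindDomain.IntegralClosure
import Mathlib.FieldTheory.SeparableClosure
import Mathlib.FieldTheory.PurelyInseparable.Tower

/-!
Dictionary between valuation subrings `V` of a finite separable extension `L` of `K = Frac A`
(`A` a DVR) dominating `A` and maximal ideals `n` of the integral closure `C` of `A` in `L`.
-/

set_option autoImplicit false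
universe u

open IsLocalRing EtRam

namespace Groth.Agent.Etalg.RamDict

section Setup

variable {A L C : Type u} [CommRing A] [IsLocalRing A] [Field L] [CommRing C] [Algebra A C]
  [Algebra C L] [Algebra A L] [IsScalarTower A C L] [IsIntegralClosure C A L]

variable (C) in
/-- The image of the integral closure is contained in every dominating valuation subring. -/
theorem algebraMap_mem {V : ValuationSubring L} (h : ∀ a, algebraMap A L a ∈ V) (c : C) :
    algebraMap C L c ∈ V := by
  have hc : IsIntegral A (algebraMap C L c) :=
    (IsIntegralClosure.isIntegral A L c).map (IsScalarTower.toAlgHom A C L)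
  let _ : Algebra A V := ((algebraMap A L).codRestrict V h).toAlgebra
  have : IsScalarTower A V L := IsScalarTower.of_algebraMap_eq' rfl
  have h2 : IsIntegral V (algebraMap C L c) := hc.tower_top
  obtain ⟨v, hv⟩ := IsIntegrallyClosed.algebraMap_eq_of_integral h2
  rw [← hv]
  exact v.2

variable (C) in
/-- The map `C → V`. -/
def toV {V : ValuationSubring L} (h : ∀ a, algebraMap A L a ∈ V) : C →+* V :=
  (algebraMap C L).codRestrict V (algebraMap_mem C h)

@[simp] theorem coe_toV {V : ValuationSubring L} (h : ∀ a, algebraMap A L a ∈ V) (c : C) :
    (toV C h c : L) = algebraMap C L c := rfl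

variable (C) in
/-- The ideal of `C` cut out by the maximal ideal of `V`. -/
def center {V : ValuationSubring L} (h : ∀ a, algebraMap A L a ∈ V) : Ideal C :=
  (maximalIdeal V).comap (toV C h)

instance center_isPrime {V : ValuationSubring L} (h : ∀ a, algebraMap A L a ∈ V) :
    (center C h).IsPrime := by
  unfold center; infer_instance

theorem mem_center_iff {V : ValuationSubring L} (h : ∀ a, algebraMap A L a ∈ V) (c : C) :
    c ∈ center C h ↔ V.valuation (algebraMap C L c) < 1 := by
  unfold center
  rw [Ideal.mem_comap, ValuationSubring.valuation_lt_one_iff, coe_toV]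

theorem center_liesOver {V : ValuationSubring L} (h : Dominates A (algebraMap A L) V) :
    (center C h.1).LiesOver (maximalIdeal A) := by
  constructor
  ext a
  rw [Ideal.under_def, Ideal.mem_comap, mem_center_iff, ← IsScalarTower.algebraMap_apply,
    RamDVR.valuation_lt_one_iff h]

theorem center_isMaximal [Algebra.IsIntegral A C] {V : ValuationSubring L}
    (h : Dominates A (algebraMap A L) V) : (center C h.1).IsMaximal := by
  have h1 := center_liesOver (C := C) h
  have h2 : ((center C h.1).comap (algebraMap A C)).IsMaximal := by
    have := h1.over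
    rw [Ideal.under_def] at this
    rw [← this]
    exact maximalIdeal.isMaximal A
  exact Ideal.isMaximal_of_isIntegral_of_isMaximal_comap _ h2

end Setup

section Local

variable {A L C : Type u} [CommRing A] [IsDomain A] [IsDiscreteValuationRing A] [Field L]
  [CommRing C] [IsDedekindDomain C] [Algebra A C] [Algebra C L] [IsFractionRing C L]
  [Algebra A L] [IsScalarTower A C L] [IsIntegralClosure C A L]

variable (C) in
/-- `V` is the localization of the integral closure `C` at its center. -/
theorem isLocalization_atPrime (hinj : Function.Injective (algebraMap A L))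
    {V : ValuationSubring L} (h : Dominates A (algebraMap A L) V) :
    letI : Algebra C V := (toV C h.1).toAlgebra
    IsLocalization.AtPrime V (center C h.1) := by
  letI : Algebra C V := (toV C h.1).toAlgebra
  have hCV : Function.Injective (algebraMap C V) := fun x y hxy ↦
    IsFractionRing.injective C L (congrArg Subtype.val hxy)
  have hover := center_liesOver (C := C) h
  have hn0 : center C h.1 ≠ ⊥ := by
    intro h0
    have h1 := hover.over
    rw [h0, Ideal.under_def, ← RingHom.ker_eq_comap_bot,
      (RingHom.injective_iff_ker_eq_bot _).mp ?_] at h1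
    · exact IsDiscreteValuationRing.not_a_field A h1
    · rw [IsScalarTower.algebraMap_eq A C L] at hinj
      exact Function.Injective.of_comp hinj
  refine (isLocalization_iff _ _).mpr ⟨?_, ?_, ?_⟩
  · rintro ⟨x, hx⟩
    by_contra hu
    exact hx ((mem_maximalIdeal _).mpr hu)
  · intro v
    -- the localization at the center is a DVR with fraction field `L`
    let Cn := Localization.AtPrime (center C h.1)
    have hdvr : IsDiscreteValuationRing Cn :=
      IsLocalization.AtPrime.isDiscreteValuationRing_of_dedekind_domain C hn0 Cn
    have hun : ∀ y : (center C h.1).primeCompl, IsUnit (algebraMap C V y) := by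
      rintro ⟨x, hx⟩
      by_contra hu
      exact hx ((mem_maximalIdeal _).mpr hu)
    let φ : Cn →+* V := IsLocalization.lift (M := (center C h.1).primeCompl) hun
    have hφ : ∀ c : C, φ (algebraMap C Cn c) = algebraMap C V c := fun c ↦ IsLocalization.lift_eq _ c
    have key : ∃ t : Cn, φ t = v := by
      obtain ⟨a, b, hb, hab⟩ := IsFractionRing.div_surjective C (v : L)
      have hb0 : algebraMap C L b ≠ 0 := by
        rw [Ne, map_eq_zero_iff _ (IsFractionRing.injective C L)]
        exact nonZeroDivisors.ne_zero hb
      rcases ValuationRing.dvd_total (algebraMap C Cn b) (algebraMap C Cn a) with ⟨t, ht⟩ | ⟨t, ht⟩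
      · refine ⟨t, ?_⟩
        have h1 := congrArg φ ht
        rw [map_mul, hφ, hφ] at h1
        apply Subtype.ext
        have h2 : algebraMap C L a = algebraMap C L b * (φ t : L) := congrArg Subtype.val h1
        rw [← hab, h2, mul_div_cancel_left₀ _ hb0]
      · have h1 := congrArg φ ht
        rw [map_mul, hφ, hφ] at h1
        have h2 : algebraMap C L b = algebraMap C L a * (φ t : L) := congrArg Subtype.val h1
        have h3 : (v : L) * (φ t : L) = 1 := by
          rw [← hab, div_mul_eq_mul_div, ← h2, div_self hb0]
        have h4 : v * φ t = 1 := Subtype.ext h3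
        have h5 : IsUnit (φ t) := IsUnit.of_mul_eq_one_right v h4
        have h6 : IsUnit t := by
          obtain ⟨c, s, rfl⟩ := IsLocalization.exists_mk'_eq (center C h.1).primeCompl t
          rw [IsLocalization.AtPrime.isUnit_mk'_iff Cn (center C h.1)]
          intro hc
          have h7 : φ (algebraMap C Cn c) ∈ maximalIdeal V := by
            rw [hφ]; exact hc
          have h8 : φ (algebraMap C Cn c) =
              φ (IsLocalization.mk' Cn c s) * φ (algebraMap C Cn s) := by
            rw [← map_mul, IsLocalization.mk'_spec]
          rw [h8] at h7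
          rw [hφ] at h7
          exact (mem_maximalIdeal _).mp h7 (h5.mul (hun s))
        obtain ⟨u, rfl⟩ := h6
        refine ⟨((u⁻¹ : Cnˣ) : Cn), ?_⟩
        have h9 : φ (u : Cn) * φ ((u⁻¹ : Cnˣ) : Cn) = 1 := by
          rw [← map_mul, Units.mul_inv, map_one]
        calc φ ((u⁻¹ : Cnˣ) : Cn) = v * φ (u : Cn) * φ ((u⁻¹ : Cnˣ) : Cn) := by rw [h4, one_mul]
          _ = v := by rw [mul_assoc, h9, mul_one]
    obtain ⟨t, ht⟩ := key
    obtain ⟨c, s, rfl⟩ := IsLocalization.exists_mk'_eq (center C h.1).primeCompl t
    refine ⟨(c, s), ?_⟩
    rw [← ht, ← hφ, ← hφ, ← map_mul, IsLocalization.mk'_spec]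
  · intro x y hxy
    exact ⟨1, by simpa using hCV hxy⟩

variable (C) in
/-- Every maximal ideal of the integral closure is the center of a dominating valuation subring. -/
theorem exists_center_eq [Algebra.IsIntegral A C] (n : Ideal C) [hn : n.IsMaximal] :
    ∃ (V : ValuationSubring L) (h : Dominates A (algebraMap A L) V), center C h.1 = n := by
  have hover : n.LiesOver (maximalIdeal A) := by
    constructor
    have := Ideal.isMaximal_comap_of_isIntegral_of_isMaximal (R := A) n
    exact (IsLocalRing.eq_maximalIdeal this).symm
  have hun : ∀ y : n.primeCompl, IsUnit (algebraMap C L y) := by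
    rintro ⟨x, hx⟩
    rw [isUnit_iff_ne_zero, Ne, map_eq_zero_iff _ (IsFractionRing.injective C L)]
    rintro rfl
    exact hx n.zero_mem
  let g : Localization.AtPrime n →+* L := IsLocalization.lift (M := n.primeCompl) hun
  have hg : ∀ c : C, g (algebraMap C _ c) = algebraMap C L c := fun c ↦ IsLocalization.lift_eq _ c
  obtain ⟨V, hV⟩ := RamBasic.exists_dominates g
  have hlt : ∀ c : C, V.valuation (algebraMap C L c) < 1 ↔ c ∈ n := by
    intro c
    rw [← hg, RamDVR.valuation_lt_one_iff hV, IsLocalization.AtPrime.to_map_mem_maximal_iff _ n]
  have hD : Dominates A (algebraMap A L) V := by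
    refine ⟨fun a ↦ ?_, fun a ha ↦ ?_⟩
    · rw [IsScalarTower.algebraMap_apply A C L, ← hg]
      exact hV.1 _
    · rw [IsScalarTower.algebraMap_apply A C L, hlt]
      have h1 := hover.over
      rw [h1] at ha
      exact ha
  refine ⟨V, hD, ?_⟩
  ext c
  rw [mem_center_iff, hlt]

variable (C) in
theorem ramificationIdx_center (hinj : Function.Injective (algebraMap A L))
    {V : ValuationSubring L} (h : Dominates A (algebraMap A L) V) [IsDiscreteValuationRing V] :
    letI : Algebra A V := ((algebraMap A L).codRestrict V h.1).toAlgebra
    Ideal.ramificationIdx' (maximalIdeal A) (maximalIdeal V) = (center C h.1).ramificationIdx A := by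
  let _ : Algebra A V := ((algebraMap A L).codRestrict V h.1).toAlgebra
  let _ : Algebra C V := (toV C h.1).toAlgebra
  have htow : IsScalarTower A C V := IsScalarTower.of_algebraMap_eq fun a ↦
    Subtype.ext (IsScalarTower.algebraMap_apply A C L a)
  have hloc : IsLocalization.AtPrime V (center C h.1) := isLocalization_atPrime C hinj h
  have hlocal : IsLocalHom (algebraMap A V) := RamBasic.Dominates.isLocalHom h
  have hover1 : (maximalIdeal V).LiesOver (maximalIdeal A) := inferInstance
  have hover2 : (maximalIdeal V).LiesOver (center C h.1) := ⟨rfl⟩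
  have hAV : Function.Injective (algebraMap A V) := by
    intro x y hxy
    exact hinj (congrArg Subtype.val hxy)
  have hTF : Module.IsTorsionFree A V := Module.isTorsionFree_iff_algebraMap_injective.mpr hAV
  have h1 : Ideal.ramificationIdx' (maximalIdeal A) (maximalIdeal V) =
      (maximalIdeal V).ramificationIdx A :=
    Ideal.ramificationIdx'_eq_ramificationIdx _ _ (IsDiscreteValuationRing.not_a_field A)
  have hflat : Module.Flat C V := IsLocalization.flat V (center C h.1).primeCompl
  have h2 : (maximalIdeal V).ramificationIdx A =
      (center C h.1).ramificationIdx A * (maximalIdeal V).ramificationIdx C :=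
    Ideal.ramificationIdx_tower _ _
  have hunr : Algebra.IsUnramifiedAt C (maximalIdeal V) := by
    have e1 : Algebra.FormallyUnramified C V :=
      Algebra.FormallyUnramified.of_isLocalization (center C h.1).primeCompl
    have e2 : Algebra.FormallyUnramified V (Localization.AtPrime (maximalIdeal V)) :=
      Algebra.FormallyUnramified.of_isLocalization (maximalIdeal V).primeCompl
    exact Algebra.FormallyUnramified.comp C V _
  have hess : Algebra.EssFiniteType C V :=
    Algebra.EssFiniteType.of_isLocalization V (center C h.1).primeCompl
  have h3 : (maximalIdeal V).ramificationIdx C = 1 := Ideal.ramificationIdx_eq_one _ _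
  rw [h1, h2, h3, mul_one]

variable (C) in
theorem isWeaklyUnramified_iff_center (hinj : Function.Injective (algebraMap A L))
    {V : ValuationSubring L} (h : Dominates A (algebraMap A L) V) [IsDiscreteValuationRing V] :
    letI : Algebra A V := ((algebraMap A L).codRestrict V h.1).toAlgebra
    IsWeaklyUnramified A V ↔ (center C h.1).ramificationIdx A = 1 := by
  let _ : Algebra A V := ((algebraMap A L).codRestrict V h.1).toAlgebra
  have hlocal : IsLocalHom (algebraMap A V) := RamBasic.Dominates.isLocalHom h
  have hAV : Function.Injective (algebraMap A V) := by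
    intro x y hxy
    exact hinj (congrArg Subtype.val hxy)
  have h1 := RamTower.isWeaklyUnramified_iff hAV
  rw [ramificationIdx_center C hinj h] at h1
  exact h1

attribute [local instance] Ideal.Quotient.field

variable (C) in
theorem isSeparable_iff_center (hinj : Function.Injective (algebraMap A L))
    {V : ValuationSubring L} (h : Dominates A (algebraMap A L) V)
    [(center C h.1).IsMaximal] [(center C h.1).LiesOver (maximalIdeal A)] :
    letI : Algebra A V := ((algebraMap A L).codRestrict V h.1).toAlgebra
    ∀ [IsLocalHom (algebraMap A V)],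
    Algebra.IsSeparable (ResidueField A) (ResidueField V) ↔
      Algebra.IsSeparable (A ⧸ maximalIdeal A) (C ⧸ center C h.1) := by
  let _ : Algebra A V := ((algebraMap A L).codRestrict V h.1).toAlgebra
  intro hlocal
  let _ : Algebra C V := (toV C h.1).toAlgebra
  have hloc : IsLocalization.AtPrime V (center C h.1) := isLocalization_atPrime C hinj h
  let e : (C ⧸ center C h.1) ≃+* ResidueField V :=
    IsLocalization.AtPrime.equivQuotMaximalIdeal (center C h.1) V
  let e₁ : (A ⧸ maximalIdeal A) ≃+* ResidueField A := RingEquiv.refl _
  refine (Algebra.IsSeparable.iff_of_equiv_equiv e₁ e ?_).symm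
  ext a
  have e1 : e (Ideal.Quotient.mk _ (algebraMap A C a)) =
      Ideal.Quotient.mk _ (algebraMap C V (algebraMap A C a)) :=
    IsLocalization.AtPrime.equivQuotMaximalIdeal_apply_mk (center C h.1) V _
  show IsLocalRing.residue V (algebraMap A V a) = e (Ideal.Quotient.mk _ (algebraMap A C a))
  rw [e1]
  show IsLocalRing.residue V _ = IsLocalRing.residue V _
  congr 1
  exact Subtype.ext (IsScalarTower.algebraMap_apply A C L a)

end Local

end Groth.Agent.Etalg.RamDict
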