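import Groth.Agent.Etalg.InertiaIndex
import Groth.Agent.Etalg.RamDict
import Mathlib.FieldTheory.Galois.NormalBasis
import Mathlib.FieldTheory.IsSepClosed
import Mathlib.RingTheory.DedekindDomain.IntegralClosure

/-!
Galois-theoretic criteria for a subextension of a Galois extension to be unramified / tamely
ramified with respect to a DVR.
-/

set_option autoImplicit false
open scoped Pointwise
universe u
open IsLocalRing EtRam
open Groth.Agent.Etalg.InertiaBasic Groth.Agent.Etalg.InertiaTame
  Groth.Agent.Etalg.InertiaStructure Groth.Agent.Etalg.InertiaWild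
  Groth.Agent.Etalg.InertiaIndex Groth.Agent.Etalg.RamDict

namespace Groth.Agent.Etalg.RamCrit

attribute [local instance] Ideal.Quotient.field

/-- `e * f_i` at a maximal ideal of a ring extension. -/
noncomputable def ramDeg {A C : Type*} [CommRing A] [CommRing C] [Algebra A C]
    (p : Ideal A) (n : Ideal C) [p.IsMaximal] [n.IsMaximal] [n.LiesOver p] : ℕ :=
  n.ramificationIdx A * Field.finInsepDegree (A ⧸ p) (C ⧸ n)

section Ext

variable {A K L : Type u} (C : Type u) [CommRing A] [IsDomain A] [IsDiscreteValuationRing A]
  [Field K] [Algebra A K] [IsFractionRing A K] [Field L] [Algebra K L] [Algebra A L]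
  [IsScalarTower A K L] [FiniteDimensional K L] [Algebra.IsSeparable K L]
  [CommRing C] [IsDomain C] [Algebra A C] [Algebra C L] [IsScalarTower A C L]
  [IsIntegralClosure C A L]

include K in
theorem injective_algebraMap : Function.Injective (algebraMap A L) := by
  rw [IsScalarTower.algebraMap_eq A K L]
  exact (algebraMap K L).injective.comp (IsFractionRing.injective A K)

include K in
theorem isUnramifiedExt_iff :
    IsUnramifiedExt A (algebraMap A L) ↔
      ∀ (n : Ideal C) [n.IsMaximal] [n.LiesOver (maximalIdeal A)],
        ramDeg (maximalIdeal A) n = 1 := by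
  have hinj : Function.Injective (algebraMap A L) := injective_algebraMap (K := K)
  have hfrac : IsFractionRing C L := IsIntegralClosure.isFractionRing_of_finite_extension A K L C
  have hded : IsDedekindDomain C := IsIntegralClosure.isDedekindDomain A K L C
  have hintC : Algebra.IsIntegral A C := IsIntegralClosure.isIntegral_algebra A L
  have hmap : algebraMap A L = (algebraMap K L).comp (algebraMap A K) :=
    IsScalarTower.algebraMap_eq A K L
  constructor
  · intro hU n hn hover
    obtain ⟨V, hV, rfl⟩ := exists_center_eq C (L := L) (A := A) n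
    have hdvr : IsDiscreteValuationRing V := by
      refine RamDVR.isDVR_of_dominates (A := A) (K := K) (F := L) ?_
      rwa [hmap] at hV
    let _ : Algebra A V := ((algebraMap A L).codRestrict V hV.1).toAlgebra
    have hlocal : IsLocalHom (algebraMap A V) := RamBasic.Dominates.isLocalHom hV
    obtain ⟨h1, h2⟩ := hU V hV
    have h3 := (isWeaklyUnramified_iff_center C hinj hV).mp h1
    have h4 := (isSeparable_iff_center C hinj hV).mp h2
    have h5 := (isSeparable_iff_finInsepDegree_eq_one _ _).mp h4
    rw [ramDeg, h3, h5]
  · intro hX V hV hlocal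
    have hdvr : IsDiscreteValuationRing V := by
      refine RamDVR.isDVR_of_dominates (A := A) (K := K) (F := L) ?_
      rwa [hmap] at hV
    have hmax : (center C hV.1).IsMaximal := center_isMaximal hV
    have hover : (center C hV.1).LiesOver (maximalIdeal A) := center_liesOver hV
    have h1 := hX (center C hV.1)
    rw [ramDeg, mul_eq_one] at h1
    exact ⟨(isWeaklyUnramified_iff_center C hinj hV).mpr h1.1,
      (isSeparable_iff_center C hinj hV).mpr
        ((isSeparable_iff_finInsepDegree_eq_one _ _).mpr h1.2)⟩

include K in
theorem isTamelyRamified_iff (q : ℕ) [ExpChar (A ⧸ maximalIdeal A) q] :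
    IsTamelyRamified A (algebraMap A L) ↔
      ∀ (n : Ideal C) [n.IsMaximal] [n.LiesOver (maximalIdeal A)],
        Nat.Coprime q (ramDeg (maximalIdeal A) n) := by
  have hinj : Function.Injective (algebraMap A L) := injective_algebraMap (K := K)
  have hfrac : IsFractionRing C L := IsIntegralClosure.isFractionRing_of_finite_extension A K L C
  have hded : IsDedekindDomain C := IsIntegralClosure.isDedekindDomain A K L C
  have hintC : Algebra.IsIntegral A C := IsIntegralClosure.isIntegral_algebra A L
  have hfinC : Module.Finite A C := IsIntegralClosure.finite A K L C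
  have hmap : algebraMap A L = (algebraMap K L).comp (algebraMap A K) :=
    IsScalarTower.algebraMap_eq A K L
  have hexp : ExpChar (A ⧸ maximalIdeal A) q := inferInstance
  constructor
  · intro hU n hn hover
    obtain ⟨V, hV, rfl⟩ := exists_center_eq C (L := L) (A := A) n
    have hdvr : IsDiscreteValuationRing V := by
      refine RamDVR.isDVR_of_dominates (A := A) (K := K) (F := L) ?_
      rwa [hmap] at hV
    let _ : Algebra A V := ((algebraMap A L).codRestrict V hV.1).toAlgebra
    have hlocal : IsLocalHom (algebraMap A V) := RamBasic.Dominates.isLocalHom hV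
    obtain ⟨h1, h2⟩ := hU V hV
    have h4 := (isSeparable_iff_center C hinj hV).mp h1
    have h5 := (isSeparable_iff_finInsepDegree_eq_one _ _).mp h4
    rw [ramDeg, h5, mul_one]
    rcases hexp with _ | ⟨hqp⟩
    · exact Nat.coprime_one_left _
    · have hc : CharP (ResidueField A) q := inferInstanceAs (CharP (A ⧸ maximalIdeal A) q)
      have h3 := h2 q hqp hc
      rw [ramificationIdx_center C hinj hV] at h3
      exact (Nat.Prime.coprime_iff_not_dvd hqp).mpr h3
  · intro hX V hV hlocal
    have hdvr : IsDiscreteValuationRing V := by
      refine RamDVR.isDVR_of_dominates (A := A) (K := K) (F := L) ?_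
      rwa [hmap] at hV
    have hmax : (center C hV.1).IsMaximal := center_isMaximal hV
    have hover : (center C hV.1).LiesOver (maximalIdeal A) := center_liesOver hV
    have h1 := hX (center C hV.1)
    rw [ramDeg, Nat.coprime_mul_iff_right] at h1
    refine ⟨(isSeparable_iff_center C hinj hV).mpr
        ((isSeparable_iff_finInsepDegree_eq_one _ _).mpr ?_), ?_⟩
    · obtain ⟨k, hk⟩ := finInsepDegree_eq_pow (A ⧸ maximalIdeal A) (C ⧸ center C hV.1) q
      rw [hk] at h1 ⊢
      rcases Nat.eq_zero_or_pos k with rfl | hk0
      · simp
      · have := h1.2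
        rw [Nat.coprime_pow_right_iff hk0, Nat.coprime_self] at this
        rw [this, one_pow]
    · intro p hp hc
      have h2 := ramificationIdx_center C hinj hV
      have hc' : CharP (A ⧸ maximalIdeal A) p := hc
      have hqp : q = p := by
        have : ExpChar (A ⧸ maximalIdeal A) p := ExpChar.prime hp
        exact ExpChar.eq hexp this
      subst hqp
      have h3 := (Nat.Prime.coprime_iff_not_dvd hp).mp h1.1
      rw [← h2] at h3
      exact h3

end Ext

section Galois

variable {A K M : Type u} (B : Type u) [CommRing A] [IsDomain A] [IsDiscreteValuationRing A]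
  [Field K] [Algebra A K] [IsFractionRing A K] [Field M] [Algebra K M] [Algebra A M]
  [IsScalarTower A K M] [FiniteDimensional K M] [IsGalois K M]
  [CommRing B] [IsDomain B] [Algebra A B] [Algebra B M] [IsScalarTower A B M]
  [IsIntegralClosure B A M]
  (G : Type u) [Group G] [Finite G] [MulSemiringAction G M] [IsGaloisGroup G K M]
  [MulSemiringAction G B] [SMulDistribClass G B M]
  (L : Type u) [Field L] [Algebra K L] [Algebra L M] [IsScalarTower K L M]
  [Algebra A L] [IsScalarTower A K L]

/-- The subgroup of `G` fixing the subextension `L`. -/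
def fixSub : Subgroup G := fixingSubgroup G (Set.range (algebraMap L M))

variable (K) in
include K in
theorem relIndex_fixSub_inertia (C : Type u) [CommRing C] [IsDomain C] [Algebra A C] [Algebra C L]
    [IsScalarTower A C L] [IsIntegralClosure C A L] [Algebra C B] [IsScalarTower A C B]
    [Algebra C M] [IsScalarTower C B M] [IsScalarTower C L M]
    (n : Ideal C) (m : Ideal B) [n.IsMaximal] [m.IsMaximal]
    [n.LiesOver (maximalIdeal A)] [m.LiesOver n] [m.LiesOver (maximalIdeal A)] :
    (fixSub (M := M) G L).relIndex (m.inertia G) = ramDeg (maximalIdeal A) n := by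
  have hKL : FiniteDimensional K L := FiniteDimensional.left K L M
  have hsepKL : Algebra.IsSeparable K L := Algebra.isSeparable_tower_bot_of_isSeparable K L M
  have hfrac : IsFractionRing C L := IsIntegralClosure.isFractionRing_of_finite_extension A K L C
  have hded : IsDedekindDomain C := IsIntegralClosure.isDedekindDomain A K L C
  have hfinC : Module.Finite A C := IsIntegralClosure.finite A K L C
  have hfrac' : IsFractionRing B M := IsIntegralClosure.isFractionRing_of_finite_extension A K M B
  have hded' : IsDedekindDomain B := IsIntegralClosure.isDedekindDomain A K M B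
  have hfinB : Module.Finite A B := IsIntegralClosure.finite A K M B
  have hfinCB : Module.Finite C B := Module.Finite.of_restrictScalars_finite A C B
  have hG1 : IsGaloisGroup G A B := IsGaloisGroup.of_isFractionRing G A B K M
  have hG2 : IsGaloisGroup (fixSub (M := M) G L) L M := IsGaloisGroup.of_isScalarTower G K M L
  have hG3 : SMulDistribClass (fixSub (M := M) G L) B M := ⟨fun g b l ↦ by
    exact smul_distrib_smul (g : G) b l⟩
  have hG4 : IsGaloisGroup (fixSub (M := M) G L) C B := IsGaloisGroup.of_isFractionRing _ C B L M
  have hinjA : Function.Injective (algebraMap A M) := injective_algebraMap (K := K)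
  have hinjAB : Function.Injective (algebraMap A B) := by
    rw [IsScalarTower.algebraMap_eq A B M] at hinjA
    exact Function.Injective.of_comp hinjA
  have hinjCB : Function.Injective (algebraMap C B) := by
    have h1 : Function.Injective (algebraMap C M) := by
      rw [IsScalarTower.algebraMap_eq C L M]
      exact (algebraMap L M).injective.comp (IsFractionRing.injective C L)
    rw [IsScalarTower.algebraMap_eq C B M] at h1
    exact Function.Injective.of_comp h1
  have hTF : Module.IsTorsionFree A B := Module.isTorsionFree_iff_algebraMap_injective.mpr hinjAB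
  have hTF' : Module.IsTorsionFree C B := Module.isTorsionFree_iff_algebraMap_injective.mpr hinjCB
  exact relIndex_inertia_eq (fixSub (M := M) G L) (maximalIdeal A) n m

/-- Data at a maximal ideal of `B`. -/
theorem exists_under {A B : Type*} [CommRing A] [IsLocalRing A] [CommRing B] [Algebra A B]
    [Algebra.IsIntegral A B] (C : Type*) [CommRing C] [Algebra A C]
    [Algebra C B] [IsScalarTower A C B] (m : Ideal B) [m.IsMaximal] :
    (m.comap (algebraMap C B)).IsMaximal ∧ (m.comap (algebraMap C B)).LiesOver (maximalIdeal A) ∧
      m.LiesOver (maximalIdeal A) := by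
  have hintCB : Algebra.IsIntegral C B := Algebra.IsIntegral.tower_top A
  have h1 : (m.comap (algebraMap C B)).IsMaximal :=
    Ideal.isMaximal_comap_of_isIntegral_of_isMaximal m
  have h2 : (m.comap (algebraMap A B)).IsMaximal :=
    Ideal.isMaximal_comap_of_isIntegral_of_isMaximal m
  have h3 : m.comap (algebraMap A B) = maximalIdeal A := IsLocalRing.eq_maximalIdeal h2
  refine ⟨h1, ⟨?_⟩, ⟨h3.symm⟩⟩
  rw [Ideal.under_def, Ideal.comap_comap, ← IsScalarTower.algebraMap_eq, h3]

variable (K) in
include K in
theorem unram_crit (C : Type u) [CommRing C] [IsDomain C] [Algebra A C] [Algebra C L]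
    [IsScalarTower A C L] [IsIntegralClosure C A L] [Algebra C B] [IsScalarTower A C B]
    [Algebra C M] [IsScalarTower C B M] [IsScalarTower C L M] :
    IsUnramifiedExt A (algebraMap A L) ↔
      ∀ (m : Ideal B) [m.IsMaximal], m.inertia G ≤ fixSub (M := M) G L := by
  have hKL : FiniteDimensional K L := FiniteDimensional.left K L M
  have hsepKL : Algebra.IsSeparable K L := Algebra.isSeparable_tower_bot_of_isSeparable K L M
  have hintB : Algebra.IsIntegral A B := IsIntegralClosure.isIntegral_algebra A M
  rw [isUnramifiedExt_iff (K := K) C]
  constructor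
  · intro h m hm
    obtain ⟨h1, h2, h3⟩ := exists_under (A := A) (B := B) C m
    have h4 : m.LiesOver (m.comap (algebraMap C B)) := ⟨rfl⟩
    have h5 := relIndex_fixSub_inertia (A := A) (M := M) K B G L C (m.comap (algebraMap C B)) m
    rw [h] at h5
    exact Subgroup.relIndex_eq_one.mp h5
  · intro h n hn hover
    have hfracB : IsFractionRing B M := IsIntegralClosure.isFractionRing_of_finite_extension A K M B
    have hfracC : IsFractionRing C L := IsIntegralClosure.isFractionRing_of_finite_extension A K L C
    have hintB : Algebra.IsIntegral A B := IsIntegralClosure.isIntegral_algebra A M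
    have hintCB : Algebra.IsIntegral C B := Algebra.IsIntegral.tower_top A
    have hinjCB : Function.Injective (algebraMap C B) := by
      have h1 : Function.Injective (algebraMap C M) := by
        rw [IsScalarTower.algebraMap_eq C L M]
        exact (algebraMap L M).injective.comp (IsFractionRing.injective C L)
      rw [IsScalarTower.algebraMap_eq C B M] at h1
      exact Function.Injective.of_comp h1
    obtain ⟨m, hm, hmn⟩ := Ideal.exists_ideal_over_maximal_of_isIntegral (S := B) n (by
      rw [(RingHom.injective_iff_ker_eq_bot _).mp hinjCB]; exact bot_le)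
    subst hmn
    obtain ⟨h1, h2, h3⟩ := exists_under (A := A) (B := B) C m
    have h4 : m.LiesOver (m.comap (algebraMap C B)) := ⟨rfl⟩
    have h5 := relIndex_fixSub_inertia (A := A) (M := M) K B G L C (m.comap (algebraMap C B)) m
    rw [← h5]
    exact Subgroup.relIndex_eq_one.mpr (h m)

variable (K) in
include K in
theorem tame_crit (C : Type u) [CommRing C] [IsDomain C] [Algebra A C] [Algebra C L]
    [IsScalarTower A C L] [IsIntegralClosure C A L] [Algebra C B] [IsScalarTower A C B]
    [Algebra C M] [IsScalarTower C B M] [IsScalarTower C L M] :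
    IsTamelyRamified A (algebraMap A L) ↔
      ∀ (m : Ideal B) [m.IsMaximal], wild G m ≤ fixSub (M := M) G L := by
  obtain ⟨q, hq⟩ := ExpChar.exists (A ⧸ maximalIdeal A)
  have hKL : FiniteDimensional K L := FiniteDimensional.left K L M
  have hsepKL : Algebra.IsSeparable K L := Algebra.isSeparable_tower_bot_of_isSeparable K L M
  have hfracB : IsFractionRing B M := IsIntegralClosure.isFractionRing_of_finite_extension A K M B
  have hfracC : IsFractionRing C L := IsIntegralClosure.isFractionRing_of_finite_extension A K L C
  have hdedB : IsDedekindDomain B := IsIntegralClosure.isDedekindDomain A K M B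
  have hintB : Algebra.IsIntegral A B := IsIntegralClosure.isIntegral_algebra A M
  have hintCB : Algebra.IsIntegral C B := Algebra.IsIntegral.tower_top A
  have hG1 : IsGaloisGroup G A B := IsGaloisGroup.of_isFractionRing G A B K M
  have hfaith : FaithfulSMul G B := IsGaloisGroup.faithful A
  have hinjA : Function.Injective (algebraMap A M) := injective_algebraMap (K := K)
  have hinjAB : Function.Injective (algebraMap A B) := by
    rw [IsScalarTower.algebraMap_eq A B M] at hinjA
    exact Function.Injective.of_comp hinjA
  have key : ∀ (m : Ideal B) [m.IsMaximal] [m.LiesOver (maximalIdeal A)],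
      Nat.Coprime q ((fixSub (M := M) G L).relIndex (m.inertia G)) ↔
        wild G m ≤ fixSub (M := M) G L := by
    intro m hm hover
    have hm0 : m ≠ ⊥ := by
      rintro rfl
      have h1 := hover.over
      rw [Ideal.under_def, ← RingHom.ker_eq_comap_bot,
        (RingHom.injective_iff_ker_eq_bot _).mp hinjAB] at h1
      exact IsDiscreteValuationRing.not_a_field A h1
    have hexp : ExpChar (B ⧸ m) q :=
      expChar_of_injective_algebraMap (FaithfulSMul.algebraMap_injective (A ⧸ maximalIdeal A) (B ⧸ m)) q
    have hmi : ⨅ i : ℕ, m ^ i = ⊥ :=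
      Ideal.iInf_pow_eq_bot_of_isDomain m (Ideal.IsMaximal.ne_top inferInstance)
    obtain ⟨a, ha⟩ := card_wild_eq_pow (G := G) m hmi q
    exact coprime_relIndex_iff (normal_wild_subgroupOf m hm0) (wild_le_inertia m) ha
      (coprime_relIndex_wild m hm0 q) _
  rw [isTamelyRamified_iff (K := K) C q]
  constructor
  · intro h m hm
    obtain ⟨h1, h2, h3⟩ := exists_under (A := A) (B := B) C m
    have h4 : m.LiesOver (m.comap (algebraMap C B)) := ⟨rfl⟩
    have h5 := relIndex_fixSub_inertia (A := A) (M := M) K B G L C (m.comap (algebraMap C B)) m
    rw [← key m, h5]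
    exact h _
  · intro h n hn hover
    have hinjCB : Function.Injective (algebraMap C B) := by
      have h1 : Function.Injective (algebraMap C M) := by
        rw [IsScalarTower.algebraMap_eq C L M]
        exact (algebraMap L M).injective.comp (IsFractionRing.injective C L)
      rw [IsScalarTower.algebraMap_eq C B M] at h1
      exact Function.Injective.of_comp h1
    obtain ⟨m, hm, hmn⟩ := Ideal.exists_ideal_over_maximal_of_isIntegral (S := B) n (by
      rw [(RingHom.injective_iff_ker_eq_bot _).mp hinjCB]; exact bot_le)
    subst hmn
    obtain ⟨h1, h2, h3⟩ := exists_under (A := A) (B := B) C m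
    have h4 : m.LiesOver (m.comap (algebraMap C B)) := ⟨rfl⟩
    have h5 := relIndex_fixSub_inertia (A := A) (M := M) K B G L C (m.comap (algebraMap C B)) m
    rw [← h5, key m]
    exact h m

end Galois

end Groth.Agent.Etalg.RamCrit
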