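import Groth.Agent.Etalg.RamCrit

/-!
Galois closures and composita of unramified (tamely ramified) extensions with respect to a DVR.
-/

set_option autoImplicit false
open scoped Pointwise
universe u
open IsLocalRing EtRam
open Groth.Agent.Etalg.InertiaWild Groth.Agent.Etalg.RamCrit

namespace Groth.Agent.Etalg.RamGalois

theorem isMaximal_smul {G B : Type*} [Group G] [CommRing B] [MulSemiringAction G B] (m : Ideal B)
    [m.IsMaximal] (g : G) : (g • m).IsMaximal := by
  rw [m.pointwise_smul_eq_comap]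
  exact Ideal.comap_isMaximal_of_equiv _

section Core

variable {K M : Type u} [Field K] [Field M] [Algebra K M] [FiniteDimensional K M] [IsGalois K M]

/-- Abstract core: a property of subextensions governed by a conjugation invariant subset. -/
theorem core (S : Set (M ≃ₐ[K] M)) (hS : ∀ σ ∈ S, ∀ g : M ≃ₐ[K] M, g * σ * g⁻¹ ∈ S)
    (P : ∀ (L : Type u) [Field L] [Algebra K L], Prop)
    (hcrit : ∀ (L : Type u) [Field L] [Algebra K L] [Algebra L M] [IsScalarTower K L M],
      P L ↔ S ⊆ (fixSub (M := M) (M ≃ₐ[K] M) L : Set (M ≃ₐ[K] M)))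
    (L₁ L₂ : Type u) [Field L₁] [Field L₂] [Algebra K L₁] [Algebra K L₂]
    (g₁ : L₁ →ₐ[K] M) (g₂ : L₂ →ₐ[K] M) (h₁ : P L₁) (h₂ : P L₂) :
    ∃ F : IntermediateField K M, IsGalois K F ∧ P F ∧ Nonempty (L₁ →ₐ[K] F) ∧
      Nonempty (L₂ →ₐ[K] F) := by
  have hconj : Group.conjugatesOfSet S ⊆ S := by
    intro τ hτ
    rw [Group.mem_conjugatesOfSet_iff] at hτ
    obtain ⟨σ, hσ, hc⟩ := hτ
    rw [isConj_iff] at hc
    obtain ⟨c, rfl⟩ := hc
    exact hS σ hσ c
  have hN : Subgroup.normalClosure S = Subgroup.closure S :=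
    le_antisymm (Subgroup.closure_mono hconj) (Subgroup.closure_le_normalClosure)
  set N := Subgroup.closure S with hNdef
  have hNnormal : N.Normal := by rw [← hN]; exact Subgroup.normalClosure_normal
  let F := IntermediateField.fixedField N
  have hF : fixSub (M := M) (M ≃ₐ[K] M) F = N := by
    have h1 : F.fixingSubgroup = N := IntermediateField.fixingSubgroup_fixedField N
    rw [← h1]
    unfold fixSub IntermediateField.fixingSubgroup
    congr 1
    ext x
    constructor
    · rintro ⟨y, rfl⟩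
      exact y.2
    · intro hx
      exact ⟨⟨x, hx⟩, rfl⟩
  have hlift : ∀ (L : Type u) [Field L] [Algebra K L] (g : L →ₐ[K] M), P L →
      Nonempty (L →ₐ[K] F) := by
    intro L _ _ g hL
    let _ : Algebra L M := g.toRingHom.toAlgebra
    have htow : IsScalarTower K L M := IsScalarTower.of_algebraMap_eq fun x ↦ (g.commutes x).symm
    have h1 : N ≤ fixSub (M := M) (M ≃ₐ[K] M) L := (Subgroup.closure_le _).mpr ((hcrit L).mp hL)
    refine ⟨g.codRestrict F.toSubalgebra fun x ↦ ?_⟩
    rintro ⟨σ, hσ⟩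
    have h2 := h1 hσ
    exact h2 ⟨_, x, rfl⟩
  refine ⟨F, IsGalois.of_fixedField_normal_subgroup N, ?_, hlift L₁ g₁ h₁, hlift L₂ g₂ h₂⟩
  rw [hcrit F, hF]
  exact Subgroup.subset_closure

end Core

section Exists

/-- Two finite separable extensions embed in a common finite Galois extension. -/
theorem exists_galois (K L₁ L₂ : Type u) [Field K] [Field L₁] [Field L₂] [Algebra K L₁]
    [Algebra K L₂] [FiniteDimensional K L₁] [FiniteDimensional K L₂]
    [Algebra.IsSeparable K L₁] [Algebra.IsSeparable K L₂] :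
    ∃ (M : Type u) (_ : Field M) (_ : Algebra K M) (_ : FiniteDimensional K M) (_ : IsGalois K M),
      Nonempty (L₁ →ₐ[K] M) ∧ Nonempty (L₂ →ₐ[K] M) := by
  let Ω := SeparableClosure K
  let f₁ : L₁ →ₐ[K] Ω := IsSepClosed.lift
  let f₂ : L₂ →ₐ[K] Ω := IsSepClosed.lift
  have e1 : FiniteDimensional K f₁.fieldRange :=
    f₁.equivFieldRange.toLinearEquiv.finiteDimensional
  have e2 : FiniteDimensional K f₂.fieldRange :=
    f₂.equivFieldRange.toLinearEquiv.finiteDimensional
  let E : IntermediateField K Ω := f₁.fieldRange ⊔ f₂.fieldRange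
  have e3 : FiniteDimensional K E := IntermediateField.finiteDimensional_sup _ _
  let M : IntermediateField K Ω := IntermediateField.normalClosure K E Ω
  have hEM : E ≤ M := IntermediateField.le_normalClosure E
  refine ⟨M, inferInstance, inferInstance, normalClosure.is_finiteDimensional K E Ω,
    IsGalois.normalClosure K E Ω, ⟨?_⟩, ⟨?_⟩⟩
  · exact f₁.codRestrict M.toSubalgebra fun x ↦ hEM (le_sup_left (α := IntermediateField K Ω) ⟨x, rfl⟩)
  · exact f₂.codRestrict M.toSubalgebra fun x ↦ hEM (le_sup_right (α := IntermediateField K Ω) ⟨x, rfl⟩)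

end Exists

section Crit

variable (A : Type u) {K M : Type u} [CommRing A] [IsDomain A] [IsDiscreteValuationRing A]
  [Field K] [Algebra A K] [IsFractionRing A K] [Field M] [Algebra K M] [FiniteDimensional K M]
  [IsGalois K M]

theorem exists_set_unram : ∃ S : Set (M ≃ₐ[K] M), (∀ σ ∈ S, ∀ g : M ≃ₐ[K] M, g * σ * g⁻¹ ∈ S) ∧
    ∀ (L : Type u) [Field L] [Algebra K L] [Algebra L M] [IsScalarTower K L M],
      IsUnramifiedExt A ((algebraMap K L).comp (algebraMap A K)) ↔
        S ⊆ (fixSub (M := M) (M ≃ₐ[K] M) L : Set (M ≃ₐ[K] M)) := by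
  let _ : Algebra A M := ((algebraMap K M).comp (algebraMap A K)).toAlgebra
  have hAKM : IsScalarTower A K M := IsScalarTower.of_algebraMap_eq' rfl
  let B := integralClosure A M
  let _ : MulSemiringAction (M ≃ₐ[K] M) B := IsIntegralClosure.MulSemiringAction A K M B
  refine ⟨{σ | ∃ m : Ideal B, m.IsMaximal ∧ σ ∈ m.inertia (M ≃ₐ[K] M)}, ?_, ?_⟩
  · rintro σ ⟨m, hm, hσ⟩ g
    exact ⟨g • m, isMaximal_smul m g, conj_mem_inertia m g σ hσ⟩
  · intro L _ _ _ _
    let _ : Algebra A L := ((algebraMap K L).comp (algebraMap A K)).toAlgebra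
    have hAKL : IsScalarTower A K L := IsScalarTower.of_algebraMap_eq' rfl
    have hALM : IsScalarTower A L M := IsScalarTower.of_algebraMap_eq fun a ↦
      IsScalarTower.algebraMap_apply K L M _
    let C := integralClosure A L
    let φ : C →ₐ[A] B := (IsScalarTower.toAlgHom A L M).mapIntegralClosure
    let _ : Algebra C B := φ.toRingHom.toAlgebra
    have hACB : IsScalarTower A C B := IsScalarTower.of_algebraMap_eq fun a ↦ (φ.commutes a).symm
    have hCLM : IsScalarTower C L M := inferInstance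
    have hCBM : IsScalarTower C B M := IsScalarTower.of_algebraMap_eq fun c ↦ rfl
    have h1 := unram_crit (A := A) (M := M) K B (M ≃ₐ[K] M) L C
    refine h1.trans ?_
    constructor
    · rintro h σ ⟨m, hm, hσ⟩
      exact h m hσ
    · intro h m hm σ hσ
      exact h ⟨m, hm, hσ⟩

theorem exists_set_tame : ∃ S : Set (M ≃ₐ[K] M), (∀ σ ∈ S, ∀ g : M ≃ₐ[K] M, g * σ * g⁻¹ ∈ S) ∧
    ∀ (L : Type u) [Field L] [Algebra K L] [Algebra L M] [IsScalarTower K L M],
      IsTamelyRamified A ((algebraMap K L).comp (algebraMap A K)) ↔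
        S ⊆ (fixSub (M := M) (M ≃ₐ[K] M) L : Set (M ≃ₐ[K] M)) := by
  let _ : Algebra A M := ((algebraMap K M).comp (algebraMap A K)).toAlgebra
  have hAKM : IsScalarTower A K M := IsScalarTower.of_algebraMap_eq' rfl
  let B := integralClosure A M
  let _ : MulSemiringAction (M ≃ₐ[K] M) B := IsIntegralClosure.MulSemiringAction A K M B
  refine ⟨{σ | ∃ m : Ideal B, m.IsMaximal ∧ σ ∈ wild (M ≃ₐ[K] M) m}, ?_, ?_⟩
  · rintro σ ⟨m, hm, hσ⟩ g
    exact ⟨g • m, isMaximal_smul m g, conj_mem_wild m g σ hσ⟩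
  · intro L _ _ _ _
    let _ : Algebra A L := ((algebraMap K L).comp (algebraMap A K)).toAlgebra
    have hAKL : IsScalarTower A K L := IsScalarTower.of_algebraMap_eq' rfl
    have hALM : IsScalarTower A L M := IsScalarTower.of_algebraMap_eq fun a ↦
      IsScalarTower.algebraMap_apply K L M _
    let C := integralClosure A L
    let φ : C →ₐ[A] B := (IsScalarTower.toAlgHom A L M).mapIntegralClosure
    let _ : Algebra C B := φ.toRingHom.toAlgebra
    have hACB : IsScalarTower A C B := IsScalarTower.of_algebraMap_eq fun a ↦ (φ.commutes a).symm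
    have hCLM : IsScalarTower C L M := inferInstance
    have hCBM : IsScalarTower C B M := IsScalarTower.of_algebraMap_eq fun c ↦ rfl
    have h1 := tame_crit (A := A) (M := M) K B (M ≃ₐ[K] M) L C
    refine h1.trans ?_
    constructor
    · rintro h σ ⟨m, hm, hσ⟩
      exact h m hσ
    · intro h m hm σ hσ
      exact h ⟨m, hm, hσ⟩

end Crit

end Groth.Agent.Etalg.RamGalois
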