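import Groth.Agent.Etalg.RamRed
import Mathlib.RingTheory.DiscreteValuationRing.TFAE
import Mathlib.NumberTheory.RamificationInertia.Ramification
import Mathlib.RingTheory.LinearDisjoint
import Mathlib.LinearAlgebra.TensorProduct.RightExactness

/-!
# The key lemma behind Abhyankar's lemma

Let `A → B`, `A → V` be extensions of DVRs, `W` a DVR dominating both and generated (up to fractions) by them.
If the ramification index `e` of `A → B` is invertible in the residue field, divides that of `A → V`, and the residue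
field extension of `B / A` is geometrically reduced, then `W / V` is weakly unramified with geometrically reduced
residue field extension.
-/

set_option autoImplicit false

namespace Groth.Agent.Etalg.RamKey

open Polynomial TensorProduct IsLocalRing RamRed

/-- A subring `D` of a DVR `W` containing `ϖ`, such that locally at `D ∩ m_W` the maximal ideal is generated by `ϖ`,
and with the same fraction field: then `ϖ` is a uniformizer and `W` is the localization of `D`. -/
theorem key_unif {W : Type*} [CommRing W] [IsDomain W] [IsDiscreteValuationRing W] (D : Subring W) (ϖ : W)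
    (hϖD : ϖ ∈ D) (hϖ0 : ϖ ≠ 0) (hϖm : ϖ ∈ maximalIdeal W)
    (hloc : ∀ x ∈ D, x ∈ maximalIdeal W → ∃ s ∈ D, s ∉ maximalIdeal W ∧ ∃ y ∈ D, s * x = ϖ * y)
    (hfrac : ∀ w : W, ∃ a ∈ D, a ≠ 0 ∧ a * w ∈ D) :
    Ideal.span {ϖ} = maximalIdeal W ∧ ∀ w : W, ∃ a ∈ D, a ∉ maximalIdeal W ∧ a * w ∈ D := by
  have hunit : ∀ s : W, s ∉ maximalIdeal W → IsUnit s := fun s hs => by
    rw [mem_maximalIdeal, mem_nonunits_iff, not_not] at hs; exact hs
  have hv0 : ∀ s : W, s ∉ maximalIdeal W → IsDiscreteValuationRing.addVal W s = 0 := fun s hs =>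
    IsDiscreteValuationRing.addVal_eq_zero_iff.2 (hunit s hs)
  have hvϖ : (1 : ℕ∞) ≤ IsDiscreteValuationRing.addVal W ϖ := by
    rw [Order.one_le_iff_ne_zero]
    intro h
    rw [IsDiscreteValuationRing.addVal_eq_zero_iff] at h
    rw [mem_maximalIdeal, mem_nonunits_iff] at hϖm
    exact hϖm h
  -- Step 1
  have step1 : ∀ n : ℕ, ∀ x ∈ D, IsDiscreteValuationRing.addVal W x = n →
      ∃ k : ℕ, ∃ s ∈ D, s ∉ maximalIdeal W ∧ ∃ y ∈ D, y ∉ maximalIdeal W ∧ s * x = ϖ ^ k * y := by
    intro n
    induction n using Nat.strong_induction_on with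
    | _ n ih =>
      intro x hx hxn
      by_cases hxm : x ∈ maximalIdeal W
      · obtain ⟨s, hs, hsm, y, hy, hsx⟩ := hloc x hx hxm
        have hval : IsDiscreteValuationRing.addVal W ϖ + IsDiscreteValuationRing.addVal W y = n := by
          rw [← hxn, ← IsDiscreteValuationRing.addVal_mul, ← hsx, IsDiscreteValuationRing.addVal_mul, hv0 s hsm,
            zero_add]
        have hyfin : IsDiscreteValuationRing.addVal W y ≠ ⊤ := by
          intro h
          rw [h, add_top] at hval
          exact ENat.natCast_ne_top n hval.symm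
        obtain ⟨m, hm⟩ := ENat.ne_top_iff_exists.1 hyfin
        have hmn : m < n := by
          rw [← hm] at hval
          have h1 : ((m + 1 : ℕ) : ℕ∞) ≤ (n : ℕ∞) := by
            rw [← hval, Nat.cast_add, Nat.cast_one, add_comm]
            gcongr
          have := Nat.cast_le.1 h1
          omega
        obtain ⟨k, s', hs', hsm', y', hy', hym', hsy⟩ := ih m hmn y hy hm.symm
        refine ⟨k + 1, s' * s, D.mul_mem hs' hs, ?_, y', hy', hym', ?_⟩
        · rw [mem_maximalIdeal, mem_nonunits_iff, not_not]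
          exact (hunit _ hsm').mul (hunit _ hsm)
        · rw [mul_assoc, hsx, mul_left_comm, hsy, pow_succ]; ring
      · exact ⟨0, 1, D.one_mem, by rw [mem_maximalIdeal, mem_nonunits_iff, not_not]; exact isUnit_one,
          x, hx, hxm, by simp⟩
  have step1' : ∀ x ∈ D, x ≠ 0 →
      ∃ k : ℕ, ∃ s ∈ D, s ∉ maximalIdeal W ∧ ∃ y ∈ D, y ∉ maximalIdeal W ∧ s * x = ϖ ^ k * y := by
    intro x hx hx0
    have : IsDiscreteValuationRing.addVal W x ≠ ⊤ := by
      rw [Ne, IsDiscreteValuationRing.addVal_eq_top_iff]; exact hx0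
    obtain ⟨m, hm⟩ := ENat.ne_top_iff_exists.1 this
    exact step1 m x hx hm.symm
  -- Step 2
  have step2 : ∀ w : W, w ≠ 0 → ∃ n : ℕ, ∃ a ∈ D, a ∉ maximalIdeal W ∧ ∃ b ∈ D, b ∉ maximalIdeal W ∧
      a * w = ϖ ^ n * b := by
    intro w hw
    obtain ⟨a, ha, ha0, haw⟩ := hfrac w
    obtain ⟨k, s, hs, hsm, a', ha', ham', hsa⟩ := step1' a ha ha0
    obtain ⟨l, t, ht, htm, b', hb', hbm', htb⟩ := step1' _ haw (mul_ne_zero ha0 hw)
    -- `t * (a * w) = ϖ ^ l * b'`, `s * a = ϖ ^ k * a'`
    have h1 : ϖ ^ k * (t * a' * w) = ϖ ^ l * (s * b') := by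
      calc ϖ ^ k * (t * a' * w) = t * (ϖ ^ k * a') * w := by ring
        _ = s * (t * (a * w)) := by rw [← hsa]; ring
        _ = _ := by rw [htb]; ring
    have hkl : k ≤ l := by
      by_contra hlt
      rw [not_le] at hlt
      obtain ⟨j, rfl⟩ := Nat.exists_eq_add_of_lt hlt
      have h2 : ϖ ^ l * (ϖ ^ (j + 1) * (t * a' * w)) = ϖ ^ l * (s * b') := by
        rw [← h1]; ring
      have h3 := mul_left_cancel₀ (pow_ne_zero l hϖ0) h2
      have h4 : s * b' ∈ maximalIdeal W := by
        rw [← h3]
        exact Ideal.mul_mem_right _ _ (Ideal.pow_mem_of_mem _ hϖm _ (Nat.succ_pos _))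
      rcases (Ideal.IsPrime.mem_or_mem inferInstance h4) with h | h
      · exact hsm h
      · exact hbm' h
    obtain ⟨j, rfl⟩ := Nat.exists_eq_add_of_le hkl
    refine ⟨j, t * a', D.mul_mem ht ha', ?_, s * b', D.mul_mem hs hb', ?_, ?_⟩
    · rw [mem_maximalIdeal, mem_nonunits_iff, not_not]
      exact (hunit _ htm).mul (hunit _ ham')
    · rw [mem_maximalIdeal, mem_nonunits_iff, not_not]
      exact (hunit _ hsm).mul (hunit _ hbm')
    · apply mul_left_cancel₀ (pow_ne_zero k hϖ0)
      rw [h1]; ring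
  refine ⟨le_antisymm ?_ ?_, ?_⟩
  · rw [Ideal.span_singleton_le_iff_mem]; exact hϖm
  · intro w hw
    rcases eq_or_ne w 0 with rfl | hw0
    · exact Ideal.zero_mem _
    obtain ⟨n, a, ha, ham, b, hb, hbm, hab⟩ := step2 w hw0
    have hn : n ≠ 0 := by
      rintro rfl
      rw [pow_zero, one_mul] at hab
      apply hbm
      rw [← hab]
      exact Ideal.mul_mem_left _ _ hw
    obtain ⟨n, rfl⟩ := Nat.exists_eq_succ_of_ne_zero hn
    rw [Ideal.mem_span_singleton, ← (hunit a ham).dvd_mul_left, hab, pow_succ']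
    exact ⟨ϖ ^ n * b, by rw [mul_assoc]⟩
  · intro w
    rcases eq_or_ne w 0 with rfl | hw0
    · exact ⟨1, D.one_mem, by rw [mem_maximalIdeal, mem_nonunits_iff, not_not]; exact isUnit_one,
        by rw [mul_zero]; exact D.zero_mem⟩
    obtain ⟨n, a, ha, ham, b, hb, hbm, hab⟩ := step2 w hw0
    exact ⟨a, ha, ham, by rw [hab]; exact D.mul_mem (D.pow_mem hϖD n) hb⟩

/-- For a surjection of base rings the tensor products agree. -/
theorem isReduced_tensor_of_residue {A B Ω : Type*} [CommRing A] [IsLocalRing A] [CommRing Ω] [Algebra A Ω]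
    [Algebra (ResidueField A) Ω] [IsScalarTower A (ResidueField A) Ω] [CommRing B] [Algebra A B]
    [Algebra (ResidueField A) B] [IsScalarTower A (ResidueField A) B] [IsReduced (Ω ⊗[ResidueField A] B)] :
    IsReduced (Ω ⊗[A] B) := by
  have : CompatibleSMul A (ResidueField A) Ω B := by
    constructor
    intro r m n
    obtain ⟨r, rfl⟩ := IsLocalRing.residue_surjective r
    have h1 : (residue A r) • m = r • m := by
      rw [← IsLocalRing.ResidueField.algebraMap_eq, algebraMap_smul]
    have h2 : (residue A r) • n = r • n := by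
      rw [← IsLocalRing.ResidueField.algebraMap_eq, algebraMap_smul]
    rw [h1, h2, smul_tmul]
  exact isReduced_of_injective _
    (Algebra.TensorProduct.equivOfCompatibleSMul (ResidueField A) A A Ω B).injective

section Main

variable {A B V W : Type*} [CommRing A] [IsLocalRing A] [CommRing B] [IsLocalRing B] [CommRing V] [IsLocalRing V]
  [CommRing W] [IsDomain W] [IsDiscreteValuationRing W]
  [Algebra A B] [Algebra A V] [Algebra A W] [Algebra B W] [Algebra V W]
  [IsScalarTower A B W] [IsScalarTower A V W]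
  [IsLocalHom (algebraMap A B)] [IsLocalHom (algebraMap A V)] [IsLocalHom (algebraMap B W)]
  [IsLocalHom (algebraMap V W)]

/-- the structure map `B ⊗ V → W` -/
noncomputable def φW (A B V W : Type*) [CommRing A] [CommRing B] [CommRing V]
  [CommRing W] [Algebra A B] [Algebra A V] [Algebra A W] [Algebra B W] [Algebra V W]
  [IsScalarTower A B W] [IsScalarTower A V W] : B ⊗[A] V →ₐ[A] W :=
  Algebra.TensorProduct.productMap (IsScalarTower.toAlgHom A B W) (IsScalarTower.toAlgHom A V W)

/-- the map to the tensor product of residue fields -/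
noncomputable def θ (A B V : Type*) [CommRing A] [CommRing B] [IsLocalRing B] [CommRing V] [IsLocalRing V]
    [Algebra A B] [Algebra A V] : B ⊗[A] V →ₐ[A] ResidueField B ⊗[A] ResidueField V :=
  Algebra.TensorProduct.map (IsScalarTower.toAlgHom A B (ResidueField B)) (IsScalarTower.toAlgHom A V (ResidueField V))

omit [IsLocalRing A] [IsLocalHom (algebraMap A B)] [IsLocalHom (algebraMap A V)] in
theorem θ_surjective : Function.Surjective (θ A B V) :=
  TensorProduct.map_surjective residue_surjective residue_surjective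

/-- the map `κ_B ⊗ κ_V → κ_W` -/
noncomputable def ψ (A B V W : Type*) [CommRing A] [CommRing B] [IsLocalRing B] [CommRing V] [IsLocalRing V]
    [CommRing W] [IsLocalRing W] [Algebra A B] [Algebra A V] [Algebra A W] [Algebra B W] [Algebra V W]
    [IsScalarTower A B W] [IsScalarTower A V W] [IsLocalHom (algebraMap B W)] [IsLocalHom (algebraMap V W)] :
    ResidueField B ⊗[A] ResidueField V →ₐ[A] ResidueField W :=
  Algebra.TensorProduct.productMap
    (IsScalarTower.toAlgHom A (ResidueField B) (ResidueField W))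
    (IsScalarTower.toAlgHom A (ResidueField V) (ResidueField W))

omit [IsLocalRing A] [IsLocalHom (algebraMap A B)] [IsLocalHom (algebraMap A V)] in
theorem ψ_θ (x : B ⊗[A] V) : ψ A B V W (θ A B V x) = residue W (φW A B V W x) := by
  induction x with
  | zero => simp
  | add x y hx hy => simp only [map_add, hx, hy]
  | tmul b v =>
    simp [ψ, θ, φW]

variable [Algebra.IsAlgebraic (ResidueField A) (ResidueField V)]
  [Algebra.IsGeometricallyReduced (ResidueField A) (ResidueField B)]

theorem isReduced_R₀ (A B V : Type*) [CommRing A] [IsLocalRing A] [CommRing B] [IsLocalRing B] [CommRing V]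
    [IsLocalRing V] [Algebra A B] [Algebra A V] [IsLocalHom (algebraMap A B)] [IsLocalHom (algebraMap A V)]
    [Algebra.IsAlgebraic (ResidueField A) (ResidueField V)]
    [Algebra.IsGeometricallyReduced (ResidueField A) (ResidueField B)] :
    IsReduced (ResidueField B ⊗[A] ResidueField V) := by
  have h2 : IsReduced (ResidueField V ⊗[A] ResidueField B) := isReduced_tensor_of_residue
  exact isReduced_of_injective _ (Algebra.TensorProduct.comm A (ResidueField B) (ResidueField V)).injective

omit [IsLocalHom (algebraMap A B)] in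
theorem isIntegral_R₀ (A B V : Type*) [CommRing A] [IsLocalRing A] [CommRing B] [IsLocalRing B] [CommRing V]
    [IsLocalRing V] [Algebra A B] [Algebra A V] [IsLocalHom (algebraMap A V)]
    [Algebra.IsAlgebraic (ResidueField A) (ResidueField V)] :
    Algebra.IsIntegral (ResidueField B) (ResidueField B ⊗[A] ResidueField V) := by
  have h1 : Algebra.IsIntegral (ResidueField A) (ResidueField V) := inferInstance
  have h2 : Algebra.IsIntegral A (ResidueField A) := ⟨fun x => by
    obtain ⟨x, rfl⟩ := residue_surjective x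
    exact isIntegral_algebraMap⟩
  have h3 : Algebra.IsIntegral A (ResidueField V) := Algebra.IsIntegral.trans (ResidueField A)
  infer_instance

/-- Main statement, first part: `ϖ` generates the maximal ideal of `W`, and `W` is generated by fractions. -/
theorem main_unif (ρ : B) (hρ : maximalIdeal B = Ideal.span {ρ}) (ϖ : V) (hϖ : maximalIdeal V = Ideal.span {ϖ})
    (hϖW : algebraMap V W ϖ ≠ 0) (e d : ℕ) (he : IsUnit (e : ResidueField A)) (hd : d ≠ 0)
    (c : B ⊗[A] V) (hc : IsUnit (θ A B V c)) (ω : W)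
    (hω : algebraMap B W ρ = ω * algebraMap V W ϖ ^ d) (hωe : ω ^ e = φW A B V W c)
    (hfrac : ∀ w : W, ∃ a ∈ (φW A B V W).range, a ≠ 0 ∧ a * w ∈ (φW A B V W).range) :
    Ideal.span {algebraMap V W ϖ} = maximalIdeal W ∧
    ∀ w : W, ∃ a b : (B ⊗[A] V)[X], eval₂ (φW A B V W).toRingHom ω a ∉ maximalIdeal W ∧
      eval₂ (φW A B V W).toRingHom ω a * w = eval₂ (φW A B V W).toRingHom ω b := by
  classical
  have he0 : e ≠ 0 := by
    rintro rfl
    rw [Nat.cast_zero] at he
    exact not_isUnit_zero he
  set Φ : (B ⊗[A] V)[X] →+* W := eval₂RingHom (φW A B V W).toRingHom ω with hΦ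
  set R₀ := ResidueField B ⊗[A] ResidueField V with hR₀
  have hredR₀ : IsReduced R₀ := isReduced_R₀ A B V
  have hintR₀ : Algebra.IsIntegral (ResidueField B) R₀ := isIntegral_R₀ A B V
  set c₀ : R₀ := θ A B V c with hc₀
  set f : R₀[X] := X ^ e - C c₀ with hf
  have hfmonic : f.Monic := monic_X_pow_sub_C c₀ he0
  set R₁ := AdjoinRoot f with hR₁
  have heR₀ : IsUnit (e : R₀) := by
    have h1 : IsUnit (algebraMap (ResidueField A) (ResidueField B) (e : ResidueField A)) := he.map _
    rw [map_natCast] at h1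
    have h2 := h1.map (algebraMap (ResidueField B) R₀)
    rwa [map_natCast] at h2
  have hredR₁ : IsReduced R₁ := isReduced_adjoinRoot_X_pow_sub_C e he0 heR₀ c₀ hc
  have hfin : Module.Finite R₀ R₁ := hfmonic.finite_adjoinRoot
  have hintR₁ : Algebra.IsIntegral (ResidueField B) R₁ := Algebra.IsIntegral.trans R₀
  -- the map to the residue field
  have hroot : eval₂ (ψ A B V W).toRingHom (residue W ω) f = 0 := by
    rw [hf, eval₂_sub, eval₂_pow, eval₂_X, eval₂_C, ← map_pow, hωe]
    have := ψ_θ (W := W) c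
    rw [← hc₀] at this
    rw [sub_eq_zero]
    exact this.symm
  let Ψ : R₁ →+* ResidueField W := AdjoinRoot.lift (ψ A B V W).toRingHom (residue W ω) hroot
  let Θ : (B ⊗[A] V)[X] →+* R₁ := (AdjoinRoot.mk f).comp (mapRingHom (θ A B V).toRingHom)
  have hΘsurj : Function.Surjective Θ := by
    intro y
    obtain ⟨g, rfl⟩ := AdjoinRoot.mk_surjective y
    obtain ⟨g', rfl⟩ := map_surjective (θ A B V).toRingHom θ_surjective g
    exact ⟨g', rfl⟩
  have hΨΘ : ∀ P, Ψ (Θ P) = residue W (Φ P) := by
    intro P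
    have h1 : (Ψ.comp Θ) = (residue W).comp Φ := by
      apply Polynomial.ringHom_ext
      · intro a
        have h1 : Θ (C a) = AdjoinRoot.of f (θ A B V a) := by
          simp only [Θ, RingHom.comp_apply, coe_mapRingHom, Polynomial.map_C, AdjoinRoot.mk_C]; rfl
        have h2 : Φ (C a) = φW A B V W a := by simp only [hΦ, coe_eval₂RingHom, eval₂_C]; rfl
        change Ψ (Θ (C a)) = residue W (Φ (C a))
        rw [h1, h2]
        exact (AdjoinRoot.lift_of hroot).trans (ψ_θ (W := W) a)
      · have h1 : Θ X = AdjoinRoot.root f := by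
          simp only [Θ, RingHom.comp_apply, coe_mapRingHom, Polynomial.map_X, AdjoinRoot.mk_X]
        have h2 : Φ X = ω := by simp only [hΦ, coe_eval₂RingHom, eval₂_X]
        change Ψ (Θ X) = residue W (Φ X)
        rw [h1, h2]
        exact AdjoinRoot.lift_root hroot
    exact RingHom.congr_fun h1 P
  -- kernel of θ goes into (ϖ)
  have hkerθ : ∀ t : B ⊗[A] V, θ A B V t = 0 → ∃ y : (B ⊗[A] V)[X], φW A B V W t = algebraMap V W ϖ * Φ y := by
    intro t ht
    have hmem : t ∈ (RingHom.ker (IsScalarTower.toAlgHom A B (ResidueField B))).map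
        (Algebra.TensorProduct.includeLeft : B →ₐ[A] B ⊗[A] V) ⊔
        (RingHom.ker (IsScalarTower.toAlgHom A V (ResidueField V))).map
        (Algebra.TensorProduct.includeRight : V →ₐ[A] B ⊗[A] V) := by
      rw [← Algebra.TensorProduct.map_ker _ _ residue_surjective residue_surjective]
      exact ht
    have hΦC : ∀ a, Φ (C a) = φW A B V W a := fun a => by simp only [hΦ, coe_eval₂RingHom, eval₂_C]; rfl
    have hΦX : Φ X = ω := by simp only [hΦ, coe_eval₂RingHom, eval₂_X]
    let J : Ideal (B ⊗[A] V) :=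
      { carrier := {t | ∃ y : (B ⊗[A] V)[X], φW A B V W t = algebraMap V W ϖ * Φ y}
        add_mem' := by
          rintro a b ⟨y, hy⟩ ⟨z, hz⟩
          exact ⟨y + z, by rw [map_add, map_add, hy, hz, mul_add]⟩
        zero_mem' := ⟨0, by simp⟩
        smul_mem' := by
          rintro r a ⟨y, hy⟩
          refine ⟨C r * y, ?_⟩
          rw [smul_eq_mul, map_mul, map_mul, hy, hΦC]; ring }
    have hle : (RingHom.ker (IsScalarTower.toAlgHom A B (ResidueField B))).map
        (Algebra.TensorProduct.includeLeft : B →ₐ[A] B ⊗[A] V) ⊔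
        (RingHom.ker (IsScalarTower.toAlgHom A V (ResidueField V))).map
        (Algebra.TensorProduct.includeRight : V →ₐ[A] B ⊗[A] V) ≤ J := by
      refine sup_le ?_ ?_
      · rw [Ideal.map_le_iff_le_comap]
        intro b hb
        have hb' : b ∈ maximalIdeal B := by
          rw [← IsLocalRing.residue_eq_zero_iff]; exact hb
        rw [hρ, Ideal.mem_span_singleton] at hb'
        obtain ⟨b', rfl⟩ := hb'
        refine ⟨X * C (b' ⊗ₜ[A] (ϖ ^ (d - 1))), ?_⟩
        rw [map_mul Φ, hΦC, hΦX]
        obtain ⟨d', rfl⟩ := Nat.exists_eq_succ_of_ne_zero hd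
        simp only [φW, Algebra.TensorProduct.includeLeft_apply, Algebra.TensorProduct.productMap_apply_tmul,
          map_one, mul_one, map_mul, IsScalarTower.toAlgHom_apply, Nat.succ_sub_one, map_pow]
        rw [hω, Nat.succ_eq_add_one, pow_succ]
        ring
      · rw [Ideal.map_le_iff_le_comap]
        intro v hv
        have hv' : v ∈ maximalIdeal V := by
          rw [← IsLocalRing.residue_eq_zero_iff]; exact hv
        rw [hϖ, Ideal.mem_span_singleton] at hv'
        obtain ⟨v', rfl⟩ := hv'
        refine ⟨C ((1 : B) ⊗ₜ[A] v'), ?_⟩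
        rw [hΦC]
        simp only [φW, Algebra.TensorProduct.includeRight_apply, Algebra.TensorProduct.productMap_apply_tmul,
          map_one, one_mul, map_mul, IsScalarTower.toAlgHom_apply]
    exact hle hmem
  -- kernel of `Θ` goes into `(ϖ)`
  have hΦC : ∀ a, Φ (C a) = φW A B V W a := fun a => by simp only [hΦ, coe_eval₂RingHom, eval₂_C]; rfl
  have hΦX : Φ X = ω := by simp only [hΦ, coe_eval₂RingHom, eval₂_X]
  have hkerΘ : ∀ P : (B ⊗[A] V)[X], Θ P = 0 → ∃ y : (B ⊗[A] V)[X], Φ P = algebraMap V W ϖ * Φ y := by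
    intro P hP
    have h1 : f ∣ P.map (θ A B V).toRingHom := by
      rw [← AdjoinRoot.mk_eq_zero]; exact hP
    obtain ⟨g, hg⟩ := h1
    obtain ⟨g', rfl⟩ := map_surjective (θ A B V).toRingHom θ_surjective g
    set P' := P - (X ^ e - C c) * g' with hP'
    have h2 : P'.map (θ A B V).toRingHom = 0 := by
      rw [hP', Polynomial.map_sub, hg, Polynomial.map_mul, Polynomial.map_sub, Polynomial.map_pow, map_X, map_C, hf]
      exact sub_self _
    have h3 : Φ P = Φ P' := by
      rw [hP', map_sub, map_mul, map_sub, map_pow, hΦC, hΦX, hωe, sub_self, zero_mul, sub_zero]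
    have h4 : ∀ i, θ A B V (P'.coeff i) = 0 := by
      intro i
      have := congrArg (fun q => q.coeff i) h2
      simp only [coeff_map, coeff_zero] at this
      exact this
    choose y hy using fun i => hkerθ (P'.coeff i) (h4 i)
    refine ⟨∑ i ∈ P'.support, y i * X ^ i, ?_⟩
    rw [h3]
    conv_lhs => rw [P'.as_sum_support_C_mul_X_pow]
    rw [map_sum, map_sum, Finset.mul_sum]
    refine Finset.sum_congr rfl fun i _ => ?_
    rw [map_mul, hΦC, hy, map_mul]; ring
  -- apply `key_unif`
  have key := key_unif Φ.range (algebraMap V W ϖ) ⟨C ((1 : B) ⊗ₜ[A] ϖ), by rw [hΦC]; simp [φW]⟩ hϖW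
    (by
      have : ϖ ∈ maximalIdeal V := by rw [hϖ]; exact Ideal.mem_span_singleton_self _
      rw [mem_maximalIdeal, mem_nonunits_iff] at this ⊢
      intro h
      exact this (isUnit_of_map_unit (algebraMap V W) _ h))
    (by
      rintro _ ⟨P, rfl⟩ hPm
      obtain ⟨s, g, hs, hsg⟩ := exists_mul_eq_zero_of_isIntegral (k := ResidueField B) (Θ P)
      obtain ⟨Q, rfl⟩ := hΘsurj s
      have h1 : residue W (Φ P) = 0 := by rwa [IsLocalRing.residue_eq_zero_iff]
      have h2 : residue W (Φ Q) = 1 := by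
        have := congrArg Ψ hsg
        rw [map_add, map_mul, hΨΘ, hΨΘ, h1, mul_zero, add_zero, map_one] at this
        exact this
      obtain ⟨y, hy⟩ := hkerΘ (Q * P) (by rw [map_mul]; exact hs)
      refine ⟨Φ Q, ⟨Q, rfl⟩, ?_, Φ y, ⟨y, rfl⟩, by rw [← map_mul, hy]⟩
      rw [← IsLocalRing.residue_eq_zero_iff, h2]
      exact one_ne_zero)
    (by
      intro w
      obtain ⟨a, ⟨a', rfl⟩, ha0, b, hb⟩ := hfrac w
      refine ⟨_, ⟨C a', rfl⟩, ?_, ⟨C b, ?_⟩⟩
      · rw [hΦC]; exact ha0
      · rw [hΦC, hΦC]; exact hb)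
  refine ⟨key.1, fun w => ?_⟩
  obtain ⟨_, ⟨a, rfl⟩, ha, b, hb⟩ := key.2 w
  exact ⟨a, b, ha, hb.symm⟩

end Main

end Groth.Agent.Etalg.RamKey
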