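import Groth.Agent.Etalg.RamKey
import Mathlib.FieldTheory.SeparableClosure

/-!
# The key lemma behind Abhyankar's lemma, II: the residue field extension is geometrically reduced
-/

set_option autoImplicit false

namespace Groth.Agent.Etalg.RamKey2

open Polynomial TensorProduct IsLocalRing RamRed RamKey

section Main

variable {A B V W : Type*} [CommRing A] [IsLocalRing A] [CommRing B] [IsLocalRing B] [CommRing V] [IsLocalRing V]
  [CommRing W] [IsDomain W] [IsDiscreteValuationRing W]
  [Algebra A B] [Algebra A V] [Algebra A W] [Algebra B W] [Algebra V W]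
  [IsScalarTower A B W] [IsScalarTower A V W]
  [IsLocalHom (algebraMap A B)] [IsLocalHom (algebraMap A V)] [IsLocalHom (algebraMap B W)]
  [IsLocalHom (algebraMap V W)]
  [Algebra.IsAlgebraic (ResidueField A) (ResidueField V)]
  [Algebra.IsGeometricallyReduced (ResidueField A) (ResidueField B)]

theorem geomReduced_R₀ (A B V : Type*) [CommRing A] [IsLocalRing A] [CommRing B] [IsLocalRing B] [CommRing V]
    [IsLocalRing V] [Algebra A B] [Algebra A V] [IsLocalHom (algebraMap A B)] [IsLocalHom (algebraMap A V)]
    [Algebra.IsAlgebraic (ResidueField A) (ResidueField V)]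
    [Algebra.IsGeometricallyReduced (ResidueField A) (ResidueField B)] :
    Algebra.IsGeometricallyReduced (ResidueField V) (ResidueField V ⊗[A] ResidueField B) := by
  rw [Algebra.isGeometricallyReduced_field_iff]
  have h0 : Algebra.IsAlgebraic (ResidueField A) (AlgebraicClosure (ResidueField V)) :=
    Algebra.IsAlgebraic.trans (ResidueField A) (ResidueField V) _
  have h1 : IsReduced (AlgebraicClosure (ResidueField V) ⊗[ResidueField A] ResidueField B) := inferInstance
  have h2 : IsReduced (AlgebraicClosure (ResidueField V) ⊗[A] ResidueField B) := isReduced_tensor_of_residue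
  exact isReduced_of_injective _ (Algebra.TensorProduct.cancelBaseChange A (ResidueField V)
    (AlgebraicClosure (ResidueField V)) (AlgebraicClosure (ResidueField V)) (ResidueField B)).injective

theorem main_geom (ρ : B) (hρ : maximalIdeal B = Ideal.span {ρ}) (ϖ : V) (hϖ : maximalIdeal V = Ideal.span {ϖ})
    (hϖW : algebraMap V W ϖ ≠ 0) (e d : ℕ) (he : IsUnit (e : ResidueField A)) (hd : d ≠ 0)
    (c : B ⊗[A] V) (hc : IsUnit (θ A B V c)) (ω : W)
    (hω : algebraMap B W ρ = ω * algebraMap V W ϖ ^ d) (hωe : ω ^ e = φW A B V W c)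
    (hfrac : ∀ w : W, ∃ a ∈ (φW A B V W).range, a ≠ 0 ∧ a * w ∈ (φW A B V W).range) :
    Algebra.IsGeometricallyReduced (ResidueField V) (ResidueField W) := by
  classical
  obtain ⟨-, hgen⟩ := main_unif ρ hρ ϖ hϖ hϖW e d he hd c hc ω hω hωe hfrac
  set R := ResidueField V ⊗[A] ResidueField B with hR
  have hgeomR : Algebra.IsGeometricallyReduced (ResidueField V) R := geomReduced_R₀ A B V
  have hredR₀ : IsReduced (ResidueField B ⊗[A] ResidueField V) := isReduced_R₀ A B V
  have hintR₀ : Algebra.IsIntegral (ResidueField B) (ResidueField B ⊗[A] ResidueField V) := isIntegral_R₀ A B V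
  let ec := Algebra.TensorProduct.comm A (ResidueField B) (ResidueField V)
  have hvN : ∀ x : R, ∃ s g : R, s * x = 0 ∧ s + g * x = 1 := by
    intro x
    obtain ⟨s, g, h1, h2⟩ := exists_mul_eq_zero_of_isIntegral (k := ResidueField B) (ec.symm x)
    refine ⟨ec s, ec g, ?_, ?_⟩
    · have := congrArg ec h1
      rwa [map_mul, map_zero, AlgEquiv.apply_symm_apply] at this
    · have := congrArg ec h2
      rwa [map_add, map_mul, map_one, AlgEquiv.apply_symm_apply] at this
  let f₀ : R →ₐ[ResidueField V] ResidueField W :=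
    Algebra.TensorProduct.lift (Algebra.ofId (ResidueField V) (ResidueField W))
      (IsScalarTower.toAlgHom A (ResidueField B) (ResidueField W)) (fun _ _ => Commute.all _ _)
  have hf₀ : ∀ t : B ⊗[A] V, f₀ (ec (θ A B V t)) = residue W (φW A B V W t) := by
    intro t
    rw [← ψ_θ]
    induction t with
    | zero => simp
    | add x y hx hy => simp only [map_add, hx, hy]
    | tmul b v =>
      simp only [θ, Algebra.TensorProduct.map_tmul, ec, Algebra.TensorProduct.comm_tmul, f₀, ψ, Algebra.TensorProduct.productMap_apply_tmul]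
      rw [mul_comm]; rfl
  let E₀ : IntermediateField (ResidueField V) (ResidueField W) := f₀.range.toIntermediateField (by
    rintro _ ⟨x, rfl⟩
    obtain ⟨s, g, h1, h2⟩ := hvN x
    by_cases hx : f₀ x = 0
    · exact ⟨0, by
        change f₀ 0 = (f₀ x)⁻¹
        rw [hx, map_zero, inv_zero]⟩
    · refine ⟨g, ?_⟩
      have h3 : f₀ s = 0 := by
        have := congrArg f₀ h1
        rw [map_mul, map_zero] at this
        exact (mul_eq_zero.1 this).resolve_right hx
      have h4 := congrArg f₀ h2
      rw [map_add, map_mul, map_one, h3, zero_add] at h4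
      exact eq_inv_of_mul_eq_one_left h4)
  have hmemE₀ : ∀ x, f₀ x ∈ E₀ := fun x => ⟨x, rfl⟩
  let f : R →ₐ[ResidueField V] E₀ := f₀.codRestrict E₀.toSubalgebra (fun x => ⟨x, rfl⟩)
  have hfsurj : Function.Surjective f := by
    rintro ⟨_, ⟨x, rfl⟩⟩
    exact ⟨x, rfl⟩
  have hfreg : ∀ x : R, f x = 0 → ∃ s, f s ≠ 0 ∧ s * x = 0 := by
    intro x hx
    obtain ⟨s, g, h1, h2⟩ := hvN x
    refine ⟨s, ?_, h1⟩
    have := congrArg f h2
    rw [map_add, map_mul, hx, mul_zero, add_zero, map_one] at this
    rw [this]; exact one_ne_zero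
  have hgeomE₀ : Algebra.IsGeometricallyReduced (ResidueField V) E₀ :=
    isGeometricallyReduced_of_surjective f hfsurj hfreg
  -- `ω̄` is separable over `E₀`
  set ω' := residue W ω with hω'
  have hc1 : ω' ^ e = f₀ (ec (θ A B V c)) := by
    rw [hf₀, hω', ← map_pow, hωe]
  have he0 : e ≠ 0 := by
    rintro rfl
    rw [Nat.cast_zero] at he
    exact not_isUnit_zero he
  have hcne : f₀ (ec (θ A B V c)) ≠ 0 := ((hc.map ec).map f₀).ne_zero
  let c₁ : E₀ := ⟨f₀ (ec (θ A B V c)), hmemE₀ _⟩
  have hc₁ : c₁ ≠ 0 := by
    intro h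
    exact hcne (congrArg Subtype.val h)
  have heE₀ : (e : E₀) ≠ 0 := by
    intro h
    have h0 : IsUnit (algebraMap (ResidueField A) (ResidueField V) (e : ResidueField A)) := he.map _
    have h1 := h0.map (algebraMap (ResidueField V) (ResidueField W))
    rw [map_natCast, map_natCast] at h1
    apply h1.ne_zero
    have := congrArg (algebraMap E₀ (ResidueField W)) h
    rwa [map_natCast, map_zero] at this
  have hsepω : IsSeparable E₀ ω' := by
    have h1 : (X ^ e - C c₁ : E₀[X]).Separable := separable_X_pow_sub_C c₁ heE₀ hc₁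
    refine h1.of_dvd (minpoly.dvd E₀ ω' ?_)
    rw [map_sub, map_pow, aeval_X, aeval_C, hc1]
    exact sub_self _
  -- `κ_W = E₀(ω̄)`
  have htop : IntermediateField.adjoin E₀ {ω'} = ⊤ := by
    rw [eq_top_iff]
    intro w _
    obtain ⟨w, rfl⟩ := residue_surjective w
    obtain ⟨a, b, ha, hab⟩ := hgen w
    have hP : ∀ P : (B ⊗[A] V)[X], residue W (eval₂ (φW A B V W).toRingHom ω P) ∈
        IntermediateField.adjoin E₀ {ω'} := by
      intro P
      rw [eval₂_eq_sum, Polynomial.sum_def, map_sum]
      refine sum_mem fun i _ => ?_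
      rw [map_mul, map_pow]
      refine mul_mem ?_ (pow_mem (IntermediateField.mem_adjoin_simple_self E₀ ω') i)
      have : residue W ((φW A B V W).toRingHom (P.coeff i)) =
        algebraMap E₀ (ResidueField W) ⟨_, hmemE₀ (ec (θ A B V (P.coeff i)))⟩ := (hf₀ _).symm
      rw [this]
      exact (IntermediateField.adjoin E₀ {ω'}).algebraMap_mem _
    have ha' : residue W (eval₂ (φW A B V W).toRingHom ω a) ≠ 0 := by
      rwa [Ne, IsLocalRing.residue_eq_zero_iff]
    have h2 : residue W w = (residue W (eval₂ (φW A B V W).toRingHom ω a))⁻¹ *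
        residue W (eval₂ (φW A B V W).toRingHom ω b) := by
      rw [← hab, map_mul, inv_mul_cancel_left₀ ha']
    rw [h2]
    exact mul_mem (inv_mem (hP a)) (hP b)
  have hfd : FiniteDimensional E₀ (ResidueField W) := by
    have h1 : FiniteDimensional E₀ (IntermediateField.adjoin E₀ {ω'}) :=
      IntermediateField.adjoin.finiteDimensional hsepω.isIntegral
    rw [htop] at h1
    exact Module.Finite.equiv (IntermediateField.topEquiv (F := E₀) (E := ResidueField W)).toLinearEquiv
  have hsep : Algebra.IsSeparable E₀ (ResidueField W) := by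
    have h1 : Algebra.IsSeparable E₀ (IntermediateField.adjoin E₀ {ω'}) :=
      (IntermediateField.isSeparable_adjoin_simple_iff_isSeparable _ _).2 hsepω
    rw [htop] at h1
    exact AlgEquiv.Algebra.isSeparable (IntermediateField.topEquiv (F := E₀) (E := ResidueField W))
  exact isGeometricallyReduced_trans (E := E₀)

end Main

end Groth.Agent.Etalg.RamKey2
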