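import Mathlib.RingTheory.Nilpotent.GeometricallyReduced
import Mathlib.RingTheory.Unramified.Field
import Mathlib.RingTheory.TensorProduct.Free
import Mathlib.RingTheory.AdjoinRoot
import Mathlib.FieldTheory.Separable
import Mathlib.RingTheory.Ideal.Quotient.Nilpotent
import Mathlib.RingTheory.LocalRing.ResidueField.Ideal

/-!
# Reducedness lemmas: adjoining roots, separable base change, geometrically reduced field extensions
-/

set_option autoImplicit false

namespace Groth.Agent.Etalg.RamRed

open Polynomial TensorProduct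

/-- an element lying in every prime ideal of a reduced ring vanishes -/
theorem eq_zero_of_forall_prime {R : Type*} [CommRing R] [IsReduced R] (x : R)
    (h : ∀ (p : Ideal R) [p.IsPrime], x ∈ p) : x = 0 := by
  have : x ∈ nilradical R := by
    rw [nilradical_eq_sInf]
    simp only [Submodule.mem_sInf]
    intro p hp
    exact @h p hp
  rwa [nilradical_eq_zero, Ideal.zero_eq_bot, Ideal.mem_bot] at this

/-- `k[X]/(g)` is reduced for a separable polynomial `g` over a field. -/
theorem isReduced_adjoinRoot_of_separable {k : Type*} [Field k] (g : k[X]) (hg : g.Separable) :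
    IsReduced (AdjoinRoot g) :=
  (Ideal.isRadical_iff_quotient_reduced _).mp (isRadical_iff_span_singleton.mp hg.squarefree.isRadical)

/-- Let `f` be a monic polynomial over a reduced ring which is separable at every residue field.
Then `R[X]/(f)` is reduced. -/
theorem isReduced_adjoinRoot {R : Type*} [CommRing R] [IsReduced R] (f : R[X]) (hf : f.Monic)
    (hsep : ∀ (p : Ideal R) [p.IsPrime], (f.map (algebraMap R p.ResidueField)).Separable) :
    IsReduced (AdjoinRoot f) := by
  constructor
  intro x hx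
  rcases subsingleton_or_nontrivial R with hR | hR
  · have : Subsingleton (AdjoinRoot f) := (algebraMap R (AdjoinRoot f)).codomain_trivial
    exact Subsingleton.elim _ _
  obtain ⟨g, rfl⟩ := AdjoinRoot.mk_surjective x
  -- replace `g` by its remainder
  set r := g %ₘ f with hr
  have hgr : AdjoinRoot.mk f g = AdjoinRoot.mk f r := by
    rw [AdjoinRoot.mk_eq_mk, hr]
    refine ⟨g /ₘ f, ?_⟩
    have := modByMonic_add_div g f
    linear_combination -this
  rw [hgr] at hx ⊢
  have hdeg : r.degree < f.degree := degree_modByMonic_lt g hf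
  suffices h : r = 0 by rw [h, map_zero]
  ext i
  rw [coeff_zero]
  apply eq_zero_of_forall_prime
  intro p hp
  set φ := algebraMap R p.ResidueField with hφ
  have hred : IsReduced (AdjoinRoot (f.map φ)) := isReduced_adjoinRoot_of_separable _ (hsep p)
  let ψ : AdjoinRoot f →+* AdjoinRoot (f.map φ) := AdjoinRoot.map φ f (f.map φ) dvd_rfl
  have h1 : IsNilpotent (ψ (AdjoinRoot.mk f r)) := hx.map ψ
  have h2 : ψ (AdjoinRoot.mk f r) = AdjoinRoot.mk (f.map φ) (r.map φ) := by
    simp only [ψ, AdjoinRoot.map, AdjoinRoot.lift_mk]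
    rw [← AdjoinRoot.aeval_eq, aeval_def, eval₂_map, AdjoinRoot.algebraMap_eq]
  rw [h2] at h1
  have h3 : AdjoinRoot.mk (f.map φ) (r.map φ) = 0 := h1.eq_zero
  rw [AdjoinRoot.mk_eq_zero] at h3
  have h4 : r.map φ = 0 := by
    by_contra hne
    have := degree_le_of_dvd h3 hne
    rw [hf.degree_map] at this
    exact absurd (this.trans degree_map_le) (not_le.2 hdeg)
  have h5 : φ (r.coeff i) = 0 := by
    rw [← coeff_map, h4, coeff_zero]
  rwa [hφ, ← Ideal.mem_bot, ← Ideal.mem_comap, ← RingHom.ker_eq_comap_bot, Ideal.ker_algebraMap_residueField] at h5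

/-- `R[X]/(X^n - u)` is reduced for `R` reduced, `n` and `u` invertible in `R`. -/
theorem isReduced_adjoinRoot_X_pow_sub_C {R : Type*} [CommRing R] [IsReduced R] (n : ℕ) (hn0 : n ≠ 0)
    (hn : IsUnit (n : R)) (u : R) (hu : IsUnit u) : IsReduced (AdjoinRoot (X ^ n - C u : R[X])) := by
  refine isReduced_adjoinRoot _ (monic_X_pow_sub_C u hn0) fun p hp => ?_
  rw [Polynomial.map_sub, Polynomial.map_pow, map_X, map_C]
  refine separable_X_pow_sub_C _ ?_ ?_
  · have := hn.map (algebraMap R p.ResidueField)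
    rw [map_natCast] at this
    exact this.ne_zero
  · exact (hu.map (algebraMap R p.ResidueField)).ne_zero

/-- von Neumann regularity of reduced integral algebras over a field -/
theorem exists_mul_eq_zero_of_isIntegral {k R : Type*} [Field k] [CommRing R] [Algebra k R]
    [Algebra.IsIntegral k R] [IsReduced R] (x : R) : ∃ s g : R, s * x = 0 ∧ s + g * x = 1 := by
  nontriviality R
  obtain ⟨p, hp, hpx⟩ := Algebra.IsIntegral.isIntegral (R := k) x
  have hp0 : p ≠ 0 := hp.ne_zero
  obtain ⟨q, hq, hq'⟩ := Polynomial.exists_eq_pow_rootMultiplicity_mul_and_not_dvd p hp0 0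
  set n := p.rootMultiplicity 0 with hn
  have hq0 : q.coeff 0 ≠ 0 := by
    rw [map_zero, sub_zero, X_dvd_iff] at hq'
    exact hq'
  rw [map_zero, sub_zero] at hq
  have h1 : x ^ n * aeval x q = 0 := by
    have : aeval x p = 0 := hpx
    rw [hq, map_mul, map_pow, aeval_X] at this
    exact this
  have h2 : x * aeval x q = 0 := by
    rcases Nat.eq_zero_or_pos n with h0 | hpos
    · rw [h0, pow_zero, one_mul] at h1
      rw [h1, mul_zero]
    · have : IsNilpotent (x * aeval x q) := by
        refine ⟨n, ?_⟩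
        rw [mul_pow]
        obtain ⟨m, hm⟩ : ∃ m, n = m + 1 := ⟨n - 1, by omega⟩
        have : (aeval x q) ^ n = aeval x q * (aeval x q) ^ m := by rw [hm, pow_succ']
        rw [this, ← mul_assoc, h1, zero_mul]
      exact this.eq_zero
  have h3 : aeval x q = aeval x (divX q) * x + algebraMap k R (q.coeff 0) := by
    conv_lhs => rw [← divX_mul_X_add q]
    rw [map_add, map_mul, aeval_X, aeval_C]
  have hcu : algebraMap k R (q.coeff 0)⁻¹ * algebraMap k R (q.coeff 0) = 1 := by
    rw [← map_mul, inv_mul_cancel₀ hq0, map_one]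
  refine ⟨algebraMap k R (q.coeff 0)⁻¹ * aeval x q,
    - (algebraMap k R (q.coeff 0)⁻¹ * aeval x (divX q)), ?_, ?_⟩
  · rw [mul_assoc, mul_comm (aeval x q), h2, mul_zero]
  · rw [h3, mul_add, hcu]; ring

/-- base change of a reduced algebra along a finite separable field extension is reduced -/
theorem isReduced_tensor_of_finite_separable {E E' R : Type*} [Field E] [Field E'] [Algebra E E']
    [FiniteDimensional E E'] [Algebra.IsSeparable E E'] [CommRing R] [Algebra E R] [IsReduced R] :
    IsReduced (R ⊗[E] E') := by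
  constructor
  intro x hx
  set b := Module.finBasis E E' with hb
  set b' := Algebra.TensorProduct.basis R b with hb'
  rw [← b'.repr.map_eq_zero_iff]
  ext i
  rw [Finsupp.zero_apply]
  apply eq_zero_of_forall_prime
  intro p hp
  set κ := p.ResidueField
  have hred : IsReduced (κ ⊗[E] E') := by
    have : Algebra.FormallyUnramified E E' := (Algebra.FormallyUnramified.iff_isSeparable E E').2 inferInstance
    exact Algebra.FormallyUnramified.isReduced_of_field κ (κ ⊗[E] E')
  let ψ : R ⊗[E] E' →ₐ[R] κ ⊗[E] E' :=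
    Algebra.TensorProduct.map (Algebra.ofId R κ) (AlgHom.id E E')
  have h1 : ψ x = 0 := (hx.map ψ).eq_zero
  have h2 : ∀ y : R ⊗[E] E', (Algebra.TensorProduct.basis κ b).repr (ψ y) i = algebraMap R κ (b'.repr y i) := by
    intro y
    induction y with
    | zero => simp
    | add y z hy hz => rw [map_add, map_add, map_add, Finsupp.add_apply, hy, hz, Finsupp.add_apply, map_add]
    | tmul r e =>
      simp only [ψ, Algebra.TensorProduct.map_tmul, AlgHom.id_apply]
      rw [Algebra.TensorProduct.basis_repr_tmul, hb', Algebra.TensorProduct.basis_repr_tmul]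
      simp only [Algebra.ofId_apply]
      rw [Finsupp.smul_apply, Finsupp.smul_apply, Finsupp.mapRange_apply, Finsupp.mapRange_apply, smul_eq_mul,
        smul_eq_mul, map_mul, ← IsScalarTower.algebraMap_apply]
  have h3 := h2 x
  rw [h1, map_zero, Finsupp.zero_apply] at h3
  rwa [eq_comm, ← Ideal.mem_bot, ← Ideal.mem_comap, ← RingHom.ker_eq_comap_bot, Ideal.ker_algebraMap_residueField] at h3

/-- Let `f : R₀ → E₀` be a surjection of `k`-algebras onto a field, where every element of the kernel is killed by an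
element outside the kernel (so `E₀` is a localization). If `Ω ⊗ R₀` is reduced, so is `Ω ⊗ E₀`. -/
theorem isReduced_tensor_of_surjective {k R₀ E₀ Ω : Type*} [CommRing k] [CommRing R₀] [Algebra k R₀] [Field E₀]
    [Algebra k E₀] [CommRing Ω] [Algebra k Ω] (f : R₀ →ₐ[k] E₀) (hf : Function.Surjective f)
    (hreg : ∀ x : R₀, f x = 0 → ∃ s, f s ≠ 0 ∧ s * x = 0) [IsReduced (Ω ⊗[k] R₀)] :
    IsReduced (Ω ⊗[k] E₀) := by
  let F : Ω ⊗[k] R₀ →ₐ[k] Ω ⊗[k] E₀ := Algebra.TensorProduct.map (AlgHom.id k Ω) f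
  have hF : Function.Surjective F := by
    intro y
    induction y with
    | zero => exact ⟨0, map_zero _⟩
    | add y z hy hz =>
      obtain ⟨y', rfl⟩ := hy
      obtain ⟨z', rfl⟩ := hz
      exact ⟨y' + z', map_add _ _ _⟩
    | tmul a e =>
      obtain ⟨r, rfl⟩ := hf e
      exact ⟨a ⊗ₜ r, by simp [F]⟩
  have hker : ∀ y : Ω ⊗[k] R₀, F y = 0 → ∃ s : R₀, f s ≠ 0 ∧ ((1 : Ω) ⊗ₜ[k] s) * y = 0 := by
    intro y hy
    have hmem : y ∈ (RingHom.ker f).map (Algebra.TensorProduct.includeRight : R₀ →ₐ[k] Ω ⊗[k] R₀) := by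
      rw [← Algebra.TensorProduct.lTensor_ker f hf]
      exact hy
    refine Submodule.span_induction (p := fun y _ => ∃ s : R₀, f s ≠ 0 ∧ ((1 : Ω) ⊗ₜ[k] s) * y = 0)
      ?_ ?_ ?_ ?_ hmem
    · rintro _ ⟨x, hx, rfl⟩
      obtain ⟨s, hs, hsx⟩ := hreg x hx
      refine ⟨s, hs, ?_⟩
      simp [hsx]
    · exact ⟨1, by simp, by simp⟩
    · rintro x y _ _ ⟨s, hs, hsx⟩ ⟨t, ht, hty⟩
      refine ⟨s * t, by rw [map_mul]; exact mul_ne_zero hs ht, ?_⟩
      have h1 : (1 : Ω) ⊗ₜ[k] (s * t) = ((1 : Ω) ⊗ₜ[k] s) * ((1 : Ω) ⊗ₜ[k] t) := by simp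
      rw [h1, mul_add]
      rw [mul_assoc, mul_comm ((1 : Ω) ⊗ₜ[k] t) x, ← mul_assoc, hsx, zero_mul, mul_assoc, hty, mul_zero, add_zero]
    · rintro a x _ ⟨s, hs, hsx⟩
      refine ⟨s, hs, ?_⟩
      rw [smul_eq_mul, mul_left_comm, hsx, mul_zero]
  constructor
  intro x ⟨n, hn⟩
  obtain ⟨y, rfl⟩ := hF x
  rw [← map_pow] at hn
  obtain ⟨s, hs, hsy⟩ := hker _ hn
  have h1 : (((1 : Ω) ⊗ₜ[k] s) * y) = 0 := by
    have : IsNilpotent (((1 : Ω) ⊗ₜ[k] s) * y) := by
      refine ⟨n + 1, ?_⟩
      rw [mul_pow, pow_succ, pow_succ]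
      calc ((1 : Ω) ⊗ₜ[k] s) ^ n * ((1 : Ω) ⊗ₜ[k] s) * (y ^ n * y)
          = ((1 : Ω) ⊗ₜ[k] s) ^ n * (((1 : Ω) ⊗ₜ[k] s) * y ^ n) * y := by ring
        _ = 0 := by rw [hsy, mul_zero, zero_mul]
    exact this.eq_zero
  have h2 : F ((1 : Ω) ⊗ₜ[k] s) * F y = 0 := by rw [← map_mul, h1, map_zero]
  have h3 : F ((1 : Ω) ⊗ₜ[k] s) = (1 : Ω) ⊗ₜ[k] (f s) := by simp [F]
  have h4 : ((1 : Ω) ⊗ₜ[k] (f s)⁻¹) * ((1 : Ω) ⊗ₜ[k] (f s)) = (1 : Ω ⊗[k] E₀) := by
    rw [Algebra.TensorProduct.tmul_mul_tmul, mul_one, inv_mul_cancel₀ hs, Algebra.TensorProduct.one_def]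
  rw [h3] at h2
  calc F y = ((1 : Ω) ⊗ₜ[k] (f s)⁻¹) * ((1 : Ω) ⊗ₜ[k] (f s)) * F y := by rw [h4, one_mul]
    _ = 0 := by rw [mul_assoc, h2, mul_zero]

/-- Let `f : R₀ → E₀` be a surjection of `k`-algebras onto a field, where every element of the kernel is killed by an
element outside the kernel (so `E₀` is a localization). If `R₀` is geometrically reduced, so is `E₀`. -/
theorem isGeometricallyReduced_of_surjective {k R₀ E₀ : Type*} [Field k] [CommRing R₀] [Algebra k R₀] [Field E₀]
    [Algebra k E₀] (f : R₀ →ₐ[k] E₀) (hf : Function.Surjective f)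
    (hreg : ∀ x : R₀, f x = 0 → ∃ s, f s ≠ 0 ∧ s * x = 0) [Algebra.IsGeometricallyReduced k R₀] :
    Algebra.IsGeometricallyReduced k E₀ := by
  rw [Algebra.isGeometricallyReduced_field_iff]
  have hred : IsReduced (AlgebraicClosure k ⊗[k] R₀) := (Algebra.isGeometricallyReduced_field_iff k R₀).1 inferInstance
  exact isReduced_tensor_of_surjective f hf hreg

/-- A finite separable extension of a geometrically reduced field extension is geometrically reduced. -/
theorem isGeometricallyReduced_trans {k E E' : Type*} [Field k] [Field E] [Field E'] [Algebra k E] [Algebra E E']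
    [Algebra k E'] [IsScalarTower k E E'] [Algebra.IsGeometricallyReduced k E] [FiniteDimensional E E']
    [Algebra.IsSeparable E E'] : Algebra.IsGeometricallyReduced k E' := by
  rw [Algebra.isGeometricallyReduced_field_iff]
  have hred : IsReduced (AlgebraicClosure k ⊗[k] E) := (Algebra.isGeometricallyReduced_field_iff k E).1 inferInstance
  set Ω := AlgebraicClosure k
  have hred' : IsReduced (E ⊗[k] Ω) :=
    isReduced_of_injective _ (Algebra.TensorProduct.comm k E Ω).injective
  have h2 : IsReduced ((E ⊗[k] Ω) ⊗[E] E') := isReduced_tensor_of_finite_separable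
  have h3 : IsReduced (E' ⊗[E] (E ⊗[k] Ω)) :=
    isReduced_of_injective _ (Algebra.TensorProduct.comm E E' (E ⊗[k] Ω)).injective
  have h4 : IsReduced (E' ⊗[k] Ω) :=
    isReduced_of_injective _ (Algebra.TensorProduct.cancelBaseChange k E E' E' Ω).symm.injective
  exact isReduced_of_injective _ (Algebra.TensorProduct.comm k Ω E').injective

/-- Base change of a geometrically reduced algebra along an algebraic extension. -/
theorem isGeometricallyReduced_baseChange {k k' R : Type*} [Field k] [Field k'] [Algebra k k']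
    [Algebra.IsAlgebraic k k'] [CommRing R] [Algebra k R] [Algebra.IsGeometricallyReduced k R] :
    Algebra.IsGeometricallyReduced k' (k' ⊗[k] R) := by
  rw [Algebra.isGeometricallyReduced_field_iff]
  have : Algebra.IsAlgebraic k (AlgebraicClosure k') := Algebra.IsAlgebraic.trans k k' _
  have : IsReduced (AlgebraicClosure k' ⊗[k] R) := inferInstance
  exact isReduced_of_injective _ (Algebra.TensorProduct.cancelBaseChange k k' (AlgebraicClosure k')
    (AlgebraicClosure k') R).injective

end Groth.Agent.Etalg.RamRed
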