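import Groth.Agent.Etalg.SepChain
import Groth.Agent.Etalg.NormalDvr
import Groth.Agent.Etalg.CatDim

/-!
# Reduced hypersurfaces in catenary Noetherian local normal domains (Stacks 0BWZ)
-/

set_option autoImplicit false

namespace Groth.Agent.Etalg.ReducedHyp

open IsLocalRing

universe u

/-- Parameters for `R/fR`. -/
lemma exists_params (R : Type u) [CommRing R] [IsNoetherianRing R] [IsLocalRing R] (f : R)
    (hf : f ∈ maximalIdeal R) :
    ∃ gs : List R, (∀ g ∈ gs, g ∈ maximalIdeal R) ∧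
      (∃ k, maximalIdeal R ^ k ≤ Ideal.span {f} ⊔ Ideal.ofList gs) ∧
      (gs.length : WithBot ℕ∞) = ringKrullDim (R ⧸ Ideal.span {f}) := by
  classical
  have hnt : Nontrivial (R ⧸ Ideal.span {f}) := by
    rw [Ideal.Quotient.nontrivial_iff]
    intro h
    rw [Ideal.span_singleton_eq_top] at h
    exact hf h
  have hloc : IsLocalRing (R ⧸ Ideal.span {f}) := .of_surjective' (Ideal.Quotient.mk _)
    Ideal.Quotient.mk_surjective
  have hcomap : (maximalIdeal (R ⧸ Ideal.span {f})).comap (Ideal.Quotient.mk _) = maximalIdeal R :=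
    IsLocalRing.eq_maximalIdeal
      (Ideal.comap_isMaximal_of_surjective _ Ideal.Quotient.mk_surjective)
  obtain ⟨s, hs, hscard⟩ :=
    (maximalIdeal (R ⧸ Ideal.span {f})).exists_finset_card_eq_height_of_isNoetherianRing
  set σ : (R ⧸ Ideal.span {f}) → R :=
    Function.surjInv (Ideal.Quotient.mk_surjective (I := Ideal.span {f})) with hσ
  have hσ' : ∀ x, Ideal.Quotient.mk (Ideal.span {f}) (σ x) = x :=
    Function.surjInv_eq Ideal.Quotient.mk_surjective
  refine ⟨s.toList.map σ, ?_, ?_, ?_⟩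
  · intro g hg
    obtain ⟨x, hx, rfl⟩ := List.mem_map.mp hg
    rw [← hcomap, Ideal.mem_comap, hσ']
    exact hs.1.2 (Ideal.subset_span (by simpa using hx))
  · have hrad : (Ideal.span (s : Set (R ⧸ Ideal.span {f}))).radical =
        maximalIdeal (R ⧸ Ideal.span {f}) := by
      rw [Ideal.radical_eq_sInf]
      apply le_antisymm
      · exact sInf_le ⟨hs.1.2, inferInstance⟩
      · refine le_sInf fun J hJ => ?_
        exact hs.2 ⟨hJ.2, hJ.1⟩ (IsLocalRing.le_maximalIdeal hJ.2.ne_top)
    obtain ⟨k, hk⟩ := Ideal.exists_radical_pow_le_of_fg (Ideal.span (s : Set (R ⧸ Ideal.span {f})))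
      (IsNoetherian.noetherian _)
    rw [hrad] at hk
    refine ⟨k, ?_⟩
    have h1 : (maximalIdeal R ^ k).map (Ideal.Quotient.mk (Ideal.span {f})) ≤
        (Ideal.ofList (s.toList.map σ)).map (Ideal.Quotient.mk (Ideal.span {f})) := by
      rw [Ideal.map_pow]
      have h2 : (maximalIdeal R).map (Ideal.Quotient.mk (Ideal.span {f})) ≤
          maximalIdeal (R ⧸ Ideal.span {f}) := Ideal.map_le_iff_le_comap.mpr hcomap.ge
      refine (Ideal.pow_right_mono h2 k).trans (hk.trans ?_)
      rw [Ideal.span_le]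
      intro x hx
      rw [← hσ' x]
      apply Ideal.mem_map_of_mem
      apply Ideal.subset_span
      exact List.mem_map_of_mem (by simpa using hx)
    intro x hx
    have h3 := h1 (Ideal.mem_map_of_mem _ hx)
    rw [Ideal.mem_map_iff_of_surjective _ Ideal.Quotient.mk_surjective] at h3
    obtain ⟨y, hy, hyx⟩ := h3
    rw [Ideal.Quotient.eq] at hyx
    have : x = -(y - x) + y := by ring
    rw [this]
    exact Ideal.add_mem _ (Ideal.mem_sup_left (neg_mem hyx)) (Ideal.mem_sup_right hy)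
  · rw [List.length_map, Finset.length_toList, ← maximalIdeal_height_eq_ringKrullDim]
    have : ((s.card : ℕ∞) : WithBot ℕ∞) = ((maximalIdeal (R ⧸ Ideal.span {f})).height : WithBot ℕ∞) := by
      rw [hscard]
    exact_mod_cast this

open SepChain in
/-- For a height one prime `q ∋ f`, every element of `q` has a power in the contraction of
`f q R_q`. -/
lemma exists_pow_mem_sat (R : Type u) [CommRing R] [IsDomain R] (q : PrimeSpectrum R)
    (hq : q.asIdeal.height = 1) {f : R} (hf : f ≠ 0) {x : R} (hx : x ∈ q.asIdeal) :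
    ∃ n : ℕ, x ^ n ∈ sat {q} (Ideal.span {f} * q.asIdeal) := by
  by_contra! hcon
  have hcon' : ∀ n : ℕ, ∀ s ∉ q.asIdeal, s * x ^ n ∉ Ideal.span {f} * q.asIdeal := by
    intro n s hs hmem
    exact hcon n (fun q' hq' => ⟨s, by rwa [Set.mem_singleton_iff.mp hq'], hmem⟩)
  have hdisj : Disjoint ((Ideal.span {f} * q.asIdeal : Ideal R) : Set R)
      (q.asIdeal.primeCompl ⊔ Submonoid.powers x : Submonoid R) := by
    rw [Set.disjoint_left]
    intro y hy hy'
    obtain ⟨s, hs, t, ⟨n, rfl⟩, rfl⟩ := Submonoid.mem_sup.mp hy'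
    exact hcon' n s hs hy
  obtain ⟨p, hp, hle, hpd⟩ := Ideal.exists_le_prime_disjoint _ _ hdisj
  rw [Set.disjoint_left] at hpd
  have hpq : p ≤ q.asIdeal := by
    intro y hy
    by_contra hyq
    exact hpd hy (Submonoid.mem_sup_left (S := q.asIdeal.primeCompl) hyq)
  have hxp : x ∉ p := fun h => hpd h (Submonoid.mem_sup_right (Submonoid.mem_powers x))
  have hlt : p < q.asIdeal := lt_of_le_of_ne hpq (fun h => hxp (h ▸ hx))
  have h1 := Ideal.height_add_one_le_of_lt_of_isPrime hlt
  rw [hq] at h1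
  have h2 : p.height = 0 := by
    have : p.height + 1 ≤ 0 + 1 := by simpa using h1
    exact le_antisymm ((ENat.add_le_add_iff_right (by simp)).mp this) bot_le
  rw [Ideal.height_eq_zero_iff_eq_bot] at h2
  have h3 : q.asIdeal ≠ ⊥ := Ideal.ne_bot_of_height_eq_one hq
  obtain ⟨y, hy, hy0⟩ := Submodule.exists_mem_ne_zero_of_ne_bot h3
  have h4 : f * y ∈ p := hle (Ideal.mul_mem_mul (Ideal.mem_span_singleton_self f) hy)
  rw [h2, Ideal.mem_bot] at h4
  exact (mul_ne_zero hf hy0) h4

open SepChain in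
theorem exists_reduced (R : Type u) [CommRing R] [IsDomain R] [IsNoetherianRing R] [IsLocalRing R]
    [IsIntegrallyClosed R] (hc : CAlg.IsCatenary R) (hm : (maximalIdeal R).height ≠ 1) (f₀ : R)
    (hf₀ : f₀ ∈ maximalIdeal R) (hf₀0 : f₀ ≠ 0) :
    ∃ f ∈ (Ideal.span {f₀}).radical, f ≠ 0 ∧ IsReduced (R ⧸ Ideal.span {f}) := by
  classical
  obtain ⟨gs, hgs, ⟨k, hk⟩, hlen⟩ := exists_params R f₀ hf₀
  set C : Ideal R := Ideal.span {f₀} ⊔ Ideal.ofList gs with hC
  have hCm : C ≤ maximalIdeal R := by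
    refine sup_le ((Ideal.span_singleton_le_iff_mem _).mpr hf₀) ?_
    rw [Ideal.ofList, Ideal.span_le]
    exact hgs
  have hfin : Module.length R (R ⧸ C) ≠ ⊤ := by
    have h1 : maximalIdeal R ∈ C.minimalPrimes := by
      refine ⟨⟨inferInstance, hCm⟩, fun J hJ _ => ?_⟩
      have := hJ.1
      exact Ideal.IsPrime.le_of_pow_le (n := k) (hk.trans hJ.2)
    have h2 := IsLocalRing.quotient_artinian_of_mem_minimalPrimes_of_isLocalRing C h1
    have h3 : IsArtinian R (R ⧸ C) := by
      have : IsArtinian (R ⧸ C) (R ⧸ C) := h2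
      exact isArtinian_of_surjective_algebraMap (Ideal.Quotient.mk_surjective (I := C))
    exact Module.length_ne_top
  obtain ⟨L, hL⟩ := ENat.ne_top_iff_exists.mp hfin
  obtain ⟨N₀, hN₀⟩ : ∃ N, f₀ ∉ maximalIdeal R ^ N := by
    by_contra! h
    have h1 := Ideal.iInf_pow_eq_bot_of_isLocalRing (maximalIdeal R) Ideal.IsPrime.ne_top'
    have h2 : f₀ ∈ (⨅ i : ℕ, maximalIdeal R ^ i) := (Submodule.mem_iInf _).mpr h
    rw [h1] at h2
    exact hf₀0 h2
  set N := max N₀ (k + 1) with hN
  have hfN : f₀ ∉ maximalIdeal R ^ N := fun h => hN₀ (Ideal.pow_le_pow_right (le_max_left _ _) h)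
  have hNC : maximalIdeal R ^ N ≤ maximalIdeal R * C :=
    (Ideal.pow_le_pow_right (le_max_right _ _)).trans (by
      rw [pow_succ']; exact Ideal.mul_mono_right hk)
  let Z : R → Set (PrimeSpectrum R) := fun f => {q | q.asIdeal.height = 1 ∧ f ∈ q.asIdeal}
  let Y : Set R := {f | f ∈ (Ideal.span {f₀}).radical ∧ f - f₀ ∈ maximalIdeal R ^ N}
  have hY0 : ∀ f ∈ Y, f ∉ maximalIdeal R ^ N := by
    intro f hf h
    apply hfN
    have : f₀ = f - (f - f₀) := by ring
    rw [this]
    exact Ideal.sub_mem _ h hf.2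
  have hYne : ∀ f ∈ Y, f ≠ 0 := by
    rintro f hf rfl
    exact hY0 0 hf (Ideal.zero_mem _)
  have hdim : ∀ q : PrimeSpectrum R, q.asIdeal.height = 1 →
      (gs.length : WithBot ℕ∞) ≤ ringKrullDim (R ⧸ q.asIdeal) := by
    intro q hq
    have h1 := CatDim.ringKrullDim_le_of_height_one R hc q.asIdeal hq
    have h2 := ringKrullDim_quotient_succ_le_of_nonZeroDivisor
      (mem_nonZeroDivisors_of_ne_zero hf₀0)
    rw [hlen]
    exact ENat.WithBot.add_le_add_one_right_iff.mp (h2.trans h1)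
  have hanti : ∀ q q' : PrimeSpectrum R, q.asIdeal.height = 1 → q'.asIdeal.height = 1 →
      q.asIdeal ≤ q'.asIdeal → q = q' := by
    intro q q' hq hq' hle
    by_contra hne
    have hlt : q.asIdeal < q'.asIdeal := lt_of_le_of_ne hle (fun h => hne (PrimeSpectrum.ext h))
    have h1 := Ideal.height_add_one_le_of_lt_of_isPrime hlt
    rw [hq, hq'] at h1
    exact absurd h1 (by decide)
  have hcard : ∀ f ∈ Y, ∀ T : Finset (PrimeSpectrum R), (T : Set (PrimeSpectrum R)) ⊆ Z f →
      T.card ≤ L := by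
    intro f hf T hT
    have hCf : Ideal.span {f} ⊔ Ideal.ofList gs = C := by
      apply le_antisymm
      · refine sup_le ((Ideal.span_singleton_le_iff_mem _).mpr ?_) le_sup_right
        have : f = f₀ + (f - f₀) := by ring
        rw [this]
        exact Ideal.add_mem _ (Ideal.mem_sup_left (Ideal.mem_span_singleton_self f₀))
          (Ideal.mul_le_right (hNC hf.2))
      · refine Submodule.le_of_le_smul_of_le_jacobson_bot (I := maximalIdeal R)
          (IsNoetherian.noetherian C) (maximalIdeal_le_jacobson _) ?_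
        refine sup_le ((Ideal.span_singleton_le_iff_mem _).mpr ?_)
          (le_sup_of_le_left le_sup_right)
        have : f₀ = f - (f - f₀) := by ring
        rw [this]
        exact Ideal.sub_mem _ (Ideal.mem_sup_left (Ideal.mem_sup_left
          (Ideal.mem_span_singleton_self f))) (Ideal.mem_sup_right (hNC hf.2))
    have h1 := card_le_length gs hgs (Ideal.span {f}) ⟨k, by rw [hCf]; exact hk⟩ T
      (fun q hq => (Ideal.span_singleton_le_iff_mem _).mpr (hT hq).2)
      (fun q hq => hdim q (hT hq).1)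
      (fun q hq q' hq' hle => hanti q q' (hT hq).1 (hT hq').1 hle)
    rw [hCf, ← hL] at h1
    exact_mod_cast h1
  have hZfin : ∀ f ∈ Y, (Z f).Finite := by
    intro f hf
    by_contra hinf
    obtain ⟨T, hT, hTc⟩ := Set.Infinite.exists_subset_card_eq hinf (L + 1)
    have := hcard f hf T hT
    omega
  have hbdd : ∀ g ∈ Y, (Z g).ncard ≤ L := by
    intro g hg
    have h1 := hcard g hg (hZfin g hg).toFinset (by simp)
    rwa [← Set.ncard_eq_toFinset_card _ (hZfin g hg)] at h1
  obtain ⟨f, hfY, hfmax⟩ : ∃ f ∈ Y, ∀ g ∈ Y, (Z g).ncard ≤ (Z f).ncard := by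
    let P : ℕ → Prop := fun n => ∃ g ∈ Y, (Z g).ncard = n
    have hf₀Y : f₀ ∈ Y := ⟨Ideal.le_radical (Ideal.mem_span_singleton_self f₀), by simp⟩
    have hP0 : P ((Z f₀).ncard) := ⟨f₀, hf₀Y, rfl⟩
    obtain ⟨g, hg, hgn⟩ := Nat.findGreatest_spec (P := P) (hbdd f₀ hf₀Y) hP0
    refine ⟨g, hg, fun g' hg' => ?_⟩
    rw [hgn]
    exact Nat.le_findGreatest (hbdd g' hg') ⟨g', hg', rfl⟩
  have hf0 : f ≠ 0 := hYne f hfY
  refine ⟨f, hfY.1, hf0, ?_⟩
  rw [← Ideal.isRadical_iff_quotient_reduced, ← isRadical_iff_span_singleton,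
    isRadical_iff_pow_one_lt 2 one_lt_two]
  intro a haf
  by_contra hnd
  rw [← Ideal.mem_span_singleton] at hnd
  obtain ⟨P, hP, hfP, hdvr, hsP⟩ := NormalDvr.exists_dvr_prime_of_notMem_span R hf0 hnd
  have hP1 : P.height = 1 := NormalDvr.height_eq_one_of_dvr R P hdvr
  have haP : a ∈ P := by
    obtain ⟨c, hc⟩ := haf
    exact hP.mem_of_pow_mem 2 (by rw [hc]; exact P.mul_mem_right _ hfP)
  -- `c² ∣ f` locally at `P`
  obtain ⟨c, hcP, s, hs, z, hsz⟩ : ∃ c ∈ P, ∃ s ∉ P, ∃ z, s * f = c ^ 2 * z := by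
    have hinj : Function.Injective (algebraMap R (Localization.AtPrime P)) :=
      IsLocalization.injective _ P.primeCompl_le_nonZeroDivisors
    obtain ⟨ϖ, hϖ⟩ := IsDiscreteValuationRing.exists_irreducible (Localization.AtPrime P)
    have hϖm : maximalIdeal (Localization.AtPrime P) = Ideal.span {ϖ} := hϖ.maximalIdeal_eq
    have hnd' : ¬ algebraMap R (Localization.AtPrime P) f ∣ algebraMap R _ a := by
      rintro ⟨y, hy⟩
      obtain ⟨⟨y', t⟩, hy'⟩ := IsLocalization.surj P.primeCompl y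
      have h1 : t.1 * a ∈ Ideal.span {f} := by
        rw [Ideal.mem_span_singleton']
        refine ⟨y', hinj ?_⟩
        rw [map_mul, map_mul, ← hy', hy]
        ring
      exact t.2 (hsP _ h1)
    obtain ⟨t, ht⟩ : algebraMap R (Localization.AtPrime P) a ∣ algebraMap R _ f :=
      (ValuationRing.dvd_total _ _).resolve_right hnd'
    have htm : t ∈ maximalIdeal (Localization.AtPrime P) := by
      rw [mem_maximalIdeal, mem_nonunits_iff]
      intro hu
      apply hnd'
      rw [ht]
      exact (associated_mul_unit_left _ _ hu).dvd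
    have ham : algebraMap R (Localization.AtPrime P) a ∈ maximalIdeal (Localization.AtPrime P) := by
      rw [← Localization.AtPrime.map_eq_maximalIdeal]
      exact Ideal.mem_map_of_mem _ haP
    rw [hϖm, Ideal.mem_span_singleton] at htm ham
    obtain ⟨t', rfl⟩ := htm
    obtain ⟨a', ha'⟩ := ham
    obtain ⟨⟨c, s₀⟩, hc0⟩ := IsLocalization.surj P.primeCompl ϖ
    change ϖ * algebraMap R _ (s₀ : R) = algebraMap R _ c at hc0
    have hs₀ : IsUnit (algebraMap R (Localization.AtPrime P) s₀) := IsLocalization.map_units _ s₀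
    obtain ⟨u, hu⟩ := hs₀
    have hcP : c ∈ P := by
      have h1 : algebraMap R (Localization.AtPrime P) c ∈ maximalIdeal _ := by
        rw [← hc0, hϖm]
        exact Ideal.mul_mem_right _ _ (Ideal.mem_span_singleton_self ϖ)
      exact (IsLocalization.AtPrime.to_map_mem_maximal_iff (Localization.AtPrime P) P c).mp h1
    obtain ⟨⟨z, s₁⟩, hz⟩ := IsLocalization.surj P.primeCompl
      ((↑u⁻¹ : Localization.AtPrime P) ^ 2 * a' * t')
    change _ * algebraMap R _ (s₁ : R) = algebraMap R _ z at hz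
    refine ⟨c, hcP, s₁, s₁.2, z, hinj ?_⟩
    rw [map_mul, map_mul, map_pow, ← hz, ← hc0, ht, ha', ← hu]
    have h2 : (u : Localization.AtPrime P) * ↑u⁻¹ = 1 := Units.mul_inv u
    calc algebraMap R (Localization.AtPrime P) s₁ * (ϖ * a' * (ϖ * t'))
        = (1 : Localization.AtPrime P) ^ 2 * (ϖ ^ 2 * a' * t' * algebraMap R _ s₁) := by ring
      _ = _ := by rw [← h2]; ring
  -- the modifying element
  let Z' : Finset (PrimeSpectrum R) := (hZfin f hfY).toFinset.erase ⟨P, hP⟩
  obtain ⟨b, hbN, hbZ, hbP⟩ : ∃ b ∈ maximalIdeal R ^ N,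
      (∀ q ∈ Z f, q.asIdeal ≠ P → b ∈ sat {q} (Ideal.span {f} * q.asIdeal)) ∧ b ∉ P := by
    have hnot : ¬ (maximalIdeal R ^ N ⊓
        Z'.inf (fun q => sat {q} (Ideal.span {f} * q.asIdeal))) ≤ P := by
      intro hle
      rcases hP.inf_le.mp hle with h | h
      · have h1 : maximalIdeal R ≤ P := hP.le_of_pow_le h
        have h2 : P = maximalIdeal R := le_antisymm (le_maximalIdeal hP.ne_top) h1
        rw [h2] at hP1
        exact hm hP1
      · obtain ⟨q, hq, hqP⟩ := (hP.inf_le').mp h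
        rw [Finset.mem_erase, Set.Finite.mem_toFinset] at hq
        obtain ⟨hqne, hq1, hfq⟩ := hq
        apply hqne
        apply hanti q ⟨P, hP⟩ hq1 hP1
        intro x hx
        obtain ⟨n, hn⟩ := exists_pow_mem_sat R q hq1 hf0 hx
        exact hP.mem_of_pow_mem n (hqP hn)
    obtain ⟨b, hb, hbP⟩ := SetLike.not_le_iff_exists.mp hnot
    refine ⟨b, hb.1, fun q hq hqP => ?_, hbP⟩
    have h1 : q ∈ Z' := by
      rw [Finset.mem_erase, Set.Finite.mem_toFinset]
      exact ⟨fun h => hqP (congrArg PrimeSpectrum.asIdeal h), hq⟩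
    exact (Finset.inf_le (f := fun q : PrimeSpectrum R => sat {q} (Ideal.span {f} * q.asIdeal)) h1)
      hb.2
  have hbq : ∀ q ∈ Z f, q.asIdeal ≠ P → ∃ s ∉ q.asIdeal, ∃ y ∈ q.asIdeal, s * b = f * y := by
    intro q hq hqP
    obtain ⟨s, hs, hsb⟩ := hbZ q hq hqP q rfl
    rw [Ideal.mem_span_singleton_mul] at hsb
    obtain ⟨y, hy, hyb⟩ := hsb
    exact ⟨s, hs, y, hy, hyb.symm⟩
  have hcb : ∀ q ∈ Z f, c * b ∈ q.asIdeal := by
    intro q hq
    by_cases hqP : q.asIdeal = P
    · rw [hqP]; exact P.mul_mem_right _ hcP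
    · obtain ⟨s, hs, y, hy, hyb⟩ := hbq q hq hqP
      have h1 : s * b ∈ q.asIdeal := by rw [hyb]; exact q.asIdeal.mul_mem_left _ hy
      exact q.asIdeal.mul_mem_left _ ((q.2.mem_or_mem h1).resolve_left hs)
  set f' : R := f + c * b with hf'
  have hcbrad : c * b ∈ (Ideal.span {f}).radical := by
    rw [Ideal.radical_eq_sInf, Submodule.mem_sInf]
    rintro J ⟨hJ, hJp⟩
    obtain ⟨q, hq, hqJ⟩ := Ideal.exists_minimalPrimes_le hJ
    have hqp : q.IsPrime := hq.1.1
    have h1 : q.height ≤ 1 := Ideal.height_le_one_of_isPrincipal_of_mem_minimalPrimes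
      (Ideal.span {f}) q hq
    have hfq : f ∈ q := hq.1.2 (Ideal.mem_span_singleton_self f)
    have h2 : q.height ≠ 0 := by
      intro h
      rw [Ideal.height_eq_zero_iff_eq_bot] at h
      rw [h, Ideal.mem_bot] at hfq
      exact hf0 hfq
    have h3 : q.height = 1 := le_antisymm h1 (Order.one_le_iff_ne_zero.mpr h2)
    exact hqJ (hcb ⟨q, hqp⟩ ⟨h3, hfq⟩)
  have hf'Y : f' ∈ Y := by
    refine ⟨Ideal.add_mem _ hfY.1 ?_, ?_⟩
    · have h1 : (Ideal.span {f}).radical ≤ (Ideal.span {f₀}).radical := by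
        rw [Ideal.radical_le_radical_iff, Ideal.span_singleton_le_iff_mem]
        exact hfY.1
      exact h1 hcbrad
    · have : f' - f₀ = (f - f₀) + c * b := by rw [hf']; ring
      rw [this]
      exact Ideal.add_mem _ hfY.2 (Ideal.mul_mem_left _ _ hbN)
  have hZsub : Z f ⊆ Z f' := fun q hq => ⟨hq.1, Ideal.add_mem _ hq.2 (hcb q hq)⟩
  have hZeq : Z f = Z f' := Set.eq_of_subset_of_ncard_le hZsub (hfmax f' hf'Y) (hZfin f' hf'Y)
  have hmem : f ∈ Ideal.span {f'} := by
    refine NormalDvr.mem_span_of_forall_height_one R (hYne f' hf'Y) (fun q hq hq1 => ?_)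
    by_cases hf'q : f' ∈ q
    · have hqZ : (⟨q, hq⟩ : PrimeSpectrum R) ∈ Z f := by rw [hZeq]; exact ⟨hq1, hf'q⟩
      by_cases hqP : q = P
      · subst hqP
        have h1 : s * f' = c * (c * z + s * b) := by rw [hf', mul_add, hsz]; ring
        have h2 : c * z + s * b ∉ q := by
          intro h
          have h3 : s * b ∈ q := by
            have : s * b = (c * z + s * b) - c * z := by ring
            rw [this]
            exact Ideal.sub_mem _ h (q.mul_mem_right _ hcP)
          exact (hq.mem_or_mem h3).elim hs hbP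
        refine ⟨(c * z + s * b) * s, fun h => (hq.mem_or_mem h).elim h2 hs, ?_⟩
        rw [Ideal.mem_span_singleton']
        refine ⟨s * (c * z), ?_⟩
        calc s * (c * z) * f' = (s * f') * (c * z) := by ring
          _ = (c * z + s * b) * (c ^ 2 * z) := by rw [h1]; ring
          _ = (c * z + s * b) * s * f := by rw [← hsz]; ring
      · obtain ⟨s', hs', y, hy, hyb⟩ := hbq ⟨q, hq⟩ hqZ hqP
        refine ⟨s' + c * y, fun h => hs' ?_, ?_⟩
        · have : s' = (s' + c * y) - c * y := by ring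
          rw [this]
          exact Ideal.sub_mem _ h (q.mul_mem_left _ hy)
        · rw [Ideal.mem_span_singleton']
          refine ⟨s', ?_⟩
          rw [hf']
          calc s' * (f + c * b) = s' * f + c * (s' * b) := by ring
            _ = _ := by rw [hyb]; ring
    · exact ⟨f', hf'q, Ideal.mul_mem_right _ _ (Ideal.mem_span_singleton_self f')⟩
  obtain ⟨u, hu⟩ := Ideal.mem_span_singleton'.mp hmem
  by_cases huu : IsUnit u
  · obtain ⟨v, rfl⟩ := huu
    have h1 : c * b = (↑v⁻¹ - 1) * f := by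
      have h2 : f' = ↑v⁻¹ * f := by rw [← hu, ← mul_assoc, Units.inv_mul, one_mul]
      have : c * b = f' - f := by rw [hf']; ring
      rw [this, h2]; ring
    have h3 : c * (s * b) = c * ((↑v⁻¹ - 1) * (c * z)) := by
      calc c * (s * b) = s * (c * b) := by ring
        _ = (↑v⁻¹ - 1) * (s * f) := by rw [h1]; ring
        _ = _ := by rw [hsz]; ring
    have hc0 : c ≠ 0 := by
      rintro rfl
      rw [zero_pow two_ne_zero, zero_mul] at hsz
      rcases mul_eq_zero.mp hsz with h | h
      · exact hs (h ▸ P.zero_mem)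
      · exact hf0 h
    have h4 := mul_left_cancel₀ hc0 h3
    have h5 : s * b ∈ P := by
      rw [h4]
      exact P.mul_mem_left _ (P.mul_mem_right _ hcP)
    exact (hP.mem_or_mem h5).elim hs hbP
  · have h1 : IsUnit (1 - u) := by
      rcases IsLocalRing.isUnit_or_isUnit_one_sub_self u with h | h
      · exact absurd h huu
      · exact h
    obtain ⟨v, hv⟩ := h1
    have h2 : f * (1 - u) = u * c * b := by
      have h3 : u * f' = f := hu
      rw [hf'] at h3
      calc f * (1 - u) = f - u * f := by ring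
        _ = u * (f + c * b) - u * f := by rw [h3]
        _ = _ := by ring
    have h3 : f = ↑v⁻¹ * (u * c) * b := by
      rw [← hv] at h2
      calc f = ↑v⁻¹ * (f * ↑v) := by rw [mul_comm f, ← mul_assoc, Units.inv_mul, one_mul]
        _ = _ := by rw [h2]; ring
    apply hY0 f hfY
    rw [h3]
    exact Ideal.mul_mem_left _ _ hbN

end Groth.Agent.Etalg.ReducedHyp
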