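import Groth.Agent.Etalg.ResInd
import Groth.Agent.Etalg.DVRExt
import Mathlib.RingTheory.DedekindDomain.IntegralClosure
import Mathlib.RingTheory.DedekindDomain.Dvr

/-!
# A good basis of the integral closure of a discrete valuation ring in a finite separable extension
-/

set_option autoImplicit false
universe u v

open Groth.Agent.Etalg.ResInd IsLocalRing Groth.Agent.Etalg.RamBasic
open scoped nonZeroDivisors

namespace Groth.Agent.Etalg.ResTop

variable {Ω : Type u} [Field Ω] {O : ValuationSubring Ω}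

/-- `O ∩ M` is a DVR if `M` contains a uniformizer for its values -/
theorem isDVR_comap {M : Type u} [Field M] (f : M →+* Ω) (ϖ : M)
    (h : IsUnif O (Set.range f) (f ϖ)) :
    IsDiscreteValuationRing (O.comap f) ∧ ∀ hm : ϖ ∈ O.comap f, Irreducible (⟨ϖ, hm⟩ : O.comap f) := by
  refine RamDVR.isDVR_of_uniformizer (O.comap f) ϖ (fun h0 => h.1 (by rw [h0, map_zero])) ?_ ?_
  · rw [valuation_comap_lt_one_iff]; exact h.2.1
  · intro x hx
    obtain ⟨k, hk⟩ := h.2.2 (f x) ⟨x, rfl⟩ (by simpa using hx)
    refine ⟨k, ?_⟩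
    rw [← map_zpow₀, valuation_comap_eq_iff, map_zpow₀, map_zpow₀]
    exact hk

/-- conversely, if `O ∩ M` is a DVR, then `M` contains a uniformizer for its values. -/
theorem exists_isUnif {M : Type u} [Field M] (f : M →+* Ω) [IsDiscreteValuationRing (O.comap f)] :
    ∃ ϖ : M, IsUnif O (Set.range f) (f ϖ) := by
  obtain ⟨ϖ, hϖ⟩ := IsDiscreteValuationRing.exists_irreducible (O.comap f)
  refine ⟨(ϖ : M), ?_, ?_, ?_⟩
  · have := hϖ.ne_zero
    intro h0
    apply this
    apply Subtype.ext
    exact (map_eq_zero f).1 h0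
  · have : ϖ ∈ maximalIdeal (O.comap f) := by
      rw [mem_maximalIdeal, mem_nonunits_iff]; exact hϖ.not_isUnit
    rw [← valuation_comap_lt_one_iff]
    exact ((O.comap f).valuation_lt_one_iff _).1 this
  · rintro _ ⟨x, rfl⟩ hx
    have hx' : x ≠ 0 := fun h0 => hx (by rw [h0, map_zero])
    obtain ⟨n, u, hn⟩ := IsDiscreteValuationRing.exists_units_eq_smul_zpow_of_irreducible hϖ (K := M) hx'
    refine ⟨n, ?_⟩
    rw [← map_zpow₀, ← map_zpow₀, ← valuation_comap_eq_iff, hn, Units.smul_def, Algebra.smul_def, map_mul]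
    have : (O.comap f).valuation (algebraMap (O.comap f) M (u : O.comap f)) = 1 :=
      (O.comap f).valuation_unit u
    rw [this, one_mul]
    rfl

section Top

variable {F Q : Type u} [Field F] [Field Q] [Algebra F Q] [Algebra Q Ω] [FiniteDimensional F Q]
  [Algebra.IsSeparable F Q]

variable (O F) in
/-- the valuation ring downstairs -/
abbrev R : ValuationSubring F := O.comap ((algebraMap Q Ω).comp (algebraMap F Q))

theorem exists_top (π : F)
    (hπ : IsUnif O (Set.range (algebraMap Q Ω)) (algebraMap Q Ω (algebraMap F Q π))) :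
    ∃ (ι : Type u) (_ : Fintype ι) (b : Module.Basis ι F Q) (a : Q),
      (∀ i, O.valuation (algebraMap Q Ω (b i)) ≤ 1) ∧ O.valuation (algebraMap Q Ω a) = 1 ∧
      (∀ i j, O.valuation (algebraMap Q Ω (algebraMap F Q (b.repr (a * b i) j))) ≤ 1) ∧
      ∀ c : ι → F, (∀ i, O.valuation (algebraMap Q Ω (algebraMap F Q (c i))) ≤ 1) →
        O.valuation (algebraMap Q Ω (∑ i, c i • b i)) < 1 →
        ∀ j, O.valuation (algebraMap Q Ω (algebraMap F Q (b.repr (a * ∑ i, c i • b i) j))) ≤
          O.valuation (algebraMap Q Ω (algebraMap F Q π)) := by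
  classical
  set f : F →+* Ω := (algebraMap Q Ω).comp (algebraMap F Q) with hf
  let R : ValuationSubring F := O.comap f
  have hR : IsDiscreteValuationRing R := (isDVR_comap f π (hπ.mono (by
    rintro _ ⟨x, rfl⟩; exact ⟨algebraMap F Q x, rfl⟩))).1
  let S := integralClosure R Q
  have hSfin : Module.Finite R S := IsIntegralClosure.finite R F Q S
  have hSfree : Module.Free R S := IsIntegralClosure.module_free R F Q S
  have hSloc : IsLocalization (Algebra.algebraMapSubmonoid S R⁰) Q :=
    IsIntegralClosure.isLocalization R F Q S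
  have hSdd : IsDedekindDomain S := IsIntegralClosure.isDedekindDomain R F Q S
  have hSfr : IsFractionRing S Q := IsIntegralClosure.isFractionRing_of_finite_extension R F Q S
  -- elements of S have value at most one
  have hS1 : ∀ s : S, O.valuation (algebraMap Q Ω s) ≤ 1 := by
    intro s
    rw [ValuationSubring.valuation_le_one_iff]
    refine DVRExt.mem_of_isIntegralElem O (f.comp R.subtype) (fun a => a.2) (x := algebraMap Q Ω s) ?_
    obtain ⟨p, hp, hps⟩ := s.2
    refine ⟨p, hp, ?_⟩
    have := congrArg (algebraMap Q Ω) hps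
    rw [map_zero, Polynomial.hom_eval₂] at this
    exact this
  -- the prime
  let W : ValuationSubring Q := O.comap (algebraMap Q Ω)
  let g : S →+* W := (algebraMap S Q).codRestrict W (fun s => by
    show algebraMap Q Ω _ ∈ O
    exact (ValuationSubring.valuation_le_one_iff _ _).1 (hS1 s))
  let P : Ideal S := (maximalIdeal W).comap g
  have hPprime : P.IsPrime := inferInstance
  have hPmem : ∀ s : S, s ∈ P ↔ O.valuation (algebraMap Q Ω s) < 1 := by
    intro s
    rw [← valuation_comap_lt_one_iff O (algebraMap Q Ω)]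
    exact (W.valuation_lt_one_iff (g s))
  have hPmem' : ∀ s : S, s ∉ P → O.valuation (algebraMap Q Ω s) = 1 := by
    intro s hs
    rw [hPmem, not_lt] at hs
    exact le_antisymm (hS1 s) hs
  have hπR : π ∈ R := by
    show f π ∈ O
    exact (ValuationSubring.valuation_le_one_iff _ _).1 hπ.2.1.le
  let ϖ : R := ⟨π, hπR⟩
  have hϖS : ((algebraMap R S ϖ : S) : Q) = algebraMap F Q π := rfl
  have hπ0 : algebraMap F Q π ≠ 0 := fun h0 => hπ.1 (by rw [h0, map_zero])
  have hϖP : algebraMap R S ϖ ∈ P := by
    rw [hPmem, hϖS]; exact hπ.2.1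
  have hP0 : P ≠ ⊥ := by
    intro h0
    have := hϖP
    rw [h0, Ideal.mem_bot] at this
    apply hπ0
    rw [← hϖS, this]; rfl
  have hDVR : IsDiscreteValuationRing (Localization.AtPrime P) :=
    IsLocalization.AtPrime.isDiscreteValuationRing_of_dedekind_domain S hP0 _
  -- integral elements are fractions of elements of S with unit denominators
  have hunit : ∀ y : P.primeCompl, IsUnit (algebraMap S Q y) := by
    intro y
    refine isUnit_iff_ne_zero.2 fun h0 => y.2 ?_
    have h0' : (y : S) = 0 := IsFractionRing.injective S Q (by rw [h0, map_zero])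
    rw [h0']; exact P.zero_mem
  let φ : Localization.AtPrime P →+* Q := IsLocalization.lift (M := P.primeCompl) hunit
  have hφ : ∀ (s : S) (t : P.primeCompl),
      algebraMap S Q s = algebraMap S Q t * φ (IsLocalization.mk' _ s t) :=
    fun s t => (IsLocalization.lift_mk'_spec _ _ _ _).1 rfl
  have hfrac : ∀ q : Q, O.valuation (algebraMap Q Ω q) ≤ 1 →
      ∃ s t : S, t ∉ P ∧ algebraMap S Q t * q = algebraMap S Q s := by
    intro q hq
    have key := DVRExt.exists_eq_of_local (R := Localization.AtPrime P) (M := Q) φ W ?_ ?_ q ?_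
    · obtain ⟨r, hr⟩ := key
      obtain ⟨s, t, rfl⟩ := IsLocalization.exists_mk'_eq P.primeCompl r
      refine ⟨s, t, t.2, ?_⟩
      rw [← hr, ← hφ]
    · intro r hr
      obtain ⟨s, t, rfl⟩ := IsLocalization.exists_mk'_eq P.primeCompl r
      rw [IsLocalization.AtPrime.mk'_mem_maximal_iff _ P] at hr
      rw [valuation_comap_lt_one_iff]
      have h1 := congrArg (fun x => O.valuation (algebraMap Q Ω x)) (hφ s t)
      simp only [map_mul] at h1
      have h2 : O.valuation (algebraMap Q Ω (algebraMap S Q (t : S))) = 1 := hPmem' t t.2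
      rw [h2, one_mul] at h1
      rw [← h1]
      exact (hPmem s).1 hr
    · intro x
      obtain ⟨s, t, ht, rfl⟩ := IsFractionRing.div_surjective (A := S) x
      have ht0 : algebraMap S Q t ≠ 0 := by
        rw [Ne, map_eq_zero_iff _ (IsFractionRing.injective S Q)]
        exact nonZeroDivisors.ne_zero ht
      refine ⟨algebraMap S _ s, algebraMap S _ t, ?_, ?_⟩
      · rw [IsLocalization.lift_eq]; exact ht0
      · rw [IsLocalization.lift_eq, IsLocalization.lift_eq, div_mul_cancel₀ _ ht0]
    · show algebraMap Q Ω q ∈ O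
      rw [← ValuationSubring.valuation_le_one_iff]; exact hq
  -- the element `a`
  have hstep : ∀ p ∈ P, ∃ t : S, t ∉ P ∧ t * p ∈ Ideal.span {algebraMap R S ϖ} := by
    intro p hp
    have h1 : O.valuation (algebraMap Q Ω ((p : Q) / algebraMap F Q π)) ≤ 1 := by
      rw [map_div₀, map_div₀]
      exact (div_le_one₀ hπ.pos).2 (hπ.le_of_lt_one ⟨_, rfl⟩ ((hPmem p).1 hp))
    obtain ⟨s, t, ht, hst⟩ := hfrac _ h1
    refine ⟨t, ht, Ideal.mem_span_singleton.2 ⟨s, ?_⟩⟩
    apply IsFractionRing.injective S Q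
    rw [map_mul, map_mul, ← hst]
    have : algebraMap S Q (algebraMap R S ϖ) = algebraMap F Q π := rfl
    rw [this]
    have h2 : algebraMap S Q p = (p : Q) := rfl
    rw [h2]
    field_simp
  have hPfg : P.FG := (isNoetherianRing_iff_ideal_fg S).1 inferInstance P
  obtain ⟨a, haP, ha⟩ : ∃ a : S, a ∉ P ∧ ∀ p ∈ P, a * p ∈ Ideal.span {algebraMap R S ϖ} := by
    obtain ⟨T, hT⟩ := hPfg
    have hTP : ∀ p ∈ T, p ∈ P := fun p hp => hT ▸ Ideal.subset_span hp
    choose! t ht htp using fun (p : S) (hp : p ∈ T) => hstep p (hTP p hp)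
    refine ⟨∏ p ∈ T, t p, ?_, ?_⟩
    · intro hmem
      obtain ⟨p, hp, hpt⟩ := (hPprime.prod_mem_iff).1 hmem
      exact ht p hp hpt
    · have h1 : P ≤ Submodule.comap (LinearMap.mulLeft S (∏ p ∈ T, t p))
          (Ideal.span {algebraMap R S ϖ}) := by
        rw [← hT, Ideal.span, Submodule.span_le]
        intro p hp
        show (∏ p ∈ T, t p) * p ∈ Ideal.span {algebraMap R S ϖ}
        rw [← Finset.prod_erase_mul T t hp, mul_assoc]
        exact Ideal.mul_mem_left _ _ (htp p hp)
      exact fun p hp => h1 hp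
  -- the basis
  let b := Module.Free.chooseBasis R S
  let bQ := b.localizationLocalization F R⁰ Q
  have hbQ : ∀ i, bQ i = algebraMap S Q (b i) := fun i =>
    Module.Basis.localizationLocalization_apply _ _ _ _ _
  have hrepr : ∀ (x : S) (i), bQ.repr (algebraMap S Q x) i = algebraMap R F (b.repr x i) := fun x i =>
    Module.Basis.localizationLocalization_repr_algebraMap _ _ _ _ _ _
  have hR1 : ∀ r : R, O.valuation (algebraMap Q Ω (algebraMap F Q (algebraMap R F r))) ≤ 1 := by
    intro r
    exact (ValuationSubring.valuation_le_one_iff _ _).2 r.2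
  refine ⟨_, inferInstance, bQ, algebraMap S Q a, ?_, hPmem' a haP, ?_, ?_⟩
  · intro i
    rw [hbQ]
    exact hS1 _
  · intro i j
    rw [hbQ, ← map_mul, hrepr]
    exact hR1 _
  · intro c hc hlt j
    have hcR : ∀ i, c i ∈ R := fun i => (ValuationSubring.valuation_le_one_iff O _).1 (hc i)
    set x : S := ∑ i, (⟨c i, hcR i⟩ : R) • b i with hx
    have hxQ : ∑ i, c i • bQ i = algebraMap S Q x := by
      rw [hx, map_sum]
      refine Finset.sum_congr rfl fun i _ => ?_
      rw [hbQ, Algebra.smul_def, Algebra.smul_def, map_mul]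
      rfl
    rw [hxQ] at hlt ⊢
    obtain ⟨y, hy⟩ := Ideal.mem_span_singleton'.1 (ha x ((hPmem x).2 hlt))
    rw [← map_mul, hrepr, ← hy, mul_comm y, ← Algebra.smul_def, map_smul, Finsupp.smul_apply, smul_eq_mul, map_mul,
      map_mul, map_mul, map_mul]
    calc _ ≤ O.valuation (algebraMap Q Ω (algebraMap F Q (algebraMap R F ϖ))) * 1 := mul_le_mul' le_rfl (hR1 _)
      _ = _ := mul_one _

end Top

end Groth.Agent.Etalg.ResTop
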