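import Groth.Agent.Etalg.ResField
import Groth.Agent.Etalg.DVRExt2
import Groth.Agent.Etalg.ResTop
import Mathlib.RingTheory.AlgebraicIndependent.AlgebraicClosure
import Mathlib.RingTheory.AlgebraicIndependent.TranscendenceBasis
import Mathlib.Algebra.MvPolynomial.Expand

/-!
# Residual algebraic independence: change of the base and of the elements
-/

set_option autoImplicit false
universe u v

open Groth.Agent.Etalg.ResInd Groth.Agent.Etalg.ResMax Groth.Agent.Etalg.ResField IsLocalRing EtRam
  Groth.Agent.Etalg.RamBasic IntermediateField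

namespace Groth.Agent.Etalg.ResAlgInd

theorem algebraicIndependent_iff_linearIndependent_mon {R A ι : Type*} [CommRing R] [CommRing A] [Algebra R A]
    (x : ι → A) : AlgebraicIndependent R x ↔
      LinearIndependent R (fun m : ι →₀ ℕ => m.prod fun i n => x i ^ n) := by
  classical
  constructor
  · intro h
    rw [linearIndependent_iff']
    intro s c hc m hm
    let P : MvPolynomial ι R := ∑ m ∈ s, MvPolynomial.monomial m (c m)
    have hP : P = 0 := by
      refine (algebraicIndependent_iff.1 h) P ?_
      simp only [P, map_sum, MvPolynomial.aeval_monomial]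
      rw [← hc]
      exact Finset.sum_congr rfl fun m _ => (Algebra.smul_def _ _).symm
    have h1 := congrArg (MvPolynomial.coeff m) hP
    simp only [P, MvPolynomial.coeff_sum, MvPolynomial.coeff_monomial, MvPolynomial.coeff_zero,
      Finset.sum_ite_eq', if_pos hm] at h1
    exact h1
  · intro h
    rw [algebraicIndependent_iff]
    intro P hP
    rw [linearIndependent_iff'] at h
    ext m
    rw [MvPolynomial.coeff_zero]
    by_cases hm : m ∈ P.support
    · refine h P.support (fun m => P.coeff m) ?_ m hm
      rw [← hP, MvPolynomial.aeval_def, MvPolynomial.eval₂_eq]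
      exact Finset.sum_congr rfl fun m _ => Algebra.smul_def _ _
    · exact MvPolynomial.notMem_support_iff.1 hm

variable {Ω : Type u} [Field Ω] {O : ValuationSubring Ω}

/-- residual independence of monomials = algebraic independence of residues -/
theorem rli_mon_iff {M : Type u} [Field M] (g : M →+* Ω) {ι : Type v} (w : ι → O) :
    letI : Algebra (ResidueField (O.comap g)) (ResidueField O) := (ResidueField.map (inclOfComap O g)).toAlgebra
    RLI O (Set.range g) (mon fun i => (w i : Ω)) ↔
      AlgebraicIndependent (ResidueField (O.comap g)) (fun i => residue O (w i)) := by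
  let _ : Algebra (ResidueField (O.comap g)) (ResidueField O) := (ResidueField.map (inclOfComap O g)).toAlgebra
  rw [algebraicIndependent_iff_linearIndependent_mon]
  have h1 := rli_iff (O := O) g (fun m : ι →₀ ℕ => m.prod fun i n => w i ^ n)
  have h2 : (fun m : ι →₀ ℕ => residue O (m.prod fun i n => w i ^ n)) =
      fun m : ι →₀ ℕ => m.prod fun i n => (residue O (w i)) ^ n := by
    funext m
    unfold Finsupp.prod
    rw [map_prod]
    simp only [map_pow]
  have h3 : (fun m : ι →₀ ℕ => ((m.prod fun i n => w i ^ n : O) : Ω)) = mon fun i => (w i : Ω) := by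
    funext m
    unfold mon Finsupp.prod
    push_cast
    rfl
  rw [h2, h3] at h1
  exact h1

theorem RLI.comp {ι κ : Type*} {F : Subfield Ω} {u : ι → Ω} (h : RLI O (F : Set Ω) u) {e : κ → ι}
    (he : Function.Injective e) : RLI O (F : Set Ω) (u ∘ e) := by
  intro s c hc hc1 hs i hi
  classical
  have key := h (s.map ⟨e, he⟩) (Function.extend e c 0) ?_ ?_ ?_ (e i) (Finset.mem_map_of_mem ⟨e, he⟩ hi)
  · rwa [he.extend_apply] at key
  · intro j hj
    obtain ⟨k, hk, rfl⟩ := Finset.mem_map.1 hj
    show Function.extend e c 0 (e k) ∈ _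
    rw [he.extend_apply]; exact hc k hk
  · intro j hj
    obtain ⟨k, hk, rfl⟩ := Finset.mem_map.1 hj
    show O.valuation (Function.extend e c 0 (e k)) ≤ 1
    rw [he.extend_apply]; exact hc1 k hk
  · rw [Finset.sum_map]
    simp only [Function.Embedding.coeFn_mk, he.extend_apply]
    exact hs

/-- monomials of congruent elements are congruent -/
theorem mon_sub_lt {ι : Type*} {w w' : ι → Ω} (hw : ∀ i, O.valuation (w i) ≤ 1)
    (h : ∀ i, O.valuation (w i - w' i) < 1) (m : ι →₀ ℕ) : O.valuation (mon w m - mon w' m) < 1 := by
  have hw' : ∀ i, O.valuation (w' i) ≤ 1 := by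
    intro i
    have : w' i = w i - (w i - w' i) := by ring
    rw [this]
    exact (Valuation.map_sub _ _ _).trans (max_le (hw i) (h i).le)
  let a : ι → O := fun i => ⟨w i, (ValuationSubring.valuation_le_one_iff _ _).1 (hw i)⟩
  let b : ι → O := fun i => ⟨w' i, (ValuationSubring.valuation_le_one_iff _ _).1 (hw' i)⟩
  have h1 : mon w m = ((m.prod fun i n => a i ^ n : O) : Ω) := by
    unfold mon Finsupp.prod; push_cast; rfl
  have h2 : mon w' m = ((m.prod fun i n => b i ^ n : O) : Ω) := by
    unfold mon Finsupp.prod; push_cast; rfl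
  rw [h1, h2, ← res_eq_iff]
  unfold Finsupp.prod
  rw [map_prod, map_prod]
  refine Finset.prod_congr rfl fun i _ => ?_
  rw [map_pow, map_pow]
  congr 1
  rw [res_eq_iff]
  exact h i

/-- `w ≡ y ^ q` modulo the maximal ideal -/
theorem rli_mon_of_pow {ι : Type*} {F : Subfield Ω} {y w : ι → Ω} (hy : ∀ i, O.valuation (y i) ≤ 1)
    (h : RLI O (F : Set Ω) (mon y)) {q : ℕ} (hq : 0 < q) (hw : ∀ i, O.valuation (y i ^ q - w i) < 1) :
    RLI O (F : Set Ω) (mon w) := by
  have h1 : RLI O (F : Set Ω) (mon y ∘ fun m : ι →₀ ℕ => q • m) :=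
    RLI.comp h (fun m m' hm => by
      ext i
      have := DFunLike.congr_fun hm i
      simp only [Finsupp.smul_apply, smul_eq_mul] at this
      exact Nat.eq_of_mul_eq_mul_left hq this)
  have h2 : (mon y ∘ fun m : ι →₀ ℕ => q • m) = mon fun i => y i ^ q := by
    funext m
    simp only [Function.comp, mon]
    rw [Finsupp.prod_of_support_subset (s := m.support) _ (Finsupp.support_smul) _ (fun i _ => pow_zero _)]
    refine Finset.prod_congr rfl fun i _ => ?_
    rw [Finsupp.smul_apply, smul_eq_mul, pow_mul]
  rw [h2] at h1
  refine rli_congr h1 fun m => ?_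
  exact mon_sub_lt (fun i => by rw [map_pow]; exact pow_le_one' (hy i) _) hw m

/-- Residual algebraic independence passes to algebraic extensions of the base field. -/
theorem rli_mon_of_algebraic {K E : Type u} [Field K] [Field E] [Algebra K E] [Algebra K Ω] [Algebra E Ω]
    [IsScalarTower K E Ω] [Algebra.IsAlgebraic K E] {ι : Type v} {y : ι → Ω} (hy : ∀ i, O.valuation (y i) ≤ 1)
    [IsDiscreteValuationRing (O.comap (algebraMap K Ω))]
    (h : RLI O (Set.range (algebraMap K Ω)) (mon y)) : RLI O (Set.range (algebraMap E Ω)) (mon y) := by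
  let w : ι → O := fun i => ⟨y i, (ValuationSubring.valuation_le_one_iff _ _).1 (hy i)⟩
  let a1 : Algebra (ResidueField (O.comap (algebraMap K Ω))) (ResidueField O) :=
    (ResidueField.map (inclOfComap O (algebraMap K Ω))).toAlgebra
  let a2 : Algebra (ResidueField (O.comap (algebraMap E Ω))) (ResidueField O) :=
    (ResidueField.map (inclOfComap O (algebraMap E Ω))).toAlgebra
  have hind : AlgebraicIndependent (ResidueField (O.comap (algebraMap K Ω))) (fun i => residue O (w i)) :=
    (rli_mon_iff (algebraMap K Ω) w).1 h
  refine (rli_mon_iff (algebraMap E Ω) w).2 ?_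
  let VK := O.comap (algebraMap K Ω)
  let VE := O.comap (algebraMap E Ω)
  let inc : VK →+* VE :=
    { toFun := fun x => ⟨algebraMap K E x, by
        show algebraMap E Ω (algebraMap K E x) ∈ O
        rw [← IsScalarTower.algebraMap_apply]; exact x.2⟩
      map_one' := Subtype.ext (map_one _)
      map_mul' := fun x y => Subtype.ext (map_mul _ _ _)
      map_zero' := Subtype.ext (map_zero _)
      map_add' := fun x y => Subtype.ext (map_add _ _ _) }
  let a3 : Algebra VK VE := inc.toAlgebra
  let a4 : Algebra VK E := ((algebraMap K E).comp VK.subtype).toAlgebra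
  have t1 : IsScalarTower VK K E := IsScalarTower.of_algebraMap_eq' rfl
  have t2 : IsScalarTower VK VE E := IsScalarTower.of_algebraMap_eq' rfl
  have hloc : IsLocalHom (algebraMap VK VE) := by
    refine ⟨fun a ha => ?_⟩
    by_contra hna
    have h1 : VK.valuation (a : K) < 1 := (ValuationSubring.valuation_lt_one_iff _ _).1 hna
    rw [valuation_comap_lt_one_iff] at h1
    have h2 : VE.valuation (algebraMap K E (a : K)) = 1 :=
      (ValuationSubring.valuation_eq_one_iff _ _).1 ha
    have h3 : VE.valuation (algebraMap K E (a : K)) < 1 := by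
      rw [valuation_comap_lt_one_iff, ← IsScalarTower.algebraMap_apply]; exact h1
    exact absurd h2 h3.ne
  have halg : Algebra.IsAlgebraic (ResidueField VK) (ResidueField VE) := DVRExt2.isAlgebraic_residue VK K VE
  have t3 : IsScalarTower (ResidueField VK) (ResidueField VE) (ResidueField O) := by
    refine IsScalarTower.of_algebraMap_eq fun x => ?_
    obtain ⟨x, rfl⟩ := residue_surjective x
    show residue O (inclOfComap O (algebraMap K Ω) x) = residue O (inclOfComap O (algebraMap E Ω) (inc x))
    congr 1
    apply Subtype.ext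
    show algebraMap K Ω x = algebraMap E Ω (algebraMap K E x)
    rw [← IsScalarTower.algebraMap_apply]
  exact hind.extendScalars (ResidueField VE)

end Groth.Agent.Etalg.ResAlgInd
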