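import Groth.Agent.Etalg.ResInd

/-!
# Descent of residual linear disjointness

The elementary heart of the descent of good reduction: `S' = ⊕ R' b_i` a finite free algebra over the Gauss ring
`R' = O ∩ F'`, `a ∈ S'` a residual unit with `a (S' ∩ m) ⊆ π S'`. If `Q ⊆ ⊕ F b_i` for a subfield `F ⊆ F'` over which
the multiplication matrix of `a` is defined, then families residually independent over `F` are
residually independent over `Q`.
-/

set_option autoImplicit false
universe u v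

open Groth.Agent.Etalg.ResInd

namespace Groth.Agent.Etalg.ResDescent

variable {Ω : Type u} [Field Ω] {O : ValuationSubring Ω}

/-- The data of a finite free algebra with a good element. -/
structure Datum (O : ValuationSubring Ω) (F F' : Subfield Ω) (Q : Set Ω) (ι : Type v) [Fintype ι] where
  b : ι → Ω
  a : Ω
  π : Ω
  mat : ι → ι → Ω
  le : F ≤ F'
  hπF : π ∈ F
  hπ : IsUnif O (F' : Set Ω) π
  hb : ∀ i, O.valuation (b i) ≤ 1
  ind : ∀ c : ι → Ω, (∀ i, c i ∈ F') → ∑ i, c i * b i = 0 → ∀ i, c i = 0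
  span : ∀ x ∈ Q, ∃ c : ι → Ω, (∀ i, c i ∈ F) ∧ x = ∑ i, c i * b i
  va : O.valuation a = 1
  hmat : ∀ i j, mat i j ∈ F ∧ O.valuation (mat i j) ≤ 1
  hab : ∀ i, a * b i = ∑ j, mat i j * b j
  good : ∀ c : ι → Ω, (∀ i, c i ∈ F' ∧ O.valuation (c i) ≤ 1) → O.valuation (∑ i, c i * b i) < 1 →
    ∃ c' : ι → Ω, (∀ i, c' i ∈ F' ∧ O.valuation (c' i) ≤ O.valuation π) ∧
      a * ∑ i, c i * b i = ∑ i, c' i * b i

namespace Datum

variable {F F' : Subfield Ω} {Q : Set Ω} {ι : Type v} [Fintype ι] (D : Datum O F F' Q ι)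

include D

theorem uniq {c c' : ι → Ω} (hc : ∀ i, c i ∈ F') (hc' : ∀ i, c' i ∈ F')
    (h : ∑ i, c i * D.b i = ∑ i, c' i * D.b i) (i : ι) : c i = c' i := by
  have := D.ind (fun i => c i - c' i) (fun i => F'.sub_mem (hc i) (hc' i)) (by
    simp only [sub_mul, Finset.sum_sub_distrib, h, sub_self]) i
  exact sub_eq_zero.1 this

theorem mul_a (c : ι → Ω) :
    D.a * ∑ i, c i * D.b i = ∑ j, (∑ i, c i * D.mat i j) * D.b j := by
  rw [Finset.mul_sum]
  simp only [Finset.sum_mul]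
  rw [Finset.sum_comm]
  refine Finset.sum_congr rfl fun i _ => ?_
  rw [mul_left_comm, D.hab, Finset.mul_sum]
  exact Finset.sum_congr rfl fun j _ => by ring

theorem exists_pow_mul_aux (N : ℕ) : ∀ (s : Ω) (c : ι → Ω), (∀ i, c i ∈ F ∧ O.valuation (c i) ≤ 1) →
    s = ∑ i, c i * D.b i → O.valuation s ≤ O.valuation D.π ^ N →
    ∃ c' : ι → Ω, (∀ i, c' i ∈ F ∧ O.valuation (c' i) ≤ 1) ∧ D.a ^ N * s = D.π ^ N * ∑ i, c' i * D.b i := by
  induction N with
  | zero =>
    intro s c hc hs _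
    exact ⟨c, hc, by rw [pow_zero, pow_zero, one_mul, one_mul, hs]⟩
  | succ N ih =>
    intro s c hc hs hv
    have hπ0 := D.hπ.1
    have hlt : O.valuation s < 1 := by
      refine lt_of_le_of_lt hv ?_
      exact pow_lt_one₀ zero_le D.hπ.2.1 (Nat.succ_ne_zero N)
    obtain ⟨c', hc', he⟩ := D.good c (fun i => ⟨D.le (hc i).1, (hc i).2⟩) (by rw [← hs]; exact hlt)
    have hmul := D.mul_a c
    have hcF : ∀ j, ∑ i, c i * D.mat i j ∈ F := fun j =>
      F.sum_mem fun i _ => F.mul_mem (hc i).1 (D.hmat i j).1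
    have heq : ∀ j, c' j = ∑ i, c i * D.mat i j :=
      fun j => D.uniq (fun i => (hc' i).1) (fun i => D.le (hcF i)) (he.symm.trans hmul) j
    -- divide by π
    have k1 : ∀ j, c' j / D.π ∈ F ∧ O.valuation (c' j / D.π) ≤ 1 := by
      intro j
      refine ⟨?_, ?_⟩
      · rw [heq j]; exact F.div_mem (hcF j) D.hπF
      · rw [map_div₀]
        exact (div_le_one₀ D.hπ.pos).2 (hc' j).2
    have k2 : D.a * s / D.π = ∑ j, c' j / D.π * D.b j := by
      rw [hs, he, Finset.sum_div]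
      exact Finset.sum_congr rfl fun j _ => by ring
    have k3 : O.valuation (D.a * s / D.π) ≤ O.valuation D.π ^ N := by
      rw [map_div₀, map_mul, D.va, one_mul, div_le_iff₀ D.hπ.pos, ← pow_succ]
      exact hv
    obtain ⟨c'', hc'', he''⟩ := ih (D.a * s / D.π) (fun j => c' j / D.π) k1 k2 k3
    refine ⟨c'', hc'', ?_⟩
    calc D.a ^ (N + 1) * s = D.π * (D.a ^ N * (D.a * s / D.π)) := by
          rw [mul_div_assoc', mul_div_cancel₀ _ hπ0]; ring
      _ = D.π ^ (N + 1) * ∑ i, c'' i * D.b i := by rw [he'']; ring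

/-- integral elements of `Q` become `S`-integral after multiplication by a power of `a` -/
theorem exists_pow_mul {f : Ω} (hf : f ∈ Q) (hf1 : O.valuation f ≤ 1) :
    ∃ n : ℕ, ∀ m ≥ n, ∃ c : ι → Ω, (∀ i, c i ∈ F ∧ O.valuation (c i) ≤ 1) ∧ D.a ^ m * f = ∑ i, c i * D.b i := by
  obtain ⟨c, hc, rfl⟩ := D.span f hf
  choose n hn using fun i => D.hπ.exists_pow_mul_le_one (D.le (hc i))
  set N := ∑ i, n i with hN
  have hN' : ∀ i, O.valuation (D.π ^ N * c i) ≤ 1 := fun i =>
    hn i N (Finset.single_le_sum (f := n) (fun _ _ => Nat.zero_le _) (Finset.mem_univ i))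
  obtain ⟨c', hc', he⟩ := D.exists_pow_mul_aux N (D.π ^ N * ∑ i, c i * D.b i) (fun i => D.π ^ N * c i)
    (fun i => ⟨F.mul_mem (F.pow_mem D.hπF N) (hc i), hN' i⟩) (by
      rw [Finset.mul_sum]; exact Finset.sum_congr rfl fun i _ => by ring) (by
      rw [map_mul, map_pow]
      calc O.valuation D.π ^ N * _ ≤ O.valuation D.π ^ N * 1 := mul_le_mul' le_rfl hf1
        _ = _ := mul_one _)
  have he' : D.a ^ N * ∑ i, c i * D.b i = ∑ i, c' i * D.b i := by
    have h0 : D.π ^ N ≠ 0 := pow_ne_zero _ D.hπ.1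
    apply mul_left_cancel₀ h0
    rw [← he]; ring
  refine ⟨N, fun m hm => ?_⟩
  obtain ⟨k, rfl⟩ := Nat.exists_eq_add_of_le hm
  clear hm he
  induction k with
  | zero => exact ⟨c', hc', by rw [add_zero]; exact he'⟩
  | succ k ih =>
    obtain ⟨d, hd, hde⟩ := ih
    refine ⟨fun j => ∑ i, d i * D.mat i j, fun j => ⟨?_, ?_⟩, ?_⟩
    · exact F.sum_mem fun i _ => F.mul_mem (hd i).1 (D.hmat i j).1
    · refine sum_le fun i _ => ?_
      rw [map_mul]
      exact mul_le_one' (hd i).2 (D.hmat i j).2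
    · rw [← D.mul_a, ← hde]; ring

/-- **Descent**: families residually independent over `F` are residually independent over `Q`. -/
theorem rli {κ : Type*} {l : κ → Ω} (hlF' : ∀ j, l j ∈ F') (hl1 : ∀ j, O.valuation (l j) ≤ 1)
    (hl : RLI O (F : Set Ω) l) : RLI O Q l := by
  classical
  intro s f hf hf1 hs
  choose! n hn using fun (j : κ) (hj : j ∈ s) => D.exists_pow_mul (hf j hj) (hf1 j hj)
  set N := ∑ j ∈ s, n j with hN
  have hN' : ∀ j ∈ s, n j ≤ N := fun j hj => Finset.single_le_sum (f := n) (fun _ _ => Nat.zero_le _) hj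
  choose! c hc he using fun (j : κ) (hj : j ∈ s) => hn j hj N (hN' j hj)
  -- coefficients of `a^N ∑ f_j l_j`
  have h1 : D.a ^ N * ∑ j ∈ s, f j * l j = ∑ i, (∑ j ∈ s, c j i * l j) * D.b i := by
    rw [Finset.mul_sum]
    simp only [Finset.sum_mul]
    rw [Finset.sum_comm]
    refine Finset.sum_congr rfl fun j hj => ?_
    rw [← mul_assoc, he j hj, Finset.sum_mul]
    exact Finset.sum_congr rfl fun i _ => by ring
  have h2 : O.valuation (∑ i, (∑ j ∈ s, c j i * l j) * D.b i) < 1 := by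
    rw [← h1, map_mul, map_pow, D.va, one_pow, one_mul]; exact hs
  have h2' : ∀ i, ∑ j ∈ s, c j i * l j ∈ F' ∧ O.valuation (∑ j ∈ s, c j i * l j) ≤ 1 := by
    intro i
    refine ⟨F'.sum_mem fun j hj => F'.mul_mem (D.le (hc j hj i).1) (hlF' j), ?_⟩
    refine sum_le fun j hj => ?_
    rw [map_mul]
    exact mul_le_one' (hc j hj i).2 (hl1 j)
  obtain ⟨c', hc', he'⟩ := D.good (fun i => ∑ j ∈ s, c j i * l j) h2' h2
  -- the coefficients of `a^(N+1) f_j`
  set d : κ → ι → Ω := fun j k => ∑ i, c j i * D.mat i k with hd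
  have hdF : ∀ j ∈ s, ∀ k, d j k ∈ F ∧ O.valuation (d j k) ≤ 1 := by
    intro j hj k
    refine ⟨F.sum_mem fun i _ => F.mul_mem (hc j hj i).1 (D.hmat i k).1, sum_le fun i _ => ?_⟩
    rw [map_mul]
    exact mul_le_one' (hc j hj i).2 (D.hmat i k).2
  have h3 : ∀ k, c' k = ∑ j ∈ s, d j k * l j := by
    refine D.uniq (fun i => (hc' i).1) (fun k => ?_) ?_
    · exact F'.sum_mem fun j hj => F'.mul_mem (D.le (hdF j hj k).1) (hlF' j)
    · rw [← he', D.mul_a]
      refine Finset.sum_congr rfl fun k _ => ?_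
      congr 1
      simp only [hd, Finset.sum_mul]
      rw [Finset.sum_comm]
      exact Finset.sum_congr rfl fun j _ => Finset.sum_congr rfl fun i _ => by ring
  have h4 : ∀ k, ∀ j ∈ s, O.valuation (d j k) < 1 := by
    intro k
    refine hl s (fun j => d j k) (fun j hj => (hdF j hj k).1) (fun j hj => (hdF j hj k).2) ?_
    rw [← h3 k]
    exact lt_of_le_of_lt (hc' k).2 D.hπ.2.1
  intro j hj
  have h5 : D.a ^ (N + 1) * f j = ∑ k, d j k * D.b k := by
    rw [hd, ← D.mul_a, ← he j hj]; ring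
  have h6 : O.valuation (D.a ^ (N + 1) * f j) < 1 := by
    rw [h5]
    refine sum_lt zero_lt_one fun k _ => ?_
    rw [map_mul]
    exact lt_of_le_of_lt ((mul_le_mul' le_rfl (D.hb k)).trans (mul_one _).le) (h4 k j hj)
  rwa [map_mul, map_pow, D.va, one_pow, one_mul] at h6

end Datum

end Groth.Agent.Etalg.ResDescent
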