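import Groth.Agent.Etalg.ResInd
import Mathlib.FieldTheory.IsAlgClosed.Basic
import Mathlib.FieldTheory.IntermediateField.Adjoin.Basic
import Mathlib.FieldTheory.IntermediateField.Adjoin.Algebra

/-!
# Maximal weakly unramified algebraic extensions have algebraically closed residue field
-/

set_option autoImplicit false
universe u v

open Groth.Agent.Etalg.ResInd IntermediateField Polynomial

namespace Groth.Agent.Etalg.ResMax

variable {Ω : Type u} [Field Ω] {O : ValuationSubring Ω} {K : Type u} [Field K] [Algebra K Ω]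

/-- `x` satisfies a monic polynomial of degree `d` with integral coefficients in `K'`, up to elements of value
`< 1`. -/
def MonRes (O : ValuationSubring Ω) (K' : IntermediateField K Ω) (x : Ω) (d : ℕ) : Prop :=
  ∃ c : ℕ → Ω, (∀ i < d, c i ∈ K' ∧ O.valuation (c i) ≤ 1) ∧
    O.valuation (x ^ d + ∑ i ∈ Finset.range d, c i * x ^ i) < 1

theorem pow_le {x : Ω} (hx : O.valuation x ≤ 1) (n : ℕ) : O.valuation (x ^ n) ≤ 1 := by
  rw [map_pow]; exact pow_le_one' hx n

theorem exists_monRes (K' : IntermediateField K Ω) {x : Ω} (hx : O.valuation x ≤ 1) (s : Finset ℕ) (c : ℕ → Ω)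
    (hc : ∀ i ∈ s, c i ∈ K') (hc1 : ∀ i ∈ s, O.valuation (c i) ≤ 1) (hex : ∃ i ∈ s, O.valuation (c i) = 1)
    (hs : O.valuation (∑ i ∈ s, c i * x ^ i) < 1) : ∃ j ∈ s, MonRes O K' x j := by
  classical
  set t := s.filter fun i => O.valuation (c i) = 1 with ht
  have htne : t.Nonempty := by
    obtain ⟨i, hi, h1⟩ := hex
    exact ⟨i, Finset.mem_filter.2 ⟨hi, h1⟩⟩
  set j := t.max' htne with hj
  have hjt : j ∈ t := t.max'_mem htne
  have hjs : j ∈ s := (Finset.mem_filter.1 hjt).1
  have hj1 : O.valuation (c j) = 1 := (Finset.mem_filter.1 hjt).2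
  have hj0 : c j ≠ 0 := by
    rintro h0; rw [h0, map_zero] at hj1; exact zero_ne_one hj1
  refine ⟨j, hjs, fun i => if i ∈ s then c i / c j else 0, fun i _ => ?_, ?_⟩
  · by_cases his : i ∈ s
    · simp only [if_pos his]
      refine ⟨K'.div_mem (hc i his) (hc j hjs), ?_⟩
      rw [map_div₀, hj1, div_one]; exact hc1 i his
    · simp only [if_neg his]
      exact ⟨K'.zero_mem, by simp⟩
  · -- decompose the sum
    have e1 : ∑ i ∈ Finset.range j, (if i ∈ s then c i / c j else 0) * x ^ i =
        ∑ i ∈ s.filter (· < j), c i / c j * x ^ i := by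
      simp only [ite_mul, zero_mul]
      rw [← Finset.sum_filter]
      refine Finset.sum_congr ?_ fun _ _ => rfl
      ext i
      simp [and_comm]
    have e2 : ∑ i ∈ s, c i * x ^ i = c j * x ^ j + ∑ i ∈ s.filter (· < j), c i * x ^ i +
        ∑ i ∈ s.filter (j < ·), c i * x ^ i := by
      have h1 : s = insert j (s.filter (· < j) ∪ s.filter (j < ·)) := by
        ext i
        simp only [Finset.mem_insert, Finset.mem_union, Finset.mem_filter]
        constructor
        · intro hi
          rcases lt_trichotomy i j with h | h | h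
          · exact Or.inr (Or.inl ⟨hi, h⟩)
          · exact Or.inl h
          · exact Or.inr (Or.inr ⟨hi, h⟩)
        · rintro (rfl | ⟨h, -⟩ | ⟨h, -⟩)
          · exact hjs
          · exact h
          · exact h
      conv_lhs => rw [h1]
      rw [Finset.sum_insert, Finset.sum_union, add_assoc]
      · rw [Finset.disjoint_filter]
        intro i _ h1 h2
        exact absurd h1 (not_lt_of_gt h2)
      · simp
    have e3 : x ^ j + ∑ i ∈ s.filter (· < j), c i / c j * x ^ i =
        (∑ i ∈ s, c i * x ^ i) / c j - (∑ i ∈ s.filter (j < ·), c i * x ^ i) / c j := by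
      rw [e2]
      have : ∑ i ∈ s.filter (· < j), c i / c j * x ^ i = (∑ i ∈ s.filter (· < j), c i * x ^ i) / c j := by
        rw [Finset.sum_div]
        exact Finset.sum_congr rfl fun i _ => by ring
      rw [this]
      field_simp
      ring
    rw [e1, e3]
    refine lt_of_le_of_lt (Valuation.map_sub _ _ _) (max_lt ?_ ?_)
    · rw [map_div₀, hj1, div_one]; exact hs
    · rw [map_div₀, hj1, div_one]
      refine sum_lt zero_lt_one fun i hi => ?_
      obtain ⟨his, hji⟩ := Finset.mem_filter.1 hi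
      rw [map_mul]
      refine lt_of_le_of_lt ((mul_le_mul' le_rfl (pow_le hx i)).trans (mul_one _).le) ?_
      refine lt_of_le_of_ne (hc1 i his) fun h1 => ?_
      have : i ≤ j := t.le_max' i (Finset.mem_filter.2 ⟨his, h1⟩)
      exact absurd hji (not_lt_of_ge this)

theorem exists_monRes_of_isAlgebraic (K' : IntermediateField K Ω) {x : Ω} (hx : O.valuation x ≤ 1)
    (hal : IsAlgebraic K' x) : ∃ d, MonRes O K' x d := by
  classical
  obtain ⟨p, hp0, hpx⟩ := hal
  obtain ⟨k, hk, hmax⟩ := Finset.exists_max_image p.support (fun i => O.valuation ((p.coeff i : K') : Ω))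
    (support_nonempty.2 hp0)
  have hk0 : ((p.coeff k : K') : Ω) ≠ 0 := by
    simpa using mem_support_iff.1 hk
  have hvk : 0 < O.valuation ((p.coeff k : K') : Ω) := zero_lt_iff.2 ((Valuation.ne_zero_iff _).2 hk0)
  obtain ⟨j, -, hj⟩ := exists_monRes K' hx p.support (fun i => ((p.coeff i : K') : Ω) / ((p.coeff k : K') : Ω))
    (fun i _ => K'.div_mem (p.coeff i).2 (p.coeff k).2) (fun i hi => by
      rw [map_div₀]; exact (div_le_one₀ hvk).2 (hmax i hi))
    ⟨k, hk, by rw [div_self hk0, map_one]⟩ (by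
      have h1 : ∑ i ∈ p.support, ((p.coeff i : K') : Ω) / ((p.coeff k : K') : Ω) * x ^ i =
          (aeval x p) / ((p.coeff k : K') : Ω) := by
        rw [aeval_def, eval₂_eq_sum, Polynomial.sum_def, Finset.sum_div]
        refine Finset.sum_congr rfl fun i _ => ?_
        have : algebraMap K' Ω (p.coeff i) = ((p.coeff i : K') : Ω) := rfl
        rw [this]
        ring
      rw [h1, hpx, zero_div, map_zero]; exact zero_lt_one)
  exact ⟨j, hj⟩

/-- minimality gives residual independence of the powers -/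
theorem rli_of_min (K' : IntermediateField K Ω) {x : Ω} (hx : O.valuation x ≤ 1) {d : ℕ}
    (hmin : ∀ j < d, ¬ MonRes O K' x j) : RLI O (K' : Set Ω) (fun i : Fin d => x ^ (i : ℕ)) := by
  classical
  intro s c hc hc1 hs i hi
  by_contra hcon
  have hi1 : O.valuation (c i) = 1 := le_antisymm (hc1 i hi) (not_lt.1 hcon)
  let c' : ℕ → Ω := fun n => if h : n < d then c ⟨n, h⟩ else 0
  have hc' : ∀ i : Fin d, c' i = c i := fun i => by simp [c']
  obtain ⟨j, hj, hjm⟩ := exists_monRes K' hx (s.map Fin.valEmbedding) c' (by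
      intro n hn
      obtain ⟨i, hi, rfl⟩ := Finset.mem_map.1 hn
      simp only [Fin.valEmbedding_apply, hc']; exact hc i hi) (by
      intro n hn
      obtain ⟨i, hi, rfl⟩ := Finset.mem_map.1 hn
      simp only [Fin.valEmbedding_apply, hc']; exact hc1 i hi)
    ⟨i, Finset.mem_map.2 ⟨i, hi, rfl⟩, by rw [hc']; exact hi1⟩ (by
      rw [Finset.sum_map]
      simp only [Fin.valEmbedding_apply, hc']
      exact hs)
  obtain ⟨k, -, rfl⟩ := Finset.mem_map.1 hj
  exact hmin _ k.2 hjm

/-- the residual root lifts to a root -/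
theorem exists_root [IsAlgClosed Ω] (K' : IntermediateField K Ω) {x : Ω} {d : ℕ}
    (h : MonRes O K' x d) : ∃ (f : K'[X]) (α : Ω), f.Monic ∧ f.natDegree = d ∧ aeval α f = 0 ∧
      O.valuation (x - α) < 1 := by
  classical
  obtain ⟨c, hc, hlt⟩ := h
  let c' : ℕ → K' := fun i => if hi : i < d then ⟨c i, (hc i hi).1⟩ else 0
  let g : K'[X] := ∑ i ∈ Finset.range d, C (c' i) * X ^ i
  have hg : g.degree < d := by
    rcases Nat.eq_zero_or_pos d with rfl | hd
    · simp [g]
    refine lt_of_le_of_lt (degree_sum_le _ _) ?_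
    rw [Finset.sup_lt_iff (by exact_mod_cast (WithBot.bot_lt_coe d))]
    intro i hi
    exact lt_of_le_of_lt (degree_C_mul_X_pow_le _ _) (by exact_mod_cast Finset.mem_range.1 hi)
  let f : K'[X] := X ^ d + g
  have hfm : f.Monic := monic_X_pow_add hg
  have hfd : f.natDegree = d := by
    rcases Nat.eq_zero_or_pos d with rfl | hd
    · have : g = 0 := by simp [g]
      simp [f, this]
    · rw [natDegree_add_eq_left_of_degree_lt, natDegree_X_pow]
      rw [degree_X_pow]; exact hg
  have hfx : aeval x f = x ^ d + ∑ i ∈ Finset.range d, c i * x ^ i := by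
    simp only [f, g, map_add, map_pow, aeval_X, map_sum, map_mul, aeval_C]
    congr 1
    refine Finset.sum_congr rfl fun i hi => ?_
    have : algebraMap K' Ω (c' i) = c i := by
      simp only [c', dif_pos (Finset.mem_range.1 hi)]; rfl
    rw [this]
  have hsplit : (f.map (algebraMap K' Ω)).Splits := IsAlgClosed.splits _
  have hprod := hsplit.eq_prod_roots_of_monic (hfm.map _)
  have hev : aeval x f = ((f.map (algebraMap K' Ω)).roots.map fun a => x - a).prod := by
    rw [← eval_map_algebraMap]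
    conv_lhs => rw [hprod]
    rw [eval_multiset_prod, Multiset.map_map]
    simp
  have hex : ∃ α ∈ (f.map (algebraMap K' Ω)).roots, O.valuation (x - α) < 1 := by
    by_contra hcon
    push Not at hcon
    rw [← hfx, hev, map_multiset_prod, Multiset.map_map] at hlt
    refine absurd hlt (not_lt_of_ge ?_)
    refine Multiset.one_le_prod_of_one_le ?_
    intro y hy
    obtain ⟨a, ha, rfl⟩ := Multiset.mem_map.1 hy
    exact hcon a ha
  obtain ⟨α, hα, hlt'⟩ := hex
  refine ⟨f, α, hfm, hfd, ?_, hlt'⟩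
  rw [← eval_map_algebraMap]
  exact isRoot_of_mem_roots hα

theorem rli_congr {ι : Type*} {F : Set Ω} {u u' : ι → Ω} (h : RLI O F u)
    (huu' : ∀ i, O.valuation (u i - u' i) < 1) : RLI O F u' := by
  intro s c hc hc1 hs
  refine h s c hc hc1 ?_
  have : ∑ i ∈ s, c i * u i = ∑ i ∈ s, c i * u' i + ∑ i ∈ s, c i * (u i - u' i) := by
    rw [← Finset.sum_add_distrib]
    exact Finset.sum_congr rfl fun i _ => by ring
  rw [this]
  refine Valuation.map_add_lt _ hs (sum_lt zero_lt_one fun i hi => ?_)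
  rw [map_mul]
  exact lt_of_le_of_lt ((mul_le_mul' (hc1 i hi) le_rfl).trans (one_mul _).le) (huu' i)

theorem pow_sub_pow_lt {x y : Ω} (hx : O.valuation x ≤ 1) (hxy : O.valuation (x - y) < 1) (n : ℕ) :
    O.valuation (x ^ n - y ^ n) < 1 := by
  have hy : O.valuation y ≤ 1 := by
    have : y = x - (x - y) := by ring
    rw [this]
    exact (Valuation.map_sub _ _ _).trans (max_le hx hxy.le)
  rw [← Commute.geom_sum₂_mul (Commute.all x y), map_mul]
  refine lt_of_le_of_lt ((mul_le_mul' (sum_le (g := 1) fun i _ => ?_) le_rfl).trans (one_mul _).le) hxy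
  rw [map_mul]
  exact mul_le_one' (pow_le hx _) (pow_le hy _)

/-- adjoining a root of a residually irreducible polynomial does not change the values -/
theorem isUnif_adjoin_root (K' : IntermediateField K Ω) {α : Ω} (hα : O.valuation α ≤ 1) {f : K'[X]}
    (hf : f.Monic) (hfα : aeval α f = 0)
    (hli : RLI O (K' : Set Ω) (fun i : Fin f.natDegree => α ^ (i : ℕ))) {π : Ω} (hπ : IsUnif O (K' : Set Ω) π) :
    IsUnif O ((adjoin K' {α} : IntermediateField K' Ω) : Set Ω) π := by
  classical
  refine ⟨hπ.1, hπ.2.1, fun x hx hx0 => ?_⟩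
  have hint : IsIntegral K' α := ⟨f, hf, hfα⟩
  have hx' : x ∈ Algebra.adjoin K' {α} := by
    rw [← adjoin_simple_toSubalgebra_of_isAlgebraic hint.isAlgebraic]
    exact hx
  rw [Algebra.adjoin_singleton_eq_range_aeval] at hx'
  obtain ⟨p, rfl⟩ := hx'
  have hmod : aeval α p = aeval α (p %ₘ f) := by
    conv_lhs => rw [← modByMonic_add_div p f]
    rw [map_add, map_mul, hfα, zero_mul, add_zero]
  have hmod' : (aeval α).toRingHom p = aeval α (p %ₘ f) := hmod
  set r := p %ₘ f with hr
  have hx0' : aeval α r ≠ 0 := by rw [← hmod]; exact hx0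
  have hr0 : r ≠ 0 := by rintro h0; rw [h0, map_zero] at hx0'; exact hx0' rfl
  have hf1 : f ≠ 1 := by
    rintro h1
    apply hr0
    rw [hr, h1, modByMonic_one]
  have hdeg : r.natDegree < f.natDegree := natDegree_modByMonic_lt p hf hf1
  -- value
  have hsum : aeval α r = ∑ i : Fin f.natDegree, ((r.coeff i : K') : Ω) * α ^ (i : ℕ) := by
    rw [aeval_eq_sum_range' hdeg, ← Fin.sum_univ_eq_sum_range (fun i => r.coeff i • α ^ i)]
    exact Finset.sum_congr rfl fun i _ => by rw [Algebra.smul_def]; rfl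
  obtain ⟨j, -, hmax⟩ := Finset.exists_max_image (Finset.univ : Finset (Fin f.natDegree))
    (fun i => O.valuation ((r.coeff i : K') : Ω)) ⟨⟨0, by omega⟩, Finset.mem_univ _⟩
  have h1 : O.valuation (aeval α r) ≤ O.valuation ((r.coeff j : K') : Ω) := by
    rw [hsum]
    refine sum_le fun i _ => ?_
    rw [map_mul]
    exact (mul_le_mul' (hmax i (Finset.mem_univ _)) (pow_le hα _)).trans (mul_one _).le
  have h2 : O.valuation ((r.coeff j : K') : Ω) ≤ O.valuation (aeval α r) := by
    rw [hsum]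
    exact RLI.le_sum (F := K'.toSubfield) hli Finset.univ (fun i => ((r.coeff i : K') : Ω))
      (fun i _ => (r.coeff i).2) j (Finset.mem_univ _)
  have h3 : ((r.coeff j : K') : Ω) ≠ 0 := by
    intro h0
    rw [h0, map_zero] at h1
    exact hx0' ((Valuation.zero_iff _).1 (le_antisymm h1 zero_le))
  obtain ⟨k, hk⟩ := hπ.2.2 _ (r.coeff j).2 h3
  refine ⟨k, ?_⟩
  have : O.valuation ((aeval α).toRingHom p) = O.valuation (aeval α r) := by rw [hmod']
  exact this.trans ((le_antisymm h1 h2).trans hk)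

/-- **Maximal weakly unramified extension.** -/
theorem exists_max [IsAlgClosed Ω] (E₀ : IntermediateField K Ω) {π : Ω} (hπ : IsUnif O (E₀ : Set Ω) π) :
    ∃ K' : IntermediateField K Ω, E₀ ≤ K' ∧ (∀ x ∈ K', IsAlgebraic E₀ x) ∧ IsUnif O (K' : Set Ω) π ∧
      ∀ x : Ω, IsAlgebraic K' x → O.valuation x ≤ 1 → ∃ y ∈ K', O.valuation (x - y) < 1 := by
  classical
  obtain ⟨K', hE₀, ⟨hK', hmax⟩⟩ := zorn_le_nonempty₀
    {F : IntermediateField K Ω | E₀ ≤ F ∧ (∀ x ∈ F, IsAlgebraic E₀ x) ∧ IsUnif O (F : Set Ω) π}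
    (by
      intro c hc hchain F₀ hF₀
      have : Nonempty c := ⟨⟨F₀, hF₀⟩⟩
      have hdir : Directed (· ≤ ·) (fun F : c => (F : IntermediateField K Ω)) := by
        rintro ⟨F, hF⟩ ⟨F', hF'⟩
        rcases hchain.total hF hF' with h | h
        · exact ⟨⟨F', hF'⟩, h, le_rfl⟩
        · exact ⟨⟨F, hF⟩, le_rfl, h⟩
      have hmem : ∀ x, x ∈ (⨆ F : c, (F : IntermediateField K Ω)) ↔ ∃ F ∈ c, x ∈ F := by
        intro x
        rw [← SetLike.mem_coe, coe_iSup_of_directed hdir]
        simp
      refine ⟨⨆ F : c, (F : IntermediateField K Ω), ⟨?_, ?_, ?_⟩, ?_⟩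
      · exact (hc hF₀).1.trans (le_iSup (fun F : c => (F : IntermediateField K Ω)) ⟨F₀, hF₀⟩)
      · intro x hx
        obtain ⟨F, hF, hxF⟩ := (hmem x).1 hx
        exact (hc hF).2.1 x hxF
      · refine ⟨hπ.1, hπ.2.1, fun x hx hx0 => ?_⟩
        obtain ⟨F, hF, hxF⟩ := (hmem x).1 hx
        exact (hc hF).2.2.2.2 x hxF hx0
      · intro F hF
        exact le_iSup (fun F : c => (F : IntermediateField K Ω)) ⟨F, hF⟩)
    E₀ ⟨le_rfl, fun x hx => isAlgebraic_algebraMap (⟨x, hx⟩ : E₀), hπ⟩
  obtain ⟨-, halg, hunif⟩ := hK'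
  refine ⟨K', hE₀, halg, hunif, fun x hx hx1 => ?_⟩
  have hex := exists_monRes_of_isAlgebraic K' hx1 hx
  set d := Nat.find hex with hd
  have hdm : MonRes O K' x d := Nat.find_spec hex
  have hmin : ∀ j < d, ¬ MonRes O K' x j := fun j hj => Nat.find_min hex hj
  obtain ⟨f, α, hfm, hfd, hfα, hxα⟩ := exists_root K' hdm
  have hα1 : O.valuation α ≤ 1 := by
    have : α = x - (x - α) := by ring
    rw [this]
    exact (Valuation.map_sub _ _ _).trans (max_le hx1 hxα.le)
  have hli : RLI O (K' : Set Ω) (fun i : Fin f.natDegree => α ^ (i : ℕ)) := by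
    rw [hfd]
    exact rli_congr (rli_of_min K' hx1 hmin) fun i => pow_sub_pow_lt hx1 hxα _
  have hunif' := isUnif_adjoin_root K' hα1 hfm hfα hli hunif
  -- the new field
  let F : IntermediateField K Ω := (adjoin K' {α}).restrictScalars K
  have hKF : K' ≤ F := fun y hy => by
    show y ∈ adjoin K' {α}
    exact (adjoin K' {α}).algebraMap_mem (⟨y, hy⟩ : K')
  have hαF : α ∈ F := mem_adjoin_simple_self K' α
  have hKE : Algebra.IsAlgebraic E₀ (extendScalars hE₀) := by
    refine ⟨fun y => ?_⟩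
    have := halg y y.2
    exact (isAlgebraic_algebraMap_iff (algebraMap (extendScalars hE₀) Ω).injective).1 this
  have hle : F ≤ K' := by
    refine hmax ⟨hE₀.trans hKF, fun y hy => ?_, hunif'⟩ hKF
    have h1 : IsAlgebraic K' y := by
      have hint : IsIntegral K' α := ⟨f, hfm, hfα⟩
      have : Algebra.IsAlgebraic K' (adjoin K' {α}) := isAlgebraic_adjoin_simple hint
      have h2 := this.isAlgebraic (⟨y, hy⟩ : adjoin K' {α})
      exact h2.algebraMap
    have h2 : IsAlgebraic (extendScalars hE₀) y := h1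
    exact h2.restrictScalars E₀
  exact ⟨α, hle hαF, hxα⟩

end Groth.Agent.Etalg.ResMax
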