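import Groth.Agent.Etalg.ResInd
import Groth.Agent.Etalg.ResMax
import Groth.Agent.Etalg.DVRExt
import Mathlib.FieldTheory.IsAlgClosed.AlgebraicClosure
import Mathlib.RingTheory.Nilpotent.GeometricallyReduced
import Mathlib.LinearAlgebra.LinearIndependent.Defs

/-!
# Residual independence versus linear independence in the residue field
-/

set_option autoImplicit false
universe u v

open Groth.Agent.Etalg.ResInd Groth.Agent.Etalg.ResMax IsLocalRing EtRam Groth.Agent.Etalg.RamBasic
open scoped TensorProduct

namespace Groth.Agent.Etalg.ResField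

variable {Ω : Type u} [Field Ω] {O : ValuationSubring Ω}

theorem res_eq_zero_iff (x : O) : residue O x = 0 ↔ O.valuation (x : Ω) < 1 := by
  rw [IsLocalRing.residue_eq_zero_iff]
  exact O.valuation_lt_one_iff x

theorem res_eq_iff (x y : O) : residue O x = residue O y ↔ O.valuation ((x : Ω) - y) < 1 := by
  rw [← sub_eq_zero, ← map_sub, res_eq_zero_iff]
  rfl

/-- Residual independence over a subfield is linear independence over its residue field. -/
theorem rli_iff {M : Type u} [Field M] (g : M →+* Ω) {ι : Type v} (u : ι → O) :
    letI : Algebra (ResidueField (O.comap g)) (ResidueField O) := (ResidueField.map (inclOfComap O g)).toAlgebra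
    RLI O (Set.range g) (fun i => (u i : Ω)) ↔
      LinearIndependent (ResidueField (O.comap g)) (fun i => residue O (u i)) := by
  let _ : Algebra (ResidueField (O.comap g)) (ResidueField O) := (ResidueField.map (inclOfComap O g)).toAlgebra
  have hsmul : ∀ (c : O.comap g) (x : O), (residue (O.comap g) c) • residue O x =
      residue O (inclOfComap O g c * x) := by
    intro c x
    rw [Algebra.smul_def, map_mul]
    rfl
  constructor
  · intro h
    rw [linearIndependent_iff']
    intro s c hc i hi
    choose c' hc' using fun i => residue_surjective (c i)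
    have h1 : residue O (∑ i ∈ s, inclOfComap O g (c' i) * u i) = 0 := by
      rw [map_sum, ← hc]
      refine Finset.sum_congr rfl fun i _ => ?_
      rw [← hsmul, hc' i]
    rw [res_eq_zero_iff] at h1
    have h2 := h s (fun i => g (c' i)) (fun i _ => ⟨_, rfl⟩)
      (fun i _ => (ValuationSubring.valuation_le_one_iff _ _).2 (c' i).2) (by
        refine lt_of_eq_of_lt (congrArg O.valuation ?_) h1
        push_cast
        rfl) i hi
    rw [← hc' i, IsLocalRing.residue_eq_zero_iff]
    exact ((O.comap g).valuation_lt_one_iff _).2 ((valuation_comap_lt_one_iff _ _ _).2 h2)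
  · intro h s c hc hc1 hs i hi
    choose! m hm using hc
    have hmO : ∀ i ∈ s, m i ∈ O.comap g := fun i hi => by
      show g (m i) ∈ O
      rw [hm i hi]; exact (ValuationSubring.valuation_le_one_iff _ _).1 (hc1 i hi)
    classical
    let c' : ι → O.comap g := fun i => if hi : i ∈ s then ⟨m i, hmO i hi⟩ else 0
    have hc' : ∀ i ∈ s, ((inclOfComap O g (c' i) : O) : Ω) = c i := by
      intro i hi
      simp only [c', dif_pos hi, inclOfComap_apply_coe]
      exact hm i hi
    rw [linearIndependent_iff'] at h
    have h1 := h s (fun i => residue _ (c' i)) (by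
      simp only [hsmul]
      rw [← map_sum, res_eq_zero_iff]
      refine lt_of_eq_of_lt (congrArg O.valuation ?_) hs
      push_cast
      exact Finset.sum_congr rfl fun i hi => by rw [hc' i hi]) i hi
    rw [IsLocalRing.residue_eq_zero_iff] at h1
    have h2 := ((O.comap g).valuation_lt_one_iff _).1 h1
    rw [valuation_comap_lt_one_iff] at h2
    rw [← hc' i hi]
    exact h2

/-- The residue field of a valuation ring of an algebraically closed field is algebraically closed. -/
theorem isAlgClosed_residueField [IsAlgClosed Ω] (O : ValuationSubring Ω) : IsAlgClosed (ResidueField O) := by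
  refine IsAlgClosed.of_exists_root _ fun p hp hirr => ?_
  obtain ⟨q, hq, hqd, hqm⟩ := Polynomial.lifts_and_natDegree_eq_and_monic
    (Polynomial.mem_lifts_of_surjective residue_surjective p) hp
  have hdeg : (q.map O.subtype).degree ≠ 0 := by
    rw [hqm.degree_map]
    intro h0
    have : q.natDegree = 0 := Polynomial.natDegree_eq_of_degree_eq_some h0
    rw [hqd] at this
    exact absurd this hirr.natDegree_pos.ne'
  obtain ⟨α, hα⟩ := IsAlgClosed.exists_root (q.map O.subtype) hdeg
  rw [Polynomial.IsRoot.def, Polynomial.eval_map] at hα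
  have hαO : α ∈ O := DVRExt.mem_of_isIntegralElem O O.subtype (fun a => a.2) ⟨q, hqm, hα⟩
  refine ⟨residue O ⟨α, hαO⟩, ?_⟩
  have h0 : q.eval₂ (RingHom.id O) ⟨α, hαO⟩ = 0 := by
    apply Subtype.ext
    have h1 := Polynomial.hom_eval₂ q (RingHom.id O) O.subtype ⟨α, hαO⟩
    rw [RingHom.comp_id] at h1
    exact h1.trans hα
  have h2 := Polynomial.hom_eval₂ q (RingHom.id O) (residue O) ⟨α, hαO⟩
  rw [h0, map_zero, RingHom.comp_id] at h2
  rw [← hq, Polynomial.eval_map]
  exact h2.symm

end Groth.Agent.Etalg.ResField
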