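import Groth.Agent.Etalg.ResField
import Mathlib.RingTheory.TensorProduct.Free

/-!
# Geometric reducedness of residue field extensions from residual linear disjointness
-/

set_option autoImplicit false
universe u v

open Groth.Agent.Etalg.ResInd Groth.Agent.Etalg.ResMax Groth.Agent.Etalg.ResField IsLocalRing EtRam
  Groth.Agent.Etalg.RamBasic Polynomial
open scoped TensorProduct

namespace Groth.Agent.Etalg.ResGeom

variable {Ω : Type u} [Field Ω] {O : ValuationSubring Ω}

/-- A residual root of a monic polynomial lifts to a root. -/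
theorem exists_lift_root [IsAlgClosed Ω] {R : Type u} [CommRing R] (φ : R →+* O) (q : R[X]) (hq : q.Monic)
    (x : O) (hx : residue O (q.eval₂ φ x) = 0) :
    ∃ α : O, q.eval₂ φ α = 0 ∧ residue O α = residue O x := by
  classical
  have hqm : (q.map (O.subtype.comp φ)).Monic := hq.map _
  have hsplit : (q.map (O.subtype.comp φ)).Splits := IsAlgClosed.splits _
  have hprod := hsplit.eq_prod_roots_of_monic hqm
  have hev : ((q.eval₂ φ x : O) : Ω) = ((q.map (O.subtype.comp φ)).roots.map fun a => (x : Ω) - a).prod := by
    have h1 : ((q.eval₂ φ x : O) : Ω) = (q.map (O.subtype.comp φ)).eval (x : Ω) := by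
      rw [eval_map]
      exact hom_eval₂ q φ O.subtype x
    rw [h1]
    conv_lhs => rw [hprod]
    rw [eval_multiset_prod, Multiset.map_map]
    simp
  rw [res_eq_zero_iff] at hx
  have hex : ∃ α ∈ (q.map (O.subtype.comp φ)).roots, O.valuation ((x : Ω) - α) < 1 := by
    by_contra hcon
    push Not at hcon
    rw [hev, map_multiset_prod, Multiset.map_map] at hx
    refine absurd hx (not_lt_of_ge ?_)
    refine Multiset.one_le_prod_of_one_le ?_
    intro y hy
    obtain ⟨a, ha, rfl⟩ := Multiset.mem_map.1 hy
    exact hcon a ha
  obtain ⟨α, hα, hlt⟩ := hex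
  have hα0 : q.eval₂ (O.subtype.comp φ) α = 0 := by
    rw [← eval_map]
    exact isRoot_of_mem_roots hα
  have hαO : α ∈ O := by
    refine DVRExt.mem_of_isIntegralElem O (O.subtype.comp φ) (fun a => (φ a).2) ⟨q, hq, hα0⟩
  refine ⟨⟨α, hαO⟩, ?_, ?_⟩
  · apply Subtype.ext
    exact (hom_eval₂ q φ O.subtype ⟨α, hαO⟩).trans hα0
  · rw [eq_comm, res_eq_iff]
    exact hlt

/-- geometric reducedness criterion -/
theorem isGeometricallyReduced_of_rli [IsAlgClosed Ω] {E M : Type u} [Field E] [Field M] (f : E →+* M)
    (g : M →+* Ω) (E' : Set Ω)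
    (hAC : ∀ x : Ω, (g.comp f).IsIntegralElem x → O.valuation x ≤ 1 → ∃ y ∈ E', O.valuation (x - y) < 1)
    (hrli : ∀ (ι : Type u) (l : ι → Ω), (∀ j, l j ∈ E') → (∀ j, O.valuation (l j) ≤ 1) →
      RLI O (Set.range (g.comp f)) l → RLI O (Set.range g) l) :
    @Algebra.IsGeometricallyReduced (ResidueField ((O.comap g).comap f)) (ResidueField (O.comap g)) _ _
      (ResidueField.map (inclOfComap (O.comap g) f)).toAlgebra := by
  let a1 : Algebra (ResidueField ((O.comap g).comap f)) (ResidueField (O.comap g)) :=
    (ResidueField.map (inclOfComap (O.comap g) f)).toAlgebra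
  let a2 : Algebra (ResidueField (O.comap g)) (ResidueField O) := (ResidueField.map (inclOfComap O g)).toAlgebra
  let a3 : Algebra (ResidueField ((O.comap g).comap f)) (ResidueField O) :=
    (ResidueField.map (inclOfComap O (g.comp f))).toAlgebra
  have : IsScalarTower (ResidueField ((O.comap g).comap f)) (ResidueField (O.comap g)) (ResidueField O) :=
    IsScalarTower.of_algebraMap_eq fun x => by
      obtain ⟨x, rfl⟩ := residue_surjective x
      rfl
  have := isAlgClosed_residueField O
  let k := ResidueField ((O.comap g).comap f)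
  let F := ResidueField (O.comap g)
  let i : AlgebraicClosure k →ₐ[k] ResidueField O := IsAlgClosed.lift
  let b := Module.Basis.ofVectorSpace k (AlgebraicClosure k)
  let φ : ((O.comap g).comap f) →+* O := (inclOfComap O g).comp (inclOfComap (O.comap g) f)
  -- lifts of the basis
  have hlift : ∀ j, ∃ l : O, (l : Ω) ∈ E' ∧ residue O l = i (b j) := by
    intro j
    obtain ⟨p, hp, hpj⟩ := (Algebra.IsIntegral.isIntegral (R := k) (b j) : IsIntegral k (b j))
    obtain ⟨q, hq, -, hqm⟩ := lifts_and_natDegree_eq_and_monic
      (mem_lifts_of_surjective (residue_surjective (R := (O.comap g).comap f)) p) hp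
    obtain ⟨u, hu⟩ := residue_surjective (i (b j))
    have h1 : residue O (q.eval₂ φ u) = 0 := by
      rw [hom_eval₂, hu]
      have h2 := congrArg i hpj
      rw [map_zero] at h2
      have h3 : i (p.eval₂ (algebraMap k (AlgebraicClosure k)) (b j)) =
          p.eval₂ (algebraMap k (ResidueField O)) (i (b j)) := by
        have := hom_eval₂ p (algebraMap k (AlgebraicClosure k)) (i : AlgebraicClosure k →+* ResidueField O) (b j)
        rw [AlgHom.comp_algebraMap] at this
        exact this
      rw [h3, ← hq, eval₂_map] at h2
      exact h2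
    obtain ⟨α, hα, hαu⟩ := exists_lift_root φ q hqm u h1
    have hαint : (g.comp f).IsIntegralElem (α : Ω) := by
      refine ⟨q.map ((O.comap g).comap f).subtype, hqm.map _, ?_⟩
      rw [eval₂_map]
      have h4 := congrArg Subtype.val hα
      have h5 := hom_eval₂ q φ O.subtype α
      exact h5.symm.trans h4
    obtain ⟨y, hy, hlt⟩ := hAC α hαint (O.valuation_le_one α)
    have hyO : y ∈ O := by
      have : y = (α : Ω) - (α - y) := by ring
      rw [← ValuationSubring.valuation_le_one_iff, this]
      exact (Valuation.map_sub _ _ _).trans (max_le (O.valuation_le_one α) hlt.le)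
    refine ⟨⟨y, hyO⟩, hy, ?_⟩
    rw [← hu, ← hαu, eq_comm, res_eq_iff]
    exact hlt
  choose l hlE' hl using hlift
  -- linear independence over k
  have hli : LinearIndependent k (fun j => residue O (l j)) := by
    have h1 : LinearIndependent k (fun j => i (b j)) :=
      b.linearIndependent.map' i.toLinearMap (LinearMap.ker_eq_bot.2 i.injective)
    simpa only [hl] using h1
  have h2 : RLI O (Set.range (g.comp f)) (fun j => (l j : Ω)) := (rli_iff (g.comp f) l).2 hli
  have h3 := hrli _ (fun j => (l j : Ω)) hlE' (fun j => O.valuation_le_one _) h2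
  have h4 : LinearIndependent F (fun j => residue O (l j)) := (rli_iff g l).1 h3
  -- the tensor product embeds in the residue field
  rw [Algebra.isGeometricallyReduced_field_iff]
  let Φ : F ⊗[k] AlgebraicClosure k →ₐ[F] ResidueField O :=
    Algebra.TensorProduct.lift (Algebra.ofId F (ResidueField O)) i (fun _ _ => Commute.all _ _)
  have hΦ : Function.Injective Φ := by
    rw [injective_iff_map_eq_zero]
    intro x hx
    let B := Algebra.TensorProduct.basis F b
    have hB : ∀ j, Φ (B j) = residue O (l j) := by
      intro j
      rw [Algebra.TensorProduct.basis_apply, Algebra.TensorProduct.lift_tmul, map_one, one_mul, hl]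
    have hx' : ∑ j ∈ (B.repr x).support, (B.repr x) j • residue O (l j) = 0 := by
      have h5 := congrArg Φ (B.linearCombination_repr x)
      rw [Finsupp.linearCombination_apply, Finsupp.sum, map_sum] at h5
      rw [← hx, ← h5]
      refine Finset.sum_congr rfl fun j _ => ?_
      rw [map_smul, hB]
    rw [linearIndependent_iff'] at h4
    have h6 := h4 _ _ hx'
    apply B.repr.injective
    rw [map_zero]
    ext j
    by_cases hj : j ∈ (B.repr x).support
    · exact h6 j hj
    · exact Finsupp.notMem_support_iff.1 hj
  have hred : IsReduced (F ⊗[k] AlgebraicClosure k) := isReduced_of_injective Φ hΦ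
  exact isReduced_of_injective (Algebra.TensorProduct.comm k (AlgebraicClosure k) F)
    (Algebra.TensorProduct.comm k (AlgebraicClosure k) F).injective

end Groth.Agent.Etalg.ResGeom
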