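import Groth.Agent.Etalg.RamBasic
import Groth.Agent.Etalg.RamDVR
import Mathlib.RingTheory.Valuation.ValuationSubring
import Mathlib.FieldTheory.IntermediateField.Adjoin.Basic
import Mathlib.RingTheory.AlgebraicIndependent.Basic
import Mathlib.Algebra.BigOperators.Field

/-!
# Residual independence and Gauss valuations, inside a big valued field

`O` is a valuation subring of a field `Ω`.

* `RLI O F u`: the family `u` is linearly independent over `F` modulo the maximal ideal.
* `IsUnif O F π`: all values of nonzero elements of `F` are powers of that of `π`, `v π < 1`.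
* Gauss valuations: if the monomials in `w` are residually independent over `E`, the values on `E(w)` are those
  of `E`.
-/

set_option autoImplicit false
universe u v

open IntermediateField

namespace Groth.Agent.Etalg.ResInd

variable {Ω : Type u} [Field Ω] (O : ValuationSubring Ω)

/-- The family `u` is residually linearly independent over `F`. -/
def RLI {ι : Type*} (F : Set Ω) (u : ι → Ω) : Prop :=
  ∀ (s : Finset ι) (c : ι → Ω), (∀ i ∈ s, c i ∈ F) → (∀ i ∈ s, O.valuation (c i) ≤ 1) →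
    O.valuation (∑ i ∈ s, c i * u i) < 1 → ∀ i ∈ s, O.valuation (c i) < 1

/-- `π` is a uniformizer for the values of `F`. -/
def IsUnif (F : Set Ω) (π : Ω) : Prop :=
  π ≠ 0 ∧ O.valuation π < 1 ∧ ∀ x ∈ F, x ≠ 0 → ∃ k : ℤ, O.valuation x = O.valuation π ^ k

variable {O}

theorem sum_lt {ι : Type*} {s : Finset ι} {f : ι → Ω} {g : O.ValueGroup} (hg : 0 < g)
    (h : ∀ i ∈ s, O.valuation (f i) < g) : O.valuation (∑ i ∈ s, f i) < g :=
  Valuation.map_sum_lt _ hg.ne' h

theorem sum_le {ι : Type*} {s : Finset ι} {f : ι → Ω} {g : O.ValueGroup}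
    (h : ∀ i ∈ s, O.valuation (f i) ≤ g) : O.valuation (∑ i ∈ s, f i) ≤ g :=
  Valuation.map_sum_le _ h

theorem RLI.mono {ι : Type*} {F F' : Set Ω} {u : ι → Ω} (h : RLI O F' u) (hF : F ⊆ F') :
    RLI O F u :=
  fun s c hc hc1 hs => h s c (fun i hi => hF (hc i hi)) hc1 hs

/-- The value of a combination of residually independent elements is at least the value of each
coefficient. -/
theorem RLI.le_sum {ι : Type*} {F : Subfield Ω} {u : ι → Ω} (h : RLI O (F : Set Ω) u) (s : Finset ι)
    (c : ι → Ω) (hc : ∀ i ∈ s, c i ∈ F) (i : ι) (hi : i ∈ s) :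
    O.valuation (c i) ≤ O.valuation (∑ i ∈ s, c i * u i) := by
  classical
  obtain ⟨j, hj, hmax⟩ := Finset.exists_max_image s (fun i => O.valuation (c i)) ⟨i, hi⟩
  refine (hmax i hi).trans ?_
  rcases eq_or_ne (c j) 0 with h0 | h0
  · rw [h0, map_zero]; exact zero_le
  have hv0 : O.valuation (c j) ≠ 0 := (Valuation.ne_zero_iff _).2 h0
  have hvpos : 0 < O.valuation (c j) := zero_lt_iff.2 hv0
  by_contra hlt
  rw [not_le] at hlt
  have key := h s (fun i => c i / c j) (fun i hi => F.div_mem (hc i hi) (hc j hj)) (fun i hi => by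
    rw [map_div₀]
    exact (div_le_one₀ hvpos).2 (hmax i hi)) (by
      have : ∑ i ∈ s, c i / c j * u i = (∑ i ∈ s, c i * u i) / c j := by
        rw [Finset.sum_div]
        exact Finset.sum_congr rfl fun i _ => by ring
      rw [this, map_div₀]
      exact (div_lt_one₀ hvpos).2 hlt) j hj
  simp only [div_self h0, map_one, lt_self_iff_false] at key

theorem IsUnif.mono {F F' : Set Ω} {π : Ω} (h : IsUnif O F' π) (hF : F ⊆ F') : IsUnif O F π :=
  ⟨h.1, h.2.1, fun x hx => h.2.2 x (hF hx)⟩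

theorem IsUnif.pos {F : Set Ω} {π : Ω} (h : IsUnif O F π) : 0 < O.valuation π :=
  zero_lt_iff.2 ((Valuation.ne_zero_iff _).2 h.1)

/-- elements of value `< 1` have value at most that of the uniformizer -/
theorem IsUnif.le_of_lt_one {F : Set Ω} {π : Ω} (h : IsUnif O F π) {x : Ω} (hx : x ∈ F)
    (hx1 : O.valuation x < 1) : O.valuation x ≤ O.valuation π := by
  rcases eq_or_ne x 0 with rfl | hx0
  · rw [map_zero]; exact zero_le
  obtain ⟨k, hk⟩ := h.2.2 x hx hx0
  have hanti : StrictAnti (fun n : ℤ => O.valuation π ^ n) := zpow_right_strictAnti₀ h.pos h.2.1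
  have hk0 : 0 < k := by
    by_contra hneg
    rw [not_lt] at hneg
    have h1 : O.valuation π ^ (0 : ℤ) ≤ O.valuation π ^ k := hanti.antitone hneg
    rw [zpow_zero, ← hk] at h1
    exact absurd hx1 (not_lt_of_ge h1)
  have h2 : O.valuation π ^ k ≤ O.valuation π ^ (1 : ℤ) := hanti.antitone hk0
  rwa [zpow_one, ← hk] at h2

/-- every element of value `≤ 1` is ... : bounded denominators -/
theorem IsUnif.exists_pow_mul_le_one {F : Set Ω} {π : Ω} (h : IsUnif O F π) {x : Ω} (hx : x ∈ F) :
    ∃ n : ℕ, ∀ m ≥ n, O.valuation (π ^ m * x) ≤ 1 := by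
  rcases eq_or_ne x 0 with rfl | hx0
  · exact ⟨0, fun m _ => by simp⟩
  obtain ⟨k, hk⟩ := h.2.2 x hx hx0
  have hanti : StrictAnti (fun n : ℤ => O.valuation π ^ n) := zpow_right_strictAnti₀ h.pos h.2.1
  refine ⟨k.natAbs, fun m hm => ?_⟩
  rw [map_mul, map_pow, hk, ← zpow_natCast, ← zpow_add₀ h.pos.ne', ← zpow_zero (O.valuation π)]
  apply hanti.antitone
  omega

/-! ### Residual algebraic independence -/

/-- the monomial `w^m` -/
def mon {ι : Type*} (w : ι → Ω) (m : ι →₀ ℕ) : Ω := m.prod fun i n => w i ^ n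

theorem valuation_mon_le_one {ι : Type*} {w : ι → Ω} (hw : ∀ i, O.valuation (w i) ≤ 1) (m : ι →₀ ℕ) :
    O.valuation (mon w m) ≤ 1 := by
  unfold mon Finsupp.prod
  rw [map_prod]
  exact Finset.prod_le_one' fun i _ => by rw [map_pow]; exact pow_le_one' (hw i) _

section Gauss

variable {K : Type u} [Field K] [Algebra K Ω] {ι : Type v} {w : ι → Ω}

theorem aeval_eq_sum (E : IntermediateField K Ω) (P : MvPolynomial ι E) :
    MvPolynomial.aeval w P = ∑ m ∈ P.support, ((P.coeff m : E) : Ω) * mon w m := by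
  rw [MvPolynomial.aeval_def, MvPolynomial.eval₂_eq]
  rfl

theorem coeff_le_aeval {E : IntermediateField K Ω} (h : RLI O (E : Set Ω) (mon w))
    (P : MvPolynomial ι E) (m : ι →₀ ℕ) :
    O.valuation ((P.coeff m : E) : Ω) ≤ O.valuation (MvPolynomial.aeval w P) := by
  classical
  by_cases hm : m ∈ P.support
  · rw [aeval_eq_sum]
    exact RLI.le_sum (F := E.toSubfield) h P.support (fun m => ((P.coeff m : E) : Ω))
      (fun m _ => (P.coeff m).2) m hm
  · rw [MvPolynomial.notMem_support_iff.1 hm]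
    simp

theorem aeval_le_of_coeff_le (hw : ∀ i, O.valuation (w i) ≤ 1) {E : IntermediateField K Ω}
    (P : MvPolynomial ι E) {g : O.ValueGroup} (hg : ∀ m, O.valuation ((P.coeff m : E) : Ω) ≤ g) :
    O.valuation (MvPolynomial.aeval w P) ≤ g := by
  rw [aeval_eq_sum]
  refine sum_le fun m _ => ?_
  rw [map_mul]
  exact (mul_le_mul' (hg m) (valuation_mon_le_one hw m)).trans (mul_one _).le

theorem aeval_lt_of_coeff_lt (hw : ∀ i, O.valuation (w i) ≤ 1) {E : IntermediateField K Ω}
    (P : MvPolynomial ι E) {g : O.ValueGroup} (hg0 : 0 < g) (hg : ∀ m, O.valuation ((P.coeff m : E) : Ω) < g) :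
    O.valuation (MvPolynomial.aeval w P) < g := by
  rw [aeval_eq_sum]
  refine sum_lt hg0 fun m _ => ?_
  rw [map_mul]
  exact lt_of_le_of_lt ((mul_le_mul' le_rfl (valuation_mon_le_one hw m)).trans (mul_one _).le) (hg m)

/-- Gauss: the value of `P(w)` is that of the largest coefficient. -/
theorem exists_coeff_eq (hw : ∀ i, O.valuation (w i) ≤ 1) {E : IntermediateField K Ω}
    (h : RLI O (E : Set Ω) (mon w)) (P : MvPolynomial ι E) (hP : P ≠ 0) :
    ∃ m, P.coeff m ≠ 0 ∧ O.valuation (MvPolynomial.aeval w P) = O.valuation ((P.coeff m : E) : Ω) ∧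
      ∀ m', O.valuation ((P.coeff m' : E) : Ω) ≤ O.valuation ((P.coeff m : E) : Ω) := by
  classical
  obtain ⟨m, hm, hmax⟩ := Finset.exists_max_image P.support (fun m => O.valuation ((P.coeff m : E) : Ω))
    (MvPolynomial.support_nonempty.2 hP)
  have hmax' : ∀ m', O.valuation ((P.coeff m' : E) : Ω) ≤ O.valuation ((P.coeff m : E) : Ω) := by
    intro m'
    by_cases hm' : m' ∈ P.support
    · exact hmax m' hm'
    · rw [MvPolynomial.notMem_support_iff.1 hm']; simp
  exact ⟨m, MvPolynomial.mem_support_iff.1 hm,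
    le_antisymm (aeval_le_of_coeff_le hw P hmax') (coeff_le_aeval h P m), hmax'⟩

theorem aeval_ne_zero (hw : ∀ i, O.valuation (w i) ≤ 1) {E : IntermediateField K Ω}
    (h : RLI O (E : Set Ω) (mon w)) (P : MvPolynomial ι E) (hP : P ≠ 0) :
    MvPolynomial.aeval w P ≠ 0 := by
  obtain ⟨m, hm, he, -⟩ := exists_coeff_eq hw h P hP
  rw [← (Valuation.ne_zero_iff O.valuation), he, Valuation.ne_zero_iff]
  simpa using hm

theorem algebraicIndependent_of_resInd (hw : ∀ i, O.valuation (w i) ≤ 1) {E : IntermediateField K Ω}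
    (h : RLI O (E : Set Ω) (mon w)) : AlgebraicIndependent E w := by
  rw [algebraicIndependent_iff]
  intro P hP
  by_contra hne
  exact aeval_ne_zero hw h P hne hP

theorem mem_sup_adjoin_iff (E : IntermediateField K Ω) (x : Ω) :
    x ∈ E ⊔ adjoin K (Set.range w) ↔
      ∃ P Q : MvPolynomial ι E, x = MvPolynomial.aeval w P / MvPolynomial.aeval w Q := by
  rw [← restrictScalars_adjoin_eq_sup, mem_restrictScalars, mem_adjoin_range_iff]

/-- Gauss extension: values of `E(w)` are those of `E`. -/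
theorem isUnif_sup_adjoin (hw : ∀ i, O.valuation (w i) ≤ 1) {E : IntermediateField K Ω}
    (h : RLI O (E : Set Ω) (mon w)) {π : Ω} (hπ : IsUnif O (E : Set Ω) π) :
    IsUnif O ((E ⊔ adjoin K (Set.range w) : IntermediateField K Ω) : Set Ω) π := by
  refine ⟨hπ.1, hπ.2.1, fun x hx hx0 => ?_⟩
  obtain ⟨P, Q, rfl⟩ := (mem_sup_adjoin_iff E x).1 hx
  have hP : P ≠ 0 := by rintro rfl; simp at hx0
  have hQ : Q ≠ 0 := by rintro rfl; simp at hx0
  obtain ⟨m, hm, he, -⟩ := exists_coeff_eq hw h P hP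
  obtain ⟨m', hm', he', -⟩ := exists_coeff_eq hw h Q hQ
  obtain ⟨k, hk⟩ := hπ.2.2 ((P.coeff m : E) : Ω) (P.coeff m).2 (by simpa using hm)
  obtain ⟨k', hk'⟩ := hπ.2.2 ((Q.coeff m' : E) : Ω) (Q.coeff m').2 (by simpa using hm')
  refine ⟨k - k', ?_⟩
  rw [map_div₀, he, he', hk, hk', zpow_sub₀ hπ.pos.ne']

/-- integral elements of `E(w)` are quotients of Gauss-integral polynomials with denominator a unit -/
theorem exists_num_den (hw : ∀ i, O.valuation (w i) ≤ 1) {E : IntermediateField K Ω}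
    (h : RLI O (E : Set Ω) (mon w)) (x : Ω) (hx : x ∈ E ⊔ adjoin K (Set.range w)) :
    ∃ P Q : MvPolynomial ι E, MvPolynomial.aeval w Q * x = MvPolynomial.aeval w P ∧
      O.valuation (MvPolynomial.aeval w Q) = 1 := by
  obtain ⟨P, Q, rfl⟩ := (mem_sup_adjoin_iff E x).1 hx
  rcases eq_or_ne Q 0 with rfl | hQ
  · exact ⟨0, 1, by simp, by simp⟩
  obtain ⟨m, hm, he, -⟩ := exists_coeff_eq hw h Q hQ
  have hm' : ((Q.coeff m : E) : Ω) ≠ 0 := by simpa using hm
  have hQ' := aeval_ne_zero hw h Q hQ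
  refine ⟨(Q.coeff m)⁻¹ • P, (Q.coeff m)⁻¹ • Q, ?_, ?_⟩
  · rw [map_smul, map_smul, smul_mul_assoc, mul_div_cancel₀ _ hQ']
  · rw [map_smul, Algebra.smul_def, map_mul, he, ← map_mul]
    have : (algebraMap E Ω) (Q.coeff m)⁻¹ * ((Q.coeff m : E) : Ω) = 1 := by
      rw [map_inv₀]; exact inv_mul_cancel₀ hm'
    rw [this, map_one]

/-- Residual linear independence over `E` of elements of `E'` persists over `E(w)` when the monomials in `w` are
residually independent over `E'`. -/
theorem resInd_sup_adjoin (hw : ∀ i, O.valuation (w i) ≤ 1) {E E' : IntermediateField K Ω} (hEE' : E ≤ E')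
    (h : RLI O (E' : Set Ω) (mon w)) {κ : Type*} {l : κ → Ω} (hl : ∀ j, l j ∈ E')
    (hli : RLI O (E : Set Ω) l) :
    RLI O ((E ⊔ adjoin K (Set.range w) : IntermediateField K Ω) : Set Ω) l := by
  classical
  have hE : RLI O (E : Set Ω) (mon w) := h.mono hEE'
  intro s c hc hc1 hs j hj
  choose! P Q hPQ hQ using fun (j : κ) (hj : j ∈ s) => exists_num_den hw hE (c j) (hc j hj)
  -- common denominator
  set D : MvPolynomial ι E := ∏ i ∈ s, Q i with hD
  have hDv : O.valuation (MvPolynomial.aeval w D) = 1 := by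
    rw [hD, map_prod, map_prod]
    exact Finset.prod_eq_one fun i hi => hQ i hi
  set G : κ → MvPolynomial ι E := fun j => (∏ i ∈ s.erase j, Q i) * P j with hG
  have hGe : ∀ j ∈ s, MvPolynomial.aeval w (G j) = MvPolynomial.aeval w D * c j := by
    intro j hj
    simp only [hG, hD, map_mul]
    rw [← hPQ j hj, ← mul_assoc, ← map_mul, Finset.prod_erase_mul _ _ hj]
  -- the polynomial over `E'`
  let inc : E →+* E' := (IntermediateField.inclusion hEE').toRingHom
  set H : MvPolynomial ι E' := ∑ j ∈ s, MvPolynomial.C (⟨l j, hl j⟩ : E') * MvPolynomial.map inc (G j) with hH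
  have hmap : ∀ P : MvPolynomial ι E,
      MvPolynomial.aeval w (MvPolynomial.map inc P) = (MvPolynomial.aeval w P : Ω) := by
    intro P
    rw [MvPolynomial.aeval_def, MvPolynomial.eval₂_map, MvPolynomial.aeval_def]
    rfl
  have hHe : MvPolynomial.aeval w H = MvPolynomial.aeval w D * ∑ j ∈ s, c j * l j := by
    rw [hH, map_sum, Finset.mul_sum]
    refine Finset.sum_congr rfl fun j hj => ?_
    rw [map_mul, hmap, hGe j hj, MvPolynomial.aeval_C]
    have : (algebraMap E' Ω) ⟨l j, hl j⟩ = l j := rfl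
    rw [this]; ring
  have hHlt : O.valuation (MvPolynomial.aeval w H) < 1 := by
    rw [hHe, map_mul, hDv, one_mul]; exact hs
  have hcoeff : ∀ m, ∀ j ∈ s, O.valuation (((G j).coeff m : E) : Ω) < 1 := by
    intro m
    refine hli s (fun j => (((G j).coeff m : E) : Ω)) (fun j _ => ((G j).coeff m).2) (fun j hj => ?_) ?_
    · refine (coeff_le_aeval hE (G j) m).trans ?_
      rw [hGe j hj, map_mul, hDv, one_mul]
      exact hc1 j hj
    · refine lt_of_eq_of_lt ?_ (lt_of_le_of_lt (coeff_le_aeval h H m) hHlt)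
      congr 1
      rw [hH, MvPolynomial.coeff_sum]
      push_cast
      refine Finset.sum_congr rfl fun j _ => ?_
      rw [MvPolynomial.coeff_C_mul, MvPolynomial.coeff_map]
      exact mul_comm _ _
  have h1 : O.valuation (MvPolynomial.aeval w (G j)) < 1 :=
    aeval_lt_of_coeff_lt hw (G j) zero_lt_one fun m => hcoeff m j hj
  rwa [hGe j hj, map_mul, hDv, one_mul] at h1

end Gauss

/-! ### Compactness: finitely many elements of `G(E')` already lie in `G(E)`, `E` generated by finitely many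
elements of `E'`. -/

section Compact

variable {K : Type u} [Field K] [Algebra K Ω]

theorem exists_finset_of_mem_sup (G E' : IntermediateField K Ω) (x : Ω) (hx : x ∈ G ⊔ E') :
    ∃ T : Finset Ω, (T : Set Ω) ⊆ E' ∧ x ∈ G ⊔ adjoin K (T : Set Ω) := by
  classical
  have h1 : G ⊔ E' = adjoin K ((G : Set Ω) ∪ (E' : Set Ω)) := by
    rw [adjoin_union, adjoin_self, adjoin_self]
  rw [h1] at hx
  obtain ⟨T, hT, hxT⟩ := exists_finset_of_mem_adjoin hx
  refine ⟨T.filter (· ∈ E'), ?_, ?_⟩
  · intro y hy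
    simpa using (Finset.mem_filter.1 hy).2
  · have h2 : adjoin K (T : Set Ω) ≤ G ⊔ adjoin K ((T.filter (· ∈ E') : Finset Ω) : Set Ω) := by
      rw [adjoin_le_iff]
      intro y hy
      rcases hT hy with h | h
      · exact (le_sup_left : G ≤ _) h
      · refine (le_sup_right : adjoin K _ ≤ G ⊔ _) (subset_adjoin K _ ?_)
        rw [Finset.coe_filter]
        exact ⟨hy, h⟩
    exact h2 hxT

theorem exists_finset_of_finset_subset_sup (G E' : IntermediateField K Ω) (X : Finset Ω)
    (hx : (X : Set Ω) ⊆ (G ⊔ E' : IntermediateField K Ω)) :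
    ∃ T : Finset Ω, (T : Set Ω) ⊆ E' ∧
      ∀ E : IntermediateField K Ω, (T : Set Ω) ⊆ E → (X : Set Ω) ⊆ (G ⊔ E : IntermediateField K Ω) := by
  classical
  choose! T hT hxT using fun (x : Ω) (h : x ∈ X) => exists_finset_of_mem_sup G E' x (hx h)
  refine ⟨X.biUnion T, ?_, ?_⟩
  · intro y hy
    rw [Finset.mem_coe, Finset.mem_biUnion] at hy
    obtain ⟨x, hx, hy⟩ := hy
    exact hT x hx hy
  · intro E hE x hx
    have : adjoin K (T x : Set Ω) ≤ E := by
      rw [adjoin_le_iff]
      intro y hy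
      exact hE (by rw [Finset.mem_coe, Finset.mem_biUnion]; exact ⟨x, hx, hy⟩)
    exact (sup_le_sup le_rfl this : G ⊔ _ ≤ G ⊔ E) (hxT x hx)

theorem finiteDimensional_adjoin_finset (T : Finset Ω) (hT : ∀ x ∈ T, IsAlgebraic K x) :
    FiniteDimensional K (adjoin K (T : Set Ω)) := by
  have : Finite (T : Set Ω) := T.finite_toSet
  exact finiteDimensional_adjoin fun x hx => (hT x hx).isIntegral

end Compact

end Groth.Agent.Etalg.ResInd
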