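import Groth.Agent.EtpbcA.CdDiesEt
import Groth.Agent.EtpbcA.RpushTors
import Groth.Agent.Etbase.EtColimBig

/-!
# Vanishing of higher direct images passes to filtered colimits
-/

set_option autoImplicit false
universe u
open CategoryTheory CategoryTheory.Limits CategoryTheory.Abelian AlgebraicGeometry Opposite

namespace Groth.Agent.Etalg.RpushColim

open Groth.Agent.EtpbcA Groth.Agent.EtpbcA.CdDiesEt

variable {X Y : Scheme.{u}}

/-- `Rⁿ f_*` of a filtered colimit vanishes if it vanishes on the terms (`f` qcqs). -/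
theorem isZero_Rpush_colimit (f : X ⟶ Y) [QuasiCompact f] [QuasiSeparated f]
    (I : Type (u + 1)) [SmallCategory I] [IsFiltered I] (D : I ⥤ EtCoh.Ab X) (n : ℕ)
    (h : ∀ i, IsZero ((EtCoh.Rpush f n).obj (D.obj i))) :
    IsZero ((EtCoh.Rpush f n).obj (colimit D)) := by
  refine Artin.isZero_of_forall _ fun y => ?_
  rw [not_mem_supp_Rpush_iff']
  intro V v hv x
  obtain ⟨V', k, hV', -, v', hv'⟩ := Groth.Agent.Etrest.Site0.exists_affine V v
  have hc := RpushTors.compactSpace_bc f V' hV'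
  have hq := RpushTors.quasiSeparatedSpace_bc f V' hV'
  let x' := (Ext.mk₀ ((Zf X).map ((EtCoh.bc f).map k))).comp x (zero_add n)
  obtain ⟨i, z, hz⟩ := ((Groth.Agent.Etbase.EtColimBig.fp_ZU_big X
    (U := (EtCoh.bc f).obj V') ⟨hc, hq⟩ I n) n le_rfl D).1 x'
  have hy : y ∉ EtPBC.supp ((EtCoh.Rpush f n).obj (D.obj i)) := Artin.supp_eq_empty_of_isZero (h i) y
  rw [not_mem_supp_Rpush_iff'] at hy
  obtain ⟨W, g, w, hw, hW⟩ := hy V' v' (by rw [hom_left k v', hv', hv]) z
  refine ⟨W, g ≫ k, w, ?_, ?_⟩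
  · rw [← hv', ← hw]; rfl
  · have h1 : (Ext.mk₀ ((Zf X).map ((EtCoh.bc f).map (g ≫ k)))).comp x (zero_add n) =
      (Ext.mk₀ ((Zf X).map ((EtCoh.bc f).map g))).comp x' (zero_add n) := by
      rw [Functor.map_comp, Functor.map_comp, ← Ext.mk₀_comp_mk₀, Ext.comp_assoc_of_second_deg_zero]
    rw [h1, ← hz]
    have h2 : (Ext.mk₀ ((Zf X).map ((EtCoh.bc f).map g))).comp (z.comp (Ext.mk₀ (colimit.ι D i)) (add_zero n))
        (zero_add n) = ((Ext.mk₀ ((Zf X).map ((EtCoh.bc f).map g))).comp z (zero_add n)).comp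
          (Ext.mk₀ (colimit.ι D i)) (add_zero n) := by
      rw [Ext.comp_assoc_of_third_deg_zero]
    rw [h2, hW, Ext.zero_comp]

end Groth.Agent.Etalg.RpushColim
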