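import Groth.Agent.Etalg.SepElt
import Groth.Agent.Etalg.ClopenImage

/-!
# Separable elements and base field extension

For a field extension `L/K`, the separable elements of `L ⊗[K] A` are the `L`-span of the separable elements of `A`.
-/

set_option autoImplicit false

open TensorProduct PrimeSpectrum

namespace Groth.Agent.Etalg.SepBaseChange

open Groth.Agent.Etalg.SepElt Groth.Agent.Etalg.ClopenImage

universe u v w

variable (K : Type u) (L : Type v) [Field K] [Field L] [Algebra K L] (A : Type w) [CommRing A] [Algebra K A]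

/-- The canonical isomorphism `(L ⊗ A) ⊗[L] (L ⊗ A) ≃ L ⊗ (A ⊗ A)`. -/
noncomputable def Phi : (L ⊗[K] A) ⊗[L] (L ⊗[K] A) ≃ₐ[L] L ⊗[K] (A ⊗[K] A) :=
  (Algebra.TensorProduct.cancelBaseChange K L L (L ⊗[K] A) A).trans
        (Algebra.TensorProduct.assoc K K L L A A)

theorem Phi_tmul (l l' : L) (a a' : A) :
    Phi K L A ((l ⊗ₜ a) ⊗ₜ (l' ⊗ₜ a')) = (l * l') ⊗ₜ (a ⊗ₜ a') := by
  simp only [Phi, AlgEquiv.trans_apply, Algebra.TensorProduct.cancelBaseChange_tmul]
  rw [TensorProduct.smul_tmul', Algebra.TensorProduct.assoc_tmul, smul_eq_mul, mul_comm]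

/-- The map `A ⊗ A → (L ⊗ A) ⊗[L] (L ⊗ A)`. -/
noncomputable def iota : A ⊗[K] A →+* (L ⊗[K] A) ⊗[L] (L ⊗[K] A) :=
  ((Phi K L A).symm.toRingEquiv : _ →+* _).comp (Algebra.TensorProduct.includeRight :
    A ⊗[K] A →ₐ[K] L ⊗[K] (A ⊗[K] A)).toRingHom

theorem Phi_iota (x : A ⊗[K] A) : Phi K L A (iota K L A x) = 1 ⊗ₜ x := by
  simp [iota]

theorem iota_tmul (a a' : A) : iota K L A (a ⊗ₜ a') = ((1 : L) ⊗ₜ[K] a) ⊗ₜ ((1 : L) ⊗ₜ[K] a') := by
  apply (Phi K L A).injective
  rw [Phi_iota, Phi_tmul, one_mul]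

theorem clopenIm_iota : ClopenIm (iota K L A) :=
  (ClopenIm.of_equiv (Phi K L A).symm.toRingEquiv).comp (clopenIm_includeRight K L (A ⊗[K] A))

variable {K L A}

theorem delta_tmul (l : L) (a : A) :
    ((1 : L ⊗[K] A) ⊗ₜ[L] (l ⊗ₜ[K] a) - (l ⊗ₜ[K] a) ⊗ₜ[L] (1 : L ⊗[K] A)) =
      l • iota K L A ((1 : A) ⊗ₜ[K] a - a ⊗ₜ[K] (1 : A)) := by
  apply (Phi K L A).injective
  rw [map_smul, Phi_iota, map_sub, Algebra.TensorProduct.one_def, Phi_tmul, Phi_tmul, one_mul, mul_one,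
    ← TensorProduct.tmul_sub, TensorProduct.smul_tmul', smul_eq_mul, mul_one]

theorem exists_idempotent {b : L ⊗[K] A} (hb : b ∈ sepElt L (L ⊗[K] A)) :
    ∃ e : A ⊗[K] A, Algebra.TensorProduct.lmul' K (S := A) e = 1 ∧
      ((1 : L ⊗[K] A) ⊗ₜ[L] b - b ⊗ₜ[L] (1 : L ⊗[K] A)) * iota K L A e = 0 := by
  set δ := ((1 : L ⊗[K] A) ⊗ₜ[L] b - b ⊗ₜ[L] (1 : L ⊗[K] A)) with hδ
  have hδs : δ ∈ sepElt L ((L ⊗[K] A) ⊗[L] (L ⊗[K] A)) := by
    have h1 := map_mem_sepElt (Algebra.TensorProduct.includeRight : _ →ₐ[L] (L ⊗[K] A) ⊗[L] (L ⊗[K] A)) hb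
    have h2 := map_mem_sepElt (Algebra.TensorProduct.includeLeft : _ →ₐ[L] (L ⊗[K] A) ⊗[L] (L ⊗[K] A)) hb
    exact Subalgebra.sub_mem _ h1 h2
  obtain ⟨c, hc⟩ := exists_eq_mul_mul hδs
  set ε := δ * c with hε
  have hε2 : IsIdempotentElem ε := by
    change ε * ε = ε
    rw [hε]
    linear_combination (-c) * hc
  have hδε : δ * ε = δ := by rw [hε]; linear_combination -hc
  have hZ : IsClopen (basicOpen ε : Set (PrimeSpectrum ((L ⊗[K] A) ⊗[L] (L ⊗[K] A)))) :=
    PrimeSpectrum.isClopen_iff.2 ⟨ε, hε2, rfl⟩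
  obtain ⟨e₁, he₁, himage⟩ := PrimeSpectrum.isClopen_iff.1 (clopenIm_iota K L A _ hZ)
  -- (a) ε * ι e₁ = ε
  have hA : ε * (1 - iota K L A e₁) = 0 := by
    have hid : IsIdempotentElem (ε * (1 - iota K L A e₁)) :=
      hε2.mul (he₁.map (iota K L A)).one_sub
    have hnil : IsNilpotent (ε * (1 - iota K L A e₁)) := by
      rw [← PrimeSpectrum.basicOpen_eq_bot_iff, eq_bot_iff]
      intro q hq
      have hq' : ε * (1 - iota K L A e₁) ∉ q.asIdeal := hq
      exfalso
      have h1 : ε ∉ q.asIdeal := fun h => hq' (Ideal.mul_mem_right _ _ h)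
      have h2 : PrimeSpectrum.comap (iota K L A) q ∈ (basicOpen e₁ : Set (PrimeSpectrum (A ⊗[K] A))) := by
        rw [← himage]
        exact ⟨q, h1, rfl⟩
      have h3 : iota K L A e₁ ∉ q.asIdeal := h2
      have h4 : iota K L A e₁ * (1 - iota K L A e₁) = 0 := by
        have := (he₁.map (iota K L A)).eq
        linear_combination -this
      have h5 : iota K L A e₁ * (1 - iota K L A e₁) ∈ q.asIdeal := by
        rw [h4]
        exact q.asIdeal.zero_mem
      rcases q.isPrime.mem_or_mem h5 with h6 | h6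
      · exact h3 h6
      · exact hq' (Ideal.mul_mem_left _ _ h6)
    exact hid.eq_zero_of_isNilpotent hnil
  -- (b) mult e₁ = 0
  have hB : Algebra.TensorProduct.lmul' K (S := A) e₁ = 0 := by
    have hid : IsIdempotentElem (Algebra.TensorProduct.lmul' K (S := A) e₁) :=
      he₁.map (Algebra.TensorProduct.lmul' K (S := A))
    apply hid.eq_zero_of_isNilpotent
    rw [← PrimeSpectrum.basicOpen_eq_bot_iff, eq_bot_iff]
    intro x hx
    exfalso
    have hx' : PrimeSpectrum.comap (Algebra.TensorProduct.lmul' K (S := A)).toRingHom x ∈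
        (basicOpen e₁ : Set (PrimeSpectrum (A ⊗[K] A))) := hx
    rw [← himage] at hx'
    obtain ⟨Q, hQ, hQx⟩ := hx'
    have hker : KaehlerDifferential.ideal L (L ⊗[K] A) ≤ Q.asIdeal := by
      rw [← KaehlerDifferential.span_range_eq_ideal, Ideal.span_le]
      rintro _ ⟨s, rfl⟩
      change (1 : L ⊗[K] A) ⊗ₜ[L] s - s ⊗ₜ[L] (1 : L ⊗[K] A) ∈ Q.asIdeal
      induction s with
      | zero => simp
      | add x y hx hy =>
        rw [TensorProduct.tmul_add, TensorProduct.add_tmul, add_sub_add_comm]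
        exact Ideal.add_mem _ hx hy
      | tmul l a =>
        rw [delta_tmul]
        have h1 : (1 : A) ⊗ₜ[K] a - a ⊗ₜ[K] (1 : A) ∈
            (PrimeSpectrum.comap (Algebra.TensorProduct.lmul' K (S := A)).toRingHom x).asIdeal := by
          change Algebra.TensorProduct.lmul' K (S := A) ((1 : A) ⊗ₜ[K] a - a ⊗ₜ[K] (1 : A)) ∈ x.asIdeal
          simp
        rw [← hQx] at h1
        have h2 : iota K L A ((1 : A) ⊗ₜ[K] a - a ⊗ₜ[K] (1 : A)) ∈ Q.asIdeal := h1
        rw [← smul_one_mul]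
        exact Ideal.mul_mem_left _ _ h2
    have hεker : ε ∈ KaehlerDifferential.ideal L (L ⊗[K] A) := by
      change Algebra.TensorProduct.lmul' L (S := L ⊗[K] A) ε = 0
      rw [hε, map_mul, hδ, map_sub]
      simp
    exact hQ (hker hεker)
  refine ⟨1 - e₁, by rw [map_sub, hB, map_one, sub_zero], ?_⟩
  rw [map_sub, map_one]
  linear_combination (iota K L A e₁ - 1) * hδε + δ * hA

theorem mem_adjoin_of_mem_sepElt {b : L ⊗[K] A} (hb : b ∈ sepElt L (L ⊗[K] A)) :
    b ∈ Algebra.adjoin L ((Algebra.TensorProduct.includeRight : A →ₐ[K] L ⊗[K] A) '' (sepElt K A : Set A)) := by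
  obtain ⟨e, he1, he⟩ := exists_idempotent hb
  let β := Module.Free.chooseBasis K L
  let a := TensorProduct.equivFinsuppOfBasisLeft (N := A) β b
  have hb' : b = a.sum fun j y => β j ⊗ₜ[K] y := by
    rw [← TensorProduct.equivFinsuppOfBasisLeft_symm_apply, LinearEquiv.symm_apply_apply]
  have key : ∀ j, a j ∈ sepElt K A := by
    intro j
    refine ⟨e, he1, ?_⟩
    have h1 : (1 : L ⊗[K] A) ⊗ₜ[L] b - b ⊗ₜ[L] (1 : L ⊗[K] A) =
        ∑ i ∈ a.support, β i • iota K L A ((1 : A) ⊗ₜ[K] a i - a i ⊗ₜ[K] (1 : A)) := by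
      rw [hb', Finsupp.sum, TensorProduct.tmul_sum, TensorProduct.sum_tmul, ← Finset.sum_sub_distrib]
      exact Finset.sum_congr rfl fun i _ => delta_tmul _ _
    have h2 := congrArg (Phi K L A) he
    rw [h1, Finset.sum_mul, map_sum, map_zero] at h2
    have h3 : ∀ i, Phi K L A (β i • iota K L A ((1 : A) ⊗ₜ[K] a i - a i ⊗ₜ[K] (1 : A)) * iota K L A e) =
        β i ⊗ₜ[K] (((1 : A) ⊗ₜ[K] a i - a i ⊗ₜ[K] (1 : A)) * e) := by
      intro i
      rw [smul_mul_assoc, ← map_mul, map_smul, Phi_iota, TensorProduct.smul_tmul', smul_eq_mul, mul_one]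
    simp only [h3] at h2
    have h4 := congrArg (fun z => TensorProduct.equivFinsuppOfBasisLeft (N := A ⊗[K] A) β z j) h2
    simp only [map_sum, Finsupp.finsetSum_apply, map_zero, Finsupp.coe_zero, Pi.zero_apply,
      TensorProduct.equivFinsuppOfBasisLeft_apply_tmul_apply, Module.Basis.repr_self] at h4
    rw [Finset.sum_eq_single j] at h4
    · simpa using h4
    · intro i _ hij
      simp [hij]
    · intro hj
      simp only [Finsupp.notMem_support_iff] at hj
      simp [hj]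
  rw [hb', Finsupp.sum]
  apply Subalgebra.sum_mem
  intro i _
  have : β i ⊗ₜ[K] a i = β i • ((1 : L) ⊗ₜ[K] a i) := by
    rw [TensorProduct.smul_tmul', smul_eq_mul, mul_one]
  rw [this]
  apply Subalgebra.smul_mem
  exact Algebra.subset_adjoin ⟨a i, key i, rfl⟩

theorem includeRight_mem_sepElt {a : A} (ha : a ∈ sepElt K A) :
    (Algebra.TensorProduct.includeRight : A →ₐ[K] L ⊗[K] A) a ∈ sepElt L (L ⊗[K] A) := by
  obtain ⟨e, he1, he⟩ := ha
  refine ⟨iota K L A e, ?_, ?_⟩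
  · have : ((Algebra.TensorProduct.lmul' L (S := L ⊗[K] A)).toRingHom.comp (iota K L A)) =
      (Algebra.TensorProduct.includeRight : A →ₐ[K] L ⊗[K] A).toRingHom.comp
        (Algebra.TensorProduct.lmul' K (S := A)).toRingHom := by
      apply RingHom.ext
      intro x
      induction x with
      | zero => simp
      | add x y hx hy => rw [map_add, hx, hy, map_add]
      | tmul x y =>
        change Algebra.TensorProduct.lmul' L (S := L ⊗[K] A) (iota K L A (x ⊗ₜ y)) = 1 ⊗ₜ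
          (Algebra.TensorProduct.lmul' K (S := A) (x ⊗ₜ y))
        rw [iota_tmul]
        simp
    have h := DFunLike.congr_fun this e
    change Algebra.TensorProduct.lmul' L (S := L ⊗[K] A) (iota K L A e) = 1 ⊗ₜ
          (Algebra.TensorProduct.lmul' K (S := A) e) at h
    rw [h, he1]
    rfl
  · change ((1 : L ⊗[K] A) ⊗ₜ[L] ((1 : L) ⊗ₜ[K] a) - ((1 : L) ⊗ₜ[K] a) ⊗ₜ[L] (1 : L ⊗[K] A)) * _ = 0
    rw [delta_tmul, one_smul, ← map_mul, he, map_zero]

/-- Separable elements of `L ⊗ A` are the `L`-span of the separable elements of `A`. -/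
theorem sepElt_baseChange : sepElt L (L ⊗[K] A) =
    Algebra.adjoin L ((Algebra.TensorProduct.includeRight : A →ₐ[K] L ⊗[K] A) '' (sepElt K A : Set A)) := by
  apply le_antisymm
  · intro b hb
    exact mem_adjoin_of_mem_sepElt hb
  · rw [Algebra.adjoin_le_iff]
    rintro _ ⟨a, ha, rfl⟩
    exact includeRight_mem_sepElt ha

end Groth.Agent.Etalg.SepBaseChange
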