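import Groth.Agent.Etalg.ResInd
import Mathlib.FieldTheory.SeparablyGenerated
import Mathlib.FieldTheory.AlgebraicClosure
import Mathlib.FieldTheory.SeparableClosure
import Mathlib.FieldTheory.IsAlgClosed.Basic
import Mathlib.Algebra.Polynomial.Lifts

/-!
# A separating transcendence basis after a finite extension
-/

set_option autoImplicit false
universe u v

open Groth.Agent.Etalg.ResInd IntermediateField Polynomial

namespace Groth.Agent.Etalg.SepBasisFin

variable {K Ω : Type u} [Field K] [Field Ω] [Algebra K Ω]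

/-- Descent of separability: a separable polynomial over `Ω` with coefficients in `F` and root `x`. -/
theorem isSeparable_of_poly (F : IntermediateField K Ω) (P : Ω[X]) (hP : P.Separable)
    (hPF : ∀ n, P.coeff n ∈ F) (x : Ω) (hx : P.eval x = 0) : IsSeparable F x := by
  obtain ⟨q, hq⟩ := (lifts_iff_coeff_lifts (f := algebraMap F Ω) P).2 (fun n => ⟨⟨_, hPF n⟩, rfl⟩)
  change q.map (algebraMap F Ω) = P at hq
  have hqs : q.Separable := by
    rw [← hq] at hP
    exact (separable_map _).1 hP
  refine Polynomial.Separable.of_dvd hqs (minpoly.dvd _ _ ?_)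
  rw [aeval_def, ← eval_map, hq, hx]

theorem exists_sep [IsAlgClosed Ω] (T : Finset Ω) :
    ∃ (r : ℕ) (z : Fin r → Ω) (E₀ : IntermediateField K Ω), FiniteDimensional K E₀ ∧
      (∀ i, z i ∈ adjoin K (T : Set Ω) ⊔ E₀) ∧ AlgebraicIndependent (algebraicClosure K Ω) z ∧
      ∀ E : IntermediateField K Ω, E₀ ≤ E → ∀ x ∈ adjoin K (T : Set Ω),
        IsSeparable (adjoin K (Set.range z) ⊔ E : IntermediateField K Ω) x := by
  classical
  let Kb := algebraicClosure K Ω
  have hKb : IsAlgClosed Kb := IsAlgClosure.isAlgClosed K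
  have hperf : PerfectField Kb := inferInstance
  let M := adjoin Kb (T : Set Ω)
  have hM : Algebra.EssFiniteType Kb M := essFiniteType_iff.2 (fg_adjoin_finset T)
  obtain ⟨s, hs, hsep⟩ := exists_isTranscendenceBasis_and_isSeparable_of_perfectField Kb M
  let e := s.equivFin
  let z : Fin s.card → Ω := fun i => ((e.symm i : M) : Ω)
  have hrange : Set.range z = (M.val '' (s : Set M)) := by
    ext y
    constructor
    · rintro ⟨i, rfl⟩
      exact ⟨_, (e.symm i).2, rfl⟩
    · rintro ⟨y, hy, rfl⟩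
      exact ⟨e ⟨y, hy⟩, by simp [z]⟩
  have hz : AlgebraicIndependent Kb z := by
    have h1 : AlgebraicIndependent Kb (fun i : s => M.val (i : M)) := hs.1.map' (f := M.val) M.val.injective
    exact h1.comp e.symm e.symm.injective
  -- elements of `M` lie in `adjoin K T ⊔ Kb`
  have hMle : ∀ y : M, (y : Ω) ∈ adjoin K (T : Set Ω) ⊔ Kb := by
    intro y
    have : (y : Ω) ∈ (adjoin Kb (T : Set Ω)).restrictScalars K := y.2
    rw [restrictScalars_adjoin_eq_sup, sup_comm] at this
    exact this
  -- elements of `adjoin Kb s` lie in `adjoin K (range z) ⊔ Kb`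
  have hNle : ∀ y : adjoin Kb (s : Set M), ((y : M) : Ω) ∈ adjoin K (Set.range z) ⊔ Kb := by
    intro y
    have h1 : M.val (y : M) ∈ (adjoin Kb (s : Set M)).map M.val := ⟨y, y.2, rfl⟩
    rw [adjoin_map, ← hrange] at h1
    have h2 : ((y : M) : Ω) ∈ (adjoin Kb (Set.range z)).restrictScalars K := h1
    rw [restrictScalars_adjoin_eq_sup, sup_comm] at h2
    exact h2
  -- separable polynomials
  have hTM : ∀ x ∈ T, x ∈ M := fun x hx => subset_adjoin _ _ hx
  have hpoly : ∀ x ∈ T, ∃ P : Ω[X], P.Separable ∧ P.eval x = 0 ∧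
      ∀ n, P.coeff n ∈ adjoin K (Set.range z) ⊔ Kb := by
    intro x hx
    have h1 : IsSeparable (adjoin Kb (s : Set M)) (⟨x, hTM x hx⟩ : M) := Algebra.IsSeparable.isSeparable _ _
    let N := adjoin Kb (s : Set M)
    let φ : N →+* Ω := (algebraMap M Ω).comp (algebraMap N M)
    refine ⟨(minpoly N (⟨x, hTM x hx⟩ : M)).map φ, ?_, ?_, ?_⟩
    · exact (separable_map _).2 h1
    · rw [eval_map]
      have h2 := minpoly.aeval N (⟨x, hTM x hx⟩ : M)
      rw [aeval_def] at h2
      have h3 := congrArg (algebraMap M Ω) h2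
      rw [hom_eval₂, map_zero] at h3
      exact h3
    · intro n
      rw [coeff_map]
      exact hNle _
  choose! P hPs hPx hPc using hpoly
  -- finite sets
  obtain ⟨T₁, hT₁, hT₁'⟩ := exists_finset_of_finset_subset_sup (adjoin K (T : Set Ω)) Kb
    (Finset.univ.image z) (by
      intro y hy
      obtain ⟨i, -, rfl⟩ := Finset.mem_image.1 (Finset.mem_coe.1 hy)
      exact hMle _)
  obtain ⟨T₂, hT₂, hT₂'⟩ := exists_finset_of_finset_subset_sup (adjoin K (Set.range z)) Kb
    (T.biUnion fun x => (P x).support.image (P x).coeff) (by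
      intro y hy
      obtain ⟨x, hx, hy⟩ := Finset.mem_biUnion.1 (Finset.mem_coe.1 hy)
      obtain ⟨n, -, rfl⟩ := Finset.mem_image.1 hy
      exact hPc x hx n)
  let E₀ := adjoin K ((T₁ ∪ T₂ : Finset Ω) : Set Ω)
  have hsub : ((T₁ ∪ T₂ : Finset Ω) : Set Ω) ⊆ E₀ := subset_adjoin _ _
  have hT₁E : (T₁ : Set Ω) ⊆ E₀ := fun y hy => hsub (by simp [show y ∈ T₁ from hy])
  have hT₂E : (T₂ : Set Ω) ⊆ E₀ := fun y hy => hsub (by simp [show y ∈ T₂ from hy])
  refine ⟨s.card, z, E₀, ?_, ?_, hz, ?_⟩
  · refine finiteDimensional_adjoin_finset _ fun x hx => ?_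
    have : x ∈ Kb := by
      rcases Finset.mem_union.1 hx with h | h
      · exact hT₁ h
      · exact hT₂ h
    exact mem_algebraicClosure_iff.1 this
  · intro i
    exact hT₁' E₀ hT₁E (by simp)
  · intro E hE x hx
    let F : IntermediateField K Ω := adjoin K (Set.range z) ⊔ E
    have hTsep : ∀ x ∈ T, IsSeparable F x := by
      intro x hx
      refine isSeparable_of_poly F (P x) (hPs x hx) (fun n => ?_) x (hPx x hx)
      by_cases hn : n ∈ (P x).support
      · exact hT₂' E (hT₂E.trans hE)
          (Finset.mem_coe.2 (Finset.mem_biUnion.2 ⟨x, hx, Finset.mem_image_of_mem _ hn⟩))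
      · rw [notMem_support_iff.1 hn]
        exact F.zero_mem
    have hsepF : Algebra.IsSeparable F (adjoin F (T : Set Ω)) :=
      (isSeparable_adjoin_iff_isSeparable _ _).2 (fun x hx => hTsep x hx)
    have hxF : x ∈ adjoin F (T : Set Ω) := by
      have h1 : adjoin K (T : Set Ω) ≤ (adjoin F (T : Set Ω)).restrictScalars K := by
        rw [adjoin_le_iff]
        exact subset_adjoin F (T : Set Ω)
      exact h1 hx
    have h2 : IsSeparable F (⟨x, hxF⟩ : adjoin F (T : Set Ω)) := Algebra.IsSeparable.isSeparable _ _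
    rw [IsSeparable] at h2 ⊢
    rwa [← minpoly.algebraMap_eq (algebraMap (adjoin F (T : Set Ω)) Ω).injective] at h2

end Groth.Agent.Etalg.SepBasisFin
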