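import Mathlib.RingTheory.KrullDimension.Regular
import Mathlib.RingTheory.Ideal.KrullsHeightTheorem
import Mathlib.RingTheory.Length
import Mathlib.RingTheory.Support

/-!
# Counting primes of given coheight by the length of a quotient by parameters

Main result `card_le_length`: `S` Noetherian local, `B` an ideal, `gs` a list of elements of the maximal
ideal such that `B + (gs)` contains a power of the maximal ideal.  Then any finite set of pairwise
incomparable primes `q ⊇ B` with `dim S/q ≥ gs.length` has at most `length (S/(B + (gs)))` elements.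
-/

set_option autoImplicit false

namespace Groth.Agent.Etalg.SepChain

open IsLocalRing
open scoped Pointwise

universe u

variable {S : Type u} [CommRing S]

/-- The ideal `q` separates `I ≤ J` (`J_q ⊄ I_q`). -/
def Sep (q I J : Ideal S) : Prop := ∃ x ∈ J, ∀ a, a * x ∈ I → a ∈ q

lemma Sep.le {q I J : Ideal S} (h : Sep q I J) : I ≤ q := by
  obtain ⟨x, -, hx⟩ := h
  exact fun a ha => hx a (I.mul_mem_right x ha)

lemma Sep.not_le {q I J : Ideal S} (hq : q ≠ ⊤) (h : Sep q I J) : ¬ J ≤ I := by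
  obtain ⟨x, hxJ, hx⟩ := h
  intro hJI
  exact hq ((Ideal.eq_top_iff_one q).mpr (hx 1 (by simpa using hJI hxJ)))

/-- Nakayama: if `q ≤ p` separates `I ≤ J` and `g ∈ p` then `p` separates `I + gJ ≤ J`. -/
lemma Sep.nakayama [IsNoetherianRing S] {q p I J : Ideal S} [hq : q.IsPrime] [hp : p.IsPrime]
    (hqp : q ≤ p) {g : S} (hg : g ∈ p) (h : Sep q I J) :
    Sep p (I ⊔ Ideal.span {g} * J) J := by
  obtain ⟨x, hxJ, hx⟩ := h
  let N := ↥J ⧸ (I.submoduleOf J)
  have hqs : (⟨q, hq⟩ : PrimeSpectrum S) ∈ Module.support S N := by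
    rw [Module.mem_support_iff_exists_annihilator]
    refine ⟨Submodule.Quotient.mk (⟨x, hxJ⟩ : J), ?_⟩
    intro a ha
    rw [Submodule.mem_annihilator_span_singleton, ← Submodule.Quotient.mk_smul,
      Submodule.Quotient.mk_eq_zero] at ha
    exact hx a ha
  have hps : (⟨p, hp⟩ : PrimeSpectrum S) ∈ Module.support S N := Module.mem_support_mono hqp hqs
  have hps' : (⟨p, hp⟩ : PrimeSpectrum S) ∈
      Module.support S (N ⧸ (Ideal.span {g} • (⊤ : Submodule S N))) := by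
    rw [Module.support_quotient]
    refine ⟨hps, ?_⟩
    rw [PrimeSpectrum.mem_zeroLocus]
    exact (Ideal.span_singleton_le_iff_mem p).mpr hg
  rw [Module.mem_support_iff_exists_annihilator] at hps'
  obtain ⟨m, hm⟩ := hps'
  obtain ⟨m', rfl⟩ := Submodule.Quotient.mk_surjective _ m
  obtain ⟨y, rfl⟩ := Submodule.Quotient.mk_surjective _ m'
  refine ⟨y.1, y.2, fun a ha => hm ?_⟩
  rw [Submodule.mem_annihilator_span_singleton, ← Submodule.Quotient.mk_smul,
    Submodule.Quotient.mk_eq_zero, ← Submodule.Quotient.mk_smul]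
  obtain ⟨i, hi, z, hz, hiz⟩ := Submodule.mem_sup.mp ha
  rw [Ideal.mem_span_singleton_mul] at hz
  obtain ⟨w, hw, rfl⟩ := hz
  have : (Submodule.Quotient.mk (a • y) : N) = g • (Submodule.Quotient.mk (⟨w, hw⟩ : J) : N) := by
    rw [← Submodule.Quotient.mk_smul, Submodule.Quotient.eq]
    change a * y.1 - g * w ∈ I
    rw [← hiz]
    simpa using hi
  rw [this]
  exact Submodule.smul_mem_smul (Ideal.mem_span_singleton_self g) Submodule.mem_top

/-- Saturation of an ideal with respect to a set of primes. -/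
def sat (Q : Set (PrimeSpectrum S)) (I : Ideal S) : Ideal S where
  carrier := {a | ∀ q ∈ Q, ∃ s, s ∉ q.asIdeal ∧ s * a ∈ I}
  add_mem' := by
    intro a b ha hb q hq
    obtain ⟨s, hs, hsa⟩ := ha q hq
    obtain ⟨t, ht, htb⟩ := hb q hq
    refine ⟨s * t, fun h => (q.2.mem_or_mem h).elim hs ht, ?_⟩
    have : s * t * (a + b) = t * (s * a) + s * (t * b) := by ring
    rw [this]
    exact I.add_mem (I.mul_mem_left _ hsa) (I.mul_mem_left _ htb)
  zero_mem' := by
    intro q hq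
    exact ⟨1, q.asIdeal.ne_top_iff_one.mp q.2.ne_top, by simp⟩
  smul_mem' := by
    intro c a ha q hq
    obtain ⟨s, hs, hsa⟩ := ha q hq
    refine ⟨s, hs, ?_⟩
    have : s * (c • a) = c * (s * a) := by simp only [smul_eq_mul]; ring
    rw [this]
    exact I.mul_mem_left _ hsa

lemma mem_sat {Q : Set (PrimeSpectrum S)} {I : Ideal S} {a : S} :
    a ∈ sat Q I ↔ ∀ q ∈ Q, ∃ s, s ∉ q.asIdeal ∧ s * a ∈ I := Iff.rfl

lemma le_sat (Q : Set (PrimeSpectrum S)) (I : Ideal S) : I ≤ sat Q I := fun a ha q _ =>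
  ⟨1, q.asIdeal.ne_top_iff_one.mp q.2.ne_top, by simpa using ha⟩

lemma sat_mono (Q : Set (PrimeSpectrum S)) {I J : Ideal S} (h : I ≤ J) : sat Q I ≤ sat Q J :=
  fun _ ha q hq => let ⟨s, hs, hsa⟩ := ha q hq; ⟨s, hs, h hsa⟩

lemma mem_sat_of_mul_mem {Q : Set (PrimeSpectrum S)} {I : Ideal S} {g a : S}
    (hg : ∀ q ∈ Q, g ∉ q.asIdeal) (h : g * a ∈ sat Q I) : a ∈ sat Q I := by
  intro q hq
  obtain ⟨s, hs, hsa⟩ := h q hq
  refine ⟨s * g, fun h => (q.2.mem_or_mem h).elim hs (hg q hq), ?_⟩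
  rwa [mul_assoc]

lemma Sep.sat {Q : Set (PrimeSpectrum S)} {q : PrimeSpectrum S} (hq : q ∈ Q) {I J : Ideal S}
    (h : Sep q.asIdeal I J) : Sep q.asIdeal (sat Q I) (sat Q J) := by
  obtain ⟨x, hxJ, hx⟩ := h
  refine ⟨x, le_sat Q J hxJ, fun a ha => ?_⟩
  obtain ⟨s, hs, hsa⟩ := ha q hq
  rw [← mul_assoc] at hsa
  exact (q.2.mem_or_mem (hx _ hsa)).resolve_left hs

/-- Krull: above a prime `q` with `dim S/q ≥ n+1` and an element `g` of the maximal ideal there is a
prime `p ∋ g` with `dim S/p ≥ n`. -/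
lemma exists_prime_above [IsNoetherianRing S] [IsLocalRing S] (q : Ideal S) [q.IsPrime] {g : S}
    (hg : g ∈ maximalIdeal S) {n : ℕ} (hn : ((n + 1 : ℕ) : WithBot ℕ∞) ≤ ringKrullDim (S ⧸ q)) :
    ∃ p : Ideal S, p.IsPrime ∧ q ≤ p ∧ g ∈ p ∧ ((n : ℕ) : WithBot ℕ∞) ≤ ringKrullDim (S ⧸ p) := by
  have h1 : ringKrullDim (S ⧸ q) ≤ ringKrullDim (S ⧸ (q ⊔ Ideal.span {g})) + 1 := by
    have h2 := Module.supportDim_le_supportDim_quotSMulTop_succ (R := S) (M := S ⧸ q) hg
    rw [Module.supportDim_quotient_eq_ringKrullDim] at h2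
    refine h2.trans ?_
    gcongr
    rw [← Module.supportDim_quotient_eq_ringKrullDim]
    let φ : S →ₗ[S] QuotSMulTop g (S ⧸ q) :=
      (Submodule.mkQ (g • (⊤ : Submodule S (S ⧸ q)))).comp (Submodule.mkQ q)
    have hφs : Function.Surjective φ :=
      (Submodule.mkQ_surjective (g • (⊤ : Submodule S (S ⧸ q)))).comp (Submodule.mkQ_surjective q)
    have hφk : (q ⊔ Ideal.span {g} : Ideal S) ≤ LinearMap.ker φ := by
      rw [sup_le_iff, Ideal.span_le, Set.singleton_subset_iff]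
      constructor
      · intro a ha
        rw [LinearMap.mem_ker]
        change Submodule.mkQ (g • (⊤ : Submodule S (S ⧸ q))) (Submodule.mkQ q a) = 0
        have : Submodule.mkQ q a = 0 := (Submodule.Quotient.mk_eq_zero q).mpr ha
        rw [this, map_zero]
      · change Submodule.mkQ (g • (⊤ : Submodule S (S ⧸ q))) (Submodule.mkQ q g) = 0
        rw [Submodule.mkQ_apply, Submodule.Quotient.mk_eq_zero]
        refine ⟨Submodule.mkQ q 1, trivial, ?_⟩
        change g • Submodule.mkQ q 1 = Submodule.mkQ q g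
        rw [← map_smul, smul_eq_mul, mul_one]
    refine Module.supportDim_le_of_surjective (Submodule.liftQ _ φ hφk) (fun y => ?_)
    obtain ⟨x, rfl⟩ := hφs y
    exact ⟨Submodule.mkQ _ x, Submodule.liftQ_apply _ φ x⟩
  have h3 : ((n : ℕ) : WithBot ℕ∞) ≤ ringKrullDim (S ⧸ (q ⊔ Ideal.span {g})) := by
    have h4 := hn.trans h1
    rw [Nat.cast_add, Nat.cast_one] at h4
    exact (ENat.WithBot.add_le_add_one_right_iff).mp h4
  rw [ringKrullDim_quotient] at h3
  obtain ⟨l, hl⟩ := Order.le_krullDim_iff.mp h3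
  have hlh : q ⊔ Ideal.span {g} ≤ l.head.1.asIdeal := l.head.2
  refine ⟨l.head.1.asIdeal, l.head.1.2, le_sup_left.trans hlh,
    (le_sup_right.trans hlh) (Ideal.mem_span_singleton_self g), ?_⟩
  rw [ringKrullDim_quotient, Order.le_krullDim_iff]
  exact ⟨⟨l.length, fun i => ⟨(l i).1, l.monotone (Fin.zero_le i)⟩, fun i => l.step i⟩, hl⟩

/-- One step: cutting down a separated chain by a parameter. -/
lemma step [IsNoetherianRing S] [IsLocalRing S] {B : Ideal S} {g : S} (hg : g ∈ maximalIdeal S)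
    {n : ℕ} (hn : ∀ q : PrimeSpectrum S, B ≤ q.asIdeal →
      ((n + 1 : ℕ) : WithBot ℕ∞) ≤ ringKrullDim (S ⧸ q.asIdeal) → g ∉ q.asIdeal)
    (I : ℕ → Ideal S) (hI : Antitone I) (hB : ∀ j, B ≤ I j) (L : ℕ)
    (hsep : ∀ j < L, ∃ q : PrimeSpectrum S,
      ((n + 1 : ℕ) : WithBot ℕ∞) ≤ ringKrullDim (S ⧸ q.asIdeal) ∧ Sep q.asIdeal (I (j + 1)) (I j)) :
    ∃ I' : ℕ → Ideal S, Antitone I' ∧ (∀ j, B ⊔ Ideal.span {g} ≤ I' j) ∧
      ∀ j < L, ∃ p : PrimeSpectrum S,
        ((n : ℕ) : WithBot ℕ∞) ≤ ringKrullDim (S ⧸ p.asIdeal) ∧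
          Sep p.asIdeal (I' (j + 1)) (I' j) := by
  set Q : Set (PrimeSpectrum S) :=
    {q | B ≤ q.asIdeal ∧ ((n + 1 : ℕ) : WithBot ℕ∞) ≤ ringKrullDim (S ⧸ q.asIdeal)} with hQ
  have hgQ : ∀ q ∈ Q, g ∉ q.asIdeal := fun q hq => hn q hq.1 hq.2
  refine ⟨fun j => sat Q (I j) ⊔ Ideal.span {g}, ?_, ?_, ?_⟩
  · intro i j hij
    exact sup_le_sup_right (sat_mono Q (hI hij)) _
  · intro j
    exact sup_le_sup_right ((hB j).trans (le_sat Q _)) _
  · intro j hj
    obtain ⟨q, hqn, hq⟩ := hsep j hj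
    have hqQ : q ∈ Q := ⟨(hB (j + 1)).trans hq.le, hqn⟩
    have hq' := hq.sat hqQ
    obtain ⟨p, hp, hqp, hgp, hpn⟩ := exists_prime_above q.asIdeal hg hqn
    refine ⟨⟨p, hp⟩, hpn, ?_⟩
    obtain ⟨x, hx, hxp⟩ := hq'.nakayama hqp hgp
    refine ⟨x, Ideal.mem_sup_left hx, fun a ha => hxp a ?_⟩
    obtain ⟨i, hi, z, hz, hiz⟩ := Submodule.mem_sup.mp ha
    obtain ⟨s, rfl⟩ := Ideal.mem_span_singleton'.mp hz
    have h5 : g * s ∈ sat Q (I j) := by
      have : g * s = a * x - i := by rw [← hiz]; ring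
      rw [this]
      exact Ideal.sub_mem _ (Ideal.mul_mem_left _ _ hx) (sat_mono Q (hI (Nat.le_succ j)) hi)
    have h6 : s ∈ sat Q (I j) := mem_sat_of_mul_mem hgQ h5
    rw [← hiz, mul_comm s g]
    exact Ideal.add_mem _ (Ideal.mem_sup_left hi)
      (Ideal.mem_sup_right (Ideal.mul_mem_mul (Ideal.mem_span_singleton_self g) h6))

/-- If `q + (gs)` contains a power of the maximal ideal, `dim S/q ≤ gs.length`. -/
lemma dim_quotient_le_length [IsNoetherianRing S] [IsLocalRing S] (q : Ideal S) [hq : q.IsPrime]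
    (gs : List S) (hgs : ∀ g ∈ gs, g ∈ maximalIdeal S)
    (hfin : ∃ k, maximalIdeal S ^ k ≤ q ⊔ Ideal.ofList gs) :
    ringKrullDim (S ⧸ q) ≤ (gs.length : WithBot ℕ∞) := by
  classical
  have hloc : IsLocalRing (S ⧸ q) := .of_surjective' (Ideal.Quotient.mk q)
    Ideal.Quotient.mk_surjective
  have hcomap : (maximalIdeal (S ⧸ q)).comap (Ideal.Quotient.mk q) = maximalIdeal S :=
    IsLocalRing.eq_maximalIdeal
      (Ideal.comap_isMaximal_of_surjective _ Ideal.Quotient.mk_surjective)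
  have hJs : ({x | x ∈ gs.map (Ideal.Quotient.mk q)} : Set (S ⧸ q)) ⊆ Ring.jacobson (S ⧸ q) := by
    intro x hx
    obtain ⟨g, hg, rfl⟩ := List.mem_map.mp hx
    have h1 : g ∈ (maximalIdeal (S ⧸ q)).comap (Ideal.Quotient.mk q) := hcomap ▸ hgs g hg
    rw [IsLocalRing.ringJacobson_eq_maximalIdeal]
    exact h1
  have h1 := ringKrullDim_le_ringKrullDim_quotient_add_encard _ hJs
  have h2 : ringKrullDim ((S ⧸ q) ⧸ Ideal.span {x | x ∈ gs.map (Ideal.Quotient.mk q)}) ≤ 0 := by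
    rw [ringKrullDim_quotient]
    have : Subsingleton (PrimeSpectrum.zeroLocus (R := S ⧸ q)
        (Ideal.span {x | x ∈ gs.map (Ideal.Quotient.mk q)})) := by
      have key : ∀ P : PrimeSpectrum.zeroLocus (R := S ⧸ q)
          (Ideal.span {x | x ∈ gs.map (Ideal.Quotient.mk q)}),
          P.1.asIdeal = maximalIdeal (S ⧸ q) := by
        intro P
        have hP : Ideal.span {x | x ∈ gs.map (Ideal.Quotient.mk q)} ≤ P.1.asIdeal := P.2
        obtain ⟨k, hk⟩ := hfin
        have h3 : maximalIdeal S ≤ P.1.asIdeal.comap (Ideal.Quotient.mk q) := by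
          have hpr : (P.1.asIdeal.comap (Ideal.Quotient.mk q)).IsPrime := Ideal.comap_isPrime _ _
          refine Ideal.IsPrime.le_of_pow_le (n := k) ?_
          refine hk.trans (sup_le ?_ ?_)
          · intro a ha
            rw [Ideal.mem_comap, Ideal.Quotient.eq_zero_iff_mem.mpr ha]
            exact Ideal.zero_mem _
          · rw [Ideal.ofList, Ideal.span_le]
            intro g hg
            exact hP (Ideal.subset_span (List.mem_map_of_mem hg))
        have h4 : (P.1.asIdeal.comap (Ideal.Quotient.mk q)) = maximalIdeal S :=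
          le_antisymm (IsLocalRing.le_maximalIdeal (Ideal.comap_isPrime _ _).ne_top) h3
        rw [← hcomap] at h4
        exact Ideal.comap_injective_of_surjective _ Ideal.Quotient.mk_surjective h4
      exact ⟨fun P P' => Subtype.ext (PrimeSpectrum.ext ((key P).trans (key P').symm))⟩
    exact Order.krullDim_nonpos_of_subsingleton
  have h3 : ({x | x ∈ gs.map (Ideal.Quotient.mk q)} : Set (S ⧸ q)).encard ≤ (gs.length : ℕ∞) := by
    have h4 : ({x | x ∈ gs.map (Ideal.Quotient.mk q)} : Set (S ⧸ q)) =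
        ((gs.map (Ideal.Quotient.mk q)).toFinset : Set (S ⧸ q)) := by
      ext x; simp
    rw [h4, Set.encard_coe_eq_coe_finsetCard]
    exact_mod_cast (List.toFinset_card_le _).trans (by simp)
  calc ringKrullDim (S ⧸ q) ≤ _ := h1
    _ ≤ 0 + ((gs.length : ℕ∞) : WithBot ℕ∞) := add_le_add h2 (WithBot.coe_le_coe.mpr h3)
    _ = _ := by simp

lemma chain_le_length {C : Ideal S} (I : ℕ → Ideal S) (hC : ∀ j, C ≤ I j) (L : ℕ)
    (hlt : ∀ j < L, I (j + 1) < I j) : (L : ℕ∞) ≤ Module.length S (S ⧸ C) := by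
  have h1 : ((L : ℕ) : WithBot ℕ∞) ≤ Order.krullDim (Submodule S (S ⧸ C)) := by
    rw [Order.le_krullDim_iff]
    let l : LTSeries (Set.Ici C) :=
      ⟨L, fun i => ⟨I (L - i), hC _⟩, fun i => by
        have hi := i.2
        have h2 := hlt (L - (i + 1)) (by omega)
        have h3 : L - (i + 1 : ℕ) + 1 = L - i := by omega
        rw [h3] at h2
        exact h2⟩
    exact ⟨l.map (Submodule.comapMkQRelIso C).symm (Submodule.comapMkQRelIso C).symm.strictMono, rfl⟩
  rw [← Module.coe_length] at h1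
  exact_mod_cast h1

lemma chain_bound [IsNoetherianRing S] [IsLocalRing S] (gs : List S) :
    ∀ (_ : ∀ g ∈ gs, g ∈ maximalIdeal S) (B : Ideal S)
    (_ : ∃ k, maximalIdeal S ^ k ≤ B ⊔ Ideal.ofList gs)
    (I : ℕ → Ideal S) (_ : Antitone I) (_ : ∀ j, B ≤ I j) (L : ℕ)
    (_ : ∀ j < L, ∃ q : PrimeSpectrum S,
      (gs.length : WithBot ℕ∞) ≤ ringKrullDim (S ⧸ q.asIdeal) ∧
        Sep q.asIdeal (I (j + 1)) (I j)),
    (L : ℕ∞) ≤ Module.length S (S ⧸ (B ⊔ Ideal.ofList gs)) := by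
  induction gs with
  | nil =>
    intro _ B _ I hI hB L hsep
    refine chain_le_length I (fun j => by simpa using hB j) L (fun j hj => ?_)
    obtain ⟨q, -, hq⟩ := hsep j hj
    exact lt_of_le_not_ge (hI (Nat.le_succ j)) (hq.not_le q.2.ne_top)
  | cons g gs ih =>
    intro hgs B hfin I hI hB L hsep
    have hg : g ∈ maximalIdeal S := hgs g (by simp)
    have hgs' : ∀ g ∈ gs, g ∈ maximalIdeal S := fun x hx => hgs x (by simp [hx])
    have heq : B ⊔ Ideal.ofList (g :: gs) = (B ⊔ Ideal.span {g}) ⊔ Ideal.ofList gs := by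
      rw [Ideal.ofList_cons, sup_assoc]
    rw [heq] at hfin ⊢
    have hn : ∀ q : PrimeSpectrum S, B ≤ q.asIdeal →
        ((gs.length + 1 : ℕ) : WithBot ℕ∞) ≤ ringKrullDim (S ⧸ q.asIdeal) → g ∉ q.asIdeal := by
      intro q hBq hq hgq
      obtain ⟨k, hk⟩ := hfin
      have h1 := dim_quotient_le_length q.asIdeal gs hgs' ⟨k, hk.trans (sup_le_sup_right
        (sup_le hBq ((Ideal.span_singleton_le_iff_mem _).mpr hgq)) _)⟩
      have h2 := hq.trans h1
      have h3 : gs.length + 1 ≤ gs.length := by exact_mod_cast h2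
      omega
    obtain ⟨I', hI', hB', hsep'⟩ := step hg hn I hI hB L (by simpa using hsep)
    exact ih hgs' _ hfin I' hI' hB' L hsep'

/-- The number of pairwise incomparable primes `q ⊇ B` with `dim S/q ≥ gs.length` is at most
`length (S/(B + (gs)))`, when `B + (gs)` contains a power of the maximal ideal. -/
theorem card_le_length [IsNoetherianRing S] [IsLocalRing S] (gs : List S)
    (hgs : ∀ g ∈ gs, g ∈ maximalIdeal S) (B : Ideal S)
    (hfin : ∃ k, maximalIdeal S ^ k ≤ B ⊔ Ideal.ofList gs) (T : Finset (PrimeSpectrum S))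
    (hTB : ∀ q ∈ T, B ≤ q.asIdeal)
    (hTd : ∀ q ∈ T, (gs.length : WithBot ℕ∞) ≤ ringKrullDim (S ⧸ q.asIdeal))
    (hinc : ∀ q ∈ T, ∀ q' ∈ T, q ≤ q' → q = q') :
    (T.card : ℕ∞) ≤ Module.length S (S ⧸ (B ⊔ Ideal.ofList gs)) := by
  classical
  let t := T.equivFin.symm
  let I : ℕ → Ideal S := fun j =>
    (Finset.univ.filter (fun i : Fin T.card => (i : ℕ) < j)).inf (fun i => (t i).1.asIdeal)
  refine chain_bound gs hgs B hfin I ?_ ?_ T.card ?_
  · intro i j hij
    refine Finset.inf_mono ?_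
    intro x hx
    simp only [Finset.mem_filter, Finset.mem_univ, true_and] at hx ⊢
    omega
  · intro j
    exact Finset.le_inf fun i _ => hTB _ (t i).2
  · intro j hj
    refine ⟨(t ⟨j, hj⟩).1, hTd _ (t ⟨j, hj⟩).2, ?_⟩
    have hnot : ¬ I j ≤ (t ⟨j, hj⟩).1.asIdeal := by
      intro hle
      obtain ⟨i, hi, hle'⟩ := (Ideal.IsPrime.inf_le' (t ⟨j, hj⟩).1.2).mp hle
      simp only [Finset.mem_filter, Finset.mem_univ, true_and] at hi
      have h1 := hinc _ (t i).2 _ (t ⟨j, hj⟩).2 hle'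
      have h2 : i = ⟨j, hj⟩ := t.injective (Subtype.ext h1)
      rw [h2] at hi
      exact lt_irrefl _ hi
    obtain ⟨x, hx, hxn⟩ := SetLike.not_le_iff_exists.mp hnot
    refine ⟨x, hx, fun a ha => ?_⟩
    have h3 : I (j + 1) ≤ (t ⟨j, hj⟩).1.asIdeal := Finset.inf_le (by simp)
    exact ((t ⟨j, hj⟩).1.2.mem_or_mem (h3 ha)).resolve_right hxn

end Groth.Agent.Etalg.SepChain
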