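import Mathlib.RingTheory.Unramified.Field
import Mathlib.RingTheory.Kaehler.Basic
import Mathlib.FieldTheory.IntermediateField.Adjoin.Algebra
import Mathlib.RingTheory.EssentialFiniteness

/-!
# Separability via derivations
-/

set_option autoImplicit false
universe u

open IntermediateField Polynomial KaehlerDifferential

namespace Groth.Agent.Etalg.SepDer

/-- a derivation killing the subfield `N` kills the elements separable over `N`. -/
theorem der_eq_zero {Q M : Type*} [Field Q] [AddCommGroup M] [Module Q M] {k : Type*} [CommRing k] [Algebra k Q]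
    [Module k M] (D : Derivation k Q M) {N : Type*} [Field N] [Algebra N Q]
    (hN : ∀ n : N, D (algebraMap N Q n) = 0) (x : Q) (hx : IsSeparable N x) : D x = 0 := by
  let _ : Module N M := Module.compHom M (algebraMap N Q)
  have hst : IsScalarTower N Q M := ⟨fun n q m => by rw [Algebra.smul_def, mul_smul]; rfl⟩
  let D' : Derivation N Q M :=
    { toFun := D
      map_add' := D.map_add
      map_smul' := fun n y => by
        show D (n • y) = n • D y
        rw [Algebra.smul_def, D.leibniz, hN, smul_zero, add_zero]; rfl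
      map_one_eq_zero' := D.map_one_eq_zero
      leibniz' := D.leibniz }
  have h1 := D'.map_aeval (minpoly N x) x
  rw [minpoly.aeval, map_zero] at h1
  have h2 : aeval x (derivative (minpoly N x)) ≠ 0 := Separable.aeval_derivative_ne_zero hx (minpoly.aeval N x)
  exact (smul_eq_zero.1 h1.symm).resolve_left h2

variable {K Ω : Type u} [Field K] [Field Ω] [Algebra K Ω]

theorem isSeparable_of_pow (p : ℕ) [CharP Ω p] (F E' : IntermediateField K Ω)
    (hE'F : E' ≤ F) (T : Finset Ω) {ι : Type*} (z : ι → Ω) (hz : ∀ i, z i ∈ F ⊔ adjoin K (T : Set Ω))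
    (hwz : ∀ i, ∃ c ∈ F, c ≠ 0 ∧ ∃ y ∈ F ⊔ adjoin K (T : Set Ω), c * z i + y ^ p ∈ F)
    (hsep : ∀ x ∈ T, IsSeparable (adjoin K (Set.range z) ⊔ E' : IntermediateField K Ω) x) (x : Ω) (hx : x ∈ T) :
    IsSeparable F x := by
  let Q : IntermediateField F Ω := adjoin F (T : Set Ω)
  have hmemQ : ∀ y : Ω, y ∈ Q ↔ y ∈ F ⊔ adjoin K (T : Set Ω) := by
    intro y
    rw [← restrictScalars_adjoin_eq_sup, mem_restrictScalars]
  have hess : Algebra.EssFiniteType F Q := essFiniteType_iff.2 (fg_adjoin_finset T)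
  have hcharQ : CharP Q p := (algebraMap Q Ω).charP (algebraMap Q Ω).injective p
  let D := KaehlerDifferential.D F Q
  let C : IntermediateField F Ω :=
    { carrier := {y | ∃ h : y ∈ Q, D ⟨y, h⟩ = 0}
      mul_mem' := by
        rintro a b ⟨ha, ha'⟩ ⟨hb, hb'⟩
        refine ⟨mul_mem ha hb, ?_⟩
        have : (⟨a * b, mul_mem ha hb⟩ : Q) = ⟨a, ha⟩ * ⟨b, hb⟩ := rfl
        rw [this, D.leibniz, ha', hb', smul_zero, smul_zero, add_zero]
      add_mem' := by
        rintro a b ⟨ha, ha'⟩ ⟨hb, hb'⟩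
        refine ⟨add_mem ha hb, ?_⟩
        have : (⟨a + b, add_mem ha hb⟩ : Q) = ⟨a, ha⟩ + ⟨b, hb⟩ := rfl
        rw [this, map_add, ha', hb', add_zero]
      algebraMap_mem' := fun r => ⟨Q.algebraMap_mem r, D.map_algebraMap r⟩
      inv_mem' := by
        rintro a ⟨ha, ha'⟩
        refine ⟨inv_mem ha, ?_⟩
        have : (⟨a⁻¹, inv_mem ha⟩ : Q) = (⟨a, ha⟩ : Q)⁻¹ := rfl
        rw [this, Derivation.leibniz_inv, ha', smul_zero] }
  have hzC : ∀ i, z i ∈ C := by
    intro i
    obtain ⟨c, hc, hc0, y, hy, hw⟩ := hwz i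
    have hzQ : z i ∈ Q := (hmemQ _).2 (hz i)
    have hyQ : y ∈ Q := (hmemQ _).2 hy
    refine ⟨hzQ, ?_⟩
    have h1 : D (algebraMap F Q ⟨_, hw⟩) = 0 := D.map_algebraMap _
    have h2 : algebraMap F Q ⟨_, hw⟩ = (⟨c, hc⟩ : F) • (⟨z i, hzQ⟩ : Q) + (⟨y, hyQ⟩ : Q) ^ p := rfl
    have hp0 : ((p : ℕ) : Q) = 0 := CharP.cast_eq_zero Q p
    rw [h2, map_add, D.map_smul, D.leibniz_pow, ← Nat.cast_smul_eq_nsmul Q, hp0, zero_smul, add_zero] at h1
    have h3 : (⟨c, hc⟩ : F) ≠ 0 := fun h => hc0 (congrArg Subtype.val h)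
    have h4 : (algebraMap F Q ⟨c, hc⟩) • D ⟨z i, hzQ⟩ = 0 := by
      rw [algebraMap_smul]; exact h1
    have h5 : algebraMap F Q ⟨c, hc⟩ ≠ 0 := fun h => h3 ((map_eq_zero _).1 h)
    exact (smul_eq_zero.1 h4).resolve_left h5
  let N : IntermediateField K Ω := adjoin K (Set.range z) ⊔ E'
  have hNC : ∀ n ∈ N, n ∈ C := by
    have h1 : N ≤ C.restrictScalars K := by
      refine sup_le (adjoin_le_iff.2 ?_) ?_
      · rintro _ ⟨i, rfl⟩
        exact hzC i
      · intro y hy
        exact C.algebraMap_mem ⟨y, hE'F hy⟩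
    exact fun n hn => h1 hn
  have hTC : ∀ y ∈ T, y ∈ C := by
    intro y hy
    have hyQ : y ∈ Q := subset_adjoin _ _ hy
    refine ⟨hyQ, ?_⟩
    let algNQ : Algebra N Q := RingHom.toAlgebra
      { toFun := fun n => ⟨n, (hNC n n.2).1⟩
        map_one' := rfl
        map_mul' := fun _ _ => rfl
        map_zero' := rfl
        map_add' := fun _ _ => rfl }
    have tow : IsScalarTower N Q Ω := IsScalarTower.of_algebraMap_eq fun _ => rfl
    refine der_eq_zero D (N := N) (fun n => (hNC n n.2).2) ⟨y, hyQ⟩ ?_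
    have h5 : IsSeparable N y := hsep y hy
    have h6 : minpoly N (⟨y, hyQ⟩ : Q) = minpoly N y :=
      (minpoly.algebraMap_eq (A := N) (B := Q) (B' := Ω) (algebraMap Q Ω).injective ⟨y, hyQ⟩).symm
    unfold IsSeparable at h5 ⊢
    rw [h6]
    exact h5
  have hQC : ∀ q : Q, D q = 0 := by
    intro q
    have : Q ≤ C := adjoin_le_iff.2 hTC
    exact (this q.2).2
  have hunr : Algebra.FormallyUnramified F Q := by
    refine ⟨?_⟩
    rw [← Submodule.subsingleton_iff Q, ← subsingleton_iff_bot_eq_top, ← KaehlerDifferential.span_range_derivation,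
      eq_comm, Submodule.span_eq_bot]
    rintro _ ⟨q, rfl⟩
    exact hQC q
  have hsepQ : Algebra.IsSeparable F Q := Algebra.FormallyUnramified.isSeparable F Q
  have hxQ : x ∈ Q := subset_adjoin _ _ hx
  have h7 := Algebra.IsSeparable.isSeparable F (⟨x, hxQ⟩ : Q)
  unfold IsSeparable at h7 ⊢
  rwa [IntermediateField.minpoly_eq] at h7

end Groth.Agent.Etalg.SepDer
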