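import Groth.Prelude.Def_EtRam
import Groth.Agent.Etalg.RamBasic
import Mathlib.FieldTheory.Galois.Basic
import Mathlib.FieldTheory.Normal.Closure
import Mathlib.RingTheory.EssentialFiniteness
import Mathlib.RingTheory.Unramified.Field
import Mathlib.RingTheory.Unramified.Finite
import Mathlib.FieldTheory.IsSepClosed

set_option autoImplicit false
universe u

/-! Normal closures are solutions (for finite separable extensions of fraction fields). -/

namespace Groth.Agent.Etalg.SepSol

open IsLocalRing TensorProduct

/-- If `K₃/K` is normal and `L'` embeds into `K₃`, then every `K`-embedding of `L'` into an extension `M` of `K₃`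
lands in `K₃`. -/
theorem mem_range_of_normal {K L' K₃ M : Type*} [Field K] [Field L'] [Field K₃] [Field M] [Algebra K L']
    [Algebra K K₃] [Algebra K M] [Normal K K₃] (ι : L' →ₐ[K] K₃) (f : K₃ →ₐ[K] M) (g : L' →ₐ[K] M) (l : L') :
    ∃ y, f y = g l := by
  have hsp := Normal.splits (inferInstance : Normal K K₃) (ι l)
  have hint : IsIntegral K (ι l) := Normal.isIntegral inferInstance _
  have h0 : (minpoly K (ι l)).map (algebraMap K K₃) ≠ 0 :=
    Polynomial.map_ne_zero (minpoly.ne_zero hint)
  have h1 := hsp.mem_range_of_isRoot h0 (i := f.toRingHom) (x := g l) (by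
    rw [Polynomial.IsRoot.def, Polynomial.map_map]
    have h2 : f.toRingHom.comp (algebraMap K K₃) = algebraMap K M := f.comp_algebraMap
    rw [h2, Polynomial.eval_map, ← Polynomial.aeval_def, minpoly.algHom_eq ι ι.injective,
      ← minpoly.algHom_eq g g.injective, minpoly.aeval])
  obtain ⟨y, hy⟩ := h1
  exact ⟨y, hy⟩

theorem isGeometricallyReduced_of_surjective (k k' : Type*) [Field k] [Field k'] [Algebra k k']
    (h : Function.Surjective (algebraMap k k')) : Algebra.IsGeometricallyReduced k k' := by
  rw [Algebra.isGeometricallyReduced_field_iff]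
  let e : k ≃ₐ[k] k' := AlgEquiv.ofBijective (Algebra.ofId k k') ⟨(algebraMap k k').injective, h⟩
  exact isReduced_of_injective ((Algebra.TensorProduct.congr (AlgEquiv.refl (A₁ := AlgebraicClosure k)) e.symm).trans
    (Algebra.TensorProduct.rid k k (AlgebraicClosure k))) (AlgEquiv.injective _)

/-- the solution property for surjective field maps -/
theorem of_surjective {K₁ M : Type u} [Field K₁] [Field M] (W : ValuationSubring M) (f : K₁ →+* M)
    (hf : Function.Surjective f) :
    letI : Algebra (W.comap f) W := (EtRam.inclOfComap W f).toAlgebra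
    EtRam.IsWeaklyUnramified (W.comap f) W ∧
      @Algebra.IsGeometricallyReduced (ResidueField (W.comap f)) (ResidueField W) _ _
        (ResidueField.map (EtRam.inclOfComap W f)).toAlgebra := by
  have hs : Function.Surjective (EtRam.inclOfComap W f) := by
    intro y
    obtain ⟨x, hx⟩ := hf y
    exact ⟨⟨x, by rw [ValuationSubring.mem_comap, hx]; exact y.2⟩, Subtype.ext hx⟩
  refine ⟨?_, ?_⟩
  · show Ideal.map (EtRam.inclOfComap W f) _ = _
    apply le_antisymm
    · rw [Ideal.map_le_iff_le_comap]
      intro y hy hu
      exact hy ((EtRam.isLocalHom_inclOfComap W f).map_nonunit y hu)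
    · intro y hy
      obtain ⟨x, rfl⟩ := hs y
      apply Ideal.mem_map_of_mem
      intro hu
      exact hy (hu.map _)
  · let _ : Algebra (ResidueField (W.comap f)) (ResidueField W) := (ResidueField.map (EtRam.inclOfComap W f)).toAlgebra
    apply isGeometricallyReduced_of_surjective
    intro z
    obtain ⟨y, rfl⟩ := residue_surjective z
    obtain ⟨x, rfl⟩ := hs y
    exact ⟨residue _ x, rfl⟩

/-- a normal extension containing `L` is a solution -/
theorem isSolution_of_normal {B K L K₃ : Type u} [CommRing B] [IsLocalRing B] [Field K] [Field L] [Field K₃]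
    [Algebra B L] [Algebra K L] [Algebra K K₃] [Normal K K₃] (ι : L →ₐ[K] K₃) : EtRam.IsSolution B K L K₃ := by
  intro M _ _ _ _ _ _ hadj W _
  apply of_surjective
  intro x
  have hle : Algebra.adjoin L (Set.range (algebraMap K₃ M)) ≤
      ({ (algebraMap K₃ M).range with
        algebraMap_mem' := fun l => by
          obtain ⟨y, hy⟩ := mem_range_of_normal ι (IsScalarTower.toAlgHom K K₃ M) (IsScalarTower.toAlgHom K L M) l
          exact ⟨y, hy⟩ } : Subalgebra L M) := by
    rw [Algebra.adjoin_le_iff]
    rintro _ ⟨y, rfl⟩
    exact ⟨y, rfl⟩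
  rw [hadj] at hle
  exact hle trivial

/-- essentially of finite type and separable algebraic => finite -/
theorem finite_of_essFiniteType {A B K L : Type u} [CommRing A] [CommRing B] [IsDomain B] [Algebra A B]
    [Field K] [Field L] [Algebra A K] [Algebra B L] [IsFractionRing B L]
    [Algebra K L] [Algebra A L] [IsScalarTower A K L] [IsScalarTower A B L] [Algebra.EssFiniteType A B]
    [Algebra.IsSeparable K L] : FiniteDimensional K L := by
  have h1 : Algebra.EssFiniteType B L := Algebra.EssFiniteType.of_isLocalization L (nonZeroDivisors B)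
  have h2 : Algebra.EssFiniteType A L := Algebra.EssFiniteType.comp A B L
  have h3 : Algebra.EssFiniteType K L := Algebra.EssFiniteType.of_comp A K L
  have h4 : Algebra.FormallyUnramified K L := Algebra.FormallyUnramified.of_isSeparable K L
  exact Algebra.FormallyUnramified.finite_of_free K L

/-- existence of a finite Galois extension containing a finite separable one (same universe) -/
theorem exists_galois (K L : Type u) [Field K] [Field L] [Algebra K L] [FiniteDimensional K L]
    [Algebra.IsSeparable K L] :
    ∃ (K₃ : Type u) (_ : Field K₃) (_ : Algebra K K₃) (_ : FiniteDimensional K K₃) (_ : Algebra.IsSeparable K K₃)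
      (_ : Normal K K₃), Nonempty (L →ₐ[K] K₃) := by
  have : IsScalarTower K L (SeparableClosure L) := inferInstance
  have hsep : Algebra.IsSeparable K (SeparableClosure L) := Algebra.IsSeparable.trans K L (SeparableClosure L)
  have hsc : IsSepClosure K (SeparableClosure L) := ⟨inferInstance, hsep⟩
  have hgal : IsGalois K (SeparableClosure L) := IsSepClosure.isGalois
  refine ⟨IntermediateField.normalClosure K L (SeparableClosure L), inferInstance, inferInstance, inferInstance, inferInstance,
    inferInstance, ⟨IsScalarTower.toAlgHom K L (IntermediateField.normalClosure K L (SeparableClosure L))⟩⟩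

end Groth.Agent.Etalg.SepSol
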