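import Groth.Agent.Etalg.DVRExt2
import Groth.Agent.Etalg.SepSol
import Groth.Agent.Etalg.SepSol2
import Groth.Agent.Etalg.RamTower

set_option autoImplicit false
universe u

/-! Existence of composita; the finite stage of S1986. -/

namespace Groth.Agent.Etalg.SepSol3

open IsLocalRing TensorProduct

/-- composita exist -/
theorem exists_compositum (K L K₂ : Type u) [Field K] [Field L] [Field K₂] [Algebra K L] [Algebra K K₂] :
    ∃ (M : Type u) (_ : Field M) (_ : Algebra K M) (_ : Algebra L M) (_ : Algebra K₂ M) (_ : IsScalarTower K L M)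
      (_ : IsScalarTower K K₂ M), Algebra.adjoin L (Set.range (algebraMap K₂ M)) = ⊤ := by
  have hnt : Nontrivial (L ⊗[K] K₂) :=
    (Algebra.TensorProduct.includeLeft_injective (S := K) (A := L) (B := K₂)
      (algebraMap K K₂).injective).nontrivial
  obtain ⟨m, hm⟩ := Ideal.exists_maximal (L ⊗[K] K₂)
  let M := (L ⊗[K] K₂) ⧸ m
  let _ : Field M := Ideal.Quotient.field m
  let _ : Algebra K₂ M := ((Ideal.Quotient.mk m).comp
    (Algebra.TensorProduct.includeRight : K₂ →ₐ[K] L ⊗[K] K₂).toRingHom).toAlgebra
  have hT : IsScalarTower K K₂ M := by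
    apply IsScalarTower.of_algebraMap_eq
    intro x
    show _ = Ideal.Quotient.mk m ((1 : L) ⊗ₜ[K] algebraMap K K₂ x)
    show Ideal.Quotient.mk m (algebraMap K (L ⊗[K] K₂) x) = _
    rw [Algebra.TensorProduct.algebraMap_apply, Algebra.algebraMap_eq_smul_one, smul_tmul,
      ← Algebra.algebraMap_eq_smul_one]
  refine ⟨M, inferInstance, inferInstance, inferInstance, inferInstance, inferInstance, hT, ?_⟩
  rw [eq_top_iff]
  intro x _
  obtain ⟨y, rfl⟩ := Ideal.Quotient.mk_surjective x
  induction y with
  | zero => rw [map_zero]; exact zero_mem _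
  | tmul l k =>
    have h1 : l ⊗ₜ[K] k = algebraMap L (L ⊗[K] K₂) l * ((1 : L) ⊗ₜ[K] k) := by
      rw [Algebra.TensorProduct.algebraMap_apply, Algebra.TensorProduct.tmul_mul_tmul]
      simp
    rw [h1, map_mul]
    apply mul_mem
    · exact Subalgebra.algebraMap_mem _ l
    · exact Algebra.subset_adjoin ⟨k, rfl⟩
  | add x y hx hy =>
    rw [map_add]
    exact add_mem (hx trivial) (hy trivial)

/-- transport of geometric reducedness between the two algebra structures on residue fields -/
theorem geomReduced_iff {R S : Type u} [CommRing R] [IsLocalRing R] [CommRing S] [IsLocalRing S] (φ : R →+* S)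
    [IsLocalHom φ] :
    letI : Algebra R S := φ.toAlgebra
    haveI : IsLocalHom (algebraMap R S) := (inferInstance : IsLocalHom φ)
    (@Algebra.IsGeometricallyReduced (ResidueField R) (ResidueField S) _ _ (ResidueField.map φ).toAlgebra ↔
      Algebra.IsGeometricallyReduced (ResidueField R) (ResidueField S)) := by
  let _ : Algebra R S := φ.toAlgebra
  have : IsLocalHom (algebraMap R S) := (inferInstance : IsLocalHom φ)
  have h : (ResidueField.map φ).toAlgebra = (inferInstance : Algebra (ResidueField R) (ResidueField S)) := by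
    apply Algebra.algebra_ext
    intro r
    obtain ⟨a, rfl⟩ := residue_surjective r
    rfl
  rw [h]

/-- From a solution `K₂` one finds a finite set such that every intermediate field containing it is a good stage. -/
theorem exists_stage (A K L : Type u) [CommRing A] [IsDomain A] [IsDiscreteValuationRing A]
    [Field K] [Field L] [Algebra A K] [IsFractionRing A K]
    [Algebra K L] [Algebra.IsAlgebraic K L] (V : ValuationSubring L) [IsDiscreteValuationRing V]
    (hdom : EtRam.Dominates A ((algebraMap K L).comp (algebraMap A K)) V)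
    (K₂ : Type u) [Field K₂] [Algebra K K₂] [FiniteDimensional K K₂] (h₂ : EtRam.IsSolution V K L K₂) :
    ∃ s : Finset L, ∀ L' : IntermediateField K L, (∀ b ∈ s, b ∈ L') →
      letI : Algebra (V.comap (algebraMap L' L)) V := (EtRam.inclOfComap V (algebraMap L' L)).toAlgebra
      haveI : IsLocalHom (algebraMap (V.comap (algebraMap L' L)) V) := EtRam.isLocalHom_inclOfComap V (algebraMap L' L)
      EtRam.IsWeaklyUnramified (V.comap (algebraMap L' L)) V ∧
        Algebra.IsGeometricallyReduced (ResidueField (V.comap (algebraMap L' L))) (ResidueField V) := by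
  classical
  obtain ⟨M, _, _, _, _, _, _, hadj⟩ := exists_compositum K L K₂
  obtain ⟨W, hW⟩ := RamBasic.exists_dominates ((algebraMap L M).comp (algebraMap V L))
  obtain ⟨-, hgr⟩ := h₂ M hadj W hW
  have halgM : Algebra.IsAlgebraic K M := by
    have hLM : Algebra.IsAlgebraic L M := by
      refine ⟨fun x => ?_⟩
      have hx : x ∈ Algebra.adjoin L (Set.range (algebraMap K₂ M)) := by rw [hadj]; trivial
      refine IsIntegral.isAlgebraic ?_
      refine Algebra.adjoin_le (S := integralClosure L M) ?_ hx
      rintro _ ⟨y, rfl⟩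
      exact ((Algebra.IsIntegral.isIntegral (R := K) y).map (IsScalarTower.toAlgHom K K₂ M)).tower_top
    exact Algebra.IsAlgebraic.trans K L M
  have hAW : EtRam.Dominates A ((algebraMap K M).comp (algebraMap A K)) W := by
    refine ⟨fun a => ?_, fun a ha => ?_⟩
    · have := hW.1 ⟨_, hdom.1 a⟩
      rw [RingHom.comp_apply, IsScalarTower.algebraMap_apply K L M]
      exact this
    · have h1 : (⟨_, hdom.1 a⟩ : V) ∈ maximalIdeal V := by
        rw [V.valuation_lt_one_iff]; exact hdom.2 a ha
      have := hW.2 _ h1
      rw [RingHom.comp_apply, IsScalarTower.algebraMap_apply K L M]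
      exact this
  let f₂ : K₂ →+* M := algebraMap K₂ M
  let V₂ : ValuationSubring K₂ := W.comap f₂
  have hAV₂ : EtRam.Dominates A ((algebraMap K K₂).comp (algebraMap A K)) V₂ := by
    rw [← RamBasic.dominates_comp_iff, ← RingHom.comp_assoc, ← IsScalarTower.algebraMap_eq K K₂ M]
    exact hAW
  -- algebra structures
  let _ : Algebra A L := ((algebraMap K L).comp (algebraMap A K)).toAlgebra
  have : IsScalarTower A K L := IsScalarTower.of_algebraMap_eq' rfl
  let _ : Algebra A K₂ := ((algebraMap K K₂).comp (algebraMap A K)).toAlgebra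
  have : IsScalarTower A K K₂ := IsScalarTower.of_algebraMap_eq' rfl
  let _ : Algebra A M := ((algebraMap K M).comp (algebraMap A K)).toAlgebra
  have : IsScalarTower A K M := IsScalarTower.of_algebraMap_eq' rfl
  let _ : Algebra A V := (RingHom.codRestrict ((algebraMap K L).comp (algebraMap A K)) V hdom.1).toAlgebra
  have : IsScalarTower A V L := IsScalarTower.of_algebraMap_eq' rfl
  let _ : Algebra A W := (RingHom.codRestrict ((algebraMap K M).comp (algebraMap A K)) W hAW.1).toAlgebra
  have : IsScalarTower A W M := IsScalarTower.of_algebraMap_eq' rfl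
  let _ : Algebra A V₂ := (RingHom.codRestrict ((algebraMap K K₂).comp (algebraMap A K)) V₂ hAV₂.1).toAlgebra
  have : IsScalarTower A V₂ K₂ := IsScalarTower.of_algebraMap_eq' rfl
  let _ : Algebra V W := (RingHom.codRestrict ((algebraMap L M).comp (algebraMap V L)) W hW.1).toAlgebra
  let _ : Algebra V₂ W := (EtRam.inclOfComap W f₂).toAlgebra
  have hl1 : IsLocalHom (algebraMap A V) := RamBasic.Dominates.isLocalHom hdom
  have hl2 : IsLocalHom (algebraMap A W) := RamBasic.Dominates.isLocalHom hAW
  have hl3 : IsLocalHom (algebraMap A V₂) := RamBasic.Dominates.isLocalHom hAV₂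
  have hl4 : IsLocalHom (algebraMap V W) := RamBasic.Dominates.isLocalHom hW
  have hl5 : IsLocalHom (algebraMap V₂ W) := EtRam.isLocalHom_inclOfComap W f₂
  have ht1 : IsScalarTower A V W := by
    apply IsScalarTower.of_algebraMap_eq
    intro a
    apply Subtype.ext
    show algebraMap K M (algebraMap A K a) = algebraMap L M (algebraMap K L (algebraMap A K a))
    rw [← IsScalarTower.algebraMap_apply K L M]
  have ht2 : IsScalarTower A V₂ W := by
    apply IsScalarTower.of_algebraMap_eq
    intro a
    apply Subtype.ext
    show algebraMap K M (algebraMap A K a) = algebraMap K₂ M (algebraMap K K₂ (algebraMap A K a))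
    rw [← IsScalarTower.algebraMap_apply K K₂ M]
  have hgr' : Algebra.IsGeometricallyReduced (ResidueField V₂) (ResidueField W) :=
    (geomReduced_iff (EtRam.inclOfComap W f₂)).mp hgr
  have hfin2 : Module.Finite (ResidueField A) (ResidueField V₂) := DVRExt2.finite_residue A K V₂
  have halgE : Algebra.IsAlgebraic (ResidueField A) (ResidueField V) := DVRExt2.isAlgebraic_residue A K V
  have halgΩ : Algebra.IsAlgebraic (ResidueField A) (ResidueField W) := DVRExt2.isAlgebraic_residue A K W
  have halgFΩ : Algebra.IsAlgebraic (ResidueField V₂) (ResidueField W) :=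
    Algebra.IsAlgebraic.tower_top (K := ResidueField A) (ResidueField V₂)
  have hsepFΩ : Algebra.IsSeparable (ResidueField V₂) (ResidueField W) :=
    SepSol2.isSeparable_of_isGeometricallyReduced _ _
  have hfinE := SepSol2.finite_over_separableClosure (ResidueField A) (ResidueField V₂) (ResidueField V)
    (ResidueField W)
  obtain ⟨t, ht⟩ := SepSol2.exists_finset_isSeparable (ResidueField A) (ResidueField V)
  obtain ⟨ϖ, hϖ⟩ := IsDiscreteValuationRing.exists_irreducible V
  choose lift hlift using fun z : ResidueField V => residue_surjective z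
  refine ⟨insert (ϖ : L) (t.image (fun z => ((lift z : V) : L))), ?_⟩
  intro L' hL'
  have hϖL' : (ϖ : L) ∈ L' := hL' _ (Finset.mem_insert_self _ _)
  let V' : ValuationSubring L' := V.comap (algebraMap L' L)
  let _ : Algebra V' V := (EtRam.inclOfComap V (algebraMap L' L)).toAlgebra
  have hl6 : IsLocalHom (algebraMap V' V) := EtRam.isLocalHom_inclOfComap V (algebraMap L' L)
  refine ⟨?_, ?_⟩
  · show Ideal.map (EtRam.inclOfComap V (algebraMap L' L)) _ = _
    apply le_antisymm
    · rw [Ideal.map_le_iff_le_comap]
      intro y hy hu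
      exact hy (hl6.map_nonunit y hu)
    · rw [hϖ.maximalIdeal_eq, Ideal.span_singleton_le_iff_mem]
      have h7 : ϖ = EtRam.inclOfComap V (algebraMap L' L) ⟨⟨(ϖ : L), hϖL'⟩, ϖ.2⟩ := Subtype.ext rfl
      rw [h7]
      apply Ideal.mem_map_of_mem
      intro hu
      exact hϖ.not_isUnit (h7 ▸ hu.map (EtRam.inclOfComap V (algebraMap L' L)))
  · -- residue fields
    have hAV' : EtRam.Dominates A ((algebraMap K L').comp (algebraMap A K)) V' := by
      rw [← RamBasic.dominates_comp_iff, ← RingHom.comp_assoc, ← IsScalarTower.algebraMap_eq K L' L]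
      exact hdom
    let _ : Algebra A V' := (RingHom.codRestrict ((algebraMap K L').comp (algebraMap A K)) V' hAV'.1).toAlgebra
    have hl7 : IsLocalHom (algebraMap A V') := RamBasic.Dominates.isLocalHom hAV'
    have ht3 : IsScalarTower A V' V := by
      apply IsScalarTower.of_algebraMap_eq
      intro a
      apply Subtype.ext
      show algebraMap K L (algebraMap A K a) = algebraMap L' L (algebraMap K L' (algebraMap A K a))
      rw [← IsScalarTower.algebraMap_apply K L' L]
    have hsep : Algebra.IsSeparable (ResidueField V') (ResidueField V) := by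
      apply ht
      intro y hy
      have h8 : ((lift y : V) : L) ∈ L' := hL' _ (Finset.mem_insert_of_mem (Finset.mem_image_of_mem _ hy))
      refine ⟨residue V' ⟨⟨_, h8⟩, (lift y).2⟩, ?_⟩
      exact Eq.trans rfl (hlift y)
    exact SepSol2.isGeometricallyReduced_of_isSeparable _ _

end Groth.Agent.Etalg.SepSol3
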