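import Groth.Agent.Etalg.ResTop
import Groth.Agent.Etalg.ResDescent
import Groth.Agent.Etalg.ResMax
import Mathlib.FieldTheory.Separable
import Mathlib.FieldTheory.SeparableClosure

/-!
# Descent of residual independence to a finite level
-/

set_option autoImplicit false
universe u

open Groth.Agent.Etalg.ResInd Groth.Agent.Etalg.ResMax Groth.Agent.Etalg.ResTop Groth.Agent.Etalg.ResDescent
  IsLocalRing IntermediateField

namespace Groth.Agent.Etalg.SolDescent

variable {K Ω : Type u} [Field K] [Field Ω] [Algebra K Ω] {O : ValuationSubring Ω}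

/-- A finite family closed under multiplication (over a field `F`) spans a field. -/
theorem span_eq_field (F : IntermediateField K Ω) {ι : Type u} [Fintype ι] (b : ι → Ω)
    (h1 : ∃ c : ι → F, 1 = ∑ i, (c i : Ω) * b i)
    (hmul : ∀ i j, ∃ c : ι → F, b i * b j = ∑ k, (c k : Ω) * b k) :
    ∃ N : IntermediateField K Ω, F ≤ N ∧ ∀ x, x ∈ N ↔ ∃ c : ι → F, x = ∑ i, (c i : Ω) * b i := by
  classical
  let p : Submodule F Ω := Submodule.span F (Set.range b)
  have hp : ∀ x, x ∈ p ↔ ∃ c : ι → F, x = ∑ i, (c i : Ω) * b i := by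
    intro x
    rw [Submodule.mem_span_range_iff_exists_fun]
    exact ⟨fun ⟨c, hc⟩ => ⟨c, hc.symm⟩, fun ⟨c, hc⟩ => ⟨c, hc.symm⟩⟩
  have hone : (1 : Ω) ∈ p := (hp 1).2 h1
  have hpmul : ∀ x y, x ∈ p → y ∈ p → x * y ∈ p := by
    intro x y hx hy
    induction hx using Submodule.span_induction with
    | mem x hx =>
      obtain ⟨i, rfl⟩ := hx
      induction hy using Submodule.span_induction with
      | mem y hy =>
        obtain ⟨j, rfl⟩ := hy
        exact (hp _).2 (hmul i j)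
      | zero => rw [mul_zero]; exact p.zero_mem
      | add y z _ _ h1 h2 => rw [mul_add]; exact p.add_mem h1 h2
      | smul c y _ h => rw [mul_smul_comm]; exact p.smul_mem c h
    | zero => rw [zero_mul]; exact p.zero_mem
    | add y z _ _ h1 h2 => rw [add_mul]; exact p.add_mem h1 h2
    | smul c y _ h => rw [smul_mul_assoc]; exact p.smul_mem c h
  let S : Subalgebra F Ω := p.toSubalgebra hone hpmul
  have hpfin : FiniteDimensional F p := FiniteDimensional.span_of_finite F (Set.finite_range b)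
  have hSfin : FiniteDimensional F S := hpfin
  have hinv : ∀ x ∈ S, x⁻¹ ∈ S := by
    intro x hx
    refine S.inv_mem_of_algebraic (x := ⟨x, hx⟩) ?_
    have : IsAlgebraic F (⟨x, hx⟩ : S) := Algebra.IsAlgebraic.isAlgebraic _
    exact this.algHom S.val
  let N : IntermediateField F Ω := S.toIntermediateField hinv
  refine ⟨N.restrictScalars K, fun x hx => N.algebraMap_mem ⟨x, hx⟩, fun x => ?_⟩
  rw [mem_restrictScalars]
  exact hp x

theorem exists_descent (T : Finset Ω) (E' : IntermediateField K Ω) (hE'a : ∀ x ∈ E', IsAlgebraic K x)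
    {ι : Type} (w : ι → Ω) (hw1 : ∀ i, O.valuation (w i) ≤ 1)
    (hwX : ∀ i, w i ∈ adjoin K (T : Set Ω) ⊔ E') (hrli : RLI O (E' : Set Ω) (mon w))
    (hsep : ∀ x ∈ T, IsSeparable (E' ⊔ adjoin K (Set.range w) : IntermediateField K Ω) x)
    (π : Ω) (hπE : π ∈ E') (hπ : IsUnif O ((adjoin K (T : Set Ω) ⊔ E' : IntermediateField K Ω) : Set Ω) π) :
    ∃ E : IntermediateField K Ω, E ≤ E' ∧ FiniteDimensional K E ∧ π ∈ E ∧
      ∀ (κ : Type u) (l : κ → Ω), (∀ j, l j ∈ E') → (∀ j, O.valuation (l j) ≤ 1) →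
        RLI O (E : Set Ω) l → RLI O ((adjoin K (T : Set Ω) ⊔ E : IntermediateField K Ω) : Set Ω) l := by
  classical
  let G : IntermediateField K Ω := adjoin K (Set.range w)
  let F : IntermediateField K Ω := E' ⊔ G
  let Q : IntermediateField F Ω := adjoin F (T : Set Ω)
  have hmemQ : ∀ x : Ω, x ∈ Q ↔ x ∈ F ⊔ adjoin K (T : Set Ω) := by
    intro y
    rw [← restrictScalars_adjoin_eq_sup, mem_restrictScalars]
  have hFX : F ≤ adjoin K (T : Set Ω) ⊔ E' := by
    refine sup_le le_sup_right (adjoin_le_iff.2 ?_)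
    rintro _ ⟨i, rfl⟩
    exact hwX i
  have hFTX : F ⊔ adjoin K (T : Set Ω) ≤ adjoin K (T : Set Ω) ⊔ E' := sup_le hFX le_sup_left
  have hfinT : Finite (T : Set Ω) := T.finite_toSet
  have hfd : FiniteDimensional F Q := finiteDimensional_adjoin fun x hx => (hsep x hx).isIntegral
  have hsepQ : Algebra.IsSeparable F Q := (isSeparable_adjoin_iff_isSeparable F Ω).2 fun x hx => hsep x hx
  have hπF : π ∈ F := (le_sup_left : E' ≤ F) hπE
  have hunif : IsUnif O (Set.range (algebraMap Q Ω)) (algebraMap Q Ω (algebraMap F Q ⟨π, hπF⟩)) := by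
    refine hπ.mono ?_
    rintro _ ⟨x, rfl⟩
    exact hFTX ((hmemQ _).1 x.2)
  obtain ⟨ι', hι', b, a, hb, ha, hmat, hgood⟩ := exists_top (O := O) (F := F) (Q := Q) ⟨π, hπF⟩ hunif
  have hTQ : ∀ t ∈ T, t ∈ Q := fun t ht => subset_adjoin _ _ ht
  -- the finite set of relevant coefficients
  let Y1 : Set Ω := Set.range fun q : ι' × ι' × ι' => ((b.repr (b q.1 * b q.2.1) q.2.2 : F) : Ω)
  let Y2 : Set Ω := Set.range fun k : ι' => ((b.repr 1 k : F) : Ω)
  let Y3 : Set Ω := Set.range fun q : {t // t ∈ T} × ι' => ((b.repr ⟨q.1, hTQ q.1 q.1.2⟩ q.2 : F) : Ω)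
  let Y4 : Set Ω := Set.range fun q : ι' × ι' => ((b.repr (a * b q.1) q.2 : F) : Ω)
  have hYfin : (Y1 ∪ Y2 ∪ Y3 ∪ Y4).Finite :=
    (((Set.finite_range _).union (Set.finite_range _)).union (Set.finite_range _)).union (Set.finite_range _)
  have hYF : (hYfin.toFinset : Set Ω) ⊆ (G ⊔ E' : IntermediateField K Ω) := by
    rw [hYfin.coe_toFinset, sup_comm]
    rintro x (((⟨q, rfl⟩ | ⟨q, rfl⟩) | ⟨q, rfl⟩) | ⟨q, rfl⟩)
    all_goals exact Subtype.property _
  obtain ⟨T', hT'E, hT'⟩ := exists_finset_of_finset_subset_sup G E' hYfin.toFinset hYF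
  let E : IntermediateField K Ω := adjoin K ((insert π T' : Finset Ω) : Set Ω)
  have hEE' : E ≤ E' := by
    rw [adjoin_le_iff, Finset.coe_insert]
    exact Set.insert_subset hπE hT'E
  have hEfin : FiniteDimensional K E := finiteDimensional_adjoin_finset _ fun x hx =>
    hE'a x (hEE' (subset_adjoin _ _ hx))
  have hπE0 : π ∈ E := subset_adjoin _ _ (Finset.mem_insert_self _ _)
  have hYE : ∀ x ∈ (Y1 ∪ Y2 ∪ Y3 ∪ Y4), x ∈ G ⊔ E := by
    intro x hx
    refine hT' E (fun y hy => subset_adjoin _ _ ?_) (hYfin.mem_toFinset.2 hx)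
    rw [Finset.coe_insert]
    exact Set.mem_insert_of_mem _ hy
  have hGEF : G ⊔ E ≤ F := sup_le le_sup_right (hEE'.trans le_sup_left)
  -- expansions
  have hexp : ∀ x : Q, (x : Ω) = ∑ i, ((b.repr x i : F) : Ω) * (b i : Ω) := by
    intro x
    have h0 := congrArg (algebraMap Q Ω) (b.sum_repr x).symm
    rw [map_sum] at h0
    refine h0.trans (Finset.sum_congr rfl fun i _ => ?_)
    rw [Algebra.smul_def, map_mul]
    rfl
  obtain ⟨N, hN1, hN2⟩ := span_eq_field (G ⊔ E) (fun i => ((b i : Q) : Ω))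
    ⟨fun i => ⟨((b.repr 1 i : F) : Ω), hYE _ (Or.inl (Or.inl (Or.inr ⟨i, rfl⟩)))⟩, hexp 1⟩
    (fun i j => ⟨fun k => ⟨((b.repr (b i * b j) k : F) : Ω), hYE _ (Or.inl (Or.inl (Or.inl ⟨(i, j, k), rfl⟩)))⟩,
      hexp (b i * b j)⟩)
  have hXN : adjoin K (T : Set Ω) ⊔ E ≤ N := by
    refine sup_le (adjoin_le_iff.2 fun t ht => ?_) ?_
    · rw [SetLike.mem_coe, hN2]
      exact ⟨fun k => ⟨((b.repr ⟨t, hTQ t ht⟩ k : F) : Ω), hYE _ (Or.inl (Or.inr ⟨(⟨t, ht⟩, k), rfl⟩))⟩,
        hexp ⟨t, hTQ t ht⟩⟩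
    · exact (le_sup_right : E ≤ G ⊔ E).trans hN1
  let D : Datum O (G ⊔ E).toSubfield F.toSubfield
      ((adjoin K (T : Set Ω) ⊔ E : IntermediateField K Ω) : Set Ω) ι' :=
    { b := fun i => ((b i : Q) : Ω)
      a := (a : Ω)
      π := π
      mat := fun i j => ((b.repr (a * b i) j : F) : Ω)
      le := hGEF
      hπF := (le_sup_right : E ≤ G ⊔ E) hπE0
      hπ := hπ.mono fun x hx => hFX hx
      hb := hb
      ind := by
        intro c hc hs i
        have h1 : ∑ i, (⟨c i, hc i⟩ : F) • b i = 0 := by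
          apply (algebraMap Q Ω).injective
          rw [map_sum, map_zero, ← hs]
          refine Finset.sum_congr rfl fun i _ => ?_
          rw [Algebra.smul_def, map_mul]
          rfl
        have h2 := (Fintype.linearIndependent_iff.1 b.linearIndependent) _ h1 i
        exact congrArg Subtype.val h2
      span := by
        intro x hx
        obtain ⟨c, hc⟩ := (hN2 x).1 (hXN hx)
        exact ⟨fun i => c i, fun i => (c i).2, hc⟩
      va := ha
      hmat := fun i j => ⟨hYE _ (Or.inr ⟨(i, j), rfl⟩), hmat i j⟩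
      hab := fun i => hexp (a * b i)
      good := by
        intro c hc hlt
        have h1 : ((∑ i, (⟨c i, (hc i).1⟩ : F) • b i : Q) : Ω) = ∑ i, c i * (b i : Ω) := by
          have h0 := map_sum (algebraMap Q Ω) (fun i => (⟨c i, (hc i).1⟩ : F) • b i) Finset.univ
          refine Eq.trans h0 (Finset.sum_congr rfl fun i _ => ?_)
          rw [Algebra.smul_def, map_mul]
          rfl
        have h2 := hgood (fun i => ⟨c i, (hc i).1⟩) (fun i => (hc i).2) (by
          refine lt_of_eq_of_lt (congrArg O.valuation ?_) hlt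
          exact h1)
        refine ⟨fun j => ((b.repr (a * ∑ i, (⟨c i, (hc i).1⟩ : F) • b i) j : F) : Ω),
          fun j => ⟨Subtype.property _, h2 j⟩, ?_⟩
        rw [← hexp, ← h1]
        rfl }
  refine ⟨E, hEE', hEfin, hπE0, fun κ l hl hl1 hli => ?_⟩
  have hGE := resInd_sup_adjoin hw1 hEE' hrli hl hli
  rw [sup_comm] at hGE
  exact D.rli (fun j => (le_sup_left : E' ≤ F) (hl j)) hl1 hGE

end Groth.Agent.Etalg.SolDescent
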