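import Mathlib.FieldTheory.IntermediateField.Adjoin.Algebra
import Mathlib.RingTheory.AlgebraicIndependent.TranscendenceBasis
import Mathlib.RingTheory.AlgebraicIndependent.AlgebraicClosure
import Mathlib.FieldTheory.AlgebraicClosure

/-!
# Counting algebraically independent elements
-/

set_option autoImplicit false
universe u

open IntermediateField Polynomial Cardinal

namespace Groth.Agent.Etalg.TrdegCard

open scoped IntermediateField.algebraAdjoinAdjoin

/-- algebraically independent elements which are algebraic over `K(y₁, …, y_r)` are at most `r` in number. -/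
theorem card_le {K Ω : Type u} [Field K] [Field Ω] [Algebra K Ω] {r r' : ℕ} (y : Fin r → Ω) (z : Fin r' → Ω)
    (hz : ∀ i, IsAlgebraic (adjoin K (Set.range y)) (z i)) (hind : AlgebraicIndependent K z) : r' ≤ r := by
  classical
  let k := adjoin K (Set.range y)
  let M : IntermediateField K Ω := (algebraicClosure k Ω).restrictScalars K
  have hkM : k ≤ M := fun x hx => (algebraicClosure k Ω).algebraMap_mem ⟨x, hx⟩
  let y' : Fin r → M := fun i => ⟨y i, hkM (subset_adjoin _ _ ⟨i, rfl⟩)⟩
  let z' : Fin r' → M := fun i => ⟨z i, mem_algebraicClosure_iff.2 (hz i)⟩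
  let kM : IntermediateField K M := adjoin K (Set.range y')
  have hmap : kM.map M.val = k := by
    rw [adjoin_map, ← Set.range_comp]
    rfl
  have hmem : ∀ x : k, (⟨x, hkM x.2⟩ : M) ∈ kM := by
    intro x
    have hx : (x : Ω) ∈ kM.map M.val := by rw [hmap]; exact x.2
    obtain ⟨t, ht, htx⟩ := hx
    have : t = ⟨x, hkM x.2⟩ := Subtype.ext htx
    rw [← this]; exact ht
  let φ : k →+* kM :=
    { toFun := fun x => ⟨⟨x, hkM x.2⟩, hmem x⟩
      map_one' := rfl
      map_mul' := fun _ _ => rfl
      map_zero' := rfl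
      map_add' := fun _ _ => rfl }
  have halg : Algebra.IsAlgebraic kM M := by
    refine ⟨fun m => ?_⟩
    obtain ⟨P, hP0, hP⟩ : IsAlgebraic k (m : Ω) := mem_algebraicClosure_iff.1 m.2
    refine ⟨P.map φ, (Polynomial.map_ne_zero_iff φ.injective).2 hP0, ?_⟩
    rw [aeval_def, eval₂_map]
    apply M.val.injective
    have h1 := hom_eval₂ P ((algebraMap kM M).comp φ) (M.val : M →+* Ω) m
    rw [map_zero]
    refine Eq.trans h1 ?_
    exact hP
  have halg' : Algebra.IsAlgebraic (Algebra.adjoin K (Set.range y')) M :=
    Algebra.IsAlgebraic.trans (Algebra.adjoin K (Set.range y')) kM M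
  have h1 : Algebra.trdeg K M ≤ #(Set.range y') := Algebra.IsAlgebraic.trdeg_le_cardinalMk K (Set.range y')
  have hind' : AlgebraicIndependent K z' := AlgebraicIndependent.of_comp M.val hind
  have h2 := hind'.lift_cardinalMk_le_trdeg
  have h3 : #(Set.range y') ≤ (r : Cardinal) := by
    have := Cardinal.mk_range_le_lift (f := y')
    simpa using this
  have h4 : Cardinal.lift.{u} #(Fin r') ≤ Cardinal.lift.{0} (r : Cardinal.{u}) :=
    h2.trans (Cardinal.lift_le.2 (h1.trans h3))
  simpa using h4

end Groth.Agent.Etalg.TrdegCard
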