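import Groth.Agent.Etalg.ResAlgInd
import Groth.Agent.Etalg.SepDer
import Groth.Agent.Etalg.TrdegCard
import Groth.Agent.Etalg.SepBasisFin

/-!
# A separating residually independent family
-/

set_option autoImplicit false
universe u

open Groth.Agent.Etalg.ResInd Groth.Agent.Etalg.ResMax Groth.Agent.Etalg.ResAlgInd IsLocalRing IntermediateField

namespace Groth.Agent.Etalg.SolW

variable {K Ω : Type u} [Field K] [Field Ω] [Algebra K Ω] {O : ValuationSubring Ω}

theorem isAlgebraic_of_le {k k' : IntermediateField K Ω} (h : k ≤ k') {x : Ω} (hx : IsAlgebraic k x) :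
    IsAlgebraic k' x := by
  obtain ⟨P, hP0, hP⟩ := hx
  refine ⟨P.map (IntermediateField.inclusion h).toRingHom,
    (Polynomial.map_ne_zero_iff (IntermediateField.inclusion h).toRingHom.injective).2 hP0, ?_⟩
  rw [Polynomial.aeval_def, Polynomial.eval₂_map]
  exact hP

theorem isAlgebraic_of_base {k : IntermediateField K Ω} {x : Ω} (hx : IsAlgebraic K x) :
    IsAlgebraic k x := hx.extendScalars (algebraMap K k).injective

theorem exists_w (T : Finset Ω) {r r' : ℕ} (y : Fin r → Ω) (hy1 : ∀ i, O.valuation (y i) ≤ 1)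
    (hyX : ∀ i, y i ∈ adjoin K (T : Set Ω)) (hTy : ∀ x ∈ T, IsAlgebraic (adjoin K (Set.range y)) x)
    (E₀ E' : IntermediateField K Ω) (hE₀ : E₀ ≤ E') (hE₀a : ∀ x ∈ E₀, IsAlgebraic K x)
    (hrli : RLI O (E' : Set Ω) (mon y))
    (z : Fin r' → Ω) (hzX : ∀ i, z i ∈ adjoin K (T : Set Ω) ⊔ E₀)
    (hzind : AlgebraicIndependent (algebraicClosure K Ω) z)
    (hsep : ∀ x ∈ T, IsSeparable (adjoin K (Set.range z) ⊔ E' : IntermediateField K Ω) x)
    (π : Ω) (hπE : π ∈ E') (hπ : IsUnif O ((adjoin K (T : Set Ω) ⊔ E' : IntermediateField K Ω) : Set Ω) π) :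
    ∃ w : Fin r → Ω, (∀ i, O.valuation (w i) ≤ 1) ∧ (∀ i, w i ∈ adjoin K (T : Set Ω) ⊔ E') ∧
      RLI O (E' : Set Ω) (mon w) ∧
      ∀ x ∈ T, IsSeparable (E' ⊔ adjoin K (Set.range w) : IntermediateField K Ω) x := by
  classical
  obtain ⟨p, hchar⟩ := CharP.exists K
  rcases CharP.char_is_prime_or_zero K p with hp | rfl
  · have hcharΩ : CharP Ω p := charP_of_injective_algebraMap (algebraMap K Ω).injective p
    have hr : r' ≤ r := by
      refine TrdegCard.card_le (K := K) y z (fun i => ?_) (hzind.restrictScalars (algebraMap K _).injective)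
      have h1 : adjoin K (T : Set Ω) ⊔ E₀ ≤
          (algebraicClosure (adjoin K (Set.range y)) Ω).restrictScalars K := by
        refine sup_le (adjoin_le_iff.2 fun x hx => ?_) fun x hx => ?_
        · exact mem_algebraicClosure_iff.2 (hTy x hx)
        · exact mem_algebraicClosure_iff.2 (isAlgebraic_of_base (hE₀a x hx))
      exact mem_algebraicClosure_iff.1 (h1 (hzX i))
    have hzX' : ∀ i, z i ∈ adjoin K (T : Set Ω) ⊔ E' := fun i =>
      (sup_le_sup le_rfl hE₀ : adjoin K (T : Set Ω) ⊔ E₀ ≤ _) (hzX i)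
    choose n hn using fun i => hπ.exists_pow_mul_le_one (hzX' i)
    set N := (∑ i, n i) + 1 with hN
    have hπ0 := hπ.1
    have hN' : ∀ i, O.valuation ((π ^ N) ^ p * z i) < 1 := by
      intro i
      have h1 : n i ≤ ∑ i, n i := Finset.single_le_sum (f := n) (fun _ _ => Nat.zero_le _) (Finset.mem_univ i)
      have h2 : N ≤ N * p := Nat.le_mul_of_pos_right _ hp.pos
      obtain ⟨m, hm⟩ := Nat.exists_eq_add_of_le (show n i + 1 ≤ N * p by omega)
      have h3 := hn i (n i + m) (Nat.le_add_right _ _)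
      rw [← pow_mul, hm]
      have h4 : π ^ (n i + 1 + m) * z i = π * (π ^ (n i + m) * z i) := by ring
      rw [h4, map_mul]
      exact lt_of_le_of_lt ((mul_le_mul' le_rfl h3).trans (mul_one _).le) hπ.2.1
    let z' : Fin r → Ω := fun i => if h : (i : ℕ) < r' then z ⟨i, h⟩ else 0
    have hz'X : ∀ i, z' i ∈ adjoin K (T : Set Ω) ⊔ E' := by
      intro i
      by_cases h : (i : ℕ) < r'
      · simp only [z', dif_pos h]; exact hzX' _
      · simp only [z', dif_neg h]; exact zero_mem _
    have hz'v : ∀ i, O.valuation ((π ^ N) ^ p * z' i) < 1 := by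
      intro i
      by_cases h : (i : ℕ) < r'
      · simp only [z', dif_pos h]; exact hN' _
      · simp only [z', dif_neg h, mul_zero, map_zero]; exact zero_lt_one
    let w : Fin r → Ω := fun i => (π ^ N) ^ p * z' i + y i ^ p
    have hwy : ∀ i, O.valuation (y i ^ p - w i) < 1 := by
      intro i
      have : y i ^ p - w i = -((π ^ N) ^ p * z' i) := by simp only [w]; ring
      rw [this, Valuation.map_neg]
      exact hz'v i
    have hπX : π ^ N ∈ adjoin K (T : Set Ω) ⊔ E' := (le_sup_right : E' ≤ _) (pow_mem hπE N)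
    have hyX' : ∀ i, y i ∈ adjoin K (T : Set Ω) ⊔ E' := fun i => (le_sup_left : adjoin K (T : Set Ω) ≤ _) (hyX i)
    have hwX : ∀ i, w i ∈ adjoin K (T : Set Ω) ⊔ E' := fun i =>
      add_mem (mul_mem (pow_mem hπX p) (hz'X i)) (pow_mem (hyX' i) p)
    refine ⟨w, fun i => ?_, hwX, ?_, ?_⟩
    · exact (Valuation.map_add _ _ _).trans (max_le (hz'v i).le (by rw [map_pow]; exact pow_le_one' (hy1 i) _))
    · exact rli_mon_of_pow (F := E'.toSubfield) hy1 hrli hp.pos hwy
    · intro x hx
      let F : IntermediateField K Ω := E' ⊔ adjoin K (Set.range w)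
      have hXF : adjoin K (T : Set Ω) ⊔ E' ≤ F ⊔ adjoin K (T : Set Ω) := by
        refine sup_le le_sup_right ?_
        exact (le_sup_left : E' ≤ F).trans le_sup_left
      refine SepDer.isSeparable_of_pow p F E' le_sup_left T z (fun i => hXF (hzX' i)) (fun i => ?_) hsep x hx
      refine ⟨(π ^ N) ^ p, (le_sup_left : E' ≤ F) (pow_mem (pow_mem hπE N) p),
        pow_ne_zero _ (pow_ne_zero _ hπ0), y (Fin.castLE hr i), hXF (hyX' _), ?_⟩
      have h1 : (π ^ N) ^ p * z i + y (Fin.castLE hr i) ^ p = w (Fin.castLE hr i) := by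
        have : z' (Fin.castLE hr i) = z i := by
          simp only [z', Fin.val_castLE, i.2, dif_pos]
        simp only [w, this]
      rw [h1]
      exact (le_sup_right : adjoin K (Set.range w) ≤ F) (subset_adjoin _ _ ⟨_, rfl⟩)
  · have hchar0 : CharZero K := CharP.charP_to_charZero K
    refine ⟨y, hy1, fun i => (le_sup_left : adjoin K (T : Set Ω) ≤ _) (hyX i), hrli, fun x hx => ?_⟩
    have h1 : IsAlgebraic (E' ⊔ adjoin K (Set.range y) : IntermediateField K Ω) x :=
      isAlgebraic_of_le le_sup_right (hTy x hx)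
    have : CharZero (E' ⊔ adjoin K (Set.range y) : IntermediateField K Ω) :=
      charZero_of_injective_algebraMap (algebraMap K _).injective
    exact (minpoly.irreducible h1.isIntegral).separable

end Groth.Agent.Etalg.SolW
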