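import Groth.Agent.Etalg.ResAlgInd
import Groth.Agent.Etalg.GaussRes
import Groth.Agent.Etalg.SolW
import Groth.Agent.Etalg.RamWeak
import Groth.Agent.S1979

/-!
# Eliminating ramification by an algebraic extension with algebraically closed residue field
-/

set_option autoImplicit false
universe u

open Groth.Agent.Etalg.ResInd Groth.Agent.Etalg.ResMax Groth.Agent.Etalg.ResAlgInd Groth.Agent.Etalg.ResTop
  IsLocalRing IntermediateField EtRam Groth.Agent.Etalg.RamBasic

namespace Groth.Agent.Etalg.SolEpp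

variable {K Ω : Type u} [Field K] [Field Ω] [Algebra K Ω] {O : ValuationSubring Ω}

theorem range_algebraMap (N : IntermediateField K Ω) : Set.range (algebraMap N Ω) = (N : Set Ω) := by
  ext x
  exact ⟨fun ⟨y, hy⟩ => hy ▸ y.2, fun hx => ⟨⟨x, hx⟩, rfl⟩⟩

theorem dominates_comap {F M : Type u} [Field F] [Field M] [Algebra F M] [Algebra F Ω] [Algebra M Ω]
    [IsScalarTower F M Ω] :
    Dominates (O.comap (algebraMap F Ω)) ((algebraMap F M).comp (algebraMap (O.comap (algebraMap F Ω)) F))
      (O.comap (algebraMap M Ω)) := by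
  refine (dominates_comp_subtype_iff (algebraMap F M) (O.comap (algebraMap F Ω)) (O.comap (algebraMap M Ω))).2 ?_
  ext x
  show algebraMap M Ω (algebraMap F M x) ∈ O ↔ algebraMap F Ω x ∈ O
  rw [← IsScalarTower.algebraMap_apply]

theorem exists_unif_of_finite {F M : Type u} [Field F] [Field M] [Algebra F M] [Algebra F Ω] [Algebra M Ω]
    [IsScalarTower F M Ω] [FiniteDimensional F M] [IsDiscreteValuationRing (O.comap (algebraMap F Ω))] :
    IsDiscreteValuationRing (O.comap (algebraMap M Ω)) ∧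
      ∃ ϖ : M, IsUnif O (Set.range (algebraMap M Ω)) (algebraMap M Ω ϖ) := by
  have h1 : IsDiscreteValuationRing (O.comap (algebraMap M Ω)) :=
    RamDVR.isDVR_of_dominates (A := O.comap (algebraMap F Ω)) (K := F) dominates_comap
  exact ⟨h1, exists_isUnif (algebraMap M Ω)⟩

theorem isDVR_of_isUnif (N : IntermediateField K Ω) {π : Ω} (hπN : π ∈ N) (hπ : IsUnif O (N : Set Ω) π) :
    IsDiscreteValuationRing (O.comap (algebraMap N Ω)) :=
  (isDVR_comap (algebraMap N Ω) ⟨π, hπN⟩ (by rw [range_algebraMap]; exact hπ)).1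

theorem exists_unif_sup (N : IntermediateField K Ω) {π : Ω} (hπN : π ∈ N) (hπ : IsUnif O (N : Set Ω) π)
    (S : Finset Ω) (hS : ∀ x ∈ S, IsAlgebraic N x) :
    ∃ ϖ ∈ N ⊔ adjoin K (S : Set Ω), IsUnif O ((N ⊔ adjoin K (S : Set Ω) : IntermediateField K Ω) : Set Ω) ϖ := by
  have h1 := isDVR_of_isUnif N hπN hπ
  let M : IntermediateField N Ω := adjoin N (S : Set Ω)
  have hfin : Finite (S : Set Ω) := S.finite_toSet
  have hfd : FiniteDimensional N M := finiteDimensional_adjoin fun x hx => (hS x hx).isIntegral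
  obtain ⟨-, ϖ, hϖ⟩ := exists_unif_of_finite (O := O) (F := N) (M := M)
  have hM : ∀ x : Ω, x ∈ M ↔ x ∈ N ⊔ adjoin K (S : Set Ω) := by
    intro y
    rw [← restrictScalars_adjoin_eq_sup, mem_restrictScalars]
  refine ⟨ϖ, (hM _).1 ϖ.2, hϖ.mono ?_⟩
  intro x hx
  exact ⟨⟨x, (hM x).2 hx⟩, rfl⟩

theorem isUnif_congr {F : Set Ω} {ϖ a : Ω} (h : IsUnif O F ϖ) (ha : O.valuation a = O.valuation ϖ) : IsUnif O F a := by
  refine ⟨?_, ha ▸ h.2.1, fun x hx hx0 => ?_⟩
  · rintro rfl
    rw [map_zero] at ha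
    exact h.pos.ne ha
  · obtain ⟨k, hk⟩ := h.2.2 x hx hx0
    exact ⟨k, by rw [ha]; exact hk⟩

section Epp

variable [IsAlgClosed Ω]

/-- the Epp step for `K' ⊂ K'(T)` where `K'` has algebraically closed residue field. -/
theorem epp_step (T : Finset Ω) {r : ℕ} (y : Fin r → Ω) (hy1 : ∀ i, O.valuation (y i) ≤ 1)
    (hyX : ∀ i, y i ∈ adjoin K (T : Set Ω)) (hTy : ∀ x ∈ T, IsAlgebraic (adjoin K (Set.range y)) x)
    (K' : IntermediateField K Ω) (hrli : RLI O (K' : Set Ω) (mon y)) {π : Ω} (hπK : π ∈ K')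
    (hπ : IsUnif O (K' : Set Ω) π)
    (hAC : ∀ x : Ω, IsAlgebraic K' x → O.valuation x ≤ 1 → ∃ y ∈ K', O.valuation (x - y) < 1) :
    ∃ S : Finset Ω, (∀ x ∈ S, IsAlgebraic K' x) ∧ ∃ ϖ ∈ K' ⊔ adjoin K (S : Set Ω),
      IsUnif O ((adjoin K (T : Set Ω) ⊔ (K' ⊔ adjoin K (S : Set Ω)) : IntermediateField K Ω) : Set Ω) ϖ := by
  classical
  -- the fields
  let N : IntermediateField K Ω := K' ⊔ adjoin K (Set.range y)
  have hNunif : IsUnif O (N : Set Ω) π := isUnif_sup_adjoin hy1 hrli hπ
  have hKN : K' ≤ N := le_sup_left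
  have hπN : π ∈ N := hKN hπK
  have hTN : ∀ x ∈ T, IsAlgebraic N x := fun x hx => SolW.isAlgebraic_of_le le_sup_right (hTy x hx)
  let M : IntermediateField N Ω := adjoin N (T : Set Ω)
  have hfinT : Finite (T : Set Ω) := T.finite_toSet
  have hfdM : FiniteDimensional N M := finiteDimensional_adjoin fun x hx => (hTN x hx).isIntegral
  let i1 : Algebra K' N := (IntermediateField.inclusion hKN).toRingHom.toAlgebra
  let i2 : Algebra K' M := ((algebraMap N M).comp (algebraMap K' N)).toAlgebra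
  have t1 : IsScalarTower K' N M := IsScalarTower.of_algebraMap_eq fun _ => rfl
  have t2 : IsScalarTower K' N Ω := IsScalarTower.of_algebraMap_eq fun _ => rfl
  have t3 : IsScalarTower K' M Ω := IsScalarTower.of_algebraMap_eq fun _ => rfl
  -- the valuation rings
  let A := O.comap (algebraMap K' Ω)
  let VN := O.comap (algebraMap N Ω)
  let B := O.comap (algebraMap M Ω)
  have dA : IsDiscreteValuationRing A := isDVR_of_isUnif K' hπK hπ
  have dN : IsDiscreteValuationRing VN := isDVR_of_isUnif N hπN hNunif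
  have dB : IsDiscreteValuationRing B := (exists_unif_of_finite (O := O) (F := N) (M := M)).1
  let j1 : Algebra A VN := (GaussRes.incl (O := O) (E := K') (M := N)).toAlgebra
  let j2 : Algebra VN B := (GaussRes.incl (O := O) (E := N) (M := M)).toAlgebra
  let j3 : Algebra A B := (GaussRes.incl (O := O) (E := K') (M := M)).toAlgebra
  have l1 : IsLocalHom (algebraMap A VN) := GaussRes.isLocalHom_incl
  have l2 : IsLocalHom (algebraMap VN B) := GaussRes.isLocalHom_incl
  have l3 : IsLocalHom (algebraMap A B) := GaussRes.isLocalHom_incl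
  have s1 : IsScalarTower A VN B := IsScalarTower.of_algebraMap_eq fun _ => rfl
  let j4 : Algebra A M := ((algebraMap K' M).comp (algebraMap A K')).toAlgebra
  have s2 : IsScalarTower A K' M := IsScalarTower.of_algebraMap_eq fun _ => rfl
  have s3 : IsScalarTower A B M := IsScalarTower.of_algebraMap_eq fun _ => rfl
  let j5 : Algebra VN M := ((algebraMap N M).comp (algebraMap VN N)).toAlgebra
  have s4 : IsScalarTower VN N M := IsScalarTower.of_algebraMap_eq fun _ => rfl
  have s5 : IsScalarTower VN B M := IsScalarTower.of_algebraMap_eq fun _ => rfl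
  have hinj : Function.Injective (algebraMap A B) := by
    intro a b hab
    have h1 := congrArg (fun x : B => ((x : M) : Ω)) hab
    exact Subtype.ext (Subtype.ext h1)
  -- residue fields
  have ess1 : Algebra.EssFiniteType (ResidueField A) (ResidueField VN) := by
    let w : ULift.{u} (Fin r) → Ω := fun i => y i.down
    have hr : Set.range w = Set.range y := by
      ext x
      exact ⟨fun ⟨i, hi⟩ => ⟨i.down, hi⟩, fun ⟨i, hi⟩ => ⟨⟨i⟩, hi⟩⟩
    have hw : RLI O (K' : Set Ω) (mon w) := by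
      have h1 : mon w = mon y ∘ fun m : ULift.{u} (Fin r) →₀ ℕ => m.mapDomain ULift.down := by
        funext m
        show (m.prod fun i n => y i.down ^ n) = (m.mapDomain ULift.down).prod fun i n => y i ^ n
        rw [Finsupp.prod_mapDomain_index_inj ULift.down_injective]
      rw [h1]
      exact RLI.comp (F := K'.toSubfield) hrli (Finsupp.mapDomain_injective ULift.down_injective)
    exact GaussRes.essFiniteType_gauss (w := w) (fun i => hy1 _) K' N hw (by rw [hr]) (fun _ => rfl)
  have fin2 : Module.Finite (ResidueField VN) (ResidueField B) := DVRExt2.finite_residue VN N B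
  have tres : IsScalarTower (ResidueField A) (ResidueField VN) (ResidueField B) := by
    refine IsScalarTower.of_algebraMap_eq fun x => ?_
    obtain ⟨x, rfl⟩ := residue_surjective x
    rfl
  have ess2 : Algebra.EssFiniteType (ResidueField A) (ResidueField B) :=
    Algebra.EssFiniteType.comp (ResidueField A) (ResidueField VN) (ResidueField B)
  have hAclosed : IsAlgClosed (ResidueField A) := by
    refine GaussRes.isAlgClosed_of_forall fun x hx hx1 => ?_
    obtain ⟨y, hy, hxy⟩ := hAC x (IsIntegral.isAlgebraic hx) hx1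
    exact ⟨⟨y, hy⟩, hxy⟩
  obtain ⟨K₁, _, _, _, hsol⟩ := Groth.Agent.S1979.result A B K' M hinj (fun p hp _ x hx => by
    have h1 : IsAlgebraic (ResidueField A) x := PerfPart.isAlgebraic_of_forall_exists_pow hp x hx
    exact PerfectField.separable_of_irreducible (minpoly.irreducible h1.isIntegral))
  -- embed in `Ω`
  let σ : K₁ →ₐ[K'] Ω := IsAlgClosed.lift
  obtain ⟨S₀, hS₀⟩ : ∃ S₀ : Finset K₁, adjoin K' (S₀ : Set K₁) = ⊤ := by
    have : Algebra.EssFiniteType K' K₁ := inferInstance
    exact fg_top K' K₁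
  let S : Finset Ω := S₀.image σ
  have hS : (S : Set Ω) = σ '' (S₀ : Set K₁) := Finset.coe_image
  have hSalg : ∀ x ∈ S, IsAlgebraic K' x := by
    intro x hx
    obtain ⟨s, -, rfl⟩ := Finset.mem_image.1 hx
    exact (Algebra.IsAlgebraic.isAlgebraic s).algHom σ
  let E' : IntermediateField K Ω := K' ⊔ adjoin K (S : Set Ω)
  have hσE : ∀ x : K₁, σ x ∈ E' := by
    intro x
    have h1 : σ x ∈ adjoin K' (S : Set Ω) := by
      rw [hS, ← adjoin_map, hS₀]
      exact ⟨x, trivial, rfl⟩
    rw [← mem_restrictScalars K, restrictScalars_adjoin_eq_sup] at h1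
    exact h1
  let P : IntermediateField K Ω := adjoin K (T : Set Ω) ⊔ E'
  have hEP : E' ≤ P := le_sup_right
  have hKP : K' ≤ P := le_sup_left.trans hEP
  have hNP : N ≤ P := by
    refine sup_le hKP (adjoin_le_iff.2 ?_)
    rintro _ ⟨i, rfl⟩
    exact (le_sup_left : adjoin K (T : Set Ω) ≤ P) (hyX i)
  have hMP : ∀ x ∈ M, x ∈ P := by
    intro x hx
    have h1 : x ∈ M.restrictScalars K := hx
    rw [restrictScalars_adjoin_eq_sup] at h1
    exact (sup_le hNP le_sup_left : N ⊔ adjoin K (T : Set Ω) ≤ P) h1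
  let k1 : Algebra K' P := (IntermediateField.inclusion hKP).toRingHom.toAlgebra
  let k2 : Algebra M P := RingHom.toAlgebra
    { toFun := fun x => ⟨x, hMP x x.2⟩
      map_one' := rfl
      map_mul' := fun _ _ => rfl
      map_zero' := rfl
      map_add' := fun _ _ => rfl }
  let k3 : Algebra K₁ P := RingHom.toAlgebra
    { toFun := fun x => ⟨σ x, hEP (hσE x)⟩
      map_one' := Subtype.ext (map_one σ)
      map_mul' := fun _ _ => Subtype.ext (map_mul σ _ _)
      map_zero' := Subtype.ext (map_zero σ)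
      map_add' := fun _ _ => Subtype.ext (map_add σ _ _) }
  have u1 : IsScalarTower K' M P := IsScalarTower.of_algebraMap_eq fun _ => rfl
  have u2 : IsScalarTower K' K₁ P := IsScalarTower.of_algebraMap_eq fun x => Subtype.ext (σ.commutes x).symm
  have u3 : IsScalarTower M P Ω := IsScalarTower.of_algebraMap_eq fun _ => rfl
  have hadj : Algebra.adjoin M (Set.range (algebraMap K₁ P)) = ⊤ := by
    have halg : ∀ x ∈ Set.range (algebraMap K₁ P), IsAlgebraic M x := by
      rintro _ ⟨x, rfl⟩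
      have h1 : IsAlgebraic K' (algebraMap K₁ P x) :=
        (Algebra.IsAlgebraic.isAlgebraic x).algHom (IsScalarTower.toAlgHom K' K₁ P)
      exact h1.extendScalars (algebraMap K' M).injective
    rw [← adjoin_toSubalgebra_of_isAlgebraic halg]
    let A₀ : IntermediateField M P := adjoin M (Set.range (algebraMap K₁ P))
    have hP : ∀ x : P, x ∈ A₀ := by
      let A₁ : IntermediateField K Ω :=
        { carrier := {x | ∃ h : x ∈ P, (⟨x, h⟩ : P) ∈ A₀}
          mul_mem' := fun {a b} ⟨ha, ha'⟩ ⟨hb, hb'⟩ => ⟨mul_mem ha hb, A₀.mul_mem ha' hb'⟩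
          add_mem' := fun {a b} ⟨ha, ha'⟩ ⟨hb, hb'⟩ => ⟨add_mem ha hb, A₀.add_mem ha' hb'⟩
          algebraMap_mem' := fun c => ⟨P.algebraMap_mem c,
            A₀.algebraMap_mem (⟨algebraMap K Ω c, M.algebraMap_mem (algebraMap K N c)⟩ : M)⟩
          inv_mem' := fun a ⟨ha, ha'⟩ => ⟨inv_mem ha, A₀.inv_mem ha'⟩ }
      have hPA : P ≤ A₁ := by
        refine sup_le (adjoin_le_iff.2 fun t ht => ?_) (sup_le (fun x hx => ?_) (adjoin_le_iff.2 fun s hs => ?_))
        · have htM : t ∈ M := subset_adjoin _ _ ht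
          exact ⟨hMP t htM, A₀.algebraMap_mem (⟨t, htM⟩ : M)⟩
        · have hxM : x ∈ M := M.algebraMap_mem ⟨x, hKN hx⟩
          exact ⟨hKP hx, A₀.algebraMap_mem (⟨x, hxM⟩ : M)⟩
        · rw [hS] at hs
          obtain ⟨s, -, rfl⟩ := hs
          exact ⟨hEP (hσE s), subset_adjoin _ _ ⟨s, rfl⟩⟩
      exact fun x => (hPA x.2).2
    rw [eq_top_iff]
    exact fun x _ => hP x
  let W : ValuationSubring P := O.comap (algebraMap P Ω)
  have hdom : Dominates B ((algebraMap M P).comp (algebraMap B M)) W := dominates_comap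
  have hwu := (RamWeak.isWeaklyUnramified_incl_iff W (algebraMap K₁ P)).1 (hsol P hadj W hdom)
  -- a uniformizer of `P`
  obtain ⟨ϖ, hϖP, hϖ⟩ := exists_unif_sup N hπN hNunif (T ∪ S) (fun x hx => by
    rcases Finset.mem_union.1 hx with h | h
    · exact hTN x h
    · exact SolW.isAlgebraic_of_le hKN (hSalg x h))
  have hPeq : N ⊔ adjoin K ((T ∪ S : Finset Ω) : Set Ω) = P := by
    rw [Finset.coe_union, adjoin_union]
    apply le_antisymm
    · exact sup_le hNP (sup_le le_sup_left (le_sup_right.trans hEP))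
    · refine sup_le (le_sup_left.trans le_sup_right) (sup_le (hKN.trans le_sup_left) (le_sup_right.trans le_sup_right))
  rw [hPeq] at hϖP hϖ
  obtain ⟨a, ha1, ha2⟩ := hwu ⟨ϖ, hϖP⟩ (by
    rw [valuation_comap_lt_one_iff]; exact hϖ.2.1)
  rw [valuation_comap_lt_one_iff] at ha1
  rw [valuation_comap_le_iff] at ha2
  have ha : algebraMap P Ω (algebraMap K₁ P a) = σ a := rfl
  rw [ha] at ha1 ha2
  have ha3 : O.valuation (σ a) ≤ O.valuation ϖ := hϖ.le_of_lt_one (hEP (hσE a)) ha1
  exact ⟨S, hSalg, σ a, hσE a, isUnif_congr hϖ (le_antisymm ha3 ha2)⟩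

end Epp

end Groth.Agent.Etalg.SolEpp
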