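import Groth.Agent.Etalg.SolEpp
import Groth.Agent.Etalg.SolW
import Groth.Agent.Etalg.SolDescent
import Groth.Agent.Etalg.ResGeom
import Groth.Agent.Etalg.SepBasisFin

/-!
# A finite extension with good reduction of the extension of discrete valuation rings
-/

set_option autoImplicit false
universe u

open Groth.Agent.Etalg.ResInd Groth.Agent.Etalg.ResMax Groth.Agent.Etalg.ResAlgInd Groth.Agent.Etalg.ResTop
  IsLocalRing IntermediateField EtRam Groth.Agent.Etalg.RamBasic Groth.Agent.Etalg.SolEpp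

namespace Groth.Agent.Etalg.SolGood

variable {K Ω : Type u} [Field K] [Field Ω] [Algebra K Ω] {O : ValuationSubring Ω} [IsAlgClosed Ω]

theorem isAlgebraic_sup (K' : IntermediateField K Ω) (hK' : ∀ x ∈ K', IsAlgebraic K x) (S : Finset Ω)
    (hS : ∀ x ∈ S, IsAlgebraic K' x) : ∀ x ∈ K' ⊔ adjoin K (S : Set Ω), IsAlgebraic K x := by
  have h1 : Algebra.IsAlgebraic K K' := ⟨fun x => by
    obtain ⟨P, hP0, hP⟩ := hK' x x.2
    refine ⟨P, hP0, Subtype.ext ?_⟩
    exact (Polynomial.aeval_algebraMap_apply Ω x P).symm.trans hP⟩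
  have h2 : K' ⊔ adjoin K (S : Set Ω) ≤ algebraicClosure K Ω := by
    refine sup_le (fun x hx => mem_algebraicClosure_iff.2 (hK' x hx)) (adjoin_le_iff.2 fun x hx => ?_)
    exact mem_algebraicClosure_iff.2 ((hS x hx).restrictScalars K)
  exact fun x hx => mem_algebraicClosure_iff.1 (h2 hx)

theorem exists_good (T : Finset Ω) {r : ℕ} (y : Fin r → Ω) (hy1 : ∀ i, O.valuation (y i) ≤ 1)
    (hyX : ∀ i, y i ∈ adjoin K (T : Set Ω)) (hTy : ∀ x ∈ T, IsAlgebraic (adjoin K (Set.range y)) x)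
    [IsDiscreteValuationRing (O.comap (algebraMap K Ω))]
    (hrli : RLI O (Set.range (algebraMap K Ω)) (mon y)) :
    ∃ (E : IntermediateField K Ω), FiniteDimensional K E ∧
      ∃ π ∈ E, IsUnif O ((adjoin K (T : Set Ω) ⊔ E : IntermediateField K Ω) : Set Ω) π ∧
      ∀ (M : IntermediateField K Ω) (hM : M = adjoin K (T : Set Ω) ⊔ E) (f : E →+* M) (hf : ∀ x, ((f x : M) : Ω) = x),
        @Algebra.IsGeometricallyReduced (ResidueField ((O.comap (algebraMap M Ω)).comap f))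
          (ResidueField (O.comap (algebraMap M Ω))) _ _
          (ResidueField.map (inclOfComap (O.comap (algebraMap M Ω)) f)).toAlgebra := by
  classical
  obtain ⟨r', z, E₀, hE₀, hzX, hzind, hsep⟩ := SepBasisFin.exists_sep (K := K) T
  have hE₀a : ∀ x ∈ E₀, IsAlgebraic K x := fun x hx => by
    have : IsAlgebraic K (⟨x, hx⟩ : E₀) := Algebra.IsAlgebraic.isAlgebraic _
    exact this.algHom E₀.val
  obtain ⟨-, π₀, hπ₀⟩ := exists_unif_of_finite (O := O) (F := K) (M := E₀)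
  rw [range_algebraMap] at hπ₀
  obtain ⟨K', hE₀K, halg₀, hK'unif, hAC⟩ := exists_max E₀ hπ₀
  have hπ₀K : algebraMap E₀ Ω π₀ ∈ K' := hE₀K π₀.2
  have hK'a : ∀ x ∈ K', IsAlgebraic K x := fun x hx => (halg₀ x hx).restrictScalars K
  have aux : ∀ E : IntermediateField K Ω, (∀ x ∈ E, IsAlgebraic K x) → RLI O (E : Set Ω) (mon y) := by
    intro E hE
    have h1 : Algebra.IsAlgebraic K E := ⟨fun x => by
      obtain ⟨P, hP0, hP⟩ := hE x x.2
      refine ⟨P, hP0, Subtype.ext ?_⟩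
      exact (Polynomial.aeval_algebraMap_apply Ω x P).symm.trans hP⟩
    have h2 := rli_mon_of_algebraic (K := K) (E := E) hy1 hrli
    rwa [range_algebraMap] at h2
  obtain ⟨S, hS, ϖ, hϖE, hϖ⟩ := epp_step T y hy1 hyX hTy K' (aux K' hK'a) hπ₀K hK'unif hAC
  let E' : IntermediateField K Ω := K' ⊔ adjoin K (S : Set Ω)
  have hE'a : ∀ x ∈ E', IsAlgebraic K x := isAlgebraic_sup K' hK'a S hS
  have hE₀E' : E₀ ≤ E' := hE₀K.trans le_sup_left
  obtain ⟨w, hw1, hwX, hwrli, hwsep⟩ := SolW.exists_w T y hy1 hyX hTy E₀ E' hE₀E' hE₀a (aux E' hE'a) z hzX hzind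
    (fun x hx => hsep E' hE₀E' x (subset_adjoin _ _ hx)) ϖ hϖE hϖ
  obtain ⟨E, hEE', hEfin, hϖE', hdesc⟩ := SolDescent.exists_descent T E' hE'a w hw1 hwX hwrli hwsep ϖ hϖE hϖ
  refine ⟨E, hEfin, ϖ, hϖE', hϖ.mono ?_, ?_⟩
  · exact fun x hx => (sup_le_sup le_rfl hEE' : adjoin K (T : Set Ω) ⊔ E ≤ _) hx
  · intro M hM f hf
    have hgf : (algebraMap M Ω).comp f = algebraMap E Ω := RingHom.ext hf
    refine ResGeom.isGeometricallyReduced_of_rli f (algebraMap M Ω) (E' : Set Ω) ?_ ?_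
    · intro x hx hx1
      rw [hgf] at hx
      have h1 : IsAlgebraic E x := IsIntegral.isAlgebraic hx
      have h2 : IsAlgebraic K' x := SolW.isAlgebraic_of_base (h1.restrictScalars K)
      obtain ⟨y, hy, hxy⟩ := hAC x h2 hx1
      exact ⟨y, (le_sup_left : K' ≤ E') hy, hxy⟩
    · intro ι l hl hl1 hli
      rw [hgf, range_algebraMap] at hli
      rw [range_algebraMap, hM]
      exact hdesc ι l hl hl1 hli

end Groth.Agent.Etalg.SolGood
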